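import Mathlib

/-!
# Coproducts in the derived category of an AB4 abelian category (helper2)

Termwise coproducts of cochain complexes are coproducts in `D(A)` as soon as coproducts of the
given shape are exact in `A`.
-/

set_option autoImplicit false
set_option linter.unusedSectionVars false

namespace Groth.Agent.Lib.helper2.DerCoprod

open CategoryTheory CategoryTheory.Limits

universe w v u t

variable {A : Type u} [Category.{v} A] [Abelian A] {J : Type t}
  [HasColimitsOfShape (Discrete J) A]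

/-- the termwise coproduct of a family of complexes -/
noncomputable abbrev sig (K : J → CochainComplex A ℤ) : CochainComplex A ℤ where
  X i := ∐ fun j => (K j).X i
  d i i' := Limits.Sigma.map (fun j => (K j).d i i')
  shape i i' h := by
    apply Sigma.hom_ext
    intro j
    simp [(K j).shape i i' h]
  d_comp_d' i i' i'' _ _ := by
    apply Sigma.hom_ext
    intro j
    simp

lemma sig_X (K : J → CochainComplex A ℤ) (i : ℤ) : (sig K).X i = ∐ fun j => (K j).X i := rfl

lemma sig_d (K : J → CochainComplex A ℤ) (i i' : ℤ) :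
    (sig K).d i i' = Limits.Sigma.map (fun j => (K j).d i i') := rfl

noncomputable def sigι (K : J → CochainComplex A ℤ) (j : J) : K j ⟶ sig K where
  f i := Sigma.ι (fun j => (K j).X i) j
  comm' i i' _ := by
    change _ ≫ Limits.Sigma.map (fun j => (K j).d i i') = _
    rw [Sigma.ι_map]

lemma sigι_f (K : J → CochainComplex A ℤ) (j : J) (i : ℤ) :
    (sigι K j).f i = Sigma.ι (fun j => (K j).X i) j := rfl

noncomputable def sigDesc {K : J → CochainComplex A ℤ} {M : CochainComplex A ℤ}
    (g : ∀ j, K j ⟶ M) : sig K ⟶ M where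
  f i := Sigma.desc (fun j => (g j).f i)
  comm' i i' _ := by
    change Sigma.desc (fun j => (g j).f i) ≫ _ =
      Limits.Sigma.map (fun j => (K j).d i i') ≫ Sigma.desc (fun j => (g j).f i')
    apply Sigma.hom_ext
    intro j
    rw [Sigma.ι_desc_assoc, Sigma.ι_map_assoc, Sigma.ι_desc, HomologicalComplex.Hom.comm]

lemma sigDesc_f {K : J → CochainComplex A ℤ} {M : CochainComplex A ℤ}
    (g : ∀ j, K j ⟶ M) (i : ℤ) : (sigDesc g).f i = Sigma.desc (fun j => (g j).f i) := rfl

@[reassoc (attr := simp)]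
lemma sigι_sigDesc {K : J → CochainComplex A ℤ} {M : CochainComplex A ℤ}
    (g : ∀ j, K j ⟶ M) (j : J) : sigι K j ≫ sigDesc g = g j := by
  ext i
  rw [HomologicalComplex.comp_f, sigι_f, sigDesc_f, Sigma.ι_desc]

lemma sig_hom_ext {K : J → CochainComplex A ℤ} {M : CochainComplex A ℤ} (f g : sig K ⟶ M)
    (h : ∀ j, sigι K j ≫ f = sigι K j ≫ g) : f = g := by
  apply HomologicalComplex.hom_ext
  intro i
  refine Sigma.hom_ext (f := fun j => (K j).X i) _ _ (fun j => ?_)
  have := congrArg (fun φ => φ.f i) (h j)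
  simpa [sigι_f] using this

noncomputable def sigMap {K L : J → CochainComplex A ℤ} (f : ∀ j, K j ⟶ L j) : sig K ⟶ sig L :=
  sigDesc (fun j => f j ≫ sigι L j)

@[reassoc (attr := simp)]
lemma sigι_sigMap {K L : J → CochainComplex A ℤ} (f : ∀ j, K j ⟶ L j) (j : J) :
    sigι K j ≫ sigMap f = f j ≫ sigι L j := by
  simp [sigMap]

lemma sigMap_f {K L : J → CochainComplex A ℤ} (f : ∀ j, K j ⟶ L j) (i : ℤ) :
    (sigMap f).f i = Limits.Sigma.map (fun j => (f j).f i) := by
  refine Sigma.hom_ext (f := fun j => (K j).X i) _ _ (fun j => ?_)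
  have := congrArg (fun φ => φ.f i) (sigι_sigMap f j)
  simp only [HomologicalComplex.comp_f, sigι_f] at this
  rw [this, Sigma.ι_map]

lemma sigMap_sigDesc {K L : J → CochainComplex A ℤ} {M : CochainComplex A ℤ}
    (f : ∀ j, K j ⟶ L j) (g : ∀ j, L j ⟶ M) :
    sigMap f ≫ sigDesc g = sigDesc (fun j => f j ≫ g j) := by
  apply sig_hom_ext
  intro j
  simp

/-- the termwise coproduct is a coproduct of complexes -/
noncomputable def isColimitSig (K : J → CochainComplex A ℤ) :
    IsColimit (Cofan.mk (sig K) (sigι K)) :=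
  Cofan.IsColimit.mk _ (fun s => sigDesc (fun j => s.inj j))
    (fun s j => by simp)
    (fun s m hm => by
      apply sig_hom_ext
      intro j
      simpa using hm j)

section quasiIso

/-- a family of complexes as a complex of functors on the discrete category -/
@[simps]
def fam (K : J → CochainComplex A ℤ) :
    HomologicalComplex (Discrete J ⥤ A) (ComplexShape.up ℤ) where
  X i := Discrete.functor (fun j => (K j).X i)
  d i i' := Discrete.natTrans (fun j => (K j.as).d i i')
  shape i i' h := by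
    ext ⟨j⟩
    simp [(K j).shape i i' h]
  d_comp_d' i i' i'' _ _ := by
    ext ⟨j⟩
    simp

@[simps]
def famMap {K L : J → CochainComplex A ℤ} (f : ∀ j, K j ⟶ L j) : fam K ⟶ fam L where
  f i := Discrete.natTrans (fun j => (f j.as).f i)
  comm' i i' _ := by
    ext ⟨j⟩
    exact (f j).comm i i'

noncomputable def sigIso (K : J → CochainComplex A ℤ) :
    sig K ≅ ((colim : (Discrete J ⥤ A) ⥤ A).mapHomologicalComplex (ComplexShape.up ℤ)).obj
      (fam K) :=
  HomologicalComplex.Hom.isoOfComponents (fun i => Iso.refl _) (by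
    intro i i' _
    exact (Category.id_comp _).trans (Category.comp_id _).symm)

lemma sigIso_hom_f (K : J → CochainComplex A ℤ) (i : ℤ) :
    (sigIso K).hom.f i = 𝟙 (∐ fun j => (K j).X i) := rfl

lemma sigMap_sigIso {K L : J → CochainComplex A ℤ} (f : ∀ j, K j ⟶ L j) :
    sigMap f ≫ (sigIso L).hom = (sigIso K).hom ≫
      ((colim : (Discrete J ⥤ A) ⥤ A).mapHomologicalComplex (ComplexShape.up ℤ)).map
        (famMap f) := by
  apply HomologicalComplex.hom_ext
  intro i
  rw [HomologicalComplex.comp_f, HomologicalComplex.comp_f, sigMap_f]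
  exact (Category.comp_id (Limits.Sigma.map (fun j => (f j).f i))).trans
    (Category.id_comp (Limits.Sigma.map (fun j => (f j).f i))).symm

instance quasiIso_sigMap [HasExactColimitsOfShape (Discrete J) A]
    {K L : J → CochainComplex A ℤ} (f : ∀ j, K j ⟶ L j) [∀ j, QuasiIso (f j)] :
    QuasiIso (sigMap f) := by
  have h1 : QuasiIso (famMap f) := by
    rw [HomologicalComplex.quasiIso_iff_evaluation]
    rintro ⟨j⟩
    exact inferInstanceAs (QuasiIso (f j))
  have h2 : QuasiIso (((colim : (Discrete J ⥤ A) ⥤ A).mapHomologicalComplex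
      (ComplexShape.up ℤ)).map (famMap f)) :=
    HomologicalComplex.quasiIso_map_of_preservesHomology (famMap f)
      (colim : (Discrete J ⥤ A) ⥤ A)
  have h3 : QuasiIso (sigMap f ≫ (sigIso L).hom) := by
    rw [sigMap_sigIso]
    infer_instance
  exact (quasiIso_iff_comp_right (sigMap f) (sigIso L).hom).1 h3

end quasiIso

/-- a coproduct of null-homotopies -/
noncomputable def sigHomotopy {K : J → CochainComplex A ℤ} {M : CochainComplex A ℤ}
    (g : ∀ j, K j ⟶ M) (H : ∀ j, Homotopy (g j) 0) : Homotopy (sigDesc g) 0 where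
  hom i i' := Sigma.desc (fun j => (H j).hom i i')
  zero i i' h := by
    apply Sigma.hom_ext
    intro j
    simp [(H j).zero i i' h]
  comm i := by
    apply Sigma.hom_ext
    intro j
    have := (H j).comm i
    simp only [HomologicalComplex.zero_f, add_zero] at this ⊢
    rw [dNext_eq _ (show (ComplexShape.up ℤ).Rel i (i + 1) from rfl),
      prevD_eq _ (show (ComplexShape.up ℤ).Rel (i - 1) i by simp)] at this ⊢
    simp only [sigDesc_f, Preadditive.comp_add, Sigma.ι_desc, Sigma.ι_desc_assoc,
      Sigma.ι_map_assoc]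
    exact this

section derived

open DerivedCategory

variable [HasDerivedCategory.{w} A]

lemma Q_map_eq_zero_of_homotopy {K L : CochainComplex A ℤ} (f : K ⟶ L) (h : Homotopy f 0) :
    Q.map f = 0 := by
  change Qh.map ((HomotopyCategory.quotient _ _).map f) = 0
  rw [HomotopyCategory.eq_of_homotopy f 0 h, Functor.map_zero, Functor.map_zero]

lemma exists_qis_homotopy_of_Q_map_eq_zero {K L : CochainComplex A ℤ} (h : K ⟶ L)
    (hh : Q.map h = 0) :
    ∃ (K' : CochainComplex A ℤ) (s : K' ⟶ K) (_ : QuasiIso s), Nonempty (Homotopy (s ≫ h) 0) := by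
  have h0 : Qh.map ((HomotopyCategory.quotient _ _).map h) =
      Qh.map (0 : (HomotopyCategory.quotient _ _).obj K ⟶ (HomotopyCategory.quotient _ _).obj L) := by
    rw [Functor.map_zero]
    exact hh
  obtain ⟨Z, s, hs, eq⟩ := (MorphismProperty.map_eq_iff_precomp Qh
    (HomotopyCategory.quasiIso A (ComplexShape.up ℤ)) _ _).1 h0
  obtain ⟨K', rfl⟩ := HomotopyCategory.quotient_obj_surjective Z
  obtain ⟨s', rfl⟩ := (HomotopyCategory.quotient _ _).map_surjective s
  rw [HomotopyCategory.quotient_map_mem_quasiIso_iff] at hs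
  refine ⟨K', s', hs, ?_⟩
  rw [← HomotopyCategory.quotient_map_eq_zero_iff, Functor.map_comp, eq, comp_zero]

variable [HasExactColimitsOfShape (Discrete J) A] (K : J → CochainComplex A ℤ)

lemma exists_desc (Y : DerivedCategory A) (φ : ∀ j, Q.obj (K j) ⟶ Y) :
    ∃ ψ : Q.obj (sig K) ⟶ Y, ∀ j, Q.map (sigι K j) ≫ ψ = φ j := by
  obtain ⟨L, ⟨e⟩⟩ : ∃ L : CochainComplex A ℤ, Nonempty (Q.obj L ≅ Y) :=
    ⟨Q.objPreimage Y, ⟨Q.objObjPreimageIso Y⟩⟩
  have := fun j => right_fac (φ j ≫ e.inv)
  choose K' s hs g hg using this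
  have hq : ∀ j, QuasiIso (s j) := fun j => (isIso_Q_map_iff_quasiIso (φ := s j)).1 (hs j)
  have hiso : IsIso (Q.map (sigMap s)) := (isIso_Q_map_iff_quasiIso (φ := sigMap _)).2 inferInstance
  refine ⟨inv (Q.map (sigMap s)) ≫ Q.map (sigDesc g) ≫ e.hom, fun j => ?_⟩
  have h1 : Q.map (sigι K j) ≫ inv (Q.map (sigMap s)) =
      inv (Q.map (s j)) ≫ Q.map (sigι K' j) := by
    rw [IsIso.comp_inv_eq, Category.assoc, IsIso.eq_inv_comp, ← Q.map_comp, ← Q.map_comp,
      sigι_sigMap]
  rw [reassoc_of% h1, ← Q.map_comp_assoc, sigι_sigDesc, ← Category.assoc, ← hg j,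
    Category.assoc, e.inv_hom_id, Category.comp_id]

lemma eq_zero_of_comp (Y : DerivedCategory A) (ψ : Q.obj (sig K) ⟶ Y)
    (h : ∀ j, Q.map (sigι K j) ≫ ψ = 0) : ψ = 0 := by
  obtain ⟨L, ⟨e⟩⟩ : ∃ L : CochainComplex A ℤ, Nonempty (Q.obj L ≅ Y) :=
    ⟨Q.objPreimage Y, ⟨Q.objObjPreimageIso Y⟩⟩
  obtain ⟨L', g, s, hs, hψ⟩ := left_fac (ψ ≫ e.inv)
  have hg : ∀ j, Q.map (sigι K j ≫ g) = 0 := by
    intro j
    have : Q.map g = (ψ ≫ e.inv) ≫ Q.map s := by
      rw [hψ, Category.assoc, IsIso.inv_hom_id, Category.comp_id]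
    rw [Q.map_comp, this, ← Category.assoc, ← Category.assoc, h j, zero_comp, zero_comp]
  choose K' s' hs' H using fun j => exists_qis_homotopy_of_Q_map_eq_zero _ (hg j)
  have hiso : IsIso (Q.map (sigMap s')) := (isIso_Q_map_iff_quasiIso (φ := sigMap _)).2 inferInstance
  have h2 : Q.map (sigMap s' ≫ g) = 0 := by
    have : sigMap s' ≫ g = sigDesc (fun j => s' j ≫ sigι K j ≫ g) :=
      sig_hom_ext _ _ (fun j => by simp)
    rw [this]
    exact Q_map_eq_zero_of_homotopy _ (sigHomotopy _ (fun j => (H j).some))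
  have h3 : Q.map g = 0 := by
    rw [Q.map_comp] at h2
    rw [← cancel_epi (Q.map (sigMap s')), h2, comp_zero]
  have h4 : ψ ≫ e.inv = 0 := by rw [hψ, h3, zero_comp]
  rw [← cancel_mono e.inv, h4, zero_comp]

/-- the termwise coproduct of complexes is a coproduct in the derived category -/
noncomputable def isColimitCofanQ :
    IsColimit (Cofan.mk (Q.obj (sig K)) (fun j => Q.map (sigι K j))) :=
  Cofan.IsColimit.mk _ (fun s => (exists_desc K s.pt s.inj).choose)
    (fun s j => (exists_desc K s.pt s.inj).choose_spec j)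
    (fun s m hm => by
      rw [← sub_eq_zero]
      apply eq_zero_of_comp K
      intro j
      rw [Preadditive.comp_sub, (exists_desc K s.pt s.inj).choose_spec j]
      exact sub_eq_zero.2 (hm j))

variable (A J) in
lemma hasColimitsOfShape_discrete : HasColimitsOfShape (Discrete J) (DerivedCategory A) where
  has_colimit F := by
    let K : J → CochainComplex A ℤ := fun j => Q.objPreimage (F.obj ⟨j⟩)
    have : HasColimit (Discrete.functor (fun j => Q.obj (K j))) :=
      ⟨⟨⟨_, isColimitCofanQ K⟩⟩⟩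
    exact hasColimit_of_iso (F := Discrete.functor (fun j => Q.obj (K j)))
      (Discrete.natIso (fun ⟨j⟩ => (Q.objObjPreimageIso (F.obj ⟨j⟩)).symm))

end derived

end Groth.Agent.Lib.helper2.DerCoprod
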