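import Mathlib

/-!
# Dévissage of bounded objects of the derived category along truncations (helper2)
-/

set_option autoImplicit false
set_option linter.unusedSectionVars false

namespace Groth.Agent.Lib.helper2.DerTrunc

open CategoryTheory CategoryTheory.Limits CategoryTheory.Pretriangulated CategoryTheory.Triangulated
  DerivedCategory

universe w v u

variable {A : Type u} [Category.{v} A] [Abelian A] [HasDerivedCategory.{w} A]

/-- In a distinguished triangle, `Hⁿ(mor₁)` is an isomorphism when `Hⁿ⁻¹` and `Hⁿ` of the third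
vertex vanish. -/
lemma isIso_homology_map_mor₁ (T : Triangle (DerivedCategory A)) (hT : T ∈ distTriang _)
    (n₀ n₁ : ℤ) (h : n₀ + 1 = n₁)
    (h₀ : IsZero ((homologyFunctor A n₀).obj T.obj₃))
    (h₁ : IsZero ((homologyFunctor A n₁).obj T.obj₃)) :
    IsIso ((homologyFunctor A n₁).map T.mor₁) := by
  have hm : Mono ((homologyFunctor A n₁).map T.mor₁) :=
    ((homologyFunctor A 0).homologySequence_mono_shift_map_mor₁_iff T hT n₀ n₁ h).2
      (h₀.eq_of_src _ _)
  have he : Epi ((homologyFunctor A n₁).map T.mor₁) :=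
    ((homologyFunctor A 0).homologySequence_epi_shift_map_mor₁_iff T hT n₁).2
      (h₁.eq_of_tgt _ _)
  exact isIso_of_mono_of_epi _

/-- In a distinguished triangle, `Hⁿ(mor₂)` is an isomorphism when `Hⁿ` and `Hⁿ⁺¹` of the first
vertex vanish. -/
lemma isIso_homology_map_mor₂ (T : Triangle (DerivedCategory A)) (hT : T ∈ distTriang _)
    (n₀ n₁ : ℤ) (h : n₀ + 1 = n₁)
    (h₀ : IsZero ((homologyFunctor A n₀).obj T.obj₁))
    (h₁ : IsZero ((homologyFunctor A n₁).obj T.obj₁)) :
    IsIso ((homologyFunctor A n₀).map T.mor₂) := by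
  have hm : Mono ((homologyFunctor A n₀).map T.mor₂) :=
    ((homologyFunctor A 0).homologySequence_mono_shift_map_mor₂_iff T hT n₀).2
      (h₀.eq_of_src _ _)
  have he : Epi ((homologyFunctor A n₀).map T.mor₂) :=
    ((homologyFunctor A 0).homologySequence_epi_shift_map_mor₂_iff T hT n₀ n₁ h).2
      (h₁.eq_of_tgt _ _)
  exact isIso_of_mono_of_epi _

/-- `Hⁱ(τ_{<b} X) ⟶ Hⁱ(X)` is an isomorphism for `i < b`. -/
lemma isIso_homology_map_truncLTι (X : DerivedCategory A) (b i : ℤ) (hi : i < b) :
    IsIso ((homologyFunctor A i).map ((TStructure.t.truncLTι b).app X)) := by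
  have hT := TStructure.t.triangleLTGE_distinguished b X
  have hge : TStructure.t.IsGE ((TStructure.t.truncGE b).obj X) b := inferInstance
  exact isIso_homology_map_mor₁ _ hT (i - 1) i (by ring)
    (DerivedCategory.isZero_of_isGE _ b (i - 1) (by omega))
    (DerivedCategory.isZero_of_isGE _ b i hi)

/-- `Hⁱ(X) ⟶ Hⁱ(τ_{≥b} X)` is an isomorphism for `b ≤ i`. -/
lemma isIso_homology_map_truncGEπ (X : DerivedCategory A) (b i : ℤ) (hi : b ≤ i) :
    IsIso ((homologyFunctor A i).map ((TStructure.t.truncGEπ b).app X)) := by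
  have hT := TStructure.t.triangleLTGE_distinguished b X
  have hle : TStructure.t.IsLE ((TStructure.t.truncLT b).obj X) (b - 1) := inferInstance
  exact isIso_homology_map_mor₂ _ hT i (i + 1) rfl
    (DerivedCategory.isZero_of_isLE _ (b - 1) i (by omega))
    (DerivedCategory.isZero_of_isLE _ (b - 1) (i + 1) (by omega))

/-- an object of `D(A)` concentrated in degree `b` is `single_b` of its `H^b` -/
lemma exists_iso_single_homology (M : DerivedCategory A) (b : ℤ) [M.IsGE b] [M.IsLE b] :
    Nonempty (M ≅ (singleFunctor A b).obj ((homologyFunctor A b).obj M)) := by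
  obtain ⟨Y, ⟨e⟩⟩ := exists_iso_singleFunctor_obj_of_isGE_of_isLE M b
  have e' : (homologyFunctor A b).obj M ≅ Y :=
    (homologyFunctor A b).mapIso e ≪≫ (singleFunctorCompHomologyFunctorIso A b).app Y
  exact ⟨e ≪≫ (singleFunctor A b).mapIso e'.symm⟩

/-- Dévissage: a property of objects of `D(A)` which is closed under isomorphisms and extensions,
holds for zero objects and for `single_n Y` with `Y` in a degree-dependent class `P n`, holds for
every bounded object whose cohomology objects lie in the classes `P n`. -/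
theorem bounded_induction (P : ℤ → ObjectProperty A) [∀ n, (P n).IsClosedUnderIsomorphisms]
    (PP : ObjectProperty (DerivedCategory A)) [PP.IsClosedUnderIsomorphisms]
    (h0 : ∀ X : DerivedCategory A, IsZero X → PP X)
    (hext : ∀ T : Triangle (DerivedCategory A), T ∈ distTriang _ → PP T.obj₁ → PP T.obj₃ → PP T.obj₂)
    (hsingle : ∀ (n : ℤ) (Y : A), P n Y → PP ((singleFunctor A n).obj Y))
    (X : DerivedCategory A) (a b : ℤ) [X.IsGE a] [X.IsLE b]
    (hX : ∀ i : ℤ, a ≤ i → i ≤ b → P i ((homologyFunctor A i).obj X)) : PP X := by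
  have gen : ∀ (k : ℕ) (X : DerivedCategory A) (a b : ℤ), b < a + k → X.IsGE a → X.IsLE b →
      (∀ i : ℤ, a ≤ i → i ≤ b → P i ((homologyFunctor A i).obj X)) → PP X := by
    intro k
    induction k with
    | zero =>
      intro X a b hab hXa hXb _
      exact h0 X (TStructure.t.isZero X b a (by simpa using hab))
    | succ k ih =>
      intro X a b hab hXa hXb hX
      by_cases hba : b < a
      · exact h0 X (TStructure.t.isZero X b a hba)
      · have hT := TStructure.t.triangleLTGE_distinguished b X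
        refine hext _ hT ?_ ?_
        · -- the truncation below b
          have h1 : TStructure.t.IsGE ((TStructure.t.truncLT b).obj X) a := inferInstance
          have h2 : TStructure.t.IsLE ((TStructure.t.truncLT b).obj X) (b - 1) := inferInstance
          refine ih _ a (b - 1) (by push_cast at hab; omega) h1 h2 ?_
          intro i hai hib
          have := isIso_homology_map_truncLTι X b i (by omega)
          exact (P i).prop_of_iso
            (asIso ((homologyFunctor A i).map ((TStructure.t.truncLTι b).app X))).symm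
            (hX i hai (by omega))
        · -- the top piece
          have h1 : TStructure.t.IsGE ((TStructure.t.truncGE b).obj X) b := inferInstance
          have h2 : TStructure.t.IsLE ((TStructure.t.truncGE b).obj X) b := inferInstance
          obtain ⟨e⟩ := exists_iso_single_homology ((TStructure.t.truncGE b).obj X) b
          have := isIso_homology_map_truncGEπ X b b le_rfl
          have hPb : P b ((homologyFunctor A b).obj ((TStructure.t.truncGE b).obj X)) :=
            (P b).prop_of_iso
              (asIso ((homologyFunctor A b).map ((TStructure.t.truncGEπ b).app X)))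
              (hX b (by omega) le_rfl)
          exact PP.prop_of_iso e.symm (hsingle b _ hPb)
  obtain ⟨k, hk⟩ : ∃ k : ℕ, b < a + k := ⟨(b - a + 1).toNat, by omega⟩
  exact gen k X a b hk inferInstance inferInstance hX

section TriNat

variable {C : Type*} {D : Type*} [Category C] [Category D] [Preadditive C] [Preadditive D]
  [HasZeroObject C] [HasZeroObject D] [HasShift C ℤ] [HasShift D ℤ]
  [∀ n : ℤ, (shiftFunctor C n).Additive] [∀ n : ℤ, (shiftFunctor D n).Additive]
  [Pretriangulated C] [Pretriangulated D]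
  (F G : C ⥤ D) [F.CommShift ℤ] [G.CommShift ℤ] [F.IsTriangulated] [G.IsTriangulated]
  (η : F ⟶ G) [NatTrans.CommShift η ℤ]

/-- the morphism of triangles induced by a natural transformation of triangulated functors -/
def mapTriangleHom (T : Triangle C) : F.mapTriangle.obj T ⟶ G.mapTriangle.obj T where
  hom₁ := η.app T.obj₁
  hom₂ := η.app T.obj₂
  hom₃ := η.app T.obj₃
  comm₁ := by
    change F.map T.mor₁ ≫ η.app T.obj₂ = η.app T.obj₁ ≫ G.map T.mor₁
    exact η.naturality _
  comm₂ := by
    change F.map T.mor₂ ≫ η.app T.obj₃ = η.app T.obj₂ ≫ G.map T.mor₂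
    exact η.naturality _
  comm₃ := by
    change (F.map T.mor₃ ≫ (F.commShiftIso (1 : ℤ)).hom.app T.obj₁) ≫
        (shiftFunctor D (1 : ℤ)).map (η.app T.obj₁) =
      η.app T.obj₃ ≫ (G.map T.mor₃ ≫ (G.commShiftIso (1 : ℤ)).hom.app T.obj₁)
    rw [Category.assoc, NatTrans.shift_app_comm η (1 : ℤ) T.obj₁, ← Category.assoc,
      η.naturality, Category.assoc]

lemma isIso_app_obj₂ (T : Triangle C) (hT : T ∈ distTriang C) (h₁ : IsIso (η.app T.obj₁))
    (h₃ : IsIso (η.app T.obj₃)) : IsIso (η.app T.obj₂) :=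
  isIso₂_of_isIso₁₃ (mapTriangleHom F G η T) (F.map_distinguished T hT) (G.map_distinguished T hT)
    (show IsIso (η.app T.obj₁) from h₁) (show IsIso (η.app T.obj₃) from h₃)

lemma isIso_app_shift (X : C) (n : ℤ) (h : IsIso (η.app X)) :
    IsIso (η.app ((shiftFunctor C n).obj X)) := by
  rw [NatTrans.app_shift η n X]
  infer_instance

lemma isIso_app_of_isZero (X : C) (hX : IsZero X) : IsIso (η.app X) := by
  have hF : IsZero (F.obj X) := Functor.map_isZero F hX
  have hG : IsZero (G.obj X) := Functor.map_isZero G hX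
  exact ⟨⟨0, hF.eq_of_src _ _, hG.eq_of_src _ _⟩⟩

end TriNat

/-- `single_n Y ≅ (single_0 Y)⟦-n⟧` -/
noncomputable def singleIsoShift (Y : A) (n : ℤ) :
    (singleFunctor A n).obj Y ≅ (shiftFunctor (DerivedCategory A) (-n)).obj
      ((singleFunctor A 0).obj Y) :=
  (((singleFunctors A).shiftIso (-n) n 0 (by omega)).app Y).symm

section WayOut

variable {B : Type*} [Category B] [Abelian B] [HasDerivedCategory B]
  (P : ObjectProperty A) [P.IsClosedUnderIsomorphisms]
  (F G : DerivedCategory A ⥤ DerivedCategory B) [F.CommShift ℤ] [G.CommShift ℤ]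
  [F.IsTriangulated] [G.IsTriangulated] (η : F ⟶ G) [NatTrans.CommShift η ℤ]
  (hη : ∀ X : A, P X → IsIso (η.app ((singleFunctor A 0).obj X)))

include hη in
/-- the bounded case of the way-out lemma -/
lemma isIso_app_of_bounded (X : DerivedCategory A) (a b : ℤ) [X.IsGE a] [X.IsLE b]
    (hX : ∀ i : ℤ, a ≤ i → i ≤ b → P ((homologyFunctor A i).obj X)) : IsIso (η.app X) := by
  letI : ObjectProperty.IsClosedUnderIsomorphisms
      (fun X : DerivedCategory A => IsIso (η.app X)) :=
    ⟨fun {X Y} e h => (NatTrans.isIso_app_iff_of_iso η e).1 h⟩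
  exact bounded_induction (fun _ => P) (fun X : DerivedCategory A => IsIso (η.app X))
    (fun X hX => isIso_app_of_isZero F G η X hX)
    (fun T hT h₁ h₃ => isIso_app_obj₂ F G η T hT h₁ h₃)
    (fun n Y hY => by
      have h1 : IsIso (η.app ((singleFunctor A 0).obj Y)) := hη Y hY
      have h2 := isIso_app_shift F G η _ (-n) h1
      exact (NatTrans.isIso_app_iff_of_iso η (singleIsoShift Y n)).2 h2)
    X a b hX

include hη in
/-- the bounded below case of the way-out lemma, for way-out right functors -/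
lemma isIso_app_of_isGE
    (hF : ∀ n₁ : ℤ, ∃ n₂ : ℤ, ∀ Y : DerivedCategory A, Y.IsGE n₂ → (F.obj Y).IsGE n₁)
    (hG : ∀ n₁ : ℤ, ∃ n₂ : ℤ, ∀ Y : DerivedCategory A, Y.IsGE n₂ → (G.obj Y).IsGE n₁)
    (X : DerivedCategory A) (a : ℤ) [X.IsGE a]
    (hX : ∀ i : ℤ, a ≤ i → P ((homologyFunctor A i).obj X)) : IsIso (η.app X) := by
  rw [DerivedCategory.isIso_iff]
  intro j
  obtain ⟨m₁, hm₁⟩ := hF (j + 2)
  obtain ⟨m₂, hm₂⟩ := hG (j + 2)
  -- truncate at m := max m₁ m₂
  have hT := TStructure.t.triangleLTGE_distinguished (max m₁ m₂) X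
  have hge : ((TStructure.t.truncGE (max m₁ m₂)).obj X).IsGE (max m₁ m₂) :=
    inferInstanceAs (TStructure.t.IsGE _ _)
  have hge₁ : ((TStructure.t.truncGE (max m₁ m₂)).obj X).IsGE m₁ :=
    TStructure.t.isGE_of_ge _ m₁ (max m₁ m₂) (le_max_left _ _)
  have hge₂ : ((TStructure.t.truncGE (max m₁ m₂)).obj X).IsGE m₂ :=
    TStructure.t.isGE_of_ge _ m₂ (max m₁ m₂) (le_max_right _ _)
  have hFge := hm₁ _ hge₁
  have hGge := hm₂ _ hge₂
  have hFiso : IsIso ((homologyFunctor B j).map
      (F.map ((TStructure.t.truncLTι (max m₁ m₂)).app X))) :=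
    isIso_homology_map_mor₁ _ (F.map_distinguished _ hT) (j - 1) j (by ring)
      (DerivedCategory.isZero_of_isGE (F.obj ((TStructure.t.truncGE (max m₁ m₂)).obj X))
        (j + 2) (j - 1) (by omega))
      (DerivedCategory.isZero_of_isGE (F.obj ((TStructure.t.truncGE (max m₁ m₂)).obj X))
        (j + 2) j (by omega))
  have hGiso : IsIso ((homologyFunctor B j).map
      (G.map ((TStructure.t.truncLTι (max m₁ m₂)).app X))) :=
    isIso_homology_map_mor₁ _ (G.map_distinguished _ hT) (j - 1) j (by ring)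
      (DerivedCategory.isZero_of_isGE (G.obj ((TStructure.t.truncGE (max m₁ m₂)).obj X))
        (j + 2) (j - 1) (by omega))
      (DerivedCategory.isZero_of_isGE (G.obj ((TStructure.t.truncGE (max m₁ m₂)).obj X))
        (j + 2) j (by omega))
  -- η on the truncation is an isomorphism
  have h1 : ((TStructure.t.truncLT (max m₁ m₂)).obj X).IsGE a :=
    inferInstanceAs (TStructure.t.IsGE _ _)
  have h2 : ((TStructure.t.truncLT (max m₁ m₂)).obj X).IsLE (max m₁ m₂ - 1) :=
    inferInstanceAs (TStructure.t.IsLE _ _)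
  have hbd : IsIso (η.app ((TStructure.t.truncLT (max m₁ m₂)).obj X)) := by
    refine isIso_app_of_bounded P F G η hη _ a (max m₁ m₂ - 1) ?_
    intro i hai hib
    have := isIso_homology_map_truncLTι X (max m₁ m₂) i (by omega)
    exact P.prop_of_iso
      (asIso ((homologyFunctor A i).map ((TStructure.t.truncLTι (max m₁ m₂)).app X))).symm
      (hX i hai)
  -- naturality
  have hnat : (homologyFunctor B j).map (F.map ((TStructure.t.truncLTι (max m₁ m₂)).app X)) ≫
      (homologyFunctor B j).map (η.app X) =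
      (homologyFunctor B j).map (η.app ((TStructure.t.truncLT (max m₁ m₂)).obj X)) ≫
      (homologyFunctor B j).map (G.map ((TStructure.t.truncLTι (max m₁ m₂)).app X)) := by
    have hn : F.map ((TStructure.t.truncLTι (max m₁ m₂)).app X) ≫ η.app X =
        η.app ((TStructure.t.truncLT (max m₁ m₂)).obj X) ≫
          G.map ((TStructure.t.truncLTι (max m₁ m₂)).app X) := η.naturality _
    rw [← Functor.map_comp, ← Functor.map_comp, hn]
  have : IsIso ((homologyFunctor B j).map (F.map ((TStructure.t.truncLTι (max m₁ m₂)).app X)) ≫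
      (homologyFunctor B j).map (η.app X)) := by
    rw [hnat]; infer_instance
  exact IsIso.of_isIso_comp_left
    ((homologyFunctor B j).map (F.map ((TStructure.t.truncLTι (max m₁ m₂)).app X))) _

include hη in
/-- the unbounded case of the way-out lemma, for functors way-out in both directions -/
lemma isIso_app_of_wayOutBoth
    (hF : ∀ n₁ : ℤ, ∃ n₂ : ℤ, ∀ Y : DerivedCategory A, Y.IsGE n₂ → (F.obj Y).IsGE n₁)
    (hF' : ∀ n₁ : ℤ, ∃ n₂ : ℤ, ∀ Y : DerivedCategory A, Y.IsLE n₂ → (F.obj Y).IsLE n₁)
    (hG : ∀ n₁ : ℤ, ∃ n₂ : ℤ, ∀ Y : DerivedCategory A, Y.IsGE n₂ → (G.obj Y).IsGE n₁)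
    (hG' : ∀ n₁ : ℤ, ∃ n₂ : ℤ, ∀ Y : DerivedCategory A, Y.IsLE n₂ → (G.obj Y).IsLE n₁)
    (X : DerivedCategory A)
    (hX : ∀ i : ℤ, P ((homologyFunctor A i).obj X)) : IsIso (η.app X) := by
  rw [DerivedCategory.isIso_iff]
  intro j
  obtain ⟨m₁, hm₁⟩ := hF' (j - 2)
  obtain ⟨m₂, hm₂⟩ := hG' (j - 2)
  -- truncate at m := min m₁ m₂ + 1
  have hT := TStructure.t.triangleLTGE_distinguished (min m₁ m₂ + 1) X
  have hle : ((TStructure.t.truncLT (min m₁ m₂ + 1)).obj X).IsLE (min m₁ m₂) :=
    inferInstanceAs (TStructure.t.IsLE _ _)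
  have hle₁ : ((TStructure.t.truncLT (min m₁ m₂ + 1)).obj X).IsLE m₁ :=
    TStructure.t.isLE_of_le _ (min m₁ m₂) m₁ (min_le_left _ _)
  have hle₂ : ((TStructure.t.truncLT (min m₁ m₂ + 1)).obj X).IsLE m₂ :=
    TStructure.t.isLE_of_le _ (min m₁ m₂) m₂ (min_le_right _ _)
  have hFle := hm₁ _ hle₁
  have hGle := hm₂ _ hle₂
  have hFiso : IsIso ((homologyFunctor B j).map
      (F.map ((TStructure.t.truncGEπ (min m₁ m₂ + 1)).app X))) :=
    isIso_homology_map_mor₂ _ (F.map_distinguished _ hT) j (j + 1) rfl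
      (DerivedCategory.isZero_of_isLE (F.obj ((TStructure.t.truncLT (min m₁ m₂ + 1)).obj X))
        (j - 2) j (by omega))
      (DerivedCategory.isZero_of_isLE (F.obj ((TStructure.t.truncLT (min m₁ m₂ + 1)).obj X))
        (j - 2) (j + 1) (by omega))
  have hGiso : IsIso ((homologyFunctor B j).map
      (G.map ((TStructure.t.truncGEπ (min m₁ m₂ + 1)).app X))) :=
    isIso_homology_map_mor₂ _ (G.map_distinguished _ hT) j (j + 1) rfl
      (DerivedCategory.isZero_of_isLE (G.obj ((TStructure.t.truncLT (min m₁ m₂ + 1)).obj X))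
        (j - 2) j (by omega))
      (DerivedCategory.isZero_of_isLE (G.obj ((TStructure.t.truncLT (min m₁ m₂ + 1)).obj X))
        (j - 2) (j + 1) (by omega))
  have h1 : ((TStructure.t.truncGE (min m₁ m₂ + 1)).obj X).IsGE (min m₁ m₂ + 1) :=
    inferInstanceAs (TStructure.t.IsGE _ _)
  have hbd : IsIso (η.app ((TStructure.t.truncGE (min m₁ m₂ + 1)).obj X)) := by
    refine isIso_app_of_isGE P F G η hη hF hG _ (min m₁ m₂ + 1) ?_
    intro i hai
    have := isIso_homology_map_truncGEπ X (min m₁ m₂ + 1) i hai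
    exact P.prop_of_iso
      (asIso ((homologyFunctor A i).map ((TStructure.t.truncGEπ (min m₁ m₂ + 1)).app X)))
      (hX i)
  have hnat : (homologyFunctor B j).map (η.app X) ≫
      (homologyFunctor B j).map (G.map ((TStructure.t.truncGEπ (min m₁ m₂ + 1)).app X)) =
      (homologyFunctor B j).map (F.map ((TStructure.t.truncGEπ (min m₁ m₂ + 1)).app X)) ≫
      (homologyFunctor B j).map (η.app ((TStructure.t.truncGE (min m₁ m₂ + 1)).obj X)) := by
    have hn : F.map ((TStructure.t.truncGEπ (min m₁ m₂ + 1)).app X) ≫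
        η.app ((TStructure.t.truncGE (min m₁ m₂ + 1)).obj X) =
        η.app X ≫ G.map ((TStructure.t.truncGEπ (min m₁ m₂ + 1)).app X) := η.naturality _
    rw [← Functor.map_comp, ← Functor.map_comp, hn]
  have : IsIso ((homologyFunctor B j).map (η.app X) ≫
      (homologyFunctor B j).map (G.map ((TStructure.t.truncGEπ (min m₁ m₂ + 1)).app X))) := by
    rw [hnat]; infer_instance
  exact IsIso.of_isIso_comp_right _
    ((homologyFunctor B j).map (G.map ((TStructure.t.truncGEπ (min m₁ m₂ + 1)).app X)))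

end WayOut

end Groth.Agent.Lib.helper2.DerTrunc
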