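import Mathlib
import Groth.Agent.Lib.helper2.DerTrunc

/-!
# Euler characteristics and dévissage for `K₀`
-/

namespace Groth.Agent.Lib.helper2.KZeroEuler

open CategoryTheory Limits DerivedCategory Pretriangulated ZeroObject

universe w v u

variable {C : Type u} [Category.{v} C] [Abelian C]

section Ab

variable (P : ObjectProperty C) {G : Type*} [AddCommGroup G] (c : C → G)

/-- additivity of `c` on short exact sequences with terms in `P` -/
def IsAdditive : Prop := ∀ S : ShortComplex C, S.ShortExact → P S.X₁ → P S.X₂ → P S.X₃ →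
  c S.X₂ = c S.X₁ + c S.X₃

variable {P c} (hc : IsAdditive P c)
include hc

lemma map_of_isZero [P.ContainsZero] [P.IsClosedUnderIsomorphisms] {X : C} (hX : IsZero X) :
    c X = 0 := by
  have hP : P X := P.prop_of_isZero hX
  let S : ShortComplex C := ShortComplex.mk (0 : X ⟶ X) (0 : X ⟶ X) zero_comp
  have hS : S.ShortExact :=
    { exact := ShortComplex.exact_of_isZero_X₂ _ hX
      mono_f := ⟨fun _ _ _ => hX.eq_of_tgt _ _⟩
      epi_g := ⟨fun _ _ _ => hX.eq_of_src _ _⟩ }
  have := hc S hS hP hP hP
  change c X = c X + c X at this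
  exact (add_eq_left.mp this.symm)

lemma map_of_iso [P.ContainsZero] [P.IsClosedUnderIsomorphisms] {X Y : C} (e : X ≅ Y)
    (hX : P X) : c Y = c X := by
  let S : ShortComplex C := ShortComplex.mk e.hom (0 : Y ⟶ 0) comp_zero
  have hS : S.ShortExact :=
    { exact := (S.exact_iff_epi rfl).2 (by dsimp [S]; infer_instance)
      mono_f := by dsimp [S]; infer_instance
      epi_g := ⟨fun _ _ _ => (isZero_zero C).eq_of_src _ _⟩ }
  have := hc S hS hX (P.prop_of_iso e hX) (P.prop_of_isZero (isZero_zero C))
  change c Y = c X + c 0 at this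
  rw [this, map_of_isZero hc (isZero_zero C), add_zero]

lemma map_eq_add_of_exact [P.IsClosedUnderKernels] (S : ShortComplex C) (hS : S.Exact)
    (h₁ : P S.X₁) (h₂ : P S.X₂) (h₃ : P S.X₃) :
    c S.X₁ = c (kernel S.f) + c (kernel S.g) := by
  let S' : ShortComplex C := ShortComplex.mk (kernel.ι S.f) (kernel.lift S.g S.f S.zero) (by
    rw [← cancel_mono (kernel.ι S.g), Category.assoc, kernel.lift_ι, kernel.condition, zero_comp])
  have hS' : S'.ShortExact :=
    { exact := by
        apply ShortComplex.exact_of_f_is_kernel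
        exact isKernelOfComp (kernel.ι S.g) S.f (kernelIsKernel S.f) _ (kernel.lift_ι _ _ _)
      mono_f := by dsimp [S']; infer_instance
      epi_g := hS.epi_kernelLift }
  exact hc S' hS' (P.prop_kernel S.f h₁ h₂) h₁ (P.prop_kernel S.g h₂ h₃)

end Ab

section Euler

variable [HasDerivedCategory.{w} C] {P : ObjectProperty C} {G : Type*} [AddCommGroup G] {c : C → G}

/-- the Euler characteristic of an object of `D(C)` with values in `G` -/
noncomputable def chi (c : C → G) (K : DerivedCategory C) : G :=
  ∑ᶠ n : ℤ, ((n.negOnePow : ℤˣ) : ℤ) • c ((homologyFunctor C n).obj K)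

variable (hc : IsAdditive P c) [P.ContainsZero] [P.IsClosedUnderIsomorphisms]
include hc

lemma support_finite (f : ℤ → C) (a b : ℤ) (hf : ∀ n, n < a ∨ b < n → IsZero (f n)) :
    (Function.support fun n : ℤ => ((n.negOnePow : ℤˣ) : ℤ) • c (f n)).Finite := by
  apply (Set.finite_Icc a b).subset
  intro n hn
  by_contra h
  apply hn
  have : IsZero (f n) := hf n (by simp only [Set.mem_Icc, not_and_or, not_le] at h; exact h)
  simp [map_of_isZero hc this]

theorem chi_additive [P.IsClosedUnderKernels] (T : Triangle (DerivedCategory C))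
    (hT : T ∈ distTriang _)
    (h₁ : ∀ n, P ((homologyFunctor C n).obj T.obj₁))
    (h₂ : ∀ n, P ((homologyFunctor C n).obj T.obj₂))
    (h₃ : ∀ n, P ((homologyFunctor C n).obj T.obj₃)) (a b : ℤ)
    (hz₁ : ∀ n, n < a ∨ b < n → IsZero ((homologyFunctor C n).obj T.obj₁))
    (hz₃ : ∀ n, n < a ∨ b < n → IsZero ((homologyFunctor C n).obj T.obj₃)) :
    chi c T.obj₂ = chi c T.obj₁ + chi c T.obj₃ := by
  -- the pointwise relation
  have key : ∀ n : ℤ, c ((homologyFunctor C n).obj T.obj₂) + c (kernel ((homologyFunctor C n).map T.mor₁)) +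
      c (kernel ((homologyFunctor C (n + 1)).map T.mor₁)) =
      c ((homologyFunctor C n).obj T.obj₁) + c ((homologyFunctor C n).obj T.obj₃) := by
    intro n
    have e2 := map_eq_add_of_exact hc _ (HomologySequence.exact₂ T hT n) (h₁ n) (h₂ n) (h₃ n)
    have e3 := map_eq_add_of_exact hc _ (HomologySequence.exact₃ T hT n (n + 1) rfl)
      (h₂ n) (h₃ n) (h₁ (n + 1))
    have e1 := map_eq_add_of_exact hc _ (HomologySequence.exact₁ T hT n (n + 1) rfl)
      (h₃ n) (h₁ (n + 1)) (h₂ (n + 1))
    dsimp only at e1 e2 e3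
    rw [e2, e3, e1]
    abel
  let f₁ : ℤ → G := fun n => ((n.negOnePow : ℤˣ) : ℤ) • c ((homologyFunctor C n).obj T.obj₁)
  let f₂ : ℤ → G := fun n => ((n.negOnePow : ℤˣ) : ℤ) • c ((homologyFunctor C n).obj T.obj₂)
  let f₃ : ℤ → G := fun n => ((n.negOnePow : ℤˣ) : ℤ) • c ((homologyFunctor C n).obj T.obj₃)
  let w : ℤ → G := fun n => ((n.negOnePow : ℤˣ) : ℤ) • c (kernel ((homologyFunctor C n).map T.mor₁))
  have hf₁ : (Function.support f₁).Finite := support_finite hc _ a b hz₁
  have hf₃ : (Function.support f₃).Finite := support_finite hc _ a b hz₃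
  have hw : (Function.support w).Finite := support_finite hc _ a b (fun n hn =>
    IsZero.of_mono (kernel.ι _) (hz₁ n hn))
  have hw' : (Function.support fun n => w (n + 1)).Finite := by
    have : (Function.support fun n => w (n + 1)) = (fun n : ℤ => n + 1) ⁻¹' (Function.support w) := by
      ext n; simp [Function.mem_support]
    rw [this]
    exact hw.preimage (fun x _ y _ h => by simpa using h)
  have hpt : ∀ n, f₂ n = (f₁ n + f₃ n) + (w (n + 1) - w n) := by
    intro n
    have := key n
    have hsucc : (((n + 1).negOnePow : ℤˣ) : ℤ) = - ((n.negOnePow : ℤˣ) : ℤ) := by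
      rw [Int.negOnePow_succ]; simp
    simp only [f₁, f₂, f₃, w, hsucc]
    have h2 : c ((homologyFunctor C n).obj T.obj₂) = c ((homologyFunctor C n).obj T.obj₁) +
        c ((homologyFunctor C n).obj T.obj₃) - c (kernel ((homologyFunctor C n).map T.mor₁)) -
        c (kernel ((homologyFunctor C (n + 1)).map T.mor₁)) := by
      rw [← this]; abel
    rw [h2]
    simp only [smul_sub, smul_add, neg_smul]
    abel
  change ∑ᶠ n, f₂ n = ∑ᶠ n, f₁ n + ∑ᶠ n, f₃ n
  have h1 : ∑ᶠ n, f₂ n = ∑ᶠ n, ((f₁ n + f₃ n) + (w (n + 1) - w n)) := by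
    congr 1
    funext n
    exact hpt n
  have h13 : (Function.support fun n => f₁ n + f₃ n).Finite :=
    (hf₁.union hf₃).subset (Function.support_add f₁ f₃)
  rw [h1, finsum_add_distrib h13 (by
      exact (hw'.union hw).subset (Function.support_sub (fun n => w (n + 1)) w)),
    finsum_add_distrib hf₁ hf₃, finsum_sub_distrib hw' hw]
  have : ∑ᶠ n, w (n + 1) = ∑ᶠ n, w n := finsum_comp_equiv (Equiv.addRight (1 : ℤ))
  rw [this, sub_self, add_zero]

lemma chi_single {X : C} (hX : P X) : chi c ((singleFunctor C 0).obj X) = c X := by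
  unfold chi
  rw [finsum_eq_single _ (0 : ℤ) (fun n hn => ?_)]
  · rw [Int.negOnePow_zero, Units.val_one, one_smul]
    exact map_of_iso hc ((singleFunctorCompHomologyFunctorIso C 0).app X).symm hX
  · have hz : IsZero ((homologyFunctor C n).obj ((singleFunctor C 0).obj X)) := by
      obtain h | h := lt_or_gt_of_ne hn
      · exact DerivedCategory.isZero_of_isGE _ 0 n h
      · exact DerivedCategory.isZero_of_isLE _ 0 n h
    rw [map_of_isZero hc hz, smul_zero]

end Euler

section Tri

variable [HasDerivedCategory.{w} C] (P : ObjectProperty C)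

/-- bounded objects of `D(C)` with cohomology in `P` -/
def QP : ObjectProperty (DerivedCategory C) := fun K =>
  (∀ i : ℤ, P ((homologyFunctor C i).obj K)) ∧
    ∃ a b : ℤ, (TStructure.t (C := C)).IsGE K a ∧ (TStructure.t (C := C)).IsLE K b

variable {P} [P.ContainsZero] [P.IsClosedUnderIsomorphisms]

lemma QP_of_iso {X Y : DerivedCategory C} (e : X ≅ Y) (hX : QP P X) : QP P Y := by
  obtain ⟨h1, a, b, ha, hb⟩ := hX
  exact ⟨fun i => P.prop_of_iso ((homologyFunctor C i).mapIso e) (h1 i), a, b,
    TStructure.t.isGE_of_iso e a, TStructure.t.isLE_of_iso e b⟩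

lemma QP_of_isZero {X : DerivedCategory C} (hX : IsZero X) : QP P X := by
  refine ⟨fun i => P.prop_of_isZero ((homologyFunctor C i).map_isZero hX), 0, 0, ?_, ?_⟩
  · rw [← DerivedCategory.IsGE, DerivedCategory.isGE_iff]
    intro i _
    exact (homologyFunctor C i).map_isZero hX
  · rw [← DerivedCategory.IsLE, DerivedCategory.isLE_iff]
    intro i _
    exact (homologyFunctor C i).map_isZero hX

lemma QP_shift {X : DerivedCategory C} (hX : QP P X) : QP P (X⟦(1 : ℤ)⟧) := by
  obtain ⟨h1, a, b, ha, hb⟩ := hX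
  refine ⟨fun i => P.prop_of_iso
    (((homologyFunctor C 0).shiftIso 1 i (1 + i) rfl).app X).symm (h1 (1 + i)), a - 1, b - 1,
    TStructure.t.isGE_shift X a 1 (a - 1), TStructure.t.isLE_shift X b 1 (b - 1)⟩

lemma QP_single (n : ℤ) {X : C} (hX : P X) : QP P ((singleFunctor C n).obj X) := by
  refine ⟨fun i => ?_, n, n, inferInstance, inferInstance⟩
  obtain hi | rfl | hi := lt_trichotomy i n
  · exact P.prop_of_isZero (DerivedCategory.isZero_of_isGE _ n i hi)
  · exact P.prop_of_iso ((singleFunctorCompHomologyFunctorIso C i).app X).symm hX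
  · exact P.prop_of_isZero (DerivedCategory.isZero_of_isLE _ n i hi)

lemma QP_truncLT (b : ℤ) {X : DerivedCategory C} (hX : QP P X) :
    QP P ((TStructure.t.truncLT b).obj X) := by
  obtain ⟨h1, a, b', ha, hb⟩ := hX
  refine ⟨fun i => ?_, a, b - 1, inferInstance, inferInstance⟩
  by_cases hi : i < b
  · have := DerTrunc.isIso_homology_map_truncLTι X b i hi
    exact P.prop_of_iso
      (asIso ((homologyFunctor C i).map ((TStructure.t.truncLTι b).app X))).symm (h1 i)
  · have : TStructure.t.IsLE ((TStructure.t.truncLT b).obj X) (b - 1) := inferInstance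
    exact P.prop_of_isZero (DerivedCategory.isZero_of_isLE _ (b - 1) i (by lia))

lemma QP_truncGE (b : ℤ) {X : DerivedCategory C} (hX : QP P X) :
    QP P ((TStructure.t.truncGE b).obj X) := by
  obtain ⟨h1, a, b', ha, hb⟩ := hX
  refine ⟨fun i => ?_, b, b', inferInstance, inferInstance⟩
  by_cases hi : b ≤ i
  · have := DerTrunc.isIso_homology_map_truncGEπ X b i hi
    exact P.prop_of_iso
      (asIso ((homologyFunctor C i).map ((TStructure.t.truncGEπ b).app X))) (h1 i)
  · have : TStructure.t.IsGE ((TStructure.t.truncGE b).obj X) b := inferInstance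
    exact P.prop_of_isZero (DerivedCategory.isZero_of_isGE _ b i (by lia))

variable {G' : Type*} [AddCommGroup G'] (Q : ObjectProperty (DerivedCategory C))
  (d : DerivedCategory C → G')

/-- additivity on distinguished triangles with vertices in `Q` -/
def IsTriAdditive : Prop := ∀ T : Triangle (DerivedCategory C), T ∈ distTriang _ →
  Q T.obj₁ → Q T.obj₂ → Q T.obj₃ → d T.obj₂ = d T.obj₁ + d T.obj₃

variable {Q d} (hd : IsTriAdditive (QP P) d)
include hd

lemma d_zero : d (0 : DerivedCategory C) = 0 := by
  have h0 : QP P (0 : DerivedCategory C) := QP_of_isZero (isZero_zero _)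
  have := hd _ (contractible_distinguished (0 : DerivedCategory C)) h0 h0 h0
  change d 0 = d 0 + d 0 at this
  exact add_eq_left.mp this.symm

lemma d_of_iso {X Y : DerivedCategory C} (e : X ≅ Y) (hX : QP P X) : d Y = d X := by
  let T : Triangle (DerivedCategory C) :=
    Triangle.mk e.hom (0 : Y ⟶ 0) (0 : (0 : DerivedCategory C) ⟶ X⟦(1 : ℤ)⟧)
  have hT : T ∈ distTriang _ := by
    refine isomorphic_distinguished _ (contractible_distinguished X) _
      (Triangle.isoMk _ _ (Iso.refl _) e.symm (Iso.refl _) ?_ ?_ ?_)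
    · change e.hom ≫ e.inv = 𝟙 X ≫ 𝟙 X
      rw [e.hom_inv_id, Category.comp_id]
    · exact (isZero_zero (DerivedCategory C)).eq_of_tgt _ _
    · exact (isZero_zero (DerivedCategory C)).eq_of_src _ _
  have := hd T hT hX (QP_of_iso e hX) (QP_of_isZero (isZero_zero _))
  change d Y = d X + d 0 at this
  rw [this, d_zero hd, add_zero]

lemma d_of_isZero {X : DerivedCategory C} (hX : IsZero X) : d X = 0 := by
  rw [d_of_iso hd (hX.isoZero).symm (QP_of_isZero (isZero_zero _)), d_zero hd]

lemma d_shift {X : DerivedCategory C} (hX : QP P X) : d (X⟦(1 : ℤ)⟧) = - d X := by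
  have hT := rot_of_distTriang _ (contractible_distinguished X)
  have := hd _ hT hX (QP_of_isZero (isZero_zero _)) (QP_shift hX)
  change d 0 = d X + d (X⟦(1 : ℤ)⟧) at this
  rw [d_zero hd] at this
  exact (neg_eq_of_add_eq_zero_right this.symm).symm

lemma d_single_succ (n : ℤ) {X : C} (hX : P X) :
    d ((singleFunctor C n).obj X) = - d ((singleFunctor C (n + 1)).obj X) := by
  have e : ((singleFunctor C (n + 1)).obj X)⟦(1 : ℤ)⟧ ≅ (singleFunctor C n).obj X :=
    ((singleFunctors C).shiftIso 1 n (n + 1) (by lia)).app X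
  rw [d_of_iso hd e (QP_shift (QP_single (n + 1) hX)), d_shift hd (QP_single (n + 1) hX)]

lemma d_single_mem (H : AddSubgroup G') {X : C} (hX : P X)
    (hH : d ((singleFunctor C 0).obj X) ∈ H) (n : ℤ) : d ((singleFunctor C n).obj X) ∈ H := by
  induction n using Int.induction_on with
  | zero => exact hH
  | succ n ih =>
    have := d_single_succ hd (n : ℤ) hX
    have h2 : d ((singleFunctor C ((n : ℤ) + 1)).obj X) = - d ((singleFunctor C (n : ℤ)).obj X) := by
      rw [this, neg_neg]
    rw [h2]
    exact H.neg_mem ih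
  | pred n ih =>
    have := d_single_succ hd (-(n : ℤ) - 1) hX
    rw [this]
    have h3 : -(n : ℤ) - 1 + 1 = -(n : ℤ) := by ring
    rw [h3]
    exact H.neg_mem ih

theorem d_mem_of_devissage (H : AddSubgroup G')
    (hH : ∀ X : C, P X → d ((singleFunctor C 0).obj X) ∈ H)
    (K : DerivedCategory C) (hK : QP P K) : d K ∈ H := by
  have gen : ∀ (k : ℕ) (X : DerivedCategory C) (a b : ℤ), b < a + k →
      TStructure.t.IsGE X a → TStructure.t.IsLE X b → QP P X → d X ∈ H := by
    intro k
    induction k with
    | zero =>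
      intro X a b hab hXa hXb _
      rw [d_of_isZero hd (TStructure.t.isZero X b a (by simpa using hab))]
      exact H.zero_mem
    | succ k ih =>
      intro X a b hab hXa hXb hX
      by_cases hba : b < a
      · rw [d_of_isZero hd (TStructure.t.isZero X b a hba)]
        exact H.zero_mem
      · have hT := TStructure.t.triangleLTGE_distinguished b X
        have hQ1 := QP_truncLT b hX
        have hQ3 := QP_truncGE b hX
        have := hd _ hT hQ1 hX hQ3
        change d X = d ((TStructure.t.truncLT b).obj X) + d ((TStructure.t.truncGE b).obj X) at this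
        rw [this]
        refine H.add_mem ?_ ?_
        · have h1 : TStructure.t.IsGE ((TStructure.t.truncLT b).obj X) a := inferInstance
          have h2 : TStructure.t.IsLE ((TStructure.t.truncLT b).obj X) (b - 1) := inferInstance
          exact ih _ a (b - 1) (by push_cast at hab; lia) h1 h2 hQ1
        · have h1 : TStructure.t.IsGE ((TStructure.t.truncGE b).obj X) b := inferInstance
          have h2 : TStructure.t.IsLE ((TStructure.t.truncGE b).obj X) b := inferInstance
          obtain ⟨e⟩ := DerTrunc.exists_iso_single_homology ((TStructure.t.truncGE b).obj X) b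
          rw [← d_of_iso hd e hQ3]
          exact d_single_mem hd H (hQ3.1 b) (hH _ (hQ3.1 b)) b
  obtain ⟨h1, a, b, ha, hb⟩ := hK
  obtain ⟨k, hk⟩ : ∃ k : ℕ, b < a + k := ⟨(b - a + 1).toNat, by lia⟩
  exact gen k K a b hk ha hb ⟨h1, a, b, ha, hb⟩

end Tri

end Groth.Agent.Lib.helper2.KZeroEuler
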