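import Mathlib

/-!
# Representing the third vertex of a distinguished triangle by a mapping cone (helper2)
-/

set_option autoImplicit false
set_option linter.unusedSectionVars false

namespace Groth.Agent.Lib.helper2.ConeRep

open CategoryTheory CategoryTheory.Limits CategoryTheory.Pretriangulated DerivedCategory
  HomologicalComplex

universe w v u

variable {C : Type u} [Category.{v} C] [Abelian C] [HasDerivedCategory.{w} C]

/-- any morphism `Q E₁ ⟶ Q E₂` with `E₁` K-projective is `Q.map` of a chain map. -/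
lemma exists_chain_map (E₁ E₂ : CochainComplex C ℤ) [E₁.IsKProjective]
    (φ : Q.obj E₁ ⟶ Q.obj E₂) : ∃ f : E₁ ⟶ E₂, Q.map f = φ := by
  obtain ⟨g, hg⟩ := (CochainComplex.IsKProjective.Qh_map_bijective E₁
    ((HomotopyCategory.quotient C (ComplexShape.up ℤ)).obj E₂)).surjective φ
  obtain ⟨f, rfl⟩ := (HomotopyCategory.quotient C (ComplexShape.up ℤ)).map_surjective g
  exact ⟨f, hg⟩

lemma mapTriangle_distinguished {E₁ E₂ : CochainComplex C ℤ} (f : E₁ ⟶ E₂) :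
    Q.mapTriangle.obj (CochainComplex.mappingCone.triangle f) ∈ distTriang (DerivedCategory C) := by
  rw [mem_distTriang_iff]
  exact ⟨_, _, f, ⟨Iso.refl _⟩⟩

/-- if the first two vertices of a distinguished triangle are represented by complexes `E₁`
(K-projective) and `E₂`, the third one is represented by the mapping cone of a chain map. -/
lemma exists_iso_mappingCone (T : Triangle (DerivedCategory C)) (hT : T ∈ distTriang _)
    (E₁ E₂ : CochainComplex C ℤ) [E₁.IsKProjective] (e₁ : Q.obj E₁ ≅ T.obj₁)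
    (e₂ : Q.obj E₂ ≅ T.obj₂) :
    ∃ f : E₁ ⟶ E₂, Nonempty (Q.obj (CochainComplex.mappingCone f) ≅ T.obj₃) := by
  obtain ⟨f, hf⟩ := exists_chain_map E₁ E₂ (e₁.hom ≫ T.mor₁ ≫ e₂.inv)
  refine ⟨f, ⟨?_⟩⟩
  have iso := isoTriangleOfIso₁₂ _ T (mapTriangle_distinguished f) hT e₁ e₂ (by
    change Q.map f ≫ e₂.hom = e₁.hom ≫ T.mor₁
    rw [hf]
    simp)
  exact Triangle.π₃.mapIso iso

/-- the terms of a mapping cone -/
noncomputable def mappingConeXIso {E₁ E₂ : CochainComplex C ℤ} (f : E₁ ⟶ E₂) (i j : ℤ)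
    (hij : i + 1 = j) : (CochainComplex.mappingCone f).X i ≅ E₁.X j ⊞ E₂.X i :=
  homotopyCofiber.XIsoBiprod f i j (by simp [← hij])

lemma isZero_mappingCone_X {E₁ E₂ : CochainComplex C ℤ} (f : E₁ ⟶ E₂) (i : ℤ)
    (h₁ : IsZero (E₁.X (i + 1))) (h₂ : IsZero (E₂.X i)) :
    IsZero ((CochainComplex.mappingCone f).X i) := by
  apply homotopyCofiber.isZero_X f i h₂
  intro j hj
  obtain rfl : j = i + 1 := by simp at hj; lia
  exact h₁

section Rep

variable (PC : C → Prop)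

/-- `K` is represented by a complex with terms in `PC` and vanishing in the degrees satisfying `Z`. -/
def Rep (Z : ℤ → Prop) (K : DerivedCategory C) : Prop :=
  ∃ E : CochainComplex C ℤ, (∀ i, PC (E.X i)) ∧ (∀ i, Z i → IsZero (E.X i)) ∧
    Nonempty (Q.obj E ≅ K)

variable {PC}

lemma Rep.mono {Z Z' : ℤ → Prop} {K : DerivedCategory C} (h : Rep PC Z K)
    (hZ : ∀ i, Z' i → Z i) : Rep PC Z' K := by
  obtain ⟨E, h1, h2, h3⟩ := h
  exact ⟨E, h1, fun i hi => h2 i (hZ i hi), h3⟩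

lemma Rep.of_iso {Z : ℤ → Prop} {K L : DerivedCategory C} (h : Rep PC Z K) (e : K ≅ L) :
    Rep PC Z L := by
  obtain ⟨E, h1, h2, ⟨e'⟩⟩ := h
  exact ⟨E, h1, h2, ⟨e' ≪≫ e⟩⟩

lemma Rep.shift {Z : ℤ → Prop} {K : DerivedCategory C} (h : Rep PC Z K) (n : ℤ) :
    Rep PC (fun i => Z (i + n)) (K⟦n⟧) := by
  obtain ⟨E, h1, h2, ⟨e'⟩⟩ := h
  exact ⟨E⟦n⟧, fun i => h1 (i + n), fun i hi => h2 (i + n) hi,
    ⟨(Q.commShiftIso n).app E ≪≫ (shiftFunctor (DerivedCategory C) n).mapIso e'⟩⟩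

/-- cone closure -/
lemma Rep.cone (hproj : ∀ X, PC X → Projective X)
    (hbiprod : ∀ X Y, PC X → PC Y → PC (X ⊞ Y)) (hiso : ∀ {X Y : C} (_ : X ≅ Y), PC X → PC Y)
    {Z₁ Z₂ : ℤ → Prop} (T : Triangle (DerivedCategory C)) (hT : T ∈ distTriang _)
    (h₁ : Rep PC Z₁ T.obj₁) (b : ℤ) (hb : ∀ i, b < i → Z₁ i) (h₂ : Rep PC Z₂ T.obj₂) :
    Rep PC (fun i => Z₁ (i + 1) ∧ Z₂ i) T.obj₃ := by
  obtain ⟨E₁, h11, h12, ⟨e₁⟩⟩ := h₁
  obtain ⟨E₂, h21, h22, ⟨e₂⟩⟩ := h₂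
  have : E₁.IsStrictlyLE b := by
    rw [CochainComplex.isStrictlyLE_iff]
    exact fun i hi => h12 i (hb i hi)
  have : ∀ n, Projective (E₁.X n) := fun n => hproj _ (h11 n)
  have : E₁.IsKProjective := CochainComplex.isKProjective_of_projective E₁ b
  obtain ⟨f, ⟨e⟩⟩ := exists_iso_mappingCone T hT E₁ E₂ e₁ e₂
  refine ⟨CochainComplex.mappingCone f, fun i => ?_, fun i hi => ?_, ⟨e⟩⟩
  · exact hiso (mappingConeXIso f i (i + 1) rfl).symm (hbiprod _ _ (h11 _) (h21 _))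
  · exact isZero_mappingCone_X f i (h12 _ hi.1) (h22 _ hi.2)

variable (PC) in
/-- represented by a bounded above complex with terms in `PC` -/
def RepAbove (K : DerivedCategory C) : Prop := ∃ b : ℤ, Rep PC (fun i => b < i) K

variable (PC) in
/-- represented by a bounded complex with terms in `PC` -/
def RepBdd (K : DerivedCategory C) : Prop := ∃ a b : ℤ, Rep PC (fun i => i < a ∨ b < i) K

lemma RepAbove.of_iso {K L : DerivedCategory C} (h : RepAbove PC K) (e : K ≅ L) :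
    RepAbove PC L := by
  obtain ⟨b, h⟩ := h
  exact ⟨b, h.of_iso e⟩

lemma RepBdd.of_iso {K L : DerivedCategory C} (h : RepBdd PC K) (e : K ≅ L) :
    RepBdd PC L := by
  obtain ⟨a, b, h⟩ := h
  exact ⟨a, b, h.of_iso e⟩

lemma RepAbove.shift {K : DerivedCategory C} (h : RepAbove PC K) (n : ℤ) :
    RepAbove PC (K⟦n⟧) := by
  obtain ⟨b, h⟩ := h
  exact ⟨b - n, (h.shift n).mono (fun i hi => by lia)⟩

lemma RepBdd.shift {K : DerivedCategory C} (h : RepBdd PC K) (n : ℤ) :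
    RepBdd PC (K⟦n⟧) := by
  obtain ⟨a, b, h⟩ := h
  exact ⟨a - n, b - n, (h.shift n).mono (fun i hi => by lia)⟩

section

variable (hproj : ∀ X, PC X → Projective X)
  (hbiprod : ∀ X Y, PC X → PC Y → PC (X ⊞ Y)) (hiso : ∀ {X Y : C} (_ : X ≅ Y), PC X → PC Y)
  (T : Triangle (DerivedCategory C)) (hT : T ∈ distTriang _)

include hproj hbiprod hiso hT

lemma RepAbove.cone (h₁ : RepAbove PC T.obj₁) (h₂ : RepAbove PC T.obj₂) :
    RepAbove PC T.obj₃ := by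
  obtain ⟨b₁, h₁⟩ := h₁
  obtain ⟨b₂, h₂⟩ := h₂
  exact ⟨max b₁ b₂, (Rep.cone hproj hbiprod hiso T hT h₁ b₁ (fun i hi => hi) h₂).mono
    (fun i hi => ⟨by have := le_max_left b₁ b₂; lia, by have := le_max_right b₁ b₂; lia⟩)⟩

lemma RepBdd.cone (h₁ : RepBdd PC T.obj₁) (h₂ : RepBdd PC T.obj₂) :
    RepBdd PC T.obj₃ := by
  obtain ⟨a₁, b₁, h₁⟩ := h₁
  obtain ⟨a₂, b₂, h₂⟩ := h₂
  refine ⟨min (a₁ - 1) a₂, max b₁ b₂,
    (Rep.cone hproj hbiprod hiso T hT h₁ b₁ (fun i hi => Or.inr hi) h₂).mono ?_⟩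
  intro i hi
  have := le_max_left b₁ b₂
  have := le_max_right b₁ b₂
  have := min_le_left (a₁ - 1) a₂
  have := min_le_right (a₁ - 1) a₂
  constructor <;> lia

end

/-- two-out-of-three for `RepAbove` -/
theorem RepAbove.two_of_three (hproj : ∀ X, PC X → Projective X)
    (hbiprod : ∀ X Y, PC X → PC Y → PC (X ⊞ Y)) (hiso : ∀ {X Y : C} (_ : X ≅ Y), PC X → PC Y)
    (T : Triangle (DerivedCategory C)) (hT : T ∈ distTriang _) :
    (RepAbove PC T.obj₁ → RepAbove PC T.obj₂ → RepAbove PC T.obj₃) ∧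
    (RepAbove PC T.obj₁ → RepAbove PC T.obj₃ → RepAbove PC T.obj₂) ∧
    (RepAbove PC T.obj₂ → RepAbove PC T.obj₃ → RepAbove PC T.obj₁) := by
  refine ⟨fun h₁ h₂ => RepAbove.cone hproj hbiprod hiso T hT h₁ h₂, fun h₁ h₃ => ?_,
    fun h₂ h₃ => ?_⟩
  · exact RepAbove.cone hproj hbiprod hiso _ (inv_rot_of_distTriang _ hT) (h₃.shift (-1)) h₁
  · have := RepAbove.cone hproj hbiprod hiso _ (rot_of_distTriang _ hT) h₂ h₃
    exact (this.shift (-1)).of_iso (shiftShiftNeg T.obj₁ (1 : ℤ))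

/-- two-out-of-three for `RepBdd` -/
theorem RepBdd.two_of_three (hproj : ∀ X, PC X → Projective X)
    (hbiprod : ∀ X Y, PC X → PC Y → PC (X ⊞ Y)) (hiso : ∀ {X Y : C} (_ : X ≅ Y), PC X → PC Y)
    (T : Triangle (DerivedCategory C)) (hT : T ∈ distTriang _) :
    (RepBdd PC T.obj₁ → RepBdd PC T.obj₂ → RepBdd PC T.obj₃) ∧
    (RepBdd PC T.obj₁ → RepBdd PC T.obj₃ → RepBdd PC T.obj₂) ∧
    (RepBdd PC T.obj₂ → RepBdd PC T.obj₃ → RepBdd PC T.obj₁) := by
  refine ⟨fun h₁ h₂ => RepBdd.cone hproj hbiprod hiso T hT h₁ h₂, fun h₁ h₃ => ?_,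
    fun h₂ h₃ => ?_⟩
  · exact RepBdd.cone hproj hbiprod hiso _ (inv_rot_of_distTriang _ hT) (h₃.shift (-1)) h₁
  · have := RepBdd.cone hproj hbiprod hiso _ (rot_of_distTriang _ hT) h₂ h₃
    exact (this.shift (-1)).of_iso (shiftShiftNeg T.obj₁ (1 : ℤ))

end Rep

end Groth.Agent.Lib.helper2.ConeRep
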