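import Mathlib
import Groth.Prelude.Def_DRing2
import Groth.Agent.Lib.helper2.ConeRep
import Groth.Agent.Lib.helper2.DerTrunc

/-!
# Perfect objects of `D(R)`: two-out-of-three, dévissage (helper2)
-/

set_option autoImplicit false
set_option linter.unusedSectionVars false

namespace Groth.Agent.Lib.helper2.PerfRep

open CategoryTheory CategoryTheory.Limits CategoryTheory.Pretriangulated DerivedCategory
open ZeroObject

universe u

attribute [local instance] HasDerivedCategory.standard

variable {R : Type u} [CommRing R]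

/-- finite projective modules -/
def FP (X : ModuleCat.{u} R) : Prop := Module.Finite R X ∧ Module.Projective R X

lemma fp_projective (X : ModuleCat.{u} R) (h : FP X) : Projective X := by
  have := h.2
  rw [← IsProjective.iff_projective]
  exact this

lemma fp_iso {X Y : ModuleCat.{u} R} (e : X ≅ Y) (h : FP X) : FP Y := by
  have := h.1
  have := h.2
  exact ⟨Module.Finite.equiv e.toLinearEquiv, Module.Projective.of_equiv e.toLinearEquiv⟩

lemma fp_biprod (X Y : ModuleCat.{u} R) (hX : FP X) (hY : FP Y) : FP (X ⊞ Y) := by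
  have := hX.1
  have := hX.2
  have := hY.1
  have := hY.2
  have h : FP (ModuleCat.of R (X × Y)) := ⟨inferInstanceAs (Module.Finite R (X × Y)),
    inferInstanceAs (Module.Projective R (X × Y))⟩
  exact fp_iso (ModuleCat.biprodIsoProd X Y).symm h

lemma isPerfect_iff (K : DerivedCategory (ModuleCat.{u} R)) :
    DRing.IsPerfect R K ↔ ConeRep.RepBdd (FP (R := R)) K := by
  constructor
  · rintro ⟨E, a, b, h1, h2, h3⟩
    exact ⟨a, b, E, h2, h1, h3⟩
  · rintro ⟨a, b, E, h2, h1, h3⟩
    exact ⟨E, a, b, h1, h2, h3⟩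

theorem two_of_three (T : Triangle (DerivedCategory (ModuleCat.{u} R))) (hT : T ∈ distTriang _) :
    (DRing.IsPerfect R T.obj₁ → DRing.IsPerfect R T.obj₂ → DRing.IsPerfect R T.obj₃) ∧
    (DRing.IsPerfect R T.obj₁ → DRing.IsPerfect R T.obj₃ → DRing.IsPerfect R T.obj₂) ∧
    (DRing.IsPerfect R T.obj₂ → DRing.IsPerfect R T.obj₃ → DRing.IsPerfect R T.obj₁) := by
  simp only [isPerfect_iff]
  exact ConeRep.RepBdd.two_of_three fp_projective fp_biprod (fun e h => fp_iso e h) T hT

lemma isPerfect_of_iso {K L : DerivedCategory (ModuleCat.{u} R)} (e : K ≅ L)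
    (h : DRing.IsPerfect R K) : DRing.IsPerfect R L := by
  rw [isPerfect_iff] at h ⊢
  exact h.of_iso e

lemma isPerfect_shift {K : DerivedCategory (ModuleCat.{u} R)} (h : DRing.IsPerfect R K) (n : ℤ) :
    DRing.IsPerfect R (K⟦n⟧) := by
  rw [isPerfect_iff] at h ⊢
  exact h.shift n

lemma isPerfect_of_isZero {K : DerivedCategory (ModuleCat.{u} R)} (h : IsZero K) :
    DRing.IsPerfect R K := by
  let Z : CochainComplex (ModuleCat.{u} R) ℤ := 0
  have hZ : IsZero Z := Limits.isZero_zero _
  have hZX : ∀ i, IsZero (Z.X i) := fun i =>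
    (HomologicalComplex.eval _ _ i).map_isZero hZ
  refine ⟨Z, 0, 0, fun i _ => hZX i, fun i => ?_, ⟨?_⟩⟩
  · have : Subsingleton (Z.X i) := ModuleCat.subsingleton_of_isZero (hZX i)
    exact ⟨inferInstance, inferInstance⟩
  · exact (Q.map_isZero hZ).iso h

/-- dévissage: a bounded object whose cohomology modules are perfect modules is perfect. -/
theorem isPerfect_of_homology (K : DerivedCategory (ModuleCat.{u} R)) (a b : ℤ) [K.IsGE a]
    [K.IsLE b]
    (hK : ∀ i : ℤ, DRing.IsPerfect R ((singleFunctor (ModuleCat.{u} R) 0).obj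
      ((homologyFunctor (ModuleCat.{u} R) i).obj K))) : DRing.IsPerfect R K := by
  have : ObjectProperty.IsClosedUnderIsomorphisms
      (fun Y : ModuleCat.{u} R => DRing.IsPerfect R ((singleFunctor (ModuleCat.{u} R) 0).obj Y)) :=
    ⟨fun {X Y} e h => isPerfect_of_iso ((singleFunctor (ModuleCat.{u} R) 0).mapIso e) h⟩
  have : ObjectProperty.IsClosedUnderIsomorphisms
      (fun X : DerivedCategory (ModuleCat.{u} R) => DRing.IsPerfect R X) :=
    ⟨fun {X Y} e h => isPerfect_of_iso e h⟩
  apply DerTrunc.bounded_induction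
    (fun _ Y => DRing.IsPerfect R ((singleFunctor (ModuleCat.{u} R) 0).obj Y))
    (fun X : DerivedCategory (ModuleCat.{u} R) => DRing.IsPerfect R X) ?_ ?_ ?_ K a b
    (fun i _ _ => hK i)
  · intro X hX
    exact isPerfect_of_isZero hX
  · intro T hT h1 h3
    exact (two_of_three T hT).2.1 h1 h3
  · intro n Y hY
    exact isPerfect_of_iso (((singleFunctors (ModuleCat.{u} R)).shiftIso (-n) n 0 (by lia)).app Y)
      (isPerfect_shift hY (-n))

end Groth.Agent.Lib.helper2.PerfRep
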