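import Mathlib

/-!
# Stupid truncations of cochain complexes as a short exact sequence (helper2)
-/

set_option autoImplicit false
set_option linter.unusedSectionVars false

namespace Groth.Agent.Lib.helper2.Stupid

open CategoryTheory CategoryTheory.Limits HomologicalComplex ComplexShape

universe w v u

variable {C : Type u} [Category.{v} C] [Abelian C]

/-- `σ_{≤ n} K` -/
noncomputable def sLE (K : CochainComplex C ℤ) (n : ℤ) : CochainComplex C ℤ :=
  K.stupidTrunc (embeddingUpIntLE n)

lemma hasLift_id (K : CochainComplex C ℤ) (n : ℤ) :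
    (embeddingUpIntLE n).HasLift (𝟙 (K.restriction (embeddingUpIntLE n))) := by
  intro j hj
  exfalso
  exact hj.2 (j + 1) (by simp [embeddingUpIntLE]; lia)

/-- the projection `K ⟶ σ_{≤ n} K` -/
noncomputable def πLE (K : CochainComplex C ℤ) (n : ℤ) : K ⟶ sLE K n :=
  (embeddingUpIntLE n).liftExtend (𝟙 _) (hasLift_id K n)

lemma isZero_sLE_X (K : CochainComplex C ℤ) (n i : ℤ) (hi : n < i) : IsZero ((sLE K n).X i) :=
  K.isZero_stupidTrunc_X _ i ((notMem_range_embeddingUpIntLE_iff n i).2 hi)

lemma isIso_πLE_f (K : CochainComplex C ℤ) (n i : ℤ) (hi : i ≤ n) : IsIso ((πLE K n).f i) := by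
  obtain ⟨k, hk⟩ : ∃ k : ℕ, (embeddingUpIntLE n).f k = i := ⟨(n - i).toNat, by simp; lia⟩
  have : IsIso (HomologicalComplex.Hom.f (𝟙 (K.restriction (embeddingUpIntLE n))) k) := by
    rw [HomologicalComplex.id_f]; infer_instance
  exact ((embeddingUpIntLE n).isIso_liftExtend_f_iff _ (hasLift_id K n) hk).2 this

instance (K : CochainComplex C ℤ) (n : ℤ) : Epi (πLE K n) := by
  apply HomologicalComplex.epi_of_epi_f
  intro i
  by_cases hi : i ≤ n
  · have := isIso_πLE_f K n i hi
    infer_instance
  · exact ⟨fun _ _ _ => (isZero_sLE_X K n i (by lia)).eq_of_src _ _⟩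

/-- the stupid truncation short exact sequence `0 → σ_{> n} K → K → σ_{≤ n} K → 0`. -/
noncomputable def sc (K : CochainComplex C ℤ) (n : ℤ) : ShortComplex (CochainComplex C ℤ) :=
  ShortComplex.mk (kernel.ι (πLE K n)) (πLE K n) (kernel.condition _)

lemma sc_shortExact (K : CochainComplex C ℤ) (n : ℤ) : (sc K n).ShortExact where
  exact := ShortComplex.exact_of_f_is_kernel _ (kernelIsKernel _)
  mono_f := by dsimp [sc]; infer_instance
  epi_g := by dsimp [sc]; infer_instance

/-- `σ_{> n} K` -/
noncomputable abbrev sGT (K : CochainComplex C ℤ) (n : ℤ) : CochainComplex C ℤ := (sc K n).X₁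

/-- the inclusion `σ_{> n} K ⟶ K` -/
noncomputable abbrev ιGT (K : CochainComplex C ℤ) (n : ℤ) : sGT K n ⟶ K := (sc K n).f

lemma isZero_sGT_X (K : CochainComplex C ℤ) (n i : ℤ) (hi : i ≤ n) : IsZero ((sGT K n).X i) := by
  have h := ((shortExact_iff_degreewise_shortExact _).1 (sc_shortExact K n)) i
  have := h.mono_f
  have := isIso_πLE_f K n i hi
  apply IsZero.of_mono_eq_zero (((sc K n).map (eval C (up ℤ) i)).f)
  have : IsIso (((sc K n).map (eval C (up ℤ) i)).g) := this
  rw [← cancel_mono (((sc K n).map (eval C (up ℤ) i)).g)]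
  simp only [ShortComplex.zero, zero_comp]

lemma isIso_ιGT_f (K : CochainComplex C ℤ) (n i : ℤ) (hi : n < i) : IsIso ((ιGT K n).f i) := by
  have h := ((shortExact_iff_degreewise_shortExact _).1 (sc_shortExact K n)) i
  have := h.mono_f
  have : Epi (((sc K n).map (eval C (up ℤ) i)).f) :=
    h.exact.epi_f ((isZero_sLE_X K n i hi).eq_of_tgt _ _)
  exact isIso_of_mono_of_epi (((sc K n).map (eval C (up ℤ) i)).f)

section Derived

variable [HasDerivedCategory.{w} C]

open DerivedCategory CategoryTheory.Pretriangulated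

lemma isZero_Q_obj (K : CochainComplex C ℤ) (hK : ∀ i, IsZero (K.X i)) : IsZero (Q.obj K) := by
  apply Functor.map_isZero
  rw [IsZero.iff_id_eq_zero]
  ext i
  exact (hK i).eq_of_src _ _

/-- Dévissage along the stupid filtration: a property of objects of `D(C)` closed under isomorphisms
and extensions and containing zero objects holds for a bounded complex as soon as it holds for all of
its terms (placed in their degrees). -/
theorem complex_induction (PP : ObjectProperty (DerivedCategory C)) [PP.IsClosedUnderIsomorphisms]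
    (h0 : ∀ X : DerivedCategory C, IsZero X → PP X)
    (hext : ∀ T : Triangle (DerivedCategory C), T ∈ distTriang _ → PP T.obj₁ → PP T.obj₃ →
      PP T.obj₂)
    (K : CochainComplex C ℤ) (a b : ℤ) (hK : ∀ i, (i < a ∨ b < i) → IsZero (K.X i))
    (hKP : ∀ i, PP ((DerivedCategory.singleFunctor C i).obj (K.X i))) : PP (Q.obj K) := by
  suffices H : ∀ (d : ℕ) (K : CochainComplex C ℤ) (a : ℤ), b + 1 - a ≤ d →
      (∀ i, (i < a ∨ b < i) → IsZero (K.X i)) →
      (∀ i, PP ((DerivedCategory.singleFunctor C i).obj (K.X i))) → PP (Q.obj K) from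
    H (b + 1 - a).toNat K a (Int.self_le_toNat _) hK hKP
  intro d
  induction d with
  | zero =>
    intro K a hd hK hKP
    apply h0
    apply isZero_Q_obj
    intro i
    apply hK
    lia
  | succ d ih =>
    intro K a hd hK hKP
    have hT := triangleOfSES_distinguished (sc_shortExact K a)
    refine hext _ hT ?_ ?_
    · apply ih (sGT K a) (a + 1) (by lia)
      · rintro i (hi | hi)
        · exact isZero_sGT_X K a i (by lia)
        · by_cases hia : i ≤ a
          · exact isZero_sGT_X K a i hia
          · have := isIso_ιGT_f K a i (by lia)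
            exact (hK i (Or.inr hi)).of_iso (asIso ((ιGT K a).f i))
      · intro i
        by_cases hi : i ≤ a
        · exact h0 _ ((DerivedCategory.singleFunctor C i).map_isZero (isZero_sGT_X K a i hi))
        · have := isIso_ιGT_f K a i (by lia)
          exact PP.prop_of_iso ((DerivedCategory.singleFunctor C i).mapIso
            (asIso ((ιGT K a).f i)).symm) (hKP i)
    · have h1 : (sLE K a).IsStrictlyLE a :=
        (CochainComplex.isStrictlyLE_iff _ _).2 (fun i hi => isZero_sLE_X K a i hi)
      have h2 : (sLE K a).IsStrictlyGE a :=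
        (CochainComplex.isStrictlyGE_iff _ _).2 (fun i hi => by
          have := isIso_πLE_f K a i hi.le
          exact (hK i (Or.inl hi)).of_iso (asIso ((πLE K a).f i)).symm)
      obtain ⟨M, ⟨e⟩⟩ := (sLE K a).exists_iso_single a
      have := isIso_πLE_f K a a le_rfl
      let eM : K.X a ≅ M := asIso ((πLE K a).f a) ≪≫
        (HomologicalComplex.eval C (ComplexShape.up ℤ) a).mapIso e ≪≫
        HomologicalComplex.singleObjXSelf (ComplexShape.up ℤ) a M
      exact PP.prop_of_iso (((DerivedCategory.singleFunctor C a).mapIso eM) ≪≫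
        (DerivedCategory.singleFunctorIsoCompQ C a).app M ≪≫ Q.mapIso e.symm) (hKP a)

end Derived

end Groth.Agent.Lib.helper2.Stupid
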