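import Mathlib

/-!
# Right resolutions of bounded below complexes by objects of a cogenerating class (helper2)
-/

set_option autoImplicit false
set_option linter.unusedSectionVars false

namespace Groth.Agent.Lib.helper2.ClassRes

open CategoryTheory CategoryTheory.Limits

universe v u

variable {A : Type u} [Category.{v} A] [Abelian A]

/-- exactness of the pushout square, up to refinements -/
lemma pushout_exact {X Y Z : A} (g : X ⟶ Y) (f : X ⟶ Z) {W : A} (u : W ⟶ Y) (v : W ⟶ Z)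
    (h : u ≫ pushout.inl g f = v ≫ pushout.inr g f) :
    ∃ (W' : A) (π : W' ⟶ W) (_ : Epi π) (k : W' ⟶ X), π ≫ u = k ≫ g ∧ π ≫ v = k ≫ f := by
  have hc := Abelian.BiproductToPushoutIsCokernel.isColimitBiproductToPushout g f
  have h0 : biprod.lift u (-v) ≫
      (Abelian.BiproductToPushoutIsCokernel.biproductToPushoutCofork g f).π = 0 := by
    change biprod.lift u (-v) ≫ biprod.desc (pushout.inl g f) (pushout.inr g f) = 0
    rw [biprod.lift_desc, Preadditive.neg_comp, h, add_neg_cancel]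
  obtain ⟨W', π, hπ, k, hk⟩ :=
    (CokernelCofork.IsColimit.comp_π_eq_zero_iff_up_to_refinements hc _).1 h0
  refine ⟨W', π, hπ, k, ?_, ?_⟩
  · have := congrArg (fun φ => φ ≫ biprod.fst) hk
    simpa using this
  · have := congrArg (fun φ => φ ≫ biprod.snd) hk
    simpa using this

section Step

variable {Lp L Kn Kn1 L' : A} (d : Lp ⟶ L) (α : Kn ⟶ L) (f : Kn ⟶ Kn1)
  (e : pushout (α ≫ cokernel.π d) f ⟶ L')

/-- the next differential -/
noncomputable def d' : L ⟶ L' := cokernel.π d ≫ pushout.inl _ _ ≫ e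

/-- the next component of the map -/
noncomputable def α' : Kn1 ⟶ L' := pushout.inr _ _ ≫ e

lemma d_d' : d ≫ d' d α f e = 0 := by
  simp [d']

lemma comm : α ≫ d' d α f e = f ≫ α' d α f e := by
  simp only [d', α']
  rw [← Category.assoc, ← Category.assoc, pushout.condition, Category.assoc]

variable [Mono e]

lemma step_epi {W : A} (y : W ⟶ L) (hy : y ≫ d' d α f e = 0) :
    ∃ (W' : A) (π : W' ⟶ W) (_ : Epi π) (k : W' ⟶ Kn) (y₁ : W' ⟶ Lp),
      k ≫ f = 0 ∧ π ≫ y = k ≫ α + y₁ ≫ d := by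
  have h1 : (y ≫ cokernel.π d) ≫ pushout.inl (α ≫ cokernel.π d) f =
      (0 : W ⟶ Kn1) ≫ pushout.inr (α ≫ cokernel.π d) f := by
    rw [zero_comp, ← cancel_mono e, zero_comp]
    simpa [d'] using hy
  obtain ⟨W₁, π₁, hπ₁, k, hk1, hk2⟩ := pushout_exact _ _ _ _ h1
  have h2 : (π₁ ≫ y - k ≫ α) ≫ cokernel.π d = 0 := by
    rw [Preadditive.sub_comp, Category.assoc, hk1, Category.assoc, sub_self]
  obtain ⟨W₂, π₂, hπ₂, y₁, hy₁⟩ :=
    (CokernelCofork.IsColimit.comp_π_eq_zero_iff_up_to_refinements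
      (cokernelIsCokernel d) _).1 h2
  refine ⟨W₂, π₂ ≫ π₁, epi_comp _ _, π₂ ≫ k, y₁, ?_, ?_⟩
  · rw [Category.assoc, ← hk2, comp_zero, comp_zero]
  · rw [Preadditive.comp_sub] at hy₁
    rw [Category.assoc, Category.assoc, ← hy₁]
    abel

lemma step_mono {W : A} (x : W ⟶ Kn1) (y : W ⟶ L) (h : x ≫ α' d α f e = y ≫ d' d α f e) :
    ∃ (W' : A) (π : W' ⟶ W) (_ : Epi π) (k : W' ⟶ Kn),
      π ≫ x = k ≫ f ∧ π ≫ y ≫ cokernel.π d = k ≫ α ≫ cokernel.π d := by
  have h1 : (y ≫ cokernel.π d) ≫ pushout.inl (α ≫ cokernel.π d) f =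
      x ≫ pushout.inr (α ≫ cokernel.π d) f := by
    rw [← cancel_mono e]
    simpa [d', α'] using h.symm
  obtain ⟨W₁, π₁, hπ₁, k, hk1, hk2⟩ := pushout_exact _ _ _ _ h1
  exact ⟨W₁, π₁, hπ₁, k, hk2, by simpa using hk1⟩

lemma step_mono_α' (H : ∀ ⦃W : A⦄ (k : W ⟶ Kn) (y₁ : W ⟶ Lp), k ≫ α = y₁ ≫ d → k ≫ f = 0) :
    Mono (α' d α f e) := by
  rw [Preadditive.mono_iff_cancel_zero]
  intro W v hv
  have h0 : v ≫ α' d α f e = (0 : W ⟶ L) ≫ d' d α f e := by rw [hv, zero_comp]
  obtain ⟨W₁, π₁, hπ₁, k, hk1, hk2⟩ := step_mono d α f e v 0 h0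
  have h2 : (k ≫ α) ≫ cokernel.π d = 0 := by
    rw [Category.assoc, ← hk2, zero_comp, comp_zero]
  obtain ⟨W₂, π₂, hπ₂, y₁, hy₁⟩ :=
    (CokernelCofork.IsColimit.comp_π_eq_zero_iff_up_to_refinements
      (cokernelIsCokernel d) _).1 h2
  have h3 : (π₂ ≫ k) ≫ f = 0 := H (π₂ ≫ k) y₁ (by rw [Category.assoc, hy₁])
  rw [← cancel_epi π₁, hk1, comp_zero, ← cancel_epi π₂, comp_zero, ← Category.assoc, h3]

end Step

section Nat

variable (J : A → A) (ι : ∀ X, X ⟶ J X) [∀ X, Mono (ι X)] (K : CochainComplex A ℕ)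

/-- the state of the inductive construction at degree `n` -/
structure St (n : ℕ) where
  Lp : A
  L : A
  d : Lp ⟶ L
  α : K.X n ⟶ L

variable {K} in
noncomputable def step {n : ℕ} (s : St K n) : St K (n + 1) where
  Lp := s.L
  L := J (pushout (s.α ≫ cokernel.π s.d) (K.d n (n + 1)))
  d := d' s.d s.α (K.d n (n + 1)) (ι _)
  α := α' s.d s.α (K.d n (n + 1)) (ι _)

noncomputable def st : ∀ n, St K n
  | 0 => ⟨J (K.X 0), J (K.X 0), 0, ι (K.X 0)⟩
  | n + 1 => step J ι (st n)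

noncomputable def LX (n : ℕ) : A := (st J ι K n).L

noncomputable def Ld (n : ℕ) : LX J ι K n ⟶ LX J ι K (n + 1) := (st J ι K (n + 1)).d

noncomputable def Lα (n : ℕ) : K.X n ⟶ LX J ι K n := (st J ι K n).α

lemma Ld_comp (n : ℕ) : Ld J ι K n ≫ Ld J ι K (n + 1) = 0 :=
  d_d' (st J ι K (n + 1)).d (st J ι K (n + 1)).α (K.d (n + 1) (n + 1 + 1)) (ι _)

lemma Lα_comm (n : ℕ) : Lα J ι K n ≫ Ld J ι K n = K.d n (n + 1) ≫ Lα J ι K (n + 1) :=
  comm (st J ι K n).d (st J ι K n).α (K.d n (n + 1)) (ι _)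

/-- the resolving complex -/
noncomputable def Lc : CochainComplex A ℕ :=
  CochainComplex.of (LX J ι K) (Ld J ι K) (Ld_comp J ι K)

lemma Lc_d (n : ℕ) : (Lc J ι K).d n (n + 1) = Ld J ι K n := CochainComplex.of_d _ _ _

/-- the resolution map -/
noncomputable def Lmap : K ⟶ Lc J ι K where
  f n := Lα J ι K n
  comm' i j h := by
    obtain rfl : i + 1 = j := h
    rw [Lc_d]
    exact Lα_comm J ι K i

lemma Lmap_f (n : ℕ) : (Lmap J ι K).f n = Lα J ι K n := rfl

lemma prop_LX (I : A → Prop) (hJ : ∀ X, I (J X)) (n : ℕ) : I ((Lc J ι K).X n) := by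
  cases n with
  | zero => exact hJ _
  | succ n => exact hJ _

lemma H_st (n : ℕ) : ∀ ⦃W : A⦄ (k : W ⟶ K.X n) (y₁ : W ⟶ (st J ι K n).Lp),
    k ≫ (st J ι K n).α = y₁ ≫ (st J ι K n).d → k ≫ K.d n (n + 1) = 0 := by
  induction n with
  | zero =>
    intro W k y₁ h
    have h' : k ≫ ι (K.X 0) = y₁ ≫ 0 := h
    rw [comp_zero] at h'
    have : k = 0 := by rw [← cancel_mono (ι (K.X 0)), h', zero_comp]
    rw [this, zero_comp]
  | succ n ih =>
    intro W k y₁ h
    obtain ⟨W₁, π₁, hπ₁, k', hk1, -⟩ :=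
      step_mono (st J ι K n).d (st J ι K n).α (K.d n (n + 1)) (ι _) k y₁ h
    rw [← cancel_epi π₁, comp_zero, ← Category.assoc, hk1, Category.assoc, K.d_comp_d, comp_zero]

instance mono_Lα (n : ℕ) : Mono (Lα J ι K n) := by
  cases n with
  | zero => exact inferInstanceAs (Mono (ι (K.X 0)))
  | succ n =>
    exact step_mono_α' (st J ι K n).d (st J ι K n).α (K.d n (n + 1)) (ι _) (H_st J ι K n)

instance mono_Lmap_f (n : ℕ) : Mono ((Lmap J ι K).f n) := mono_Lα J ι K n

instance quasiIso_Lmap : QuasiIso (Lmap J ι K) := by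
  rw [quasiIso_iff]
  intro j
  rw [quasiIsoAt_iff_isIso_homologyMap]
  have hm : Mono (HomologicalComplex.homologyMap (Lmap J ι K) j) := by
    cases j with
    | zero =>
      rw [HomologicalComplex.mono_homologyMap_iff_up_to_refinements (Lmap J ι K) 0 0 1
        (by simp) (by simp)]
      intro W x₂ _ y₁ h
      have h0 : (Lc J ι K).d 0 0 = 0 := (Lc J ι K).shape _ _ (by simp)
      rw [h0, comp_zero] at h
      have : x₂ = 0 := by
        rw [← cancel_mono ((Lmap J ι K).f 0), h, zero_comp]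
      exact ⟨W, 𝟙 W, inferInstance, 0, by rw [this]; simp⟩
    | succ m =>
      rw [HomologicalComplex.mono_homologyMap_iff_up_to_refinements (Lmap J ι K) m (m + 1)
        (m + 1 + 1) (by simp) (by simp)]
      intro W x₂ _ y₁ h
      rw [Lc_d] at h
      obtain ⟨W₁, π₁, hπ₁, k, hk1, -⟩ :=
        step_mono (st J ι K m).d (st J ι K m).α (K.d m (m + 1)) (ι _) x₂ y₁ h
      exact ⟨W₁, π₁, hπ₁, k, hk1⟩
  have he : Epi (HomologicalComplex.homologyMap (Lmap J ι K) j) := by
    cases j with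
    | zero =>
      rw [HomologicalComplex.epi_homologyMap_iff_up_to_refinements (Lmap J ι K) 0 0 1
        (by simp) (by simp)]
      intro W y₂ hy₂
      rw [Lc_d] at hy₂
      obtain ⟨W₁, π₁, hπ₁, k, y₁, hk, hy⟩ :=
        step_epi (st J ι K 0).d (st J ι K 0).α (K.d 0 1) (ι _) y₂ hy₂
      refine ⟨W₁, π₁, hπ₁, k, hk, 0, ?_⟩
      have h0 : (st J ι K 0).d = 0 := rfl
      rw [h0, comp_zero, add_zero] at hy
      rw [zero_comp, add_zero]
      exact hy
    | succ m =>
      rw [HomologicalComplex.epi_homologyMap_iff_up_to_refinements (Lmap J ι K) m (m + 1)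
        (m + 1 + 1) (by simp) (by simp)]
      intro W y₂ hy₂
      rw [Lc_d] at hy₂
      obtain ⟨W₁, π₁, hπ₁, k, y₁, hk, hy⟩ :=
        step_epi (st J ι K (m + 1)).d (st J ι K (m + 1)).α (K.d (m + 1) (m + 1 + 1)) (ι _) y₂ hy₂
      refine ⟨W₁, π₁, hπ₁, k, hk, y₁, ?_⟩
      have h1 : (Lc J ι K).d m (m + 1) = (st J ι K (m + 1)).d := Lc_d J ι K m
      exact hy.trans (congrArg (fun z => k ≫ (st J ι K (m + 1)).α + y₁ ≫ z) h1.symm)
  exact isIso_of_mono_of_epi _

end Nat

section Replace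

variable {ι' : Type*} {c : ComplexShape ι'} (M : HomologicalComplex A c) (X' : ι' → A)
  (φ : ∀ i, M.X i ≅ X' i)

/-- replace the objects of a complex by isomorphic ones -/
@[simps]
def replace : HomologicalComplex A c where
  X := X'
  d i j := (φ i).inv ≫ M.d i j ≫ (φ j).hom
  shape i j h := by simp [M.shape i j h]
  d_comp_d' := by intros; simp

/-- the canonical isomorphism to the replaced complex -/
def replaceIso : M ≅ replace M X' φ :=
  HomologicalComplex.Hom.isoOfComponents (fun i => (φ i : M.X i ≅ (replace M X' φ).X i)) (by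
    intro i j _
    change (φ i).hom ≫ ((φ i).inv ≫ M.d i j ≫ (φ j).hom) = M.d i j ≫ (φ j).hom
    simp)

lemma replaceIso_hom_f (i : ι') : (replaceIso M X' φ).hom.f i = (φ i).hom := rfl

end Replace

section Int

open HomologicalComplex

/-- the objects of the modified extension -/
def XZ (Z : A) (M : CochainComplex A ℕ) : Option ℕ → A
  | some n => M.X n
  | none => Z

/-- comparison with the objects of the extension -/
noncomputable def XZIso (Z : A) (hZ : IsZero Z) (M : CochainComplex A ℕ) :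
    ∀ o : Option ℕ, HomologicalComplex.extend.X M o ≅ XZ Z M o
  | some _ => Iso.refl _
  | none => IsZero.iso (isZero_zero _) hZ

theorem exists_res (I : A → Prop)
    (hI0 : ∃ Z : A, Limits.IsZero Z ∧ I Z) (hI : ∀ X : A, ∃ (Y : A) (ι : X ⟶ Y), I Y ∧ Mono ι)
    (K : CochainComplex A ℤ) (a : ℤ) [K.IsStrictlyGE a] :
    ∃ (L : CochainComplex A ℤ) (α : K ⟶ L), L.IsStrictlyGE a ∧ (∀ n, I (L.X n)) ∧
      (∀ n, Mono (α.f n)) ∧ QuasiIso α := by
  obtain ⟨Z, hZ, hIZ⟩ := hI0
  choose J ι hJ hι using hI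
  have : ∀ X, Mono (ι X) := hι
  let e := ComplexShape.embeddingUpIntGE a
  let K' := K.truncGE' e
  let M := (Lc J ι K').extend e
  let L := replace M (fun i => XZ Z (Lc J ι K') (e.r i)) (fun i => XZIso Z hZ (Lc J ι K') (e.r i))
  let θ : M ≅ L := replaceIso M _ _
  let β : HomologicalComplex.truncGE K e ⟶ M := extendMap (Lmap J ι K') e
  have hβ : QuasiIso β := inferInstanceAs (QuasiIso (extendMap (Lmap J ι K') e))
  refine ⟨L, HomologicalComplex.πTruncGE K e ≫ β ≫ θ.hom, ?_, ?_, ?_, ?_⟩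
  · exact CochainComplex.isStrictlyGE_of_iso θ a
  · intro n
    change I (XZ Z (Lc J ι K') (e.r n))
    cases h : e.r n with
    | none => exact hIZ
    | some m => exact prop_LX J ι K' I hJ m
  · intro n
    rw [HomologicalComplex.comp_f, HomologicalComplex.comp_f]
    have h1 : Mono (β.f n) := by
      by_cases hn : ∃ i, e.f i = n
      · obtain ⟨i, hi⟩ := hn
        have : β.f n = _ := extendMap_f (Lmap J ι K') e hi
        rw [this]
        have h2 : Mono ((Lmap J ι K').f i) := mono_Lmap_f J ι K' i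
        exact mono_comp _ _
      · have hz : IsZero ((HomologicalComplex.truncGE K e).X n) :=
          isZero_extend_X _ _ _ (fun i hi => hn ⟨i, hi⟩)
        constructor
        intro W x y _
        exact hz.eq_of_tgt _ _
    infer_instance
  · infer_instance

end Int

end Groth.Agent.Lib.helper2.ClassRes
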