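import Mathlib
import Groth.Agent.Lib.helper2.ClassRes

set_option autoImplicit false

namespace Groth.Agent.Lib.helper2.ClassResOp

open CategoryTheory CategoryTheory.Limits Opposite HomologicalComplex

universe v u

variable {A : Type u} [Category.{v} A] [Abelian A]

lemma quasiIsoAt_op_iff {K L : CochainComplex A ℤ} (f : K ⟶ L) (n : ℤ) :
    QuasiIsoAt ((CochainComplex.opEquivalence A).functor.map f.op) n ↔ QuasiIsoAt f (-n) := by
  rw [quasiIsoAt_iff' _ (n-1) n (n+1) (by simp) (by simp),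
    quasiIsoAt_iff' _ (-(n+1)) (-n) (-(n-1)) (by simp; lia) (by simp; lia)]
  exact ShortComplex.quasiIso_opMap_iff
    ((shortComplexFunctor' A (ComplexShape.up ℤ) (-(n+1)) (-n) (-(n-1))).map f)

lemma quasiIsoAt_unop_iff {K L : CochainComplex Aᵒᵖ ℤ} (f : K ⟶ L) (n : ℤ) :
    QuasiIsoAt ((CochainComplex.opEquivalence A).inverse.map f).unop n ↔ QuasiIsoAt f (-n) := by
  rw [quasiIsoAt_iff' _ (n-1) n (n+1) (by simp) (by simp),
    quasiIsoAt_iff' _ (-(n+1)) (-n) (-(n-1)) (by simp; lia) (by simp; lia)]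
  exact (ShortComplex.quasiIso_opMap_iff
    ((shortComplexFunctor' A (ComplexShape.up ℤ) (n-1) n (n+1)).map
      ((CochainComplex.opEquivalence A).inverse.map f).unop)).symm

lemma quasiIso_unop {K L : CochainComplex Aᵒᵖ ℤ} (f : K ⟶ L) [QuasiIso f] :
    QuasiIso ((CochainComplex.opEquivalence A).inverse.map f).unop := by
  rw [quasiIso_iff]
  intro n
  rw [quasiIsoAt_unop_iff]
  infer_instance

theorem exists_res_op (P : A → Prop)
    (hP0 : ∃ Z : A, Limits.IsZero Z ∧ P Z) (hP : ∀ X : A, ∃ (Y : A) (π : Y ⟶ X), P Y ∧ Epi π)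
    (K : CochainComplex A ℤ) (a : ℤ) [K.IsStrictlyLE a] :
    ∃ (Q : CochainComplex A ℤ) (α : Q ⟶ K), Q.IsStrictlyLE a ∧ (∀ n, P (Q.X n)) ∧
      (∀ n, Epi (α.f n)) ∧ QuasiIso α := by
  let E := CochainComplex.opEquivalence A
  let K' : CochainComplex Aᵒᵖ ℤ := E.functor.obj (op K)
  have hK' : K'.IsStrictlyGE (-a) := by
    rw [CochainComplex.isStrictlyGE_iff]
    intro i hi
    have : IsZero (K.X (-i)) := K.isZero_of_isStrictlyLE a (-i) (by lia)
    exact this.op
  obtain ⟨L, α, h1, h2, h3, h4⟩ := ClassRes.exists_res (fun X : Aᵒᵖ => P X.unop)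
    (by obtain ⟨Z, hZ, hPZ⟩ := hP0; exact ⟨op Z, hZ.op, hPZ⟩)
    (by
      intro X
      obtain ⟨Y, π, hY, hπ⟩ := hP X.unop
      exact ⟨op Y, π.op, hY, inferInstance⟩) K' (-a)
  let Q : CochainComplex A ℤ := (E.inverse.obj L).unop
  let β : Q ⟶ (E.inverse.obj K').unop := (E.inverse.map α).unop
  let γ : (E.inverse.obj K').unop ⟶ K := (E.unit.app (op K)).unop
  have hγ : IsIso γ := inferInstance
  refine ⟨Q, β ≫ γ, ?_, ?_, ?_, ?_⟩
  · rw [CochainComplex.isStrictlyLE_iff]
    intro i hi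
    have : IsZero (L.X (-i)) := L.isZero_of_isStrictlyGE (-a) (-i) (by lia)
    exact this.unop
  · intro n
    exact h2 (-n)
  · intro n
    rw [HomologicalComplex.comp_f]
    have : Epi (β.f n) := by
      have := h3 (-n)
      change Epi (α.f (-n)).unop
      infer_instance
    infer_instance
  · have : QuasiIso β := quasiIso_unop α
    infer_instance

end Groth.Agent.Lib.helper2.ClassResOp
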