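import Mathlib
import Groth.Agent.Lib.helper2.ClassResOp

/-!
# Projective amplitude in the derived category (helper2) — dual of `InjAmp`
-/

set_option autoImplicit false
set_option linter.unusedSectionVars false
set_option linter.style.haveILetI false
set_option backward.isDefEq.respectTransparency false
set_option backward.defeqAttrib.useBackward true

namespace Groth.Agent.Lib.helper2.ProjAmp

open CategoryTheory CategoryTheory.Limits HomologicalComplex CochainComplex DerivedCategory ZeroObject

universe w w' v u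

variable {C : Type u} [Category.{v} C] [Abelian C] [HasDerivedCategory.{w'} C]

/-- the projection to the opcycles as a chain map to a single complex -/
noncomputable def opc (K : CochainComplex C ℤ) (i : ℤ) :
    K ⟶ (CochainComplex.singleFunctor C i).obj (K.opcycles i) :=
  HomologicalComplex.mkHomToSingle (K.pOpcycles i) (fun k _ => K.d_pOpcycles k i)

lemma opc_f (K : CochainComplex C ℤ) (i : ℤ) :
    (opc K i).f i = K.pOpcycles i ≫
      (HomologicalComplex.singleObjXSelf (ComplexShape.up ℤ) i (K.opcycles i)).inv :=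
  HomologicalComplex.mkHomToSingle_f _ _

/-- the chain map to a single complex associated to a map from the opcycles -/
noncomputable def opcOf (K : CochainComplex C ℤ) (i : ℤ) {F : C} (g : K.opcycles i ⟶ F) :
    K ⟶ (CochainComplex.singleFunctor C i).obj F :=
  opc K i ≫ (CochainComplex.singleFunctor C i).map g

lemma opcOf_f (K : CochainComplex C ℤ) (i : ℤ) {F : C} (g : K.opcycles i ⟶ F) :
    (opcOf K i g).f i = K.pOpcycles i ≫ g ≫
      (HomologicalComplex.singleObjXSelf (ComplexShape.up ℤ) i F).inv := by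
  dsimp only [opcOf]
  rw [HomologicalComplex.comp_f, opc_f]
  have : ((CochainComplex.singleFunctor C i).map g).f i =
      (HomologicalComplex.singleObjXSelf (ComplexShape.up ℤ) i (K.opcycles i)).hom ≫ g ≫
        (HomologicalComplex.singleObjXSelf (ComplexShape.up ℤ) i F).inv :=
    HomologicalComplex.single_map_f_self _ _ _
  rw [this]
  simp

/-- if `opcOf g` vanishes in the derived category, then `homologyι ≫ g = 0` -/
lemma homologyι_comp_eq_zero_of_Q_map_opcOf (K : CochainComplex C ℤ) (i : ℤ) {F : C}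
    (g : K.opcycles i ⟶ F) (h : Q.map (opcOf K i g) = 0) : K.homologyι i ≫ g = 0 := by
  have h1 : homologyMap (opcOf K i g) i = 0 := by
    have e := DerivedCategory.homologyFunctorFactors C i
    have hn : (DerivedCategory.homologyFunctor C i).map (Q.map (opcOf K i g)) ≫ e.hom.app _ =
        e.hom.app _ ≫ homologyMap (opcOf K i g) i := e.hom.naturality (opcOf K i g)
    rw [h, Functor.map_zero, zero_comp] at hn
    have : (e.app _).hom ≫ homologyMap (opcOf K i g) i = (e.app _).hom ≫ 0 := by
      rw [comp_zero]; exact hn.symm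
    exact (Iso.cancel_iso_hom_left (e.app _) _ _).1 this
  let S := (CochainComplex.singleFunctor C i).obj F
  have h2 : IsIso (S.pOpcycles i) := S.isIso_pOpcycles (i - 1) i (by simp) (by
    exact HomologicalComplex.single_obj_d _ _ _ _ _)
  have h3 : opcyclesMap (opcOf K i g) i = g ≫
      (HomologicalComplex.singleObjXSelf (ComplexShape.up ℤ) i F).inv ≫ S.pOpcycles i := by
    rw [← cancel_epi (K.pOpcycles i), p_opcyclesMap, opcOf_f, Category.assoc, Category.assoc]
  have h5 : K.homologyι i ≫ opcyclesMap (opcOf K i g) i = 0 := by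
    rw [← homologyι_naturality, h1, zero_comp]
  rw [h3] at h5
  have h6 : IsIso ((HomologicalComplex.singleObjXSelf (ComplexShape.up ℤ) i F).inv ≫
      S.pOpcycles i) := inferInstance
  rw [← cancel_mono ((HomologicalComplex.singleObjXSelf (ComplexShape.up ℤ) i F).inv ≫
      S.pOpcycles i), zero_comp, Category.assoc]
  exact h5

/-- a map from a K-projective complex which vanishes in the derived category is null-homotopic -/
lemma nonempty_homotopy_zero_of_Q_map_eq_zero {P S : CochainComplex C ℤ} [P.IsKProjective]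
    (f : P ⟶ S) (h : Q.map f = 0) : Nonempty (Homotopy f 0) := by
  have h1 : Qh.map ((HomotopyCategory.quotient C (ComplexShape.up ℤ)).map f) =
      Qh.map ((HomotopyCategory.quotient C (ComplexShape.up ℤ)).map (0 : P ⟶ S)) := by
    have := (quotientCompQhIso C).hom.naturality f
    dsimp at this
    rw [← cancel_mono ((quotientCompQhIso C).hom.app S), this, h, comp_zero,
      Functor.map_zero, Functor.map_zero, zero_comp]
  exact ⟨HomotopyCategory.homotopyOfEq _ _
    ((CochainComplex.IsKProjective.Qh_map_bijective P _).injective h1)⟩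

/-- a null-homotopy of `opcOf g` gives an extension of `g` through the differential -/
lemma exists_ext_of_homotopy_opcOf (K : CochainComplex C ℤ) (i j : ℤ) (hij : i + 1 = j) {F : C}
    (g : K.opcycles i ⟶ F) (h : Homotopy (opcOf K i g) 0) :
    ∃ r : K.X j ⟶ F, K.d i j ≫ r = K.pOpcycles i ≫ g := by
  refine ⟨h.hom j i ≫ (HomologicalComplex.singleObjXSelf (ComplexShape.up ℤ) i F).hom, ?_⟩
  have h1 := h.comm i
  rw [dNext_eq _ (show (ComplexShape.up ℤ).Rel i j by simpa using hij),
    prevD_eq _ (show (ComplexShape.up ℤ).Rel (i - 1) i by simp), opcOf_f] at h1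
  have h2 : ((CochainComplex.singleFunctor C i).obj F).d (i - 1) i = 0 :=
    HomologicalComplex.single_obj_d _ _ _ _ _
  rw [h2, comp_zero, add_zero, HomologicalComplex.zero_f, add_zero] at h1
  rw [← Category.assoc, ← h1, Category.assoc, Category.assoc, Iso.inv_hom_id, Category.comp_id]

lemma exists_ext_of_hom_eq_zero (P : CochainComplex C ℤ) [P.IsKProjective] (F : C) (i j : ℤ)
    (hij : i + 1 = j)
    (H : ∀ ψ : Q.obj P ⟶ (DerivedCategory.singleFunctor C i).obj F, ψ = 0)
    (g : P.opcycles i ⟶ F) : ∃ r : P.X j ⟶ F, P.d i j ≫ r = P.pOpcycles i ≫ g := by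
  have h0 : Q.map (opcOf P i g) = 0 := by
    have := H (Q.map (opcOf P i g) ≫ (singleFunctorIsoCompQ C i).inv.app _)
    rw [← cancel_mono ((singleFunctorIsoCompQ C i).inv.app _), zero_comp]
    exact this
  obtain ⟨h⟩ := nonempty_homotopy_zero_of_Q_map_eq_zero _ h0
  exact exists_ext_of_homotopy_opcOf P i j hij g h

lemma homologyι_comp_eq_zero_of_hom_eq_zero (K : CochainComplex C ℤ) (F : C) (i : ℤ)
    (H : ∀ ψ : Q.obj K ⟶ (DerivedCategory.singleFunctor C i).obj F, ψ = 0)
    (g : K.opcycles i ⟶ F) : K.homologyι i ≫ g = 0 := by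
  apply homologyι_comp_eq_zero_of_Q_map_opcOf
  have := H (Q.map (opcOf K i g) ≫ (singleFunctorIsoCompQ C i).inv.app _)
  rw [← cancel_mono ((singleFunctorIsoCompQ C i).inv.app _), zero_comp]
  exact this

lemma isZero_homology_of_hom_eq_zero (K : CochainComplex C ℤ) (i : ℤ)
    (H : ∀ ψ : Q.obj K ⟶ (DerivedCategory.singleFunctor C i).obj (K.opcycles i), ψ = 0) :
    IsZero (K.homology i) := by
  have h5 : K.homologyι i = 0 := by
    have := homologyι_comp_eq_zero_of_hom_eq_zero K _ i H (𝟙 _)
    rwa [Category.comp_id] at this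
  exact IsZero.of_mono_eq_zero _ h5

section

variable (K : CochainComplex C ℤ) (i j : ℤ) (hij : i + 1 = j) (r : K.X j ⟶ K.opcycles i)
  (hr : K.d i j ≫ r = K.pOpcycles i)

include hr

lemma fromOpcycles_retraction : K.fromOpcycles i j ≫ r = 𝟙 _ := by
  rw [← cancel_epi (K.pOpcycles i), p_fromOpcycles_assoc, hr, Category.comp_id]

lemma isZero_homology_of_retraction : IsZero (K.homology i) := by
  have h5 : K.homologyι i = 0 := by
    have : K.homologyι i = K.homologyι i ≫ (K.fromOpcycles i j ≫ r) := by
      rw [fromOpcycles_retraction K i j r hr, Category.comp_id]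
    rw [this, ← Category.assoc, homologyι_comp_fromOpcycles, zero_comp]
  exact IsZero.of_mono_eq_zero _ h5

include hij in
/-- the opcycles in degree `j` are a retract of `K.X j` -/
noncomputable def retractOpcycles : Retract (K.opcycles j) (K.X j) where
  i := K.descOpcycles (𝟙 _ - r ≫ K.fromOpcycles i j) i (by simp [← hij]) (by
    rw [Preadditive.comp_sub, Category.comp_id, ← Category.assoc, hr, p_fromOpcycles, sub_self])
  r := K.pOpcycles j
  retract := by
    rw [← cancel_epi (K.pOpcycles j), p_descOpcycles_assoc, Preadditive.sub_comp,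
      Category.id_comp, Category.comp_id, Category.assoc]
    have : K.fromOpcycles i j ≫ K.pOpcycles j = 0 := by
      rw [← cancel_epi (K.pOpcycles i), p_fromOpcycles_assoc, d_pOpcycles, comp_zero]
    rw [this, comp_zero, sub_zero]

end

lemma isStrictlyLE_truncGE (P : CochainComplex C ℤ) (a b : ℤ) [P.IsStrictlyLE b] :
    (P.truncGE a).IsStrictlyLE b := by
  rw [CochainComplex.isStrictlyLE_iff]
  intro q hq
  obtain h | rfl | h := lt_trichotomy a q
  · exact (CochainComplex.isZero_of_isStrictlyLE P b q hq).of_iso (P.truncGEXIso a q h)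
  · refine IsZero.of_iso ?_ (P.truncGEXIsoOpcycles a)
    exact IsZero.of_epi (P.pOpcycles a) (CochainComplex.isZero_of_isStrictlyLE P b a hq)
  · exact CochainComplex.isZero_of_isStrictlyGE _ a _ h

lemma projective_truncGE_X (P : CochainComplex C ℤ) (a : ℤ) (hP : ∀ n, Projective (P.X n))
    (hopc : Projective (P.opcycles a)) (q : ℤ) : Projective ((P.truncGE a).X q) := by
  obtain h | rfl | h := lt_trichotomy a q
  · exact Projective.of_iso (P.truncGEXIso a q h).symm (hP q)
  · exact Projective.of_iso (P.truncGEXIsoOpcycles a).symm hopc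
  · exact (CochainComplex.isZero_of_isStrictlyGE _ a _ h).projective

/-- the core of the argument -/
lemma core (P : CochainComplex C ℤ) (a b : ℤ) [P.IsStrictlyLE b] (hP : ∀ n, Projective (P.X n))
    (H : ∀ (F : C) (i : ℤ), i < a →
      ∀ ψ : Q.obj P ⟶ (DerivedCategory.singleFunctor C i).obj F, ψ = 0) :
    P.IsGE a ∧ Projective (P.opcycles a) := by
  haveI := hP
  haveI : P.IsKProjective := CochainComplex.isKProjective_of_projective P b
  have ret : ∀ i j, i + 1 = j → i < a → ∃ r : P.X j ⟶ P.opcycles i,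
      P.d i j ≫ r = P.pOpcycles i := by
    intro i j hij hi
    obtain ⟨r, hr⟩ := exists_ext_of_hom_eq_zero P _ i j hij (H _ i hi) (𝟙 _)
    exact ⟨r, by rw [hr, Category.comp_id]⟩
  constructor
  · rw [CochainComplex.isGE_iff]
    intro i hi
    rw [HomologicalComplex.exactAt_iff_isZero_homology]
    obtain ⟨r, hr⟩ := ret i (i + 1) rfl hi
    exact isZero_homology_of_retraction P i (i + 1) r hr
  · obtain ⟨r, hr⟩ := ret (a - 1) a (by lia) (by lia)
    exact (retractOpcycles P (a - 1) a (by lia) r hr).projective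

/-- if there are no maps from `X` to `F[-i]` for `i > b`, then `X` is `≤ b`. -/
lemma isLE_of_hom_single_eq_zero (X : DerivedCategory C) (b : ℤ)
    (H : ∀ (F : C) (i : ℤ), b < i →
      ∀ ψ : X ⟶ (DerivedCategory.singleFunctor C i).obj F, ψ = 0) : X.IsLE b := by
  have : (Q.obj (Q.objPreimage X)).IsLE b := by
    rw [isLE_Q_obj_iff, CochainComplex.isLE_iff]
    intro i hi
    rw [HomologicalComplex.exactAt_iff_isZero_homology]
    apply isZero_homology_of_hom_eq_zero
    intro ψ
    rw [← cancel_epi (Q.objObjPreimageIso X).inv, comp_zero]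
    exact H _ i hi _
  exact TStructure.t.isLE_of_iso (Q.objObjPreimageIso X) b

/-- bounded above projective resolutions -/
lemma exists_quasiIso_projective [EnoughProjectives C] (K : CochainComplex C ℤ) (b : ℤ)
    [K.IsStrictlyLE b] :
    ∃ (P : CochainComplex C ℤ) (f : P ⟶ K), QuasiIso f ∧ (∀ n, Projective (P.X n)) ∧
      P.IsStrictlyLE b := by
  obtain ⟨P, f, h1, h2, _, h4⟩ := ClassResOp.exists_res_op (fun X : C => Projective X)
    ⟨0, isZero_zero C, inferInstance⟩
    (fun X => ⟨Projective.over X, Projective.π X, inferInstance, inferInstance⟩) K b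
  exact ⟨P, f, h4, h2, h1⟩

theorem forward_core [EnoughProjectives C] (X : DerivedCategory C) (a b : ℤ) [X.IsLE b]
    (H : ∀ (F : C) (i : ℤ), i < a →
      ∀ ψ : X ⟶ (DerivedCategory.singleFunctor C i).obj F, ψ = 0) :
    ∃ P : CochainComplex C ℤ, (∀ i, Projective (P.X i)) ∧
      P.IsStrictlyGE a ∧ P.IsStrictlyLE b ∧ Nonempty (DerivedCategory.Q.obj P ≅ X) := by
  obtain ⟨K', hK', ⟨e'⟩⟩ := X.exists_iso_Q_obj_of_isLE b
  obtain ⟨P, f, hf, hP, hPb⟩ := exists_quasiIso_projective K' b
  haveI : IsIso (Q.map f) := by rw [isIso_Q_map_iff_quasiIso]; exact hf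
  let eP : Q.obj P ≅ X := asIso (Q.map f) ≪≫ e'.symm
  obtain ⟨hGE, hopc⟩ := core P a b hP (fun F i hi ψ => by
    rw [← cancel_epi eP.inv, comp_zero]
    exact H F i hi _)
  haveI : IsIso (Q.map (P.πTruncGE a)) := by rw [isIso_Q_map_iff_quasiIso]; infer_instance
  exact ⟨P.truncGE a, projective_truncGE_X P a hP hopc, inferInstance, isStrictlyLE_truncGE P a b,
    ⟨(asIso (Q.map (P.πTruncGE a))).symm ≪≫ eP⟩⟩

theorem forward [EnoughProjectives C] (X : DerivedCategory C) (a b : ℤ)
    (H : ∀ (F : C) (i : ℤ), (i < a ∨ b < i) →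
      ∀ ψ : X ⟶ (DerivedCategory.singleFunctor C i).obj F, ψ = 0) :
    ∃ P : CochainComplex C ℤ, (∀ i, Projective (P.X i)) ∧
      P.IsStrictlyGE a ∧ P.IsStrictlyLE b ∧ Nonempty (DerivedCategory.Q.obj P ≅ X) := by
  haveI : X.IsLE b := isLE_of_hom_single_eq_zero X b (fun F i hi => H F i (Or.inr hi))
  exact forward_core X a b (fun F i hi => H F i (Or.inl hi))

theorem backward (X : DerivedCategory C) (a b : ℤ) (P : CochainComplex C ℤ)
    (hP : ∀ i, Projective (P.X i)) (hz : ∀ i, (i < a ∨ b < i) → IsZero (P.X i))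
    (e : Q.obj P ≅ X) (F : C) (i : ℤ) (hi : i < a ∨ b < i)
    (ψ : X ⟶ (DerivedCategory.singleFunctor C i).obj F) : ψ = 0 := by
  haveI : P.IsStrictlyLE b := by
    rw [CochainComplex.isStrictlyLE_iff]
    intro j hj
    exact hz j (Or.inr hj)
  haveI := hP
  haveI : P.IsKProjective := CochainComplex.isKProjective_of_projective P b
  let S := (CochainComplex.singleFunctor C i).obj F
  obtain ⟨g, hg⟩ := (CochainComplex.IsKProjective.Qh_map_bijective P
    ((HomotopyCategory.quotient _ _).obj S)).surjective
      ((quotientCompQhIso C).hom.app P ≫ e.hom ≫ ψ ≫ (singleFunctorIsoCompQ C i).hom.app F ≫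
        (quotientCompQhIso C).inv.app S)
  obtain ⟨f, rfl⟩ := (HomotopyCategory.quotient _ _).map_surjective g
  have hf : f = 0 := by
    apply HomologicalComplex.to_single_hom_ext
    exact (hz i hi).eq_of_src _ _
  subst hf
  rw [Functor.map_zero, Functor.map_zero] at hg
  rw [← cancel_epi e.hom, ← cancel_epi ((quotientCompQhIso C).hom.app P),
    ← cancel_mono ((singleFunctorIsoCompQ C i).hom.app F),
    ← cancel_mono ((quotientCompQhIso C).inv.app S)]
  simp only [Category.assoc, zero_comp, comp_zero]
  exact hg.symm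

/-- `Hom(X, F[i]) = 0` iff `Hom(X, single_j F) = 0` for `i + j = 0` -/
lemma hom_single_shift_iff (X : DerivedCategory C) (i j : ℤ) (hij : i + j = 0) (F : C) :
    (∀ φ : X ⟶ (CategoryTheory.shiftFunctor (DerivedCategory C) i).obj
      ((DerivedCategory.singleFunctor C 0).obj F), φ = 0) ↔
    (∀ ψ : X ⟶ (DerivedCategory.singleFunctor C j).obj F, ψ = 0) := by
  let e : ((DerivedCategory.singleFunctor C 0).obj F)⟦i⟧ ≅
      (DerivedCategory.singleFunctor C j).obj F :=
    ((DerivedCategory.singleFunctors C).shiftIso i j 0 hij).app F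
  constructor
  · intro h ψ
    rw [← cancel_mono e.inv, zero_comp]
    exact h _
  · intro h φ
    rw [← cancel_mono e.hom, zero_comp]
    exact h _

lemma isZero_homologyFunctor_of_hom_single_eq_zero (X : DerivedCategory C) (i : ℤ)
    (H : ∀ (F : C) (ψ : X ⟶ (DerivedCategory.singleFunctor C i).obj F), ψ = 0) :
    IsZero ((DerivedCategory.homologyFunctor C i).obj X) := by
  have h1 : IsZero ((Q.objPreimage X).homology i) := by
    apply isZero_homology_of_hom_eq_zero
    intro ψ
    rw [← cancel_epi (Q.objObjPreimageIso X).inv, comp_zero]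
    exact H _ _
  exact h1.of_iso ((DerivedCategory.homologyFunctor C i).mapIso (Q.objObjPreimageIso X).symm ≪≫
    (DerivedCategory.homologyFunctorFactors C i).app _)

/-- variant of `core` with a single Ext-vanishing hypothesis -/
lemma core' (P : CochainComplex C ℤ) (a b c : ℤ) (hc : c + 1 = a) [P.IsStrictlyLE b]
    (hP : ∀ n, Projective (P.X n))
    (h1 : ∀ n, n < c → IsZero (P.homology n))
    (H : ∀ (F : C) (ψ : Q.obj P ⟶ (DerivedCategory.singleFunctor C c).obj F), ψ = 0) :
    P.IsGE a ∧ Projective (P.opcycles a) := by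
  haveI := hP
  haveI : P.IsKProjective := CochainComplex.isKProjective_of_projective P b
  obtain ⟨r, hr⟩ := exists_ext_of_hom_eq_zero P _ c a hc (H _) (𝟙 _)
  rw [Category.comp_id] at hr
  constructor
  · rw [CochainComplex.isGE_iff]
    intro i hi
    rw [HomologicalComplex.exactAt_iff_isZero_homology]
    by_cases h : i < c
    · exact h1 i h
    · obtain rfl : i = c := by lia
      exact isZero_homology_of_retraction P i a r hr
  · exact (retractOpcycles P c a hc r hr).projective

theorem forward_core' [EnoughProjectives C] (X : DerivedCategory C) (a b c : ℤ) (hc : c + 1 = a)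
    [X.IsLE b]
    (h1 : ∀ n, n < c → IsZero ((DerivedCategory.homologyFunctor C n).obj X))
    (H : ∀ (F : C) (ψ : X ⟶ (DerivedCategory.singleFunctor C c).obj F), ψ = 0) :
    ∃ P : CochainComplex C ℤ, (∀ i, Projective (P.X i)) ∧
      P.IsStrictlyGE a ∧ P.IsStrictlyLE b ∧ Nonempty (DerivedCategory.Q.obj P ≅ X) := by
  obtain ⟨K', hK', ⟨e'⟩⟩ := X.exists_iso_Q_obj_of_isLE b
  obtain ⟨P, f, hf, hP, hPb⟩ := exists_quasiIso_projective K' b
  haveI : IsIso (Q.map f) := by rw [isIso_Q_map_iff_quasiIso]; exact hf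
  let eP : Q.obj P ≅ X := asIso (Q.map f) ≪≫ e'.symm
  obtain ⟨hGE, hopc⟩ := core' P a b c hc hP (fun n hn => (h1 n hn).of_iso
      ((DerivedCategory.homologyFunctorFactors C n).symm.app P ≪≫
        (DerivedCategory.homologyFunctor C n).mapIso eP)) (fun F ψ => by
    rw [← cancel_epi eP.inv, comp_zero]
    exact H F _)
  haveI : IsIso (Q.map (P.πTruncGE a)) := by rw [isIso_Q_map_iff_quasiIso]; infer_instance
  exact ⟨P.truncGE a, projective_truncGE_X P a hP hopc, inferInstance, isStrictlyLE_truncGE P a b,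
    ⟨(asIso (Q.map (P.πTruncGE a))).symm ≪≫ eP⟩⟩

/-- no maps from a complex of projectives in degrees `≥ a` to an object which is `≤ a - 1` -/
lemma hom_eq_zero_of_isLE (P : CochainComplex C ℤ) (a b c : ℤ) (hc : c < a) [P.IsStrictlyGE a]
    [P.IsStrictlyLE b] (hP : ∀ n, Projective (P.X n)) (X : DerivedCategory C) [X.IsLE c]
    (φ : Q.obj P ⟶ X) : φ = 0 := by
  haveI := hP
  haveI : P.IsKProjective := CochainComplex.isKProjective_of_projective P b
  obtain ⟨K', hK', ⟨e⟩⟩ := X.exists_iso_Q_obj_of_isLE c
  obtain ⟨g, hg⟩ := (CochainComplex.IsKProjective.Qh_map_bijective P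
    ((HomotopyCategory.quotient _ _).obj K')).surjective
      ((quotientCompQhIso C).hom.app P ≫ φ ≫ e.hom ≫ (quotientCompQhIso C).inv.app K')
  obtain ⟨f, rfl⟩ := (HomotopyCategory.quotient _ _).map_surjective g
  have hf : f = 0 := by
    ext q
    by_cases hq : q < a
    · exact (CochainComplex.isZero_of_isStrictlyGE P a q hq).eq_of_src _ _
    · exact (CochainComplex.isZero_of_isStrictlyLE K' c q (by lia)).eq_of_tgt _ _
  subst hf
  rw [Functor.map_zero, Functor.map_zero] at hg
  rw [← cancel_mono e.hom, ← cancel_mono ((quotientCompQhIso C).inv.app K'),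
    ← cancel_epi ((quotientCompQhIso C).hom.app P)]
  simp only [Category.assoc, zero_comp, comp_zero]
  exact hg.symm

end Groth.Agent.Lib.helper2.ProjAmp
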