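import Mathlib
import Groth.Agent.Lib.helper2.ProjAmp

set_option autoImplicit false
set_option linter.unusedSectionVars false

namespace Groth.Agent.Lib.helper2.TwoTerm

open CategoryTheory CategoryTheory.Limits HomologicalComplex CochainComplex
open CochainComplex.HomComplex

universe w v u

variable {C : Type u} [Category.{v} C] [Abelian C]

lemma epi_toCycles_of_isZero_homology (K : CochainComplex C ℤ) (i j : ℤ) (hij : i + 1 = j)
    (h : IsZero (K.homology j)) : Epi (K.toCycles i j) :=
  Preadditive.epi_of_isZero_cokernel' _ (K.homologyIsCokernel i j (by simp [← hij])) h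

/-- if `H^i(K) = 0 = H^j(K)`, a map out of `K^i` killing the image of `K^{i-1}` factors
through `K^i → Z^j(K)`. -/
lemma exists_desc_cycles (K : CochainComplex C ℤ) (p i j : ℤ) (hpi : p + 1 = i) (hij : i + 1 = j)
    (hi : IsZero (K.homology i)) (hj : IsZero (K.homology j)) {T : C} (g : K.X i ⟶ T)
    (hg : K.d p i ≫ g = 0) : ∃ g' : K.cycles j ⟶ T, K.toCycles i j ≫ g' = g := by
  have := epi_toCycles_of_isZero_homology K i j hij hj
  have := epi_toCycles_of_isZero_homology K p i hpi hi
  have h1 : K.iCycles i ≫ g = 0 := by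
    rw [← cancel_epi (K.toCycles p i), K.toCycles_i_assoc, hg, comp_zero]
  have h2 : kernel.ι (K.toCycles i j) ≫ g = 0 := by
    have hk : kernel.ι (K.toCycles i j) ≫ K.d i j = 0 := by
      rw [← K.toCycles_i i j, ← Category.assoc, kernel.condition, zero_comp]
    have : kernel.ι (K.toCycles i j) =
        K.liftCycles (kernel.ι (K.toCycles i j)) j (by simp [← hij]) hk ≫ K.iCycles i := by simp
    rw [this, Category.assoc, h1, comp_zero]
  exact ⟨Abelian.epiDesc (K.toCycles i j) g h2, Abelian.comp_epiDesc _ _ _⟩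

/-- an acyclic complex in degrees `≤ 0` with projective `K^0` has only null-homotopic maps to
complexes vanishing in degrees `≤ -3`. -/
lemma nonempty_homotopy_zero (K L : CochainComplex C ℤ) (hK : ∀ n, IsZero (K.homology n))
    (hK0 : ∀ i, 0 < i → IsZero (K.X i)) [Projective (K.X 0)]
    (hL : ∀ i, i ≤ -3 → IsZero (L.X i)) (f : K ⟶ L) : Nonempty (Homotopy f 0) := by
  have hepi : Epi (K.d (-1) 0) := by
    have := epi_toCycles_of_isZero_homology K (-1) 0 (by simp) (hK 0)
    have hd : K.d 0 1 = 0 := (hK0 1 (by simp)).eq_of_tgt _ _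
    have : IsIso (K.iCycles 0) := K.isIso_iCycles 0 1 (by simp) hd
    rw [← K.toCycles_i (-1) 0]
    infer_instance
  let s : K.X 0 ⟶ K.X (-1) := Projective.factorThru (𝟙 _) (K.d (-1) 0)
  have hs : s ≫ K.d (-1) 0 = 𝟙 _ := Projective.factorThru_comp _ _
  let e : K.X (-1) ⟶ K.X (-1) := 𝟙 _ - K.d (-1) 0 ≫ s
  have he : e ≫ K.d (-1) 0 = 0 := by simp [e, hs]
  obtain ⟨g', hg'⟩ := exists_desc_cycles K (-3) (-2) (-1) (by simp) (by simp) (hK _) (hK _)
    (f.f (-2)) (by
      rw [← f.comm]
      have : f.f (-3) = 0 := (hL (-3) (by simp)).eq_of_tgt _ _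
      rw [this, zero_comp])
  let h0 : K.X 0 ⟶ L.X (-1) := s ≫ f.f (-1)
  let h1 : K.X (-1) ⟶ L.X (-2) := K.liftCycles e 0 (by simp) he ≫ g'
  have e1 : K.d (-2) (-1) ≫ h1 = f.f (-2) := by
    have : K.d (-2) (-1) ≫ K.liftCycles e 0 (by simp) he = K.toCycles (-2) (-1) := by
      rw [← cancel_mono (K.iCycles (-1))]
      simp [e]
    dsimp only [h1]
    rw [← Category.assoc, this, hg']
  have e3 : g' ≫ L.d (-2) (-1) = K.iCycles (-1) ≫ f.f (-1) := by
    have := epi_toCycles_of_isZero_homology K (-2) (-1) (by simp) (hK _)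
    rw [← cancel_epi (K.toCycles (-2) (-1)), ← Category.assoc, hg', K.toCycles_i_assoc, f.comm]
  have e2 : h1 ≫ L.d (-2) (-1) = e ≫ f.f (-1) := by
    dsimp only [h1]
    rw [Category.assoc, e3, K.liftCycles_i_assoc]
  refine ⟨(Cochain.equivHomotopy f 0).symm
    ⟨Cochain.single h0 (-1) + Cochain.single h1 (-1), ?_⟩⟩
  rw [δ_add, Cochain.δ_single h0 (-1) 0 (by simp) (-1) 0 (by simp) (by simp),
    Cochain.δ_single h1 (-1) 0 (by simp) (-2) (-1) (by simp) (by simp)]
  ext p
  simp only [Cochain.ofHom_v, Cochain.add_v, Int.negOnePow_zero, one_smul,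
    HomologicalComplex.zero_f, add_zero]
  by_cases hp0 : p = 0
  · subst hp0
    rw [Cochain.single_v, Cochain.single_v_eq_zero _ _ _ _ _ (by simp),
      Cochain.single_v_eq_zero _ _ _ _ _ (by simp), Cochain.single_v_eq_zero _ _ _ _ _ (by simp)]
    simp only [add_zero]
    dsimp only [h0]
    rw [Category.assoc, f.comm, ← Category.assoc, hs, Category.id_comp]
  by_cases hp1 : p = -1
  · subst hp1
    rw [Cochain.single_v, Cochain.single_v, Cochain.single_v_eq_zero _ _ _ _ _ (by simp),
      Cochain.single_v_eq_zero _ _ _ _ _ (by simp), e2]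
    dsimp only [h0, e]
    simp
  by_cases hp2 : p = -2
  · subst hp2
    rw [Cochain.single_v, Cochain.single_v_eq_zero _ _ _ _ _ (by simp),
      Cochain.single_v_eq_zero _ _ _ _ _ (by simp), Cochain.single_v_eq_zero _ _ _ _ _ (by simp), e1]
    simp
  rw [Cochain.single_v_eq_zero _ _ _ _ _ hp0, Cochain.single_v_eq_zero _ _ _ _ _ hp1,
    Cochain.single_v_eq_zero _ _ _ _ _ hp1, Cochain.single_v_eq_zero _ _ _ _ _ hp2]
  simp only [add_zero]
  by_cases hp : 0 < p
  · exact (hK0 p hp).eq_of_src _ _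
  · exact (hL p (by lia)).eq_of_tgt _ _

lemma isZero_homology_mappingCone_of_quasiIso {P M : CochainComplex C ℤ} (q : P ⟶ M)
    [hq : QuasiIso q] (n : ℤ) : IsZero ((mappingCone q).homology n) := by
  have h1 : HomotopyCategory.quasiIso C (ComplexShape.up ℤ)
      ((HomotopyCategory.quotient C (ComplexShape.up ℤ)).map q) := by
    rw [HomotopyCategory.quotient_map_mem_quasiIso_iff]
    exact hq
  rw [HomotopyCategory.quasiIso_eq_trW_subcategoryAcyclic] at h1
  have h2 := ((HomotopyCategory.subcategoryAcyclic C).trW_iff_of_distinguished _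
    (HomotopyCategory.mappingCone_triangleh_distinguished q)).1 h1
  have h3 := (HomotopyCategory.quotient_obj_mem_subcategoryAcyclic_iff_exactAt _).1 h2 n
  rwa [exactAt_iff_isZero_homology] at h3

section

variable (P M K : CochainComplex C ℤ) (q : P ⟶ M) [QuasiIso q]
  (hP : ∀ i, 0 < i → IsZero (P.X i))
  (hM : ∀ i, 0 < i → IsZero (M.X i)) [Projective (M.X 0)]

include hP hM

lemma hom_mappingCone_eq_zero (L : CochainComplex C ℤ) (hL : ∀ i, i ≤ -3 → IsZero (L.X i))
    (φ : (HomotopyCategory.quotient C (ComplexShape.up ℤ)).obj (mappingCone q) ⟶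
      (HomotopyCategory.quotient C (ComplexShape.up ℤ)).obj L) : φ = 0 := by
  obtain ⟨f, rfl⟩ := (HomotopyCategory.quotient C (ComplexShape.up ℤ)).map_surjective φ
  have h0 : ∀ i, 0 < i → IsZero ((mappingCone q).X i) := by
    intro i hi
    apply homotopyCofiber.isZero_X q i (hM i hi)
    intro j hj
    exact hP j (by simp at hj; lia)
  have : Projective ((mappingCone q).X 0) := by
    have hrel : (ComplexShape.up ℤ).Rel 0 1 := by simp
    have := HasHomotopyCofiber.hasBinaryBiproduct q _ _ hrel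
    have : Projective (P.X 1) := (hP 1 (by simp)).projective
    exact Projective.of_iso (homotopyCofiber.XIsoBiprod q 0 1 hrel).symm inferInstance
  obtain ⟨H⟩ := nonempty_homotopy_zero (mappingCone q) L
    (isZero_homology_mappingCone_of_quasiIso q) h0 hL f
  rw [HomotopyCategory.eq_of_homotopy _ _ H, Functor.map_zero]

end

section

open CategoryTheory.Pretriangulated

abbrev Hq : CochainComplex C ℤ ⥤ HomotopyCategory C (ComplexShape.up ℤ) :=
  HomotopyCategory.quotient C (ComplexShape.up ℤ)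

variable (P M K : CochainComplex C ℤ) (q : P ⟶ M) [QuasiIso q]
  (hP : ∀ i, 0 < i → IsZero (P.X i))
  (hM : ∀ i, 0 < i → IsZero (M.X i)) [Projective (M.X 0)]
  (hK : ∀ i, i ≤ -2 → IsZero (K.X i))

include hP hM hK

/-- precomposition with a quasi-isomorphism `q : P ⟶ M` is injective on homotopy classes of maps to `K`. -/
lemma precomp_injective (ψ : Hq.obj M ⟶ Hq.obj K) (hψ : Hq.map q ≫ ψ = 0) : ψ = 0 := by
  obtain ⟨g, hg⟩ := Triangle.yoneda_exact₂ _
    (HomotopyCategory.mappingCone_triangleh_distinguished q) ψ hψ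
  have hg0 : g = 0 := hom_mappingCone_eq_zero P M q hP hM K
    (fun i hi => hK i (by lia)) g
  rw [hg, hg0]
  exact comp_zero

/-- precomposition with a quasi-isomorphism `q : P ⟶ M` is surjective on homotopy classes of maps to `K`. -/
lemma precomp_surjective (g : Hq.obj P ⟶ Hq.obj K) :
    ∃ g' : Hq.obj M ⟶ Hq.obj K, Hq.map q ≫ g' = g := by
  have hT := rot_of_distTriang _ (HomotopyCategory.mappingCone_triangleh_distinguished q)
  have h0 : (mappingCone.triangleh q).mor₃ ≫ g⟦(1 : ℤ)⟧' = 0 := by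
    rw [← cancel_mono ((Hq.commShiftIso (1 : ℤ)).inv.app K), zero_comp]
    exact hom_mappingCone_eq_zero P M q hP hM (K⟦(1 : ℤ)⟧)
      (fun i hi => hK (i + 1) (by lia)) _
  obtain ⟨g', hg'⟩ := Triangle.yoneda_exact₃ _ hT (g⟦(1 : ℤ)⟧') h0
  obtain ⟨g'', hg''⟩ : ∃ g'' : Hq.obj M ⟶ Hq.obj K, g''⟦(1 : ℤ)⟧' = g' :=
    (CategoryTheory.shiftFunctor (HomotopyCategory C (ComplexShape.up ℤ)) (1 : ℤ)).map_surjective g'
  refine ⟨-g'', ?_⟩
  apply (CategoryTheory.shiftFunctor (HomotopyCategory C (ComplexShape.up ℤ)) (1 : ℤ)).map_injective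
  refine Eq.trans ?_ hg'.symm
  rw [← hg'']
  change _ = (-(Hq.map q)⟦(1 : ℤ)⟧') ≫ _
  simp

end

section

variable [HasDerivedCategory.{w} C]

/-- S7105 in a general abelian category with enough projectives. -/
theorem Qh_map_bijective [EnoughProjectives C] (M K : CochainComplex C ℤ)
    (hM : ∀ i, 0 < i → IsZero (M.X i)) [Projective (M.X 0)]
    (hK : ∀ i, i ≤ -2 → IsZero (K.X i)) :
    Function.Bijective (fun φ : Hq.obj M ⟶ Hq.obj K => DerivedCategory.Qh.map φ) := by
  have : M.IsStrictlyLE 0 := by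
    rw [CochainComplex.isStrictlyLE_iff]
    exact hM
  obtain ⟨P, q, hq, hPp, hP0⟩ :=
    Groth.Agent.Lib.helper2.ProjAmp.exists_quasiIso_projective M 0
  have hP : ∀ i, 0 < i → IsZero (P.X i) := fun i hi => P.isZero_of_isStrictlyLE 0 i hi
  have : P.IsKProjective := CochainComplex.isKProjective_of_projective P 0
  have hiso : IsIso (DerivedCategory.Qh.map (Hq.map q)) := by
    change IsIso (DerivedCategory.Q.map q)
    rw [DerivedCategory.isIso_Q_map_iff_quasiIso]
    exact hq
  have hbij := CochainComplex.IsKProjective.Qh_map_bijective P (Hq.obj K)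
  constructor
  · intro φ₁ φ₂ h
    dsimp only at h
    rw [← sub_eq_zero]
    apply precomp_injective P M K q hP hM hK
    apply hbij.injective
    rw [Functor.map_comp, Functor.map_sub, h, sub_self, comp_zero, Functor.map_zero]
  · intro y
    obtain ⟨g, hg⟩ := hbij.surjective (DerivedCategory.Qh.map (Hq.map q) ≫ y)
    obtain ⟨g', rfl⟩ := precomp_surjective P M K q hP hM hK g
    refine ⟨g', ?_⟩
    dsimp only
    rw [Functor.map_comp] at hg
    exact (cancel_epi _).1 hg

end

end Groth.Agent.Lib.helper2.TwoTerm
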