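import Mathlib
import Groth.Prelude.Def_KZero
import Groth.Prelude.Def_DRing2
import Groth.Agent.Lib.helper2.KZeroEuler
import Groth.Agent.Lib.helper2.PerfRep
import Groth.Agent.Lib.helper2.TwoTerm
import Groth.Agent.Lib.helper2.Stupid

/-!
# `K₀(R) ≅ K₀(D_perf(R))` (helper2)
-/

set_option autoImplicit false
set_option linter.unusedSectionVars false
set_option linter.style.haveILetI false

namespace Groth.Agent.Lib.helper2.KZeroPerf

open CategoryTheory CategoryTheory.Limits CategoryTheory.Pretriangulated DerivedCategory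
open ZeroObject

universe u

attribute [local instance] HasDerivedCategory.standard

section General

variable {C : Type*} [Category C] [Abelian C] (P : ObjectProperty C)

lemma isAdditive_clSub : KZeroEuler.IsAdditive P (KZero.clSub P) := by
  intro S hS h₁ h₂ h₃
  have h0 : (QuotientAddGroup.mk (FreeAbelianGroup.of ⟨S.X₂, h₂⟩ -
      FreeAbelianGroup.of ⟨S.X₁, h₁⟩ - FreeAbelianGroup.of ⟨S.X₃, h₃⟩) : KZero.K0sub P) = 0 :=
    (QuotientAddGroup.eq_zero_iff _).2
      (AddSubgroup.subset_closure ⟨S, h₁, h₂, h₃, hS, rfl⟩)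
  rw [QuotientAddGroup.mk_sub, QuotientAddGroup.mk_sub, sub_sub, sub_eq_zero] at h0
  simp only [KZero.clSub, dif_pos h₁, dif_pos h₂, dif_pos h₃]
  exact h0

end General

variable (R : Type u) [CommRing R]

/-- finite projective modules -/
abbrev FPp : ObjectProperty (ModuleCat.{u} R) :=
  fun M => Module.Finite R M ∧ Module.Projective R M

instance : (FPp R).IsClosedUnderIsomorphisms := ⟨fun e h => PerfRep.fp_iso e h⟩

instance : (FPp R).ContainsZero := ⟨⟨0, isZero_zero _, by
  have : Subsingleton ((0 : ModuleCat.{u} R) : Type u) :=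
    ModuleCat.subsingleton_of_isZero (isZero_zero _)
  exact ⟨inferInstance, inferInstance⟩⟩⟩

/-- the class in `K₀(R)` -/
noncomputable abbrev cl (M : ModuleCat.{u} R) : KZero.K0sub (FPp R) := KZero.clSub (FPp R) M

variable {R}

lemma cl_isZero {M : ModuleCat.{u} R} (h : IsZero M) : cl R M = 0 :=
  KZeroEuler.map_of_isZero (isAdditive_clSub (FPp R)) h

lemma cl_iso {M N : ModuleCat.{u} R} (e : M ≅ N) (h : FPp R M) : cl R N = cl R M :=
  KZeroEuler.map_of_iso (isAdditive_clSub (FPp R)) e h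

lemma cl_biprod (M N : ModuleCat.{u} R) (hM : FPp R M) (hN : FPp R N) :
    cl R (M ⊞ N) = cl R M + cl R N := by
  let S : ShortComplex (ModuleCat.{u} R) :=
    ShortComplex.mk (biprod.inl : M ⟶ M ⊞ N) biprod.snd biprod.inl_snd
  have hS : S.ShortExact := (ShortComplex.Splitting.ofHasBinaryBiproduct M N).shortExact
  exact isAdditive_clSub (FPp R) S hS hM (PerfRep.fp_biprod M N hM hN) hN

/-- bounded complexes of finite projective modules -/
def BFP (E : CochainComplex (ModuleCat.{u} R) ℤ) : Prop :=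
  (∀ i, FPp R (E.X i)) ∧ ∃ a b : ℤ, ∀ i, i < a ∨ b < i → IsZero (E.X i)

/-- Euler characteristic of the terms -/
noncomputable def chiT (E : CochainComplex (ModuleCat.{u} R) ℤ) : KZero.K0sub (FPp R) :=
  ∑ᶠ n : ℤ, ((n.negOnePow : ℤˣ) : ℤ) • cl R (E.X n)

lemma support_finite (f : ℤ → ModuleCat.{u} R) (a b : ℤ)
    (hf : ∀ n, n < a ∨ b < n → IsZero (f n)) :
    (Function.support fun n : ℤ => ((n.negOnePow : ℤˣ) : ℤ) • cl R (f n)).Finite :=
  KZeroEuler.support_finite (isAdditive_clSub (FPp R)) f a b hf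

lemma chiT_eq_sum (E : CochainComplex (ModuleCat.{u} R) ℤ) (a b : ℤ)
    (hE : ∀ i, i < a ∨ b < i → IsZero (E.X i)) :
    chiT E = (Finset.Icc a b).sum (fun i => ((i.negOnePow : ℤˣ) : ℤ) • cl R (E.X i)) := by
  apply finsum_eq_sum_of_support_subset
  intro n hn
  by_contra h
  apply hn
  have : IsZero (E.X n) := hE n (by
    simp only [Finset.coe_Icc, Set.mem_Icc, not_and_or, not_le] at h; exact h)
  simp [cl_isZero this]

/-- additivity for the mapping cone -/
lemma chiT_mappingCone {E E' : CochainComplex (ModuleCat.{u} R) ℤ} (f : E ⟶ E')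
    (hE : BFP E) (hE' : BFP E') :
    chiT (CochainComplex.mappingCone f) = chiT E' - chiT E := by
  obtain ⟨h1, a, b, h2⟩ := hE
  obtain ⟨h1', a', b', h2'⟩ := hE'
  have hpt : ∀ n : ℤ, cl R ((CochainComplex.mappingCone f).X n) =
      cl R (E.X (n + 1)) + cl R (E'.X n) := by
    intro n
    rw [cl_iso (ConeRep.mappingConeXIso f n (n + 1) rfl).symm
      (PerfRep.fp_biprod _ _ (h1 (n + 1)) (h1' n)), cl_biprod _ _ (h1 (n + 1)) (h1' n)]
  let w : ℤ → KZero.K0sub (FPp R) := fun n => ((n.negOnePow : ℤˣ) : ℤ) • cl R (E.X n)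
  let w' : ℤ → KZero.K0sub (FPp R) := fun n => ((n.negOnePow : ℤˣ) : ℤ) • cl R (E'.X n)
  have hw : (Function.support w).Finite := support_finite _ a b h2
  have hw' : (Function.support w').Finite := support_finite _ a' b' h2'
  have hws : (Function.support fun n => w (n + 1)).Finite := by
    have : (Function.support fun n => w (n + 1)) = (fun n : ℤ => n + 1) ⁻¹' (Function.support w) := by
      ext n; simp [Function.mem_support]
    rw [this]
    exact hw.preimage (fun x _ y _ h => by simpa using h)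
  have hc : ∀ n : ℤ, ((n.negOnePow : ℤˣ) : ℤ) • cl R ((CochainComplex.mappingCone f).X n) =
      w' n - w (n + 1) := by
    intro n
    rw [hpt]
    dsimp only [w, w']
    rw [Int.negOnePow_succ, smul_add]
    simp only [Units.val_neg, neg_smul]
    abel
  have hs : ∑ᶠ n : ℤ, w (n + 1) = ∑ᶠ n : ℤ, w n :=
    finsum_comp_equiv (Equiv.addRight (1 : ℤ)) (f := w)
  dsimp only [chiT]
  simp_rw [hc]
  rw [finsum_sub_distrib hw' hws, hs]

/-- kernel of an epimorphic differential between finite projective modules -/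
lemma fp_cycles_of_epi (C : CochainComplex (ModuleCat.{u} R) ℤ) (i j : ℤ) (hij : i + 1 = j)
    (hi : FPp R (C.X i)) (hj : FPp R (C.X j)) (hepi : Epi (C.d i j)) :
    FPp R (C.cycles i) ∧ cl R (C.X i) = cl R (C.cycles i) + cl R (C.X j) := by
  let S : ShortComplex (ModuleCat.{u} R) :=
    ShortComplex.mk (C.iCycles i) (C.d i j) (C.iCycles_d i j)
  have hS : S.ShortExact :=
    { exact := ShortComplex.exact_of_f_is_kernel _ (C.cyclesIsKernel i j (by simp [← hij]))
      mono_f := by dsimp [S]; infer_instance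
      epi_g := hepi }
  have : Projective S.X₃ := PerfRep.fp_projective _ hj
  let σ := hS.splittingOfProjective
  have hfp : FPp R (C.cycles i) := by
    have := hi.1
    have := hi.2
    have hsurj : Function.Surjective σ.r.hom := by
      intro x
      refine ⟨S.f.hom x, ?_⟩
      change (S.f ≫ σ.r).hom x = x
      rw [σ.f_r]
      rfl
    refine ⟨Module.Finite.of_surjective σ.r.hom hsurj, ?_⟩
    refine Module.Projective.of_split S.f.hom σ.r.hom ?_
    ext x
    change (S.f ≫ σ.r).hom x = x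
    rw [σ.f_r]
    rfl
  exact ⟨hfp, isAdditive_clSub (FPp R) S hS hfp hi hj⟩

/-- the Euler characteristic of an acyclic bounded complex of finite projective modules is zero -/
lemma chiT_acyclic : ∀ (d : ℕ) (C : CochainComplex (ModuleCat.{u} R) ℤ) (a b : ℤ),
    b + 1 - a ≤ d → (∀ i, FPp R (C.X i)) → (∀ i, i < a ∨ b < i → IsZero (C.X i)) →
    C.Acyclic → chiT C = 0 := by
  intro d
  induction d with
  | zero =>
    intro C a b hd h1 h2 _
    dsimp only [chiT]
    have : ∀ n : ℤ, ((n.negOnePow : ℤˣ) : ℤ) • cl R (C.X n) = 0 := fun n => by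
      rw [cl_isZero (h2 n (by lia)), smul_zero]
    simp_rw [this]
    exact finsum_zero
  | succ d ih =>
    intro C a b hd h1 h2 hac
    -- the top differential is an epimorphism
    have hepi : Epi (C.d (b - 1) b) := by
      have hex := (C.exactAt_iff' (b - 1) b (b + 1) (by simp) (by simp)).1 (hac b)
      exact hex.epi_f ((h2 (b + 1) (Or.inr (by lia))).eq_of_tgt _ _)
    obtain ⟨hZ, hcl⟩ := fp_cycles_of_epi C (b - 1) b (by lia) (h1 _) (h1 _) hepi
    let C' := C.truncLE (b - 1)
    have h1' : ∀ i, FPp R (C'.X i) := by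
      intro i
      rcases lt_trichotomy i (b - 1) with h | h | h
      · exact PerfRep.fp_iso (C.truncLEXIso (b - 1) i h).symm (h1 i)
      · subst h
        exact PerfRep.fp_iso (C.truncLEXIsoCycles (b - 1)).symm hZ
      · have hz : IsZero (C'.X i) := CochainComplex.isZero_of_isStrictlyLE C' (b - 1) i h
        exact (FPp R).prop_of_isZero hz
    have h2' : ∀ i, i < a ∨ b - 1 < i → IsZero (C'.X i) := by
      rintro i (h | h)
      · rcases lt_trichotomy i (b - 1) with h' | h' | h'
        · exact (h2 i (Or.inl h)).of_iso (C.truncLEXIso (b - 1) i h')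
        · subst h'
          exact (IsZero.of_mono (C.iCycles (b - 1)) (h2 _ (Or.inl h))).of_iso
            (C.truncLEXIsoCycles (b - 1))
        · exact CochainComplex.isZero_of_isStrictlyLE C' (b - 1) i h'
      · exact CochainComplex.isZero_of_isStrictlyLE C' (b - 1) i h
    have hac' : C'.Acyclic := by
      rw [CochainComplex.acyclic_truncLE_iff C (b - 1) b (by lia), CochainComplex.isGE_iff]
      intro i _
      exact hac i
    have hC' := ih C' a (b - 1) (by lia) h1' h2' hac'
    -- compare the two Euler characteristics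
    let g : ℤ → KZero.K0sub (FPp R) := fun n =>
      ((n.negOnePow : ℤˣ) : ℤ) • cl R (C.X n) - ((n.negOnePow : ℤˣ) : ℤ) • cl R (C'.X n)
    have hg : ∀ n, n ≠ b - 1 → n ≠ b → g n = 0 := by
      intro n hn1 hn2
      dsimp only [g]
      rcases lt_or_gt_of_ne hn1 with h | h
      · rw [cl_iso (C.truncLEXIso (b - 1) n h) (h1' n), sub_self]
      · rw [cl_isZero (h2 n (Or.inr (by lia))), cl_isZero (h2' n (Or.inr h)), smul_zero,
          sub_zero]
    have hsum : ∑ᶠ n : ℤ, g n = g (b - 1) + g b := by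
      rw [finsum_eq_sum_of_support_subset (s := {b - 1, b}) g (by
        intro n hn
        by_contra h
        simp only [Finset.coe_insert, Finset.coe_singleton, Set.mem_insert_iff,
          Set.mem_singleton_iff, not_or] at h
        exact hn (hg n h.1 h.2))]
      rw [Finset.sum_pair (by lia)]
    have hdiff : chiT C - chiT C' = ∑ᶠ n : ℤ, g n := by
      dsimp only [chiT, g]
      rw [finsum_sub_distrib (support_finite _ a b h2) (support_finite _ a (b - 1) h2')]
    have hgb1 : g (b - 1) = (((b - 1).negOnePow : ℤˣ) : ℤ) • cl R (C.X b) := by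
      dsimp only [g]
      rw [← cl_iso (C.truncLEXIsoCycles (b - 1)) (h1' (b - 1)), hcl, smul_add]
      abel
    have hgb : g b = - ((((b - 1).negOnePow : ℤˣ) : ℤ) • cl R (C.X b)) := by
      dsimp only [g]
      rw [cl_isZero (h2' b (Or.inr (by lia))), smul_zero, sub_zero]
      have : b = (b - 1) + 1 := by ring
      conv_lhs => rw [this, Int.negOnePow_succ]
      simp only [Units.val_neg, neg_smul, sub_add_cancel]
    have : chiT C - chiT C' = 0 := by
      rw [hdiff, hsum, hgb1, hgb, add_neg_cancel]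
    rw [hC', sub_zero] at this
    exact this

lemma BFP.isKProjective {E : CochainComplex (ModuleCat.{u} R) ℤ} (hE : BFP E) :
    E.IsKProjective := by
  obtain ⟨h1, a, b, h2⟩ := hE
  have : E.IsStrictlyLE b := by
    rw [CochainComplex.isStrictlyLE_iff]
    intro i hi
    exact h2 i (Or.inr hi)
  have : ∀ n, Projective (E.X n) := fun n => PerfRep.fp_projective _ (h1 n)
  exact CochainComplex.isKProjective_of_projective E b

lemma BFP.mappingCone {E E' : CochainComplex (ModuleCat.{u} R) ℤ} (f : E ⟶ E')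
    (hE : BFP E) (hE' : BFP E') : BFP (CochainComplex.mappingCone f) := by
  obtain ⟨h1, a, b, h2⟩ := hE
  obtain ⟨h1', a', b', h2'⟩ := hE'
  refine ⟨fun n => PerfRep.fp_iso (ConeRep.mappingConeXIso f n (n + 1) rfl).symm
    (PerfRep.fp_biprod _ _ (h1 (n + 1)) (h1' n)), min (a - 1) a', max b b', fun i hi => ?_⟩
  apply ConeRep.isZero_mappingCone_X
  · apply h2
    rcases hi with hi | hi
    · left
      have := min_le_left (a - 1) a'
      lia
    · right
      have := le_max_left b b'
      lia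
  · apply h2'
    rcases hi with hi | hi
    · left
      have := min_le_right (a - 1) a'
      lia
    · right
      have := le_max_right b b'
      lia

lemma chiT_eq_zero_of_acyclic {C : CochainComplex (ModuleCat.{u} R) ℤ} (hC : BFP C)
    (hac : C.Acyclic) : chiT C = 0 := by
  obtain ⟨h1, a, b, h2⟩ := hC
  exact chiT_acyclic (b + 1 - a).toNat C a b (Int.self_le_toNat _) h1 h2 hac

/-- the Euler characteristic only depends on the isomorphism class in `D(R)` -/
lemma chiT_eq_of_iso {E E' : CochainComplex (ModuleCat.{u} R) ℤ} (hE : BFP E) (hE' : BFP E')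
    (e : Q.obj E ≅ Q.obj E') : chiT E = chiT E' := by
  haveI := hE.isKProjective
  obtain ⟨f, hf⟩ := ConeRep.exists_chain_map E E' e.hom
  have h1 : IsIso (Q.map f) := by rw [hf]; infer_instance
  have h2 : QuasiIso f := (DerivedCategory.isIso_Q_map_iff_quasiIso (C := ModuleCat.{u} R) f).1 h1
  have hac : (CochainComplex.mappingCone f).Acyclic := fun n => by
    rw [HomologicalComplex.exactAt_iff_isZero_homology]
    exact TwoTerm.isZero_homology_mappingCone_of_quasiIso f n
  have h3 := chiT_eq_zero_of_acyclic (BFP.mappingCone f hE hE') hac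
  rw [chiT_mappingCone f hE hE', sub_eq_zero] at h3
  exact h3.symm

/-- additivity of the Euler characteristic on distinguished triangles -/
lemma chiT_triangle (T : Triangle (DerivedCategory (ModuleCat.{u} R))) (hT : T ∈ distTriang _)
    {E₁ E₂ E₃ : CochainComplex (ModuleCat.{u} R) ℤ} (h₁ : BFP E₁) (h₂ : BFP E₂) (h₃ : BFP E₃)
    (e₁ : Q.obj E₁ ≅ T.obj₁) (e₂ : Q.obj E₂ ≅ T.obj₂) (e₃ : Q.obj E₃ ≅ T.obj₃) :
    chiT E₂ = chiT E₁ + chiT E₃ := by
  haveI := h₁.isKProjective
  obtain ⟨f, ⟨e⟩⟩ := ConeRep.exists_iso_mappingCone T hT E₁ E₂ e₁ e₂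
  have h := chiT_eq_of_iso (BFP.mappingCone f h₁ h₂) h₃ (e ≪≫ e₃.symm)
  rw [chiT_mappingCone f h₁ h₂] at h
  rw [← h]
  abel

variable (R) in
/-- perfect objects -/
abbrev Perf : ObjectProperty (DerivedCategory (ModuleCat.{u} R)) := fun K => DRing.IsPerfect R K

variable (R) in
/-- the class in `K₀(D_perf(R))` -/
noncomputable abbrev clT (K : DerivedCategory (ModuleCat.{u} R)) : KZero.K0tr (Perf R) :=
  KZero.clTr (Perf R) K

lemma clT_add (T : Triangle (DerivedCategory (ModuleCat.{u} R))) (hT : T ∈ distTriang _)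
    (h₁ : Perf R T.obj₁) (h₂ : Perf R T.obj₂) (h₃ : Perf R T.obj₃) :
    clT R T.obj₂ = clT R T.obj₁ + clT R T.obj₃ := by
  have h0 : (QuotientAddGroup.mk (FreeAbelianGroup.of ⟨T.obj₂, h₂⟩ -
      FreeAbelianGroup.of ⟨T.obj₁, h₁⟩ - FreeAbelianGroup.of ⟨T.obj₃, h₃⟩) :
      KZero.K0tr (Perf R)) = 0 :=
    (QuotientAddGroup.eq_zero_iff _).2
      (AddSubgroup.subset_closure ⟨T, h₁, h₂, h₃, hT, rfl⟩)
  rw [QuotientAddGroup.mk_sub, QuotientAddGroup.mk_sub, sub_sub, sub_eq_zero] at h0
  simp only [clT, KZero.clTr, dif_pos h₁, dif_pos h₂, dif_pos h₃]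
  exact h0

lemma clT_isZero {X : DerivedCategory (ModuleCat.{u} R)} (hX : IsZero X) : clT R X = 0 := by
  have hP : Perf R X := PerfRep.isPerfect_of_isZero hX
  have hT : Triangle.mk (𝟙 X) (0 : X ⟶ X) 0 ∈ distTriang _ := by
    refine isomorphic_distinguished _ (contractible_distinguished X) _
      (Triangle.isoMk _ _ (Iso.refl _) (Iso.refl _) (hX.isoZero) ?_ ?_ ?_)
    · exact hX.eq_of_src _ _
    · exact hX.eq_of_src _ _
    · exact hX.eq_of_src _ _
  have := clT_add _ hT hP hP hP
  change clT R X = clT R X + clT R X at this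
  exact add_eq_left.mp this.symm

lemma clT_iso {X Y : DerivedCategory (ModuleCat.{u} R)} (e : X ≅ Y) (hX : Perf R X) :
    clT R Y = clT R X := by
  let T : Triangle (DerivedCategory (ModuleCat.{u} R)) :=
    Triangle.mk e.hom (0 : Y ⟶ 0) (0 : (0 : DerivedCategory (ModuleCat.{u} R)) ⟶ X⟦(1 : ℤ)⟧)
  have hT : T ∈ distTriang _ := by
    refine isomorphic_distinguished _ (contractible_distinguished X) _
      (Triangle.isoMk _ _ (Iso.refl _) e.symm (Iso.refl _) ?_ ?_ ?_)
    · change e.hom ≫ e.inv = 𝟙 X ≫ 𝟙 X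
      rw [e.hom_inv_id, Category.comp_id]
    · exact (isZero_zero _).eq_of_tgt _ _
    · exact (isZero_zero _).eq_of_src _ _
  have := clT_add T hT hX (PerfRep.isPerfect_of_iso e hX)
    (PerfRep.isPerfect_of_isZero (isZero_zero _))
  change clT R Y = clT R X + clT R 0 at this
  rw [this, clT_isZero (isZero_zero _), add_zero]

lemma clT_shift_one {X : DerivedCategory (ModuleCat.{u} R)} (hX : Perf R X) :
    clT R (X⟦(1 : ℤ)⟧) = - clT R X := by
  have hT := rot_of_distTriang _ (contractible_distinguished X)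
  have := clT_add _ hT hX (PerfRep.isPerfect_of_isZero (isZero_zero _))
    (PerfRep.isPerfect_shift hX 1)
  change clT R (0 : DerivedCategory (ModuleCat.{u} R)) = clT R X + clT R (X⟦(1 : ℤ)⟧) at this
  rw [clT_isZero (isZero_zero _)] at this
  exact (neg_eq_of_add_eq_zero_right this.symm).symm

lemma bfp_single (M : ModuleCat.{u} R) (h : FPp R M) (i : ℤ) :
    BFP ((HomologicalComplex.single (ModuleCat.{u} R) (ComplexShape.up ℤ) i).obj M) := by
  refine ⟨fun j => ?_, i, i, fun j hj => ?_⟩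
  · by_cases hj : j = i
    · subst hj
      exact PerfRep.fp_iso (HomologicalComplex.singleObjXSelf (ComplexShape.up ℤ) j M).symm h
    · exact (FPp R).prop_of_isZero (HomologicalComplex.isZero_single_obj_X _ _ _ _ hj)
  · exact HomologicalComplex.isZero_single_obj_X _ _ _ _ (by lia)

lemma perf_of_bfp {E : CochainComplex (ModuleCat.{u} R) ℤ} (hE : BFP E) : Perf R (Q.obj E) := by
  obtain ⟨h1, a, b, h2⟩ := hE
  exact ⟨E, a, b, h2, h1, ⟨Iso.refl _⟩⟩

lemma perf_single (M : ModuleCat.{u} R) (h : FPp R M) (i : ℤ) :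
    Perf R ((DerivedCategory.singleFunctor (ModuleCat.{u} R) i).obj M) :=
  perf_of_bfp (bfp_single M h i)

variable (R)

/-- the map on generators `[M] ↦ [M[0]]` -/
noncomputable def phi0 : Subtype (FPp R) → KZero.K0tr (Perf R) :=
  fun M => clT R ((DerivedCategory.singleFunctor (ModuleCat.{u} R) 0).obj M.1)

lemma phi_rel : KZero.relSub (FPp R) ≤ (FreeAbelianGroup.lift (phi0 R)).ker := by
  rw [KZero.relSub, AddSubgroup.closure_le]
  rintro x ⟨S, h₁, h₂, h₃, hS, rfl⟩
  rw [SetLike.mem_coe, AddMonoidHom.mem_ker, map_sub, map_sub, FreeAbelianGroup.lift_apply_of,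
    FreeAbelianGroup.lift_apply_of, FreeAbelianGroup.lift_apply_of]
  dsimp only [phi0]
  have := clT_add _ hS.singleTriangle_distinguished (perf_single _ h₁ 0) (perf_single _ h₂ 0)
    (perf_single _ h₃ 0)
  change clT R ((DerivedCategory.singleFunctor (ModuleCat.{u} R) 0).obj S.X₂) =
    clT R ((DerivedCategory.singleFunctor (ModuleCat.{u} R) 0).obj S.X₁) +
    clT R ((DerivedCategory.singleFunctor (ModuleCat.{u} R) 0).obj S.X₃) at this
  rw [this]
  abel

/-- `K₀(R) → K₀(D_perf(R))` -/
noncomputable def phi : KZero.K0sub (FPp R) →+ KZero.K0tr (Perf R) :=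
  QuotientAddGroup.lift _ (FreeAbelianGroup.lift (phi0 R)) (phi_rel R)

variable {R}

lemma phi_cl (M : ModuleCat.{u} R) (h : FPp R M) :
    phi R (cl R M) = clT R ((DerivedCategory.singleFunctor (ModuleCat.{u} R) 0).obj M) := by
  simp only [cl, KZero.clSub, dif_pos h]
  change (FreeAbelianGroup.lift (phi0 R)) (FreeAbelianGroup.of ⟨M, h⟩) = _
  rw [FreeAbelianGroup.lift_apply_of]
  rfl

/-- a chosen representative of a perfect object -/
noncomputable def rep (K : Subtype (Perf R)) : CochainComplex (ModuleCat.{u} R) ℤ := K.2.choose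

lemma rep_bfp (K : Subtype (Perf R)) : BFP (rep K) := by
  obtain ⟨a, b, h1, h2, _⟩ := K.2.choose_spec
  exact ⟨h2, a, b, h1⟩

noncomputable def repIso (K : Subtype (Perf R)) : Q.obj (rep K) ≅ K.1 :=
  K.2.choose_spec.choose_spec.choose_spec.2.2.some

variable (R)

noncomputable def psi0 : Subtype (Perf R) → KZero.K0sub (FPp R) := fun K => chiT (rep K)

lemma psi_rel : KZero.relTr (Perf R) ≤ (FreeAbelianGroup.lift (psi0 R)).ker := by
  rw [KZero.relTr, AddSubgroup.closure_le]
  rintro x ⟨T, h₁, h₂, h₃, hT, rfl⟩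
  rw [SetLike.mem_coe, AddMonoidHom.mem_ker, map_sub, map_sub, FreeAbelianGroup.lift_apply_of,
    FreeAbelianGroup.lift_apply_of, FreeAbelianGroup.lift_apply_of]
  dsimp only [psi0]
  rw [chiT_triangle T hT (rep_bfp ⟨_, h₁⟩) (rep_bfp ⟨_, h₂⟩) (rep_bfp ⟨_, h₃⟩)
    (repIso ⟨_, h₁⟩) (repIso ⟨_, h₂⟩) (repIso ⟨_, h₃⟩)]
  abel

/-- `K₀(D_perf(R)) → K₀(R)` -/
noncomputable def psi : KZero.K0tr (Perf R) →+ KZero.K0sub (FPp R) :=
  QuotientAddGroup.lift _ (FreeAbelianGroup.lift (psi0 R)) (psi_rel R)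

variable {R}

lemma psi_clT {E : CochainComplex (ModuleCat.{u} R) ℤ} (hE : BFP E)
    {K : DerivedCategory (ModuleCat.{u} R)} (e : Q.obj E ≅ K) : psi R (clT R K) = chiT E := by
  have hK : Perf R K := PerfRep.isPerfect_of_iso e (perf_of_bfp hE)
  simp only [clT, KZero.clTr, dif_pos hK]
  change (FreeAbelianGroup.lift (psi0 R)) (FreeAbelianGroup.of ⟨K, hK⟩) = _
  rw [FreeAbelianGroup.lift_apply_of]
  dsimp only [psi0]
  exact chiT_eq_of_iso (rep_bfp _) hE (repIso ⟨K, hK⟩ ≪≫ e.symm)

lemma chiT_single (M : ModuleCat.{u} R) (h : FPp R M) :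
    chiT ((HomologicalComplex.single (ModuleCat.{u} R) (ComplexShape.up ℤ) 0).obj M) = cl R M := by
  rw [chiT_eq_sum _ 0 0 (fun j hj => HomologicalComplex.isZero_single_obj_X _ _ _ _ (by lia))]
  rw [Finset.Icc_self, Finset.sum_singleton]
  simp only [Int.negOnePow_zero, Units.val_one, one_smul]
  exact cl_iso (HomologicalComplex.singleObjXSelf (ComplexShape.up ℤ) 0 M).symm h

lemma psi_phi (x : KZero.K0sub (FPp R)) : psi R (phi R x) = x := by
  induction x using QuotientAddGroup.induction_on with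
  | H z =>
    induction z using FreeAbelianGroup.induction_on with
    | zero => simp
    | of M =>
      have h1 : ((FreeAbelianGroup.of M : FreeAbelianGroup (Subtype (FPp R))) :
          KZero.K0sub (FPp R)) = cl R M.1 := by
        simp only [cl, KZero.clSub, dif_pos M.2]
      rw [h1, phi_cl _ M.2]
      have := psi_clT (bfp_single M.1 M.2 0)
        (Iso.refl ((DerivedCategory.singleFunctor (ModuleCat.{u} R) 0).obj M.1))
      rw [this, chiT_single _ M.2]
    | neg M ih =>
      rw [QuotientAddGroup.mk_neg, map_neg, map_neg, ih]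
    | add x y hx hy =>
      rw [QuotientAddGroup.mk_add, map_add, map_add, hx, hy]

variable (R) in
/-- perfect objects whose class lies in the image of `phi` -/
def PPr : ObjectProperty (DerivedCategory (ModuleCat.{u} R)) :=
  fun X => Perf R X ∧ clT R X ∈ (phi R).range

instance : (PPr R).IsClosedUnderIsomorphisms :=
  ⟨fun e h => ⟨PerfRep.isPerfect_of_iso e h.1, by rw [clT_iso e h.1]; exact h.2⟩⟩

lemma ppr_shift_one {X : DerivedCategory (ModuleCat.{u} R)} (h : PPr R X) :
    PPr R (X⟦(1 : ℤ)⟧) :=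
  ⟨PerfRep.isPerfect_shift h.1 1, by rw [clT_shift_one h.1]; exact neg_mem h.2⟩

lemma ppr_shift_neg_one {X : DerivedCategory (ModuleCat.{u} R)} (h : PPr R X) :
    PPr R (X⟦(-1 : ℤ)⟧) := by
  have hP : Perf R (X⟦(-1 : ℤ)⟧) := PerfRep.isPerfect_shift h.1 (-1)
  refine ⟨hP, ?_⟩
  let e : (X⟦(-1 : ℤ)⟧)⟦(1 : ℤ)⟧ ≅ X := (shiftFunctorCompIsoId _ (-1 : ℤ) 1 (by norm_num)).app X
  have h1 : clT R X = - clT R (X⟦(-1 : ℤ)⟧) := by
    rw [clT_iso e (PerfRep.isPerfect_shift hP 1), clT_shift_one hP]
  have h2 : clT R (X⟦(-1 : ℤ)⟧) = - clT R X := by rw [h1, neg_neg]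
  rw [h2]
  exact neg_mem h.2

lemma ppr_shift {X : DerivedCategory (ModuleCat.{u} R)} (h : PPr R X) (n : ℤ) :
    PPr R (X⟦n⟧) := by
  induction n using Int.induction_on with
  | zero => exact (PPr R).prop_of_iso ((shiftFunctorZero _ ℤ).app X).symm h
  | succ n ih =>
    exact (PPr R).prop_of_iso ((shiftFunctorAdd' _ (n : ℤ) 1 ((n : ℤ) + 1) rfl).app X).symm
      (ppr_shift_one ih)
  | pred n ih =>
    exact (PPr R).prop_of_iso
      ((shiftFunctorAdd' _ (-(n : ℤ)) (-1) (-(n : ℤ) - 1) (by ring)).app X).symm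
      (ppr_shift_neg_one ih)

lemma ppr_single (M : ModuleCat.{u} R) (h : FPp R M) (i : ℤ) :
    PPr R ((DerivedCategory.singleFunctor (ModuleCat.{u} R) i).obj M) := by
  have h0 : PPr R ((DerivedCategory.singleFunctor (ModuleCat.{u} R) 0).obj M) :=
    ⟨perf_single M h 0, ⟨cl R M, phi_cl M h⟩⟩
  exact (PPr R).prop_of_iso
    (((DerivedCategory.singleFunctors (ModuleCat.{u} R)).shiftIso (-i) i 0 (by simp)).app M)
    (ppr_shift h0 (-i))

lemma ppr_of_bfp {E : CochainComplex (ModuleCat.{u} R) ℤ} (hE : BFP E) : PPr R (Q.obj E) := by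
  obtain ⟨h1, a, b, h2⟩ := hE
  refine Stupid.complex_induction (PPr R) ?_ ?_ E a b h2 (fun i => ppr_single _ (h1 i) i)
  · intro X hX
    refine ⟨PerfRep.isPerfect_of_isZero hX, ?_⟩
    rw [clT_isZero hX]
    exact zero_mem _
  · intro T hT h₁ h₃
    have hP : Perf R T.obj₂ := (PerfRep.two_of_three T hT).2.1 h₁.1 h₃.1
    refine ⟨hP, ?_⟩
    rw [clT_add T hT h₁.1 hP h₃.1]
    exact add_mem h₁.2 h₃.2

lemma phi_surjective : Function.Surjective (phi R) := by
  intro y
  induction y using QuotientAddGroup.induction_on with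
  | H z =>
    induction z using FreeAbelianGroup.induction_on with
    | zero => exact ⟨0, by simp⟩
    | of K =>
      obtain ⟨E, a, b, h1, h2, ⟨e⟩⟩ := K.2
      have h := (PPr R).prop_of_iso e (ppr_of_bfp (E := E) ⟨h2, a, b, h1⟩)
      have h1 : ((FreeAbelianGroup.of K : FreeAbelianGroup (Subtype (Perf R))) :
          KZero.K0tr (Perf R)) = clT R K.1 := by
        simp only [clT, KZero.clTr, dif_pos K.2]
      rw [h1]
      exact h.2
    | neg K ih =>
      obtain ⟨x, hx⟩ := ih
      exact ⟨-x, by rw [map_neg, hx, QuotientAddGroup.mk_neg]⟩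
    | add x y hx hy =>
      obtain ⟨x', hx'⟩ := hx
      obtain ⟨y', hy'⟩ := hy
      exact ⟨x' + y', by rw [map_add, hx', hy', QuotientAddGroup.mk_add]⟩

variable (R) in
/-- the isomorphism `K₀(R) ≅ K₀(D_perf(R))` -/
noncomputable def equiv : KZero.K0sub (FPp R) ≃+ KZero.K0tr (Perf R) :=
  AddEquiv.ofBijective (phi R)
    ⟨Function.LeftInverse.injective (g := psi R) psi_phi, phi_surjective⟩

lemma equiv_symm_apply (y : KZero.K0tr (Perf R)) : (equiv R).symm y = psi R y := by
  obtain ⟨x, rfl⟩ := phi_surjective y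
  rw [psi_phi]
  exact (equiv R).symm_apply_apply x

end Groth.Agent.Lib.helper2.KZeroPerf
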