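import Mathlib

/-!
# The counit of a right Kan extension along `L` is invertible at `L`-colocal objects

If `LF` is a right Kan extension of `F : C ⥤ E` along `L : C ⥤ D` with counit `ε : L ⋙ LF ⟶ F`
(for instance a total left derived functor), and `X : C` is such that `L` induces bijections
`(X ⟶ c) ≃ (L.obj X ⟶ L.obj c)`, then `ε.app X` is an isomorphism, provided `E` has coproducts
indexed by (small models of) the types `L.obj X ⟶ d`.
-/

set_option autoImplicit false
set_option linter.unusedSectionVars false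

namespace Groth.Agent.Lib.helper2.KanLocal

open CategoryTheory CategoryTheory.Limits

universe t

variable {C D E : Type*} [Category C] [Category D] [Category E]

section Cop

variable (Y : D) [∀ d : D, Small.{t} (Y ⟶ d)] [HasCoproducts.{t} E] (Z : E)

/-- the copower functor `d ↦ ∐_{Y ⟶ d} Z` -/
noncomputable def cop : D ⥤ E where
  obj d := ∐ (fun _ : Shrink.{t} (Y ⟶ d) => Z)
  map {d d'} φ := Sigma.desc (fun s => Sigma.ι (fun _ : Shrink.{t} (Y ⟶ d') => Z)
    (equivShrink _ ((equivShrink _).symm s ≫ φ)))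
  map_id d := by
    apply Sigma.hom_ext
    intro s
    rw [Sigma.ι_desc, Category.comp_id, Category.comp_id, Equiv.apply_symm_apply]
  map_comp {d d' d''} φ ψ := by
    apply Sigma.hom_ext
    intro s
    rw [Sigma.ι_desc, Sigma.ι_desc_assoc, Sigma.ι_desc, Equiv.symm_apply_apply, Category.assoc]

/-- the inclusions into the copower -/
noncomputable def copι (d : D) (s : Shrink.{t} (Y ⟶ d)) : Z ⟶ (cop.{t} Y Z).obj d :=
  Sigma.ι (fun _ : Shrink.{t} (Y ⟶ d) => Z) s

variable {Y Z} in
lemma cop_hom_ext {d : D} {W : E} (f g : (cop.{t} Y Z).obj d ⟶ W)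
    (h : ∀ s, copι Y Z d s ≫ f = copι Y Z d s ≫ g) : f = g :=
  Sigma.hom_ext _ _ h

variable {Y Z} in
/-- morphisms out of the copower -/
noncomputable def copDesc {d : D} {W : E} (f : Shrink.{t} (Y ⟶ d) → (Z ⟶ W)) :
    (cop.{t} Y Z).obj d ⟶ W :=
  Sigma.desc f

@[reassoc]
lemma copι_desc {d : D} {W : E} (f : Shrink.{t} (Y ⟶ d) → (Z ⟶ W)) (s : Shrink.{t} (Y ⟶ d)) :
    copι Y Z d s ≫ copDesc f = f s :=
  Sigma.ι_desc _ _

@[reassoc]
lemma copι_map {d d' : D} (φ : d ⟶ d') (s : Shrink.{t} (Y ⟶ d)) :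
    copι Y Z d s ≫ (cop.{t} Y Z).map φ =
      copι Y Z d' (equivShrink _ ((equivShrink _).symm s ≫ φ)) :=
  Sigma.ι_desc _ _

variable {Z} in
/-- the natural transformation `cop Y Z ⟶ M` attached to `Z ⟶ M.obj Y` -/
noncomputable def ev (M : D ⥤ E) (z : Z ⟶ M.obj Y) : cop.{t} Y Z ⟶ M where
  app d := copDesc (fun s => z ≫ M.map ((equivShrink _).symm s))
  naturality {d d'} φ := by
    apply cop_hom_ext
    intro s
    rw [copι_map_assoc, copι_desc, copι_desc_assoc, Equiv.symm_apply_apply, M.map_comp,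
      Category.assoc]

@[reassoc]
lemma copι_ev_app (M : D ⥤ E) (z : Z ⟶ M.obj Y) (d : D) (s : Shrink.{t} (Y ⟶ d)) :
    copι Y Z d s ≫ (ev.{t} Y M z).app d = z ≫ M.map ((equivShrink _).symm s) :=
  copι_desc _ _ _ _

end Cop

variable (L : C ⥤ D) (F : C ⥤ E) (LF : D ⥤ E) (ε : L ⋙ LF ⟶ F) [LF.IsRightKanExtension ε]
  (X : C) (hX : ∀ c : C, Function.Surjective (fun f : X ⟶ c => L.map f))
  (hF : ∀ (c : C) (f f' : X ⟶ c), L.map f = L.map f' → F.map f = F.map f')
  [∀ d : D, Small.{t} (L.obj X ⟶ d)] [HasCoproducts.{t} E]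

include hX

/-- a preimage under `L.map` of a morphism out of `L.obj X` -/
noncomputable def pre (c : C) (φ : L.obj X ⟶ L.obj c) : X ⟶ c := (hX c φ).choose

omit [∀ d : D, Small.{t} (L.obj X ⟶ d)] in
lemma map_pre (c : C) (φ : L.obj X ⟶ L.obj c) : L.map (pre L X hX c φ) = φ :=
  (hX c φ).choose_spec

include hF

omit [∀ d : D, Small.{t} (L.obj X ⟶ d)] in
lemma pre_comp {c c' : C} (φ : L.obj X ⟶ L.obj c) (g : c ⟶ c') :
    F.map (pre L X hX c' (φ ≫ L.map g)) = F.map (pre L X hX c φ) ≫ F.map g := by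
  rw [← F.map_comp]
  apply hF
  rw [map_pre, L.map_comp, map_pre]

omit [∀ d : D, Small.{t} (L.obj X ⟶ d)] in
lemma pre_id : F.map (pre L X hX X (𝟙 _)) = 𝟙 _ := by
  rw [← F.map_id]
  apply hF
  rw [map_pre, L.map_id]

/-- the natural transformation used to build a section of the counit -/
noncomputable def α : L ⋙ cop.{t} (L.obj X) (F.obj X) ⟶ F where
  app c := copDesc (fun s => F.map (pre L X hX c ((equivShrink _).symm s)))
  naturality {c c'} g := by
    apply cop_hom_ext
    intro s
    dsimp only [Functor.comp_obj, Functor.comp_map]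
    rw [copι_map_assoc, copι_desc, copι_desc_assoc, Equiv.symm_apply_apply,
      pre_comp L F X hX hF]

include ε in
/-- the counit of a right Kan extension along `L` is invertible at an object `X` such that
`L` is surjective on morphisms out of `X` and `F` identifies morphisms out of `X` identified
by `L`. -/
theorem isIso_counit_app : IsIso (ε.app X) := by
  let β := LF.liftOfIsRightKanExtension ε (cop.{t} (L.obj X) (F.obj X)) (α.{t} L F X hX hF)
  have hβ : ∀ c, β.app (L.obj c) ≫ ε.app c = (α.{t} L F X hX hF).app c := fun c =>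
    LF.liftOfIsRightKanExtension_fac_app ε _ _ c
  let s : F.obj X ⟶ LF.obj (L.obj X) :=
    copι.{t} (L.obj X) (F.obj X) (L.obj X) (equivShrink _ (𝟙 _)) ≫ β.app (L.obj X)
  have hs : s ≫ ε.app X = 𝟙 _ := by
    dsimp only [s]
    rw [Category.assoc]
    erw [hβ]
    dsimp only [α]
    rw [copι_desc, Equiv.symm_apply_apply, pre_id L F X hX hF]
  let γ₁ := ev.{t} (L.obj X) LF (𝟙 (LF.obj (L.obj X)))
  let γ₂ := ev.{t} (L.obj X) LF (ε.app X ≫ s)
  have hγ : γ₁ = γ₂ := by
    apply LF.hom_ext_of_isRightKanExtension ε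
    ext c
    apply cop_hom_ext
    intro σ
    dsimp only [γ₁, γ₂, NatTrans.comp_app, Functor.whiskerLeft_app, Functor.comp_obj]
    rw [copι_ev_app_assoc, copι_ev_app_assoc, Category.id_comp, Category.assoc, Category.assoc]
    have h1 : (equivShrink (L.obj X ⟶ L.obj c)).symm σ =
        L.map (pre L X hX c ((equivShrink _).symm σ)) := (map_pre L X hX c _).symm
    rw [h1]
    have h2 := ε.naturality (pre L X hX c ((equivShrink _).symm σ))
    dsimp only [Functor.comp_obj, Functor.comp_map] at h2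
    have hs' := hs
    dsimp only [s] at hs'
    rw [Category.assoc] at hs'
    rw [h2, reassoc_of% hs']
  have h3 := congrArg (fun γ => copι.{t} (L.obj X) (LF.obj (L.obj X)) (L.obj X)
    (equivShrink _ (𝟙 _)) ≫ γ.app (L.obj X)) hγ
  simp only [γ₁, γ₂, copι_ev_app, Equiv.symm_apply_apply, CategoryTheory.Functor.map_id,
    Category.comp_id] at h3
  exact ⟨s, h3.symm, hs⟩

omit hX hF in
include ε in
/-- the bijective case -/
theorem isIso_counit_app_of_bijective
    (hX' : ∀ c : C, Function.Bijective (fun f : X ⟶ c => L.map f)) : IsIso (ε.app X) :=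
  isIso_counit_app.{t} L F LF ε X (fun c => (hX' c).surjective)
    (fun c f f' h => by rw [(hX' c).injective h])

end Groth.Agent.Lib.helper2.KanLocal
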