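import Mathlib
import Groth.Prelude.Def_DRing2
import Groth.Prelude.Def_DDual2
import Groth.Agent.Lib.helper2.DerCoprod
import Groth.Agent.Lib.helper2.KanLocal
import Groth.Agent.Lib.helper17.DRingBC
import Groth.Agent.Lib.helper2.KZeroPerf

set_option autoImplicit false

namespace Groth.Agent.Lib.helper2.KPc

open CategoryTheory CategoryTheory.Limits DerivedCategory

attribute [local instance] HasDerivedCategory.standard

universe u

variable {A : Type u} [CommRing A]

instance hasCoproducts_D : HasCoproducts.{u} (DerivedCategory (ModuleCat.{u} A)) := fun J =>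
  DerCoprod.hasColimitsOfShape_discrete (ModuleCat.{u} A) J

instance small_hom (E : CochainComplex (ModuleCat.{u} A) ℤ) [E.IsKProjective]
    (d : DerivedCategory (ModuleCat.{u} A)) :
    Small.{u} (Qh.obj ((HomotopyCategory.quotient _ _).obj E) ⟶ d) := by
  let Y := Qh.objPreimage d
  let e : Qh.obj Y ≅ d := Qh.objObjPreimageIso d
  let f : ((HomotopyCategory.quotient _ _).obj E ⟶ Y) →
      (Qh.obj ((HomotopyCategory.quotient _ _).obj E) ⟶ d) := fun g => Qh.map g ≫ e.hom
  have hf : Function.Surjective f := by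
    intro φ
    obtain ⟨g, hg⟩ := (CochainComplex.IsKProjective.Qh_map_bijective E Y).surjective (φ ≫ e.inv)
    exact ⟨g, by simp [f, hg]⟩
  exact small_of_surjective hf

section Counit

variable {E' : Type*} [Category E'] [HasCoproducts.{u} E']

/-- the counit of a right Kan extension along `Qh` is an isomorphism at K-projective complexes -/
theorem isIso_counit_Qh
    (F : HomotopyCategory (ModuleCat.{u} A) (ComplexShape.up ℤ) ⥤ E')
    (LF : DerivedCategory (ModuleCat.{u} A) ⥤ E') (ε : Qh ⋙ LF ⟶ F) [LF.IsRightKanExtension ε]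
    (E : CochainComplex (ModuleCat.{u} A) ℤ) [E.IsKProjective] :
    IsIso (ε.app ((HomotopyCategory.quotient _ _).obj E)) :=
  KanLocal.isIso_counit_app_of_bijective.{u} Qh F LF ε _
    (fun c => CochainComplex.IsKProjective.Qh_map_bijective E c)

/-- the counit of a right Kan extension along `Q` is an isomorphism at K-projective complexes,
for functors identifying homotopic maps -/
theorem isIso_counit_Q
    (F : CochainComplex (ModuleCat.{u} A) ℤ ⥤ E')
    (LF : DerivedCategory (ModuleCat.{u} A) ⥤ E') (ε : Q ⋙ LF ⟶ F) [LF.IsRightKanExtension ε]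
    (E : CochainComplex (ModuleCat.{u} A) ℤ) [E.IsKProjective]
    (hF : ∀ (c : CochainComplex (ModuleCat.{u} A) ℤ) (f f' : E ⟶ c), Homotopy f f' →
      F.map f = F.map f') :
    IsIso (ε.app E) := by
  have : ∀ d : DerivedCategory (ModuleCat.{u} A), Small.{u} (Q.obj E ⟶ d) := fun d =>
    small_hom E d
  refine KanLocal.isIso_counit_app.{u} Q F LF ε E (fun c φ => ?_) (fun c f f' h => ?_)
  · obtain ⟨g, hg⟩ := (CochainComplex.IsKProjective.Qh_map_bijective E
      ((HomotopyCategory.quotient _ _).obj c)).surjective φ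
    obtain ⟨g', rfl⟩ := (HomotopyCategory.quotient _ _).map_surjective g
    exact ⟨g', hg⟩
  · apply hF
    apply HomotopyCategory.homotopyOfEq
    exact (CochainComplex.IsKProjective.Qh_map_bijective E
      ((HomotopyCategory.quotient _ _).obj c)).injective h

end Counit

section BaseChange

variable {B : Type u} [CommRing B] (φ : A →+* B)

/-- termwise extension of scalars of complexes -/
noncomputable abbrev bcCx : DRing.Cx A ⥤ DRing.Cx B :=
  (ModuleCat.extendScalars.{u, u, u} φ).mapHomologicalComplex (ComplexShape.up ℤ)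

/-- derived base change is computed termwise on K-projective complexes -/
noncomputable def LBaseChangeIso [DRing.HasLBaseChange φ] (E : DRing.Cx A) [E.IsKProjective] :
    (DRing.LBaseChange φ).obj (Q.obj E) ≅ Q.obj ((bcCx φ).obj E) := by
  let ε := (DRing.baseChangeKh φ).totalLeftDerivedCounit Qh
    (HomotopyCategory.quasiIso (ModuleCat.{u} A) (ComplexShape.up ℤ))
  have : (DRing.LBaseChange φ).IsRightKanExtension ε :=
    Functor.IsLeftDerivedFunctor.isRightKanExtension _ ε
      (HomotopyCategory.quasiIso (ModuleCat.{u} A) (ComplexShape.up ℤ))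
  have h := isIso_counit_Qh (DRing.baseChangeKh φ) (DRing.LBaseChange φ) ε E
  exact @asIso _ _ _ _ (ε.app ((HomotopyCategory.quotient _ _).obj E)) h ≪≫
    Qh.mapIso (((ModuleCat.extendScalars.{u, u, u} φ).mapHomotopyCategoryFactors
      (ComplexShape.up ℤ)).app E)

theorem isPerfect_LBaseChange [DRing.HasLBaseChange φ] (K : Dual.D A)
    (hK : DRing.IsPerfect A K) : DRing.IsPerfect B ((DRing.LBaseChange φ).obj K) := by
  obtain ⟨E, a, b, hz, hE, ⟨e⟩⟩ := hK
  have hBFP : KZeroPerf.BFP E := ⟨hE, a, b, hz⟩
  have := hBFP.isKProjective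
  let _ := φ.toAlgebra
  refine ⟨(bcCx φ).obj E, a, b, fun i hi => (ModuleCat.extendScalars.{u, u, u} φ).map_isZero (hz i hi),
    fun i => ?_, ⟨(LBaseChangeIso φ E).symm ≪≫ (DRing.LBaseChange φ).mapIso e⟩⟩
  have h1 : Module.Finite A (E.X i) := (hE i).1
  have h2 : Module.Projective A (E.X i) := (hE i).2
  exact PerfRep.fp_iso (Groth.Agent.Lib.helper17.DRingBC.extendScalarsObjIso (E.X i)).symm
    (⟨inferInstance, inferInstance⟩ : PerfRep.FP (ModuleCat.of B (TensorProduct A B (E.X i))))

end BaseChange

end Groth.Agent.Lib.helper2.KPc
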