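import Mathlib
import Groth.Prelude.Def_DRing2
import Groth.Prelude.Def_DDual2
import Groth.Agent.Lib.helper2.KPc
import Groth.Agent.Lib.helper4.QisTensor
import Groth.Agent.Lib.helper17.DRingTA
import Groth.Agent.Lib.helper6.TorBC3

set_option autoImplicit false

namespace Groth.Agent.Lib.helper2.KPc

open CategoryTheory CategoryTheory.Limits DerivedCategory MonoidalCategory
open Groth.Agent.Lib.helper6 Groth.Agent.Lib.helper17.DRingBC

attribute [local instance] HasDerivedCategory.standard

universe u

section Alg

variable (A B : Type u) [CommRing A] [CommRing B] [Algebra A B]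

set_option backward.isDefEq.respectTransparency false in
/-- Mathlib's extension of scalars agrees with `B ⊗[A] -` -/
noncomputable def extBcIso : ModuleCat.extendScalars.{u, u, u} (algebraMap A B) ≅ TorBC.bc A B :=
  NatIso.ofComponents (fun M => extendScalarsObjIso M) (by
    intro M N g
    ext x
    rfl)

/-- extension then restriction of scalars is tensoring with `B` -/
noncomputable def extResIso : ModuleCat.extendScalars.{u, u, u} (algebraMap A B) ⋙
    ModuleCat.restrictScalars (algebraMap A B) ≅ tensorRight (ModuleCat.of A B) :=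
  Functor.isoWhiskerRight (extBcIso A B) _ ≪≫ TorBC.bcResIso A B ≪≫
    BraidedCategory.tensorLeftIsoTensorRight (ModuleCat.of A B)

variable {A}

/-- base change of complexes preserves quasi-isomorphisms between bounded above complexes of
flat modules -/
theorem quasiIso_bcCx {C D : DRing.Cx A} (f : C ⟶ D)
    (hC : ∀ i, Module.Flat A (C.X i)) (hD : ∀ i, Module.Flat A (D.X i))
    (bC : ∃ b : ℤ, ∀ i, b < i → IsZero (C.X i)) (bD : ∃ b : ℤ, ∀ i, b < i → IsZero (D.X i))
    [QuasiIso f] : QuasiIso ((bcCx (algebraMap A B)).map f) := by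
  have h4 : QuasiIso (((tensorRight (ModuleCat.of A B)).mapHomologicalComplex
      (ComplexShape.up ℤ)).map f) := Groth.Agent.H4Qis.quasiIso_tensor f hC hD bC bD _
  let e' := NatIso.mapHomologicalComplex (extResIso A B) (ComplexShape.up ℤ)
  have h5 : QuasiIso (((ModuleCat.extendScalars.{u, u, u} (algebraMap A B) ⋙
      ModuleCat.restrictScalars (algebraMap A B)).mapHomologicalComplex
        (ComplexShape.up ℤ)).map f) := by
    have : ((ModuleCat.extendScalars.{u, u, u} (algebraMap A B) ⋙
      ModuleCat.restrictScalars (algebraMap A B)).mapHomologicalComplex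
        (ComplexShape.up ℤ)).map f = e'.hom.app C ≫ ((tensorRight (ModuleCat.of A B)).mapHomologicalComplex
      (ComplexShape.up ℤ)).map f ≫ e'.inv.app D := by
      rw [← e'.hom.naturality_assoc, Iso.hom_inv_id_app, Category.comp_id]
    rw [this]
    infer_instance
  have h6 : QuasiIso (((ModuleCat.restrictScalars (algebraMap A B)).mapHomologicalComplex
      (ComplexShape.up ℤ)).map ((bcCx (algebraMap A B)).map f)) := h5
  exact (HomologicalComplex.quasiIso_map_iff_of_preservesHomology _
    (ModuleCat.restrictScalars (algebraMap A B))).1 h6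

end Alg

section TorAmp

open Groth.Agent.Lib.helper17.DRingTA Groth.Agent.Lib.helper17.DRingTor

variable {A B : Type u} [CommRing A] [CommRing B] (φ : A →+* B)

theorem torAmp_LBaseChange [DRing.HasLBaseChange φ] (K : Dual.D A) (a b : ℤ)
    (hK : DRing.HasTorAmplitudeIn A a b K) :
    DRing.HasTorAmplitudeIn B a b ((DRing.LBaseChange φ).obj K) := by
  obtain ⟨E, hz, hfl, ⟨e⟩⟩ := hK
  let _ := φ.toAlgebra
  have hb : ∀ i : ℤ, b < i → IsZero ((DerivedCategory.homologyFunctor _ i).obj (Q.obj E)) := by
    intro i hi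
    refine IsZero.of_iso ?_ ((DerivedCategory.homologyFunctorFactors _ i).app E)
    exact isZero_homology_of_isZero_X E i (hz i (Or.inr hi))
  obtain ⟨P, ⟨⟨bP, hbP⟩, hPfree⟩, ⟨eP⟩⟩ := exists_free_resolution A (Q.obj E) b hb
  have hP1 : P.IsStrictlyLE bP := by
    rw [CochainComplex.isStrictlyLE_iff]
    exact hbP
  have hP2 : ∀ n, Projective (P.X n) := fun n => by
    have : Module.Free A (P.X n) := hPfree n
    rw [← IsProjective.iff_projective]
    exact Module.Projective.of_free
  have hP3 : P.IsKProjective := CochainComplex.isKProjective_of_projective P bP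
  obtain ⟨g, hg⟩ := (CochainComplex.IsKProjective.Qh_map_bijective P
    ((HomotopyCategory.quotient _ _).obj E)).surjective eP.hom
  obtain ⟨f, rfl⟩ := (HomotopyCategory.quotient _ _).map_surjective g
  have hf : IsIso (Q.map f) := by
    have : Q.map f = eP.hom := hg
    rw [this]
    infer_instance
  have hf' : QuasiIso f := (DerivedCategory.isIso_Q_map_iff_quasiIso (C := ModuleCat.{u} A) f).1 hf
  have hPfl : ∀ i, Module.Flat A (P.X i) := fun i => by
    have : Module.Free A (P.X i) := hPfree i
    infer_instance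
  have hq : QuasiIso ((bcCx φ).map f) :=
    quasiIso_bcCx B f hPfl hfl ⟨bP, hbP⟩ ⟨b, fun i hi => hz i (Or.inr hi)⟩
  have hq' : IsIso (Q.map ((bcCx φ).map f)) := (DerivedCategory.isIso_Q_map_iff_quasiIso (C := ModuleCat.{u} B) _).2 hq
  refine ⟨(bcCx φ).obj E, fun i hi => (ModuleCat.extendScalars.{u, u, u} φ).map_isZero (hz i hi),
    fun i => ?_, ⟨(asIso (Q.map ((bcCx φ).map f))).symm ≪≫ (LBaseChangeIso φ P).symm ≪≫
      (DRing.LBaseChange φ).mapIso (eP ≪≫ e)⟩⟩
  have h1 : Module.Flat A (E.X i) := hfl i
  exact (Fl B).prop_of_iso (extendScalarsObjIso (E.X i)).symm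
    ((inferInstance : Module.Flat B (TensorProduct A B (E.X i))) :
      Fl B (ModuleCat.of B (TensorProduct A B (E.X i))))

end TorAmp

end Groth.Agent.Lib.helper2.KPc
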