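import Mathlib
import Groth.Prelude.Def_KZero
import Groth.Prelude.Def_DRing2
import Groth.Prelude.Def_Koszul
import Groth.Prelude.Def_Wider
import Groth.Agent.Lib.helper2.KZeroEuler
import Groth.Agent.Lib.helper2.KZeroPerf
import Groth.Agent.Lib.helper2.PerfRep
import Groth.Agent.Lib.helper21.Kos5
import Groth.Agent.Lib.helper19.FinLen

/-!
# `K₀` of perfect complexes supported at the closed point is generated by the Koszul complex
-/

set_option autoImplicit false
set_option linter.unusedSectionVars false

namespace Groth.Agent.Lib.helper2.KosGen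

open CategoryTheory Limits DerivedCategory Pretriangulated ZeroObject

attribute [local instance] HasDerivedCategory.standard

universe u

section General

variable {D : Type*} [Category D] [Preadditive D] [HasZeroObject D] [HasShift D ℤ]
  [∀ n : ℤ, (shiftFunctor D n).Additive] [Pretriangulated D] (P : ObjectProperty D)

lemma clTr_add (T : Triangle D) (hT : T ∈ distTriang D)
    (h₁ : P T.obj₁) (h₂ : P T.obj₂) (h₃ : P T.obj₃) :
    KZero.clTr P T.obj₂ = KZero.clTr P T.obj₁ + KZero.clTr P T.obj₃ := by
  have h0 : (QuotientAddGroup.mk (FreeAbelianGroup.of ⟨T.obj₂, h₂⟩ -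
      FreeAbelianGroup.of ⟨T.obj₁, h₁⟩ - FreeAbelianGroup.of ⟨T.obj₃, h₃⟩) :
      KZero.K0tr P) = 0 :=
    (QuotientAddGroup.eq_zero_iff _).2
      (AddSubgroup.subset_closure ⟨T, h₁, h₂, h₃, hT, rfl⟩)
  rw [QuotientAddGroup.mk_sub, QuotientAddGroup.mk_sub, sub_sub, sub_eq_zero] at h0
  simp only [KZero.clTr, dif_pos h₁, dif_pos h₂, dif_pos h₃]
  exact h0

lemma closure_eq_top (H : AddSubgroup (KZero.K0tr P))
    (h : ∀ K : D, P K → KZero.clTr P K ∈ H) : H = ⊤ := by
  rw [eq_top_iff]
  intro x _
  suffices hx : x ∈ H from hx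
  induction x using QuotientAddGroup.induction_on with
  | H y =>
    induction y using FreeAbelianGroup.induction_on with
    | zero => exact H.zero_mem
    | of K =>
      have := h K.1 K.2
      simp only [KZero.clTr, dif_pos K.2] at this
      exact this
    | neg K ih => 
      rw [QuotientAddGroup.mk_neg]
      exact H.neg_mem (ih trivial)
    | add a b ha hb =>
      rw [QuotientAddGroup.mk_add]
      exact H.add_mem (ha trivial) (hb trivial)

end General

variable (R : Type u) [CommRing R]

lemma bfp_koszul (fs : List R) : KZeroPerf.BFP (Koszul.koszul R fs) := by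
  induction fs with
  | nil =>
    exact KZeroPerf.bfp_single (ModuleCat.of R R)
      ⟨inferInstanceAs (Module.Finite R R), inferInstanceAs (Module.Projective R R)⟩ 0
  | cons f l ih =>
    exact KZeroPerf.BFP.mappingCone _ ih ih

lemma koszul_eq (l : List R) :
    Koszul.koszul R l = CohIII.koszulCx (ModuleCat.of R R) l := by
  induction l with
  | nil => rfl
  | cons f l ih =>
    show CochainComplex.mappingCone (f • 𝟙 (Koszul.koszul R l)) =
      CochainComplex.mappingCone (f • 𝟙 (CohIII.koszulCx (ModuleCat.of R R) l))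
    rw [ih]

/-- the Koszul complex of a weakly regular sequence is a resolution of `R ⧸ (fs)` -/
lemma koszul_iso_single (fs : List R) (hreg : RingTheory.Sequence.IsWeaklyRegular R fs) :
    Nonempty (DRing.toD (Koszul.koszul R fs) ≅
      (DerivedCategory.singleFunctor (ModuleCat.{u} R) 0).obj
        (ModuleCat.of R (R ⧸ Ideal.ofList fs))) := by
  have hz : ∀ n : ℤ, n ≠ 0 → IsZero ((Koszul.koszul R fs).homology n) := by
    intro n hn
    rw [koszul_eq]
    exact Groth.Agent.H21.Kos.isZero_homology_of_weaklyRegular fs R hreg n hn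
  have h0 : Nonempty ((Koszul.koszul R fs).homology 0 ≅ ModuleCat.of R (R ⧸ Ideal.ofList fs)) := by
    rw [koszul_eq]
    obtain ⟨e⟩ := Groth.Agent.H21.Kos.h0_equiv R fs
    have e2 : (R ⧸ (Ideal.ofList fs • (⊤ : Submodule R R))) ≃ₗ[R] (R ⧸ Ideal.ofList fs) :=
      Submodule.quotEquivOfEq _ _ (by simp)
    exact ⟨(e ≪≫ₗ e2).toModuleIso⟩
  obtain ⟨e0⟩ := h0
  have hGE : (DRing.toD (Koszul.koszul R fs)).IsGE 0 := by
    rw [DerivedCategory.isGE_Q_obj_iff, CochainComplex.isGE_iff]
    intro i hi
    rw [HomologicalComplex.exactAt_iff_isZero_homology]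
    exact hz i (by lia)
  have hLE : (DRing.toD (Koszul.koszul R fs)).IsLE 0 := by
    rw [DerivedCategory.isLE_Q_obj_iff, CochainComplex.isLE_iff]
    intro i hi
    rw [HomologicalComplex.exactAt_iff_isZero_homology]
    exact hz i (by lia)
  obtain ⟨e⟩ := DerTrunc.exists_iso_single_homology (DRing.toD (Koszul.koszul R fs)) 0
  refine ⟨e ≪≫ (DerivedCategory.singleFunctor (ModuleCat.{u} R) 0).mapIso
    ((DerivedCategory.homologyFunctorFactors (ModuleCat.{u} R) 0).app _ ≪≫ e0)⟩

section Local

variable [IsNoetherianRing R] [IsLocalRing R]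

/-- finite length modules -/
abbrev FL : ObjectProperty (ModuleCat.{u} R) := fun M => IsFiniteLength R M

instance : (FL R).IsClosedUnderIsomorphisms := ⟨fun e h => e.toLinearEquiv.isFiniteLength h⟩

instance : (FL R).ContainsZero := ⟨⟨0, isZero_zero _, by
  have : Subsingleton ((0 : ModuleCat.{u} R)) := ModuleCat.subsingleton_of_isZero (isZero_zero _)
  exact IsFiniteLength.of_subsingleton⟩⟩

/-- perfect complexes with cohomology supported at the closed point -/
abbrev PS : ObjectProperty (DerivedCategory (ModuleCat.{u} R)) := fun K =>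
  DRing.IsPerfect R K ∧ ∀ i : ℤ, Module.support R (Dual.HD R K i) ⊆ {IsLocalRing.closedPoint R}

omit [IsNoetherianRing R] in
lemma support_residue :
    Module.support R (R ⧸ IsLocalRing.maximalIdeal R) = {IsLocalRing.closedPoint R} := by
  rw [Module.support_eq_zeroLocus, Ideal.annihilator_quotient,
    PrimeSpectrum.zeroLocus_eq_singleton]
  rfl

omit [IsNoetherianRing R] [IsLocalRing R] in
lemma fl_of_simple (M : Type u) [AddCommGroup M] [Module R M] [IsSimpleModule R M] :
    IsFiniteLength R M := by
  rw [isFiniteLength_iff_isNoetherian_isArtinian]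
  exact ⟨inferInstance, inferInstance⟩

theorem fl_induction (Q : ModuleCat.{u} R → Prop)
    (hiso : ∀ {X Y : ModuleCat.{u} R}, (X ≅ Y) → Q X → Q Y)
    (h0 : ∀ X : ModuleCat.{u} R, IsZero X → Q X)
    (hk : Q (ModuleCat.of R (R ⧸ IsLocalRing.maximalIdeal R)))
    (hext : ∀ S : ShortComplex (ModuleCat.{u} R), S.ShortExact → FL R S.X₁ → FL R S.X₂ →
      FL R S.X₃ → Q S.X₁ → Q S.X₃ → Q S.X₂) :
    ∀ (M : Type u) [AddCommGroup M] [Module R M], IsFiniteLength R M → Q (ModuleCat.of R M) := by
  intro M _ _ h
  induction h with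
  | of_subsingleton => exact h0 _ (ModuleCat.isZero_of_subsingleton _)
  | @of_simple_quotient M _ _ N _ hN ih =>
    let S : ShortComplex (ModuleCat.{u} R) :=
      ShortComplex.mk (ModuleCat.ofHom N.subtype) (ModuleCat.ofHom N.mkQ) (by
        ext x
        simp)
    have hS : S.ShortExact := by
      refine ModuleCat.shortComplex_shortExact S ?_ N.injective_subtype N.mkQ_surjective
      intro x
      change N.mkQ x = 0 ↔ x ∈ Set.range N.subtype
      simp
    obtain ⟨I, hI, ⟨e⟩⟩ := isSimpleModule_iff_quot_maximal.1 (inferInstance : IsSimpleModule R (M ⧸ N))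
    obtain rfl := IsLocalRing.eq_maximalIdeal hI
    have h3 : Q (ModuleCat.of R (M ⧸ N)) := hiso e.symm.toModuleIso hk
    exact hext S hS hN (IsFiniteLength.of_simple_quotient hN) (fl_of_simple R (M ⧸ N)) ih h3

variable (fs : List R) (hreg : RingTheory.Sequence.IsRegular R fs)
  (hgen : Ideal.ofList fs = IsLocalRing.maximalIdeal R)

include hreg hgen

lemma koszul_iso_residue :
    Nonempty (DRing.toD (Koszul.koszul R fs) ≅
      (DerivedCategory.singleFunctor (ModuleCat.{u} R) 0).obj
        (ModuleCat.of R (R ⧸ IsLocalRing.maximalIdeal R))) := by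
  obtain ⟨e⟩ := koszul_iso_single R fs hreg.toIsWeaklyRegular
  rw [hgen] at e
  exact ⟨e⟩

/-- finite length modules are perfect and supported at the closed point -/
lemma fl_props (M : ModuleCat.{u} R) (hM : FL R M) :
    Module.support R M ⊆ {IsLocalRing.closedPoint R} ∧
      DRing.IsPerfect R ((DerivedCategory.singleFunctor (ModuleCat.{u} R) 0).obj M) := by
  refine fl_induction R (fun M => Module.support R M ⊆ {IsLocalRing.closedPoint R} ∧
      DRing.IsPerfect R ((DerivedCategory.singleFunctor (ModuleCat.{u} R) 0).obj M))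
    ?_ ?_ ?_ ?_ M hM
  · intro X Y e ⟨h1, h2⟩
    refine ⟨?_, PerfRep.isPerfect_of_iso
      ((DerivedCategory.singleFunctor (ModuleCat.{u} R) 0).mapIso e) h2⟩
    rw [← e.toLinearEquiv.support_eq]
    exact h1
  · intro X hX
    have : Subsingleton X := ModuleCat.subsingleton_of_isZero hX
    refine ⟨?_, PerfRep.isPerfect_of_isZero
      ((DerivedCategory.singleFunctor (ModuleCat.{u} R) 0).map_isZero hX)⟩
    rw [Module.support_eq_empty]
    exact Set.empty_subset _
  · obtain ⟨e⟩ := koszul_iso_residue R fs hreg hgen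
    refine ⟨(support_residue R).le, PerfRep.isPerfect_of_iso e
      (KZeroPerf.perf_of_bfp (bfp_koszul R fs))⟩
  · intro S hS _ _ _ ⟨h1, h1'⟩ ⟨h3, h3'⟩
    refine ⟨?_, (PerfRep.two_of_three _ hS.singleTriangle_distinguished).2.1 h1' h3'⟩
    rw [Module.support_of_exact
      ((ShortComplex.ShortExact.moduleCat_exact_iff_function_exact S).1 hS.exact)
      hS.moduleCat_injective_f hS.moduleCat_surjective_g]
    exact Set.union_subset h1 h3

lemma ps_of_qp (K : DerivedCategory (ModuleCat.{u} R)) (hK : KZeroEuler.QP (FL R) K) :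
    PS R K := by
  obtain ⟨h1, a, b, ha, hb⟩ := hK
  have ha' : K.IsGE a := ha
  have hb' : K.IsLE b := hb
  refine ⟨PerfRep.isPerfect_of_homology K a b (fun i => (fl_props R fs hreg hgen _ (h1 i)).2),
    fun i => (fl_props R fs hreg hgen _ (h1 i)).1⟩

lemma triAdditive : KZeroEuler.IsTriAdditive (KZeroEuler.QP (FL R)) (KZero.clTr (PS R)) := by
  intro T hT h1 h2 h3
  exact clTr_add (PS R) T hT (ps_of_qp R fs hreg hgen _ h1) (ps_of_qp R fs hreg hgen _ h2)
    (ps_of_qp R fs hreg hgen _ h3)

omit hreg hgen in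
lemma qp_of_ps (K : DerivedCategory (ModuleCat.{u} R)) (hK : PS R K) :
    KZeroEuler.QP (FL R) K := by
  obtain ⟨⟨E, a, b, hv, hfp, ⟨e⟩⟩, hs⟩ := hK
  have hGE : E.IsStrictlyGE a := by
    rw [CochainComplex.isStrictlyGE_iff]
    intro i hi
    exact hv i (Or.inl hi)
  have hLE : E.IsStrictlyLE b := by
    rw [CochainComplex.isStrictlyLE_iff]
    intro i hi
    exact hv i (Or.inr hi)
  refine ⟨fun i => ?_, a, b, ?_, ?_⟩
  · have : Module.Finite R (E.X i) := (hfp i).1
    have : IsNoetherian R (E.X i) := isNoetherian_of_isNoetherianRing_of_finite R _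
    have h1 : Module.Finite R (E.cycles i) :=
      Module.Finite.of_injective (E.iCycles i).hom
        ((ModuleCat.mono_iff_injective _).1 inferInstance)
    have h2 : Module.Finite R (E.homology i) := Module.Finite.of_surjective (E.homologyπ i).hom
      ((ModuleCat.epi_iff_surjective _).1 inferInstance)
    let e' : E.homology i ≅ (DerivedCategory.homologyFunctor (ModuleCat.{u} R) i).obj K :=
      ((DerivedCategory.homologyFunctorFactors (ModuleCat.{u} R) i).app E).symm ≪≫
        (DerivedCategory.homologyFunctor (ModuleCat.{u} R) i).mapIso e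
    have h3 : Module.Finite R ((DerivedCategory.homologyFunctor (ModuleCat.{u} R) i).obj K) :=
      Module.Finite.equiv e'.toLinearEquiv
    apply Groth.Agent.Lib.helper19.FinLen.isFiniteLength_of_support_maximal
    intro p hp
    have := hs i hp
    rw [Set.mem_singleton_iff] at this
    subst this
    exact IsLocalRing.maximalIdeal.isMaximal R
  · have : (DRing.toD E).IsGE a := inferInstance
    exact TStructure.t.isGE_of_iso e a
  · have : (DRing.toD E).IsLE b := inferInstance
    exact TStructure.t.isLE_of_iso e b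

theorem main :
    AddSubgroup.closure {KZero.clTr (PS R) (DRing.toD (Koszul.koszul R fs))} = ⊤ := by
  set H := AddSubgroup.closure {KZero.clTr (PS R) (DRing.toD (Koszul.koszul R fs))} with hH
  have hd := triAdditive R fs hreg hgen
  apply closure_eq_top
  intro K hK
  apply KZeroEuler.d_mem_of_devissage hd H ?_ K (qp_of_ps R K hK)
  intro X hX
  refine fl_induction R (fun M => FL R M →
      KZero.clTr (PS R) ((DerivedCategory.singleFunctor (ModuleCat.{u} R) 0).obj M) ∈ H)
    ?_ ?_ ?_ ?_ X hX hX
  · intro X Y e h hY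
    have hX' : FL R X := (FL R).prop_of_iso e.symm hY
    rw [KZeroEuler.d_of_iso hd ((DerivedCategory.singleFunctor (ModuleCat.{u} R) 0).mapIso e)
      (KZeroEuler.QP_single 0 hX')]
    exact h hX'
  · intro X hX _
    rw [KZeroEuler.d_of_isZero hd
      ((DerivedCategory.singleFunctor (ModuleCat.{u} R) 0).map_isZero hX)]
    exact H.zero_mem
  · intro hk
    obtain ⟨e⟩ := koszul_iso_residue R fs hreg hgen
    rw [← KZeroEuler.d_of_iso hd e.symm (KZeroEuler.QP_single 0 hk)]
    exact AddSubgroup.subset_closure rfl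
  · intro S hS f1 f2 f3 h1 h3 _
    have := hd _ hS.singleTriangle_distinguished (KZeroEuler.QP_single 0 f1)
      (KZeroEuler.QP_single 0 f2) (KZeroEuler.QP_single 0 f3)
    change KZero.clTr (PS R) ((DerivedCategory.singleFunctor (ModuleCat.{u} R) 0).obj S.X₂) = _
      at this
    rw [this]
    exact H.add_mem (h1 f1) (h3 f3)

end Local

end Groth.Agent.Lib.helper2.KosGen
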