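import Mathlib
import Groth.Agent.S0563
import Groth.Agent.Lib.helper5.RegLoc
import Groth.Agent.Lib.helper6.PdLoc

/-!
# Finitely generated modules over regular rings have finite projective dimension (helper2)
(no assumption on the Krull dimension of the ring)
-/

set_option autoImplicit false

namespace Groth.Agent.Lib.helper2.RegPd

open CategoryTheory Groth.Agent.Lib.helper6 Groth.Agent.Lib.helper6.PdLoc

universe u

theorem exists_hasProjectiveDimensionLT (R : Type u) [CommRing R] [IsNoetherianRing R]
    (hreg : ∀ p : PrimeSpectrum R, IsRegularLocalRing (Localization.AtPrime p.asIdeal))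
    (M : Type u) [AddCommGroup M] [Module R M] [Module.Finite R M] :
    ∃ n : ℕ, HasProjectiveDimensionLT (ModuleCat.of R M) (n + 1) := by
  let U : ℕ → Set (PrimeSpectrum R) := fun n => Module.freeLocus R (syz R M n)
  have hfp : ∀ n, Module.FinitePresentation R (syz R M n) :=
    fun n => Module.finitePresentation_of_finite R _
  have hopen : ∀ n, IsOpen (U n) := fun n => Module.isOpen_freeLocus
  have hmono : ∀ n m, n ≤ m → U n ⊆ U m := by
    intro n m hnm p hp
    have h1 := (hasProjectiveDimensionLT_atPrime_iff M p n).2 hp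
    exact (hasProjectiveDimensionLT_atPrime_iff M p m).1
      (hasProjectiveDimensionLT_of_ge _ (n + 1) (m + 1) (by omega))
  have hcover : (Set.univ : Set (PrimeSpectrum R)) ⊆ ⋃ n, U n := by
    intro p _
    have := hreg p
    obtain ⟨e, he⟩ := Groth.Agent.H5.RegLoc.exists_nat_dim (Localization.AtPrime p.asIdeal)
    have h3 := Groth.Agent.S0563.result (Localization.AtPrime p.asIdeal) e he
      (LocalizedModule p.asIdeal.primeCompl M)
    exact Set.mem_iUnion.2 ⟨e, (hasProjectiveDimensionLT_atPrime_iff M p e).1 h3⟩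
  obtain ⟨t, ht⟩ := isCompact_univ.elim_finite_subcover U hopen hcover
  obtain ⟨N, hN⟩ : ∃ N : ℕ, ∀ n ∈ t, n ≤ N := ⟨t.sup id, fun n hn => Finset.le_sup (f := id) hn⟩
  have hU : U N = Set.univ := by
    rw [Set.eq_univ_iff_forall]
    intro p
    obtain ⟨n, hn, hp⟩ := Set.mem_iUnion₂.1 (ht (Set.mem_univ p))
    exact hmono n N (hN n hn) hp
  have hproj : Module.Projective R (syz R M N) := Module.freeLocus_eq_univ_iff.1 hU
  refine ⟨N, ?_⟩
  have h1 := hasProjectiveDimensionLT_iff_projective_syz (𝟭 (ModuleCat.{u} R))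
    (fun S hS => hS) (fun X hX => hX) N (fg R M)
  apply h1.2
  exact (IsProjective.iff_projective _).1 hproj

end Groth.Agent.Lib.helper2.RegPd
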