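import Mathlib
import Groth.Agent.Lib.helper2.DerTrunc
import Groth.Agent.Lib.helper2.ProjAmp

/-!
# Objects of projective amplitude `[-1, 0]` in `D(C)` (helper2)
-/

set_option autoImplicit false
set_option linter.unusedSectionVars false

namespace Groth.Agent.Lib.helper2.Pd1

open CategoryTheory CategoryTheory.Limits CategoryTheory.Pretriangulated DerivedCategory

universe w v u

variable {C : Type u} [Category.{v} C] [Abelian C] [HasDerivedCategory.{w} C]

/-- the canonical t-structure -/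
noncomputable abbrev tS (C : Type u) [Category.{v} C] [Abelian C] [HasDerivedCategory.{w} C] :
    Triangulated.TStructure (DerivedCategory C) := DerivedCategory.TStructure.t

section Van

variable (P : DerivedCategory C) (T : Triangle (DerivedCategory C)) (hT : T ∈ distTriang _)

include hT

lemma van_mid (h1 : ∀ φ : P ⟶ T.obj₁, φ = 0) (h3 : ∀ φ : P ⟶ T.obj₃, φ = 0)
    (φ : P ⟶ T.obj₂) : φ = 0 := by
  obtain ⟨ψ, hψ⟩ := Triangle.coyoneda_exact₂ _ hT φ (h3 _)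
  rw [hψ, h1 ψ, zero_comp]

lemma van_right (h2 : ∀ φ : P ⟶ T.obj₂, φ = 0) (h1 : ∀ φ : P ⟶ T.obj₁⟦(1 : ℤ)⟧, φ = 0)
    (φ : P ⟶ T.obj₃) : φ = 0 := by
  obtain ⟨ψ, hψ⟩ := Triangle.coyoneda_exact₃ _ hT φ (h1 _)
  rw [hψ, h2 ψ, zero_comp]

lemma van_left (h2 : ∀ φ : P ⟶ T.obj₂, φ = 0) (h3 : ∀ φ : P ⟶ T.obj₃⟦(-1 : ℤ)⟧, φ = 0)
    (φ : P ⟶ T.obj₁) : φ = 0 := by
  obtain ⟨ψ, hψ⟩ := Triangle.coyoneda_exact₂ _ (inv_rot_of_distTriang _ hT) φ (h2 _)
  have hψ0 : ψ = 0 := h3 ψ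
  rw [hψ, hψ0]
  exact zero_comp

end Van

/-- `P` has projective amplitude in `[-1, 0]`, in the `Hom`-vanishing form. -/
structure IsPd1 (P : DerivedCategory C) : Prop where
  le : ∀ (Y : DerivedCategory C), Y.IsGE 1 → ∀ φ : P ⟶ Y, φ = 0
  ge : ∀ (Y : DerivedCategory C), Y.IsLE (-2) → ∀ φ : P ⟶ Y, φ = 0

lemma isPd1_of_iso {P P' : DerivedCategory C} (e : P ≅ P') (h : IsPd1 P) : IsPd1 P' where
  le Y hY φ := by
    have := h.le Y hY (e.hom ≫ φ)
    rwa [← cancel_epi e.hom, comp_zero]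
  ge Y hY φ := by
    have := h.ge Y hY (e.hom ≫ φ)
    rwa [← cancel_epi e.hom, comp_zero]

/-- a two-term complex of projectives in degrees `[-1, 0]` has projective amplitude `[-1, 0]`. -/
lemma isPd1_Q (T₂ : CochainComplex C ℤ) [T₂.IsStrictlyGE (-1)] [T₂.IsStrictlyLE 0]
    (hproj : ∀ i, Projective (T₂.X i)) : IsPd1 (Q.obj T₂) where
  le Y hY φ := by
    have : (Q.obj T₂).IsLE 0 := inferInstance
    exact (tS C).zero_of_isLE_of_isGE φ 0 1 (by lia) inferInstance hY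
  ge Y hY φ := ProjAmp.hom_eq_zero_of_isLE T₂ (-1) 0 (-2) (by lia) hproj Y φ

lemma hom_eq_zero_of_iso {P X Y : DerivedCategory C} (e : X ≅ Y) (h : ∀ φ : P ⟶ X, φ = 0)
    (φ : P ⟶ Y) : φ = 0 := by
  have := h (φ ≫ e.inv)
  rwa [← cancel_mono e.inv, zero_comp]

section KL

variable (X : DerivedCategory C)

/-- `τ_{≥ -1} X` -/
noncomputable abbrev Yo : DerivedCategory C := ((tS C).truncGE (-1)).obj X
/-- `τ_{≤ 0} τ_{≥ -1} X` -/
noncomputable abbrev Zo : DerivedCategory C := ((tS C).truncLT 1).obj (Yo X)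
/-- the degree `0` part -/
noncomputable abbrev Z0 : DerivedCategory C := ((tS C).truncGE 0).obj (Zo X)
/-- the degree `-1` part -/
noncomputable abbrev Z1 : DerivedCategory C := ((tS C).truncLT 0).obj (Zo X)

lemma isIso_H_X_Yo (i : ℤ) (hi : -1 ≤ i) :
    IsIso ((homologyFunctor C i).map (((tS C).truncGEπ (-1)).app X)) :=
  DerTrunc.isIso_homology_map_truncGEπ X (-1) i hi

lemma isIso_H_Zo_Yo (i : ℤ) (hi : i < 1) :
    IsIso ((homologyFunctor C i).map (((tS C).truncLTι 1).app (Yo X))) :=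
  DerTrunc.isIso_homology_map_truncLTι (Yo X) 1 i hi

/-- `H^i(Z) ≅ H^i(X)` for `i = -1, 0` -/
noncomputable def HZoIso (i : ℤ) (h1 : -1 ≤ i) (h2 : i < 1) :
    (homologyFunctor C i).obj (Zo X) ≅ (homologyFunctor C i).obj X :=
  have := isIso_H_X_Yo X i h1
  have := isIso_H_Zo_Yo X i h2
  asIso ((homologyFunctor C i).map (((tS C).truncLTι 1).app (Yo X))) ≪≫
    (asIso ((homologyFunctor C i).map (((tS C).truncGEπ (-1)).app X))).symm

lemma isLE_Zo : (Zo X).IsLE 0 := (tS C).isLE_truncLT_obj _ 1 0 (by lia)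

lemma isGE_Yo : (Yo X).IsGE (-1) := by
  change (tS C).IsGE _ _
  infer_instance

lemma isZero_H_Zo (i : ℤ) (hi : i < -1) : IsZero ((homologyFunctor C i).obj (Zo X)) := by
  have := isIso_H_Zo_Yo X i (by lia)
  have := isGE_Yo X
  exact (DerivedCategory.isZero_of_isGE (Yo X) (-1) i hi).of_iso
    (asIso ((homologyFunctor C i).map (((tS C).truncLTι 1).app (Yo X))))

lemma nonempty_Z0_iso : Nonempty (Z0 X ≅ (singleFunctor C 0).obj ((homologyFunctor C 0).obj X)) := by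
  have h1 : (Z0 X).IsGE 0 := by
    change (tS C).IsGE _ _
    infer_instance
  have h2 : (Z0 X).IsLE 0 := by
    have : (tS C).IsLE (Zo X) 0 := isLE_Zo X
    change (tS C).IsLE _ _
    infer_instance
  obtain ⟨e⟩ := DerTrunc.exists_iso_single_homology (Z0 X) 0
  have := DerTrunc.isIso_homology_map_truncGEπ (Zo X) 0 0 le_rfl
  exact ⟨e ≪≫ (singleFunctor C 0).mapIso
    ((asIso ((homologyFunctor C 0).map (((tS C).truncGEπ 0).app (Zo X)))).symm ≪≫
      HZoIso X 0 (by lia) (by lia))⟩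

lemma nonempty_Z1_iso :
    Nonempty (Z1 X ≅ ((singleFunctor C 0).obj ((homologyFunctor C (-1)).obj X))⟦(1 : ℤ)⟧) := by
  have hiso : ∀ i : ℤ, i < 0 → IsIso ((homologyFunctor C i).map (((tS C).truncLTι 0).app (Zo X))) :=
    fun i hi => DerTrunc.isIso_homology_map_truncLTι (Zo X) 0 i hi
  have h1 : (Z1 X).IsGE (-1) := by
    rw [DerivedCategory.isGE_iff]
    intro i hi
    have := hiso i (by lia)
    exact (isZero_H_Zo X i hi).of_iso
      (asIso ((homologyFunctor C i).map (((tS C).truncLTι 0).app (Zo X))))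
  have h2 : (Z1 X).IsLE (-1) := (tS C).isLE_truncLT_obj _ 0 (-1) (by lia)
  obtain ⟨e⟩ := DerTrunc.exists_iso_single_homology (Z1 X) (-1)
  have := hiso (-1) (by lia)
  exact ⟨e ≪≫ (singleFunctor C (-1)).mapIso
    (asIso ((homologyFunctor C (-1)).map (((tS C).truncLTι 0).app (Zo X))) ≪≫
      HZoIso X (-1) (by lia) (by lia)) ≪≫
    (((singleFunctors C).shiftIso 1 (-1) 0 (by lia)).app _).symm⟩

variable {P : DerivedCategory C} (hP : IsPd1 P)

include hP

/-- the key lemma for objects of projective amplitude `[-1, 0]`. -/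
theorem hom_eq_zero_iff :
    (∀ φ : P ⟶ X, φ = 0) ↔
      (∀ φ : P ⟶ (singleFunctor C 0).obj ((homologyFunctor C 0).obj X), φ = 0) ∧
      (∀ φ : P ⟶ ((singleFunctor C 0).obj ((homologyFunctor C (-1)).obj X))⟦(1 : ℤ)⟧, φ = 0) := by
  have tri1 := (tS C).triangleLTGE_distinguished (-1) X
  have tri2 := (tS C).triangleLTGE_distinguished 1 (Yo X)
  have tri3 := (tS C).triangleLTGE_distinguished 0 (Zo X)
  obtain ⟨e0⟩ := nonempty_Z0_iso X
  obtain ⟨e1⟩ := nonempty_Z1_iso X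
  -- vanishing facts
  have hA1 : ∀ φ : P ⟶ ((tS C).truncLT (-1)).obj X, φ = 0 :=
    hP.ge _ ((tS C).isLE_truncLT_obj _ (-1) (-2) (by lia))
  have hA1s : ∀ φ : P ⟶ (((tS C).truncLT (-1)).obj X)⟦(1 : ℤ)⟧, φ = 0 := by
    have h : (tS C).IsLE (((tS C).truncLT (-1)).obj X) (-2) :=
      (tS C).isLE_truncLT_obj _ (-1) (-2) (by lia)
    have h' : (tS C).IsLE ((((tS C).truncLT (-1)).obj X)⟦(1 : ℤ)⟧) (-3) :=
      (tS C).isLE_shift _ (-2) 1 (-3) (by lia)
    exact hP.ge _ ((tS C).isLE_of_le _ (-3) (-2) (by lia))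
  have hW : ∀ φ : P ⟶ ((tS C).truncGE 1).obj (Yo X), φ = 0 :=
    hP.le _ (by change (tS C).IsGE _ _; infer_instance)
  have hWs : ∀ φ : P ⟶ (((tS C).truncGE 1).obj (Yo X))⟦(-1 : ℤ)⟧, φ = 0 := by
    have h' : (tS C).IsGE ((((tS C).truncGE 1).obj (Yo X))⟦(-1 : ℤ)⟧) 2 :=
      (tS C).isGE_shift _ 1 (-1) 2 (by lia)
    exact hP.le _ ((tS C).isGE_of_ge _ 1 2 (by lia))
  have hZ0s : ∀ φ : P ⟶ (Z0 X)⟦(-1 : ℤ)⟧, φ = 0 := by
    have h' : (tS C).IsGE ((Z0 X)⟦(-1 : ℤ)⟧) 1 :=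
      (tS C).isGE_shift _ 0 (-1) 1 (by lia)
    exact hP.le _ h'
  have hZ1s : ∀ φ : P ⟶ (Z1 X)⟦(1 : ℤ)⟧, φ = 0 := by
    have h : (tS C).IsLE (Z1 X) (-1) := (tS C).isLE_truncLT_obj _ 0 (-1) (by lia)
    have h' : (tS C).IsLE ((Z1 X)⟦(1 : ℤ)⟧) (-2) :=
      (tS C).isLE_shift _ (-1) 1 (-2) (by lia)
    exact hP.ge _ h'
  constructor
  · intro hX
    have hY : ∀ φ : P ⟶ Yo X, φ = 0 := van_right P _ tri1 hX hA1s
    have hZ : ∀ φ : P ⟶ Zo X, φ = 0 := van_left P _ tri2 hY hWs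
    have h0 : ∀ φ : P ⟶ Z0 X, φ = 0 := van_right P _ tri3 hZ hZ1s
    have h1 : ∀ φ : P ⟶ Z1 X, φ = 0 := van_left P _ tri3 hZ hZ0s
    exact ⟨hom_eq_zero_of_iso e0 h0, hom_eq_zero_of_iso e1 h1⟩
  · rintro ⟨h0, h1⟩
    have h0' : ∀ φ : P ⟶ Z0 X, φ = 0 := hom_eq_zero_of_iso e0.symm h0
    have h1' : ∀ φ : P ⟶ Z1 X, φ = 0 := hom_eq_zero_of_iso e1.symm h1
    have hZ : ∀ φ : P ⟶ Zo X, φ = 0 := van_mid P _ tri3 h1' h0'
    have hY : ∀ φ : P ⟶ Yo X, φ = 0 := van_mid P _ tri2 hZ hW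
    exact van_mid P _ tri1 hA1 hY

/-- shifted version of the key lemma -/
theorem hom_shift_eq_zero_iff (n m : ℤ) (hm : m + 1 = n) :
    (∀ φ : P ⟶ X⟦n⟧, φ = 0) ↔
      (∀ φ : P ⟶ (singleFunctor C 0).obj ((homologyFunctor C n).obj X), φ = 0) ∧
      (∀ φ : P ⟶ ((singleFunctor C 0).obj ((homologyFunctor C m).obj X))⟦(1 : ℤ)⟧, φ = 0) := by
  obtain rfl : m = n - 1 := by lia
  rw [hom_eq_zero_iff (X⟦n⟧) hP]
  let i0 : (homologyFunctor C 0).obj (X⟦n⟧) ≅ (homologyFunctor C n).obj X :=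
    ((homologyFunctor C 0).shiftIso n 0 n (by lia)).app X
  let i1 : (homologyFunctor C (-1)).obj (X⟦n⟧) ≅ (homologyFunctor C (n - 1)).obj X :=
    ((homologyFunctor C 0).shiftIso n (-1) (n - 1) (by lia)).app X
  constructor
  · rintro ⟨h0, h1⟩
    exact ⟨hom_eq_zero_of_iso ((singleFunctor C 0).mapIso i0) h0,
      hom_eq_zero_of_iso ((shiftFunctor (DerivedCategory C) (1 : ℤ)).mapIso
        ((singleFunctor C 0).mapIso i1)) h1⟩
  · rintro ⟨h0, h1⟩
    exact ⟨hom_eq_zero_of_iso ((singleFunctor C 0).mapIso i0.symm) h0,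
      hom_eq_zero_of_iso ((shiftFunctor (DerivedCategory C) (1 : ℤ)).mapIso
        ((singleFunctor C 0).mapIso i1.symm)) h1⟩

/-- all shifted `Hom`s from `P` to `X` vanish -/
def AllShift (P X : DerivedCategory C) : Prop := ∀ (n : ℤ) (φ : P ⟶ X⟦n⟧), φ = 0

omit hP in
lemma AllShift.of_iso {P X Y : DerivedCategory C} (h : AllShift P X) (e : X ≅ Y) : AllShift P Y :=
  fun n => hom_eq_zero_of_iso ((shiftFunctor (DerivedCategory C) n).mapIso e) (h n)

omit hP in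
lemma allShift_of_isZero {P X : DerivedCategory C} (h : IsZero X) : AllShift P X :=
  fun n φ => ((shiftFunctor (DerivedCategory C) n).map_isZero h).eq_of_tgt _ _

omit hP in
lemma hom_single_eq_zero_of_isZero {M : C} (h : IsZero M) (φ : P ⟶ (singleFunctor C 0).obj M) :
    φ = 0 := ((singleFunctor C 0).map_isZero h).eq_of_tgt _ _

omit hP in
lemma hom_single_shift_eq_zero_of_isZero {M : C} (h : IsZero M)
    (φ : P ⟶ ((singleFunctor C 0).obj M)⟦(1 : ℤ)⟧) : φ = 0 :=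
  ((shiftFunctor (DerivedCategory C) (1 : ℤ)).map_isZero
    ((singleFunctor C 0).map_isZero h)).eq_of_tgt _ _

/-- for a single object, all shifted Homs vanish iff those in degrees `0` and `1` do. -/
theorem allShift_single_iff (M : C) :
    AllShift P ((singleFunctor C 0).obj M) ↔
      (∀ φ : P ⟶ (singleFunctor C 0).obj M, φ = 0) ∧
      (∀ φ : P ⟶ ((singleFunctor C 0).obj M)⟦(1 : ℤ)⟧, φ = 0) := by
  constructor
  · intro h
    exact ⟨hom_eq_zero_of_iso ((shiftFunctorZero (DerivedCategory C) ℤ).app _) (h 0), h 1⟩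
  · rintro ⟨h0, h1⟩ n
    rw [hom_shift_eq_zero_iff _ hP n (n - 1) (by lia)]
    have hH : ∀ i : ℤ, i ≠ 0 →
        IsZero ((homologyFunctor C i).obj ((singleFunctor C 0).obj M)) := by
      intro i hi
      by_cases h : 0 < i
      · exact DerivedCategory.isZero_of_isLE _ 0 i h
      · exact DerivedCategory.isZero_of_isGE _ 0 i (by lia)
    let e : (homologyFunctor C 0).obj ((singleFunctor C 0).obj M) ≅ M :=
      (singleFunctorCompHomologyFunctorIso C 0).app M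
    constructor
    · by_cases hn : n = 0
      · subst hn
        exact hom_eq_zero_of_iso ((singleFunctor C 0).mapIso e.symm) h0
      · exact hom_single_eq_zero_of_isZero (hH n hn)
    · by_cases hn : n - 1 = 0
      · rw [hn]
        exact hom_eq_zero_of_iso ((shiftFunctor (DerivedCategory C) (1 : ℤ)).mapIso
          ((singleFunctor C 0).mapIso e.symm)) h1
      · exact hom_single_shift_eq_zero_of_isZero (hH _ hn)

/-- all shifted Homs from `P` to `X` vanish iff they do for all cohomology objects of `X`. -/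
theorem allShift_iff_homology :
    AllShift P X ↔ ∀ i : ℤ, AllShift P ((singleFunctor C 0).obj ((homologyFunctor C i).obj X)) := by
  constructor
  · intro h i
    rw [allShift_single_iff hP]
    exact ⟨((hom_shift_eq_zero_iff X hP i (i - 1) (by lia)).1 (h i)).1,
      ((hom_shift_eq_zero_iff X hP (i + 1) i rfl).1 (h (i + 1))).2⟩
  · intro h n
    rw [hom_shift_eq_zero_iff X hP n (n - 1) (by lia)]
    exact ⟨((allShift_single_iff hP _).1 (h n)).1, ((allShift_single_iff hP _).1 (h (n - 1))).2⟩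

end KL

end Groth.Agent.Lib.helper2.Pd1
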