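import Mathlib
import Groth.Agent.Lib.helper2.Pd1

set_option autoImplicit false
set_option linter.unusedSectionVars false

namespace Groth.Agent.Lib.helper2.Pd1

open CategoryTheory CategoryTheory.Limits CategoryTheory.Pretriangulated DerivedCategory

universe w v u

variable {C : Type u} [Category.{v} C] [Abelian C] [HasDerivedCategory.{w} C]

variable {P : DerivedCategory C}

lemma AllShift.shift {X : DerivedCategory C} (h : AllShift P X) (m : ℤ) : AllShift P (X⟦m⟧) := by
  intro n
  exact hom_eq_zero_of_iso ((shiftFunctorAdd' (DerivedCategory C) m n (m + n) rfl).app X) (h (m + n))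

lemma AllShift.mid (T : Triangle (DerivedCategory C)) (hT : T ∈ distTriang _)
    (h1 : AllShift P T.obj₁) (h3 : AllShift P T.obj₃) : AllShift P T.obj₂ := by
  intro n
  exact van_mid P _ (Triangle.shift_distinguished T hT n) (h1 n) (h3 n)

lemma AllShift.right (T : Triangle (DerivedCategory C)) (hT : T ∈ distTriang _)
    (h1 : AllShift P T.obj₁) (h2 : AllShift P T.obj₂) : AllShift P T.obj₃ :=
  AllShift.mid _ (rot_of_distTriang _ hT) h2 (h1.shift 1)

lemma AllShift.left (T : Triangle (DerivedCategory C)) (hT : T ∈ distTriang _)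
    (h2 : AllShift P T.obj₂) (h3 : AllShift P T.obj₃) : AllShift P T.obj₁ :=
  AllShift.mid _ (inv_rot_of_distTriang _ hT) (h3.shift (-1)) h2

lemma allShift_iff_subsingleton {X : DerivedCategory C} :
    AllShift P X ↔ ∀ n : ℤ, Subsingleton (P ⟶ X⟦n⟧) := by
  constructor
  · intro h n
    exact ⟨fun a b => by rw [h n a, h n b]⟩
  · intro h n φ
    exact (h n).elim _ _

end Groth.Agent.Lib.helper2.Pd1
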