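import Mathlib
import Groth.Agent.Lib.helper17.DRingBC

set_option autoImplicit false

namespace Groth.Agent.Lib.helper2.BCSquare

open CategoryTheory TensorProduct
open Groth.Agent.Lib.helper17.DRingBC

universe u

attribute [local instance] Algebra.TensorProduct.rightAlgebra

variable (R A R' : Type u) [CommRing R] [CommRing A] [Algebra R A] [CommRing R'] [Algebra R R']

/-- extension along `A → R' ⊗ A` followed by restriction to `R'` -/
noncomputable abbrev F1 : ModuleCat.{u} A ⥤ ModuleCat.{u} R' :=
  ModuleCat.extendScalars.{u, u, u} (algebraMap A (R' ⊗[R] A)) ⋙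
    ModuleCat.restrictScalars (algebraMap R' (R' ⊗[R] A))

/-- restriction to `R` followed by extension along `R → R'` -/
noncomputable abbrev F2 : ModuleCat.{u} A ⥤ ModuleCat.{u} R' :=
  ModuleCat.restrictScalars (algebraMap R A) ⋙ ModuleCat.extendScalars.{u, u, u} (algebraMap R R')

variable {R A R'}

section comp
variable (M : ModuleCat.{u} A)

/-- middle step: cancel base change -/
noncomputable def step2 :
    (R' ⊗[R] ((ModuleCat.restrictScalars (algebraMap R A)).obj M)) ≃ₗ[R'] ((R' ⊗[R] A) ⊗[A] M) :=
  letI : Module R M := Module.compHom M (algebraMap R A)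
  letI : IsScalarTower R A M := IsScalarTower.of_algebraMap_smul fun _ _ => rfl
  (Algebra.IsPushout.cancelBaseChange R R' A (R' ⊗[R] A) M).symm

lemma step2_tmul (r' : R') (m : M) :
    step2 (R := R) (R' := R') M (r' ⊗ₜ[R] (m : (ModuleCat.restrictScalars (algebraMap R A)).obj M)) =
      (algebraMap R' (R' ⊗[R] A) r') ⊗ₜ[A] m := by
  letI : Module R M := Module.compHom M (algebraMap R A)
  letI : IsScalarTower R A M := IsScalarTower.of_algebraMap_smul fun _ _ => rfl
  exact Algebra.IsPushout.cancelBaseChange_symm_tmul R R' A (R' ⊗[R] A) M r' m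

set_option backward.isDefEq.respectTransparency false in
/-- last step: `extendScalars` computes the tensor product, `R'`-linearly -/
noncomputable def step3 : ((R' ⊗[R] A) ⊗[A] M) ≃ₗ[R'] ((F1 R A R').obj M) :=
  { (extendScalarsObjEquiv (A := A) (B := R' ⊗[R] A) M).symm.toAddEquiv with
    map_smul' := fun r x => by
      have h : r • x = (algebraMap R' (R' ⊗[R] A) r) • x := (algebraMap_smul (R' ⊗[R] A) r x).symm
      change (extendScalarsObjEquiv (A := A) (B := R' ⊗[R] A) M).symm (r • x) = _
      rw [h, map_smul]
      rfl }

/-- the component as a linear equivalence -/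
noncomputable def compEquiv :
    ((F2 R A R').obj M) ≃ₗ[R'] ((F1 R A R').obj M) :=
  (extendScalarsObjEquiv (A := R) (B := R') ((ModuleCat.restrictScalars (algebraMap R A)).obj M)) ≪≫ₗ
    step2 M ≪≫ₗ step3 M

set_option backward.isDefEq.respectTransparency false in
lemma compEquiv_tmul (r' : R') (m : M) :
    compEquiv (R := R) (R' := R') M
      (TensorProduct.tmul R (r' : (ModuleCat.restrictScalars (algebraMap R R')).obj (ModuleCat.of R' R'))
        (m : (ModuleCat.restrictScalars (algebraMap R A)).obj M)) =
      TensorProduct.tmul A ((algebraMap R' (R' ⊗[R] A) r' :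
        (ModuleCat.restrictScalars (algebraMap A (R' ⊗[R] A))).obj (ModuleCat.of _ (R' ⊗[R] A)))) m := by
  change step3 M (step2 M (extendScalarsObjEquiv _ _)) = _
  have h1 : extendScalarsObjEquiv (A := R) (B := R') ((ModuleCat.restrictScalars (algebraMap R A)).obj M)
      (TensorProduct.tmul R (r' : (ModuleCat.restrictScalars (algebraMap R R')).obj (ModuleCat.of R' R'))
        (m : (ModuleCat.restrictScalars (algebraMap R A)).obj M)) =
        @TensorProduct.tmul R _ R' ((ModuleCat.restrictScalars (algebraMap R A)).obj M) _ _ _ _ r' m := rfl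
  have h2 := step2_tmul (R := R) (R' := R') M r' m
  refine (congrArg (step3 M) ((congrArg (step2 M) h1).trans h2)).trans ?_
  rfl

end comp

variable (R A R')

set_option backward.isDefEq.respectTransparency false in
/-- base change commutes with restriction of scalars (natural isomorphism) -/
noncomputable def natIso : F2 R A R' ≅ F1 R A R' :=
  NatIso.ofComponents (fun M => (compEquiv M).toModuleIso) (by
    intro M N g
    apply ModuleCat.ExtendScalars.hom_ext
    intro m
    have h1 := compEquiv_tmul (R := R) (R' := R') N 1 (g m)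
    have h2 := compEquiv_tmul (R := R) (R' := R') M 1 m
    rw [ModuleCat.comp_apply, ModuleCat.comp_apply]
    refine Eq.trans (b := _) ?_ ((congrArg (fun z => (F1 R A R').map g z) h2).symm)
    exact h1)

end Groth.Agent.Lib.helper2.BCSquare
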