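import Mathlib
import Groth.Agent.S1033

open CategoryTheory CategoryTheory.Abelian CategoryTheory.Limits

namespace Groth.Agent.Lib.helper2.Blended

universe w v v'
variable {C : Type w} [Category.{v} C] [Abelian C]

lemma hcond {Q' Q F : C} (π : Q' ⟶ Q) (φ : kernel π ⟶ F) :
    kernel.ι π ≫ π = φ ≫ (0 : F ⟶ Q) := by rw [kernel.condition, comp_zero]

/-- the projection from the pushout -/
noncomputable def pq {Q' Q F : C} (π : Q' ⟶ Q) (φ : kernel π ⟶ F) :
    pushout (kernel.ι π) φ ⟶ Q := pushout.desc π (0 : F ⟶ Q) (hcond π φ)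

@[reassoc (attr := simp)]
lemma inl_pq {Q' Q F : C} (π : Q' ⟶ Q) (φ : kernel π ⟶ F) :
    pushout.inl (kernel.ι π) φ ≫ pq π φ = π := pushout.inl_desc _ _ _

@[reassoc (attr := simp)]
lemma inr_pq {Q' Q F : C} (π : Q' ⟶ Q) (φ : kernel π ⟶ F) :
    pushout.inr (kernel.ι π) φ ≫ pq π φ = 0 := pushout.inr_desc _ _ _

/-- pushout of a kernel short exact sequence along a map out of the kernel -/
lemma pushout_shortExact {Q' Q F : C} (π : Q' ⟶ Q) [Epi π] (φ : kernel π ⟶ F) :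
    (ShortComplex.mk (pushout.inr (kernel.ι π) φ) (pq π φ) (inr_pq π φ)).ShortExact := by
  have hepi : Epi (pq π φ) := by
    apply epi_of_epi_fac (f := pushout.inl (kernel.ι π) φ) (h := π)
    simp
  have he : Epi (BiproductToPushoutIsCokernel.biproductToPushout (kernel.ι π) φ) :=
    epi_of_isColimit_cofork (BiproductToPushoutIsCokernel.isColimitBiproductToPushout _ _)
  refine ShortComplex.ShortExact.mk' ?_ inferInstance hepi
  rw [ShortComplex.exact_iff_exact_up_to_refinements]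
  intro T x hx
  dsimp at x hx ⊢
  obtain ⟨T₁, π₁, hπ₁, z, hz⟩ := surjective_up_to_refinements_of_epi
    (BiproductToPushoutIsCokernel.biproductToPushout (kernel.ι π) φ) x
  have hz' : π₁ ≫ x = (z ≫ biprod.fst) ≫ pushout.inl _ _ + (z ≫ biprod.snd) ≫ pushout.inr _ _ := by
    rw [hz]
    simp only [BiproductToPushoutIsCokernel.biproductToPushout, biprod.desc_eq,
      Preadditive.comp_add, Category.assoc]
  have hu : (z ≫ biprod.fst) ≫ π = 0 := by
    have := congrArg (fun t => t ≫ pq π φ) hz'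
    simp only [Category.assoc, hx, comp_zero, Preadditive.add_comp, inl_pq, inr_pq,
      add_zero] at this
    rw [Category.assoc]; exact this.symm
  refine ⟨T₁, π₁, hπ₁, kernel.lift π _ hu ≫ φ + z ≫ biprod.snd, ?_⟩
  have h1 : (kernel.lift π _ hu ≫ φ) ≫ pushout.inr (kernel.ι π) φ =
      (z ≫ biprod.fst) ≫ pushout.inl (kernel.ι π) φ := by
    rw [Category.assoc, ← pushout.condition, kernel.lift_ι_assoc]
  rw [hz', Preadditive.add_comp, h1]

variable [HasExt.{v'} C]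

/-- Every `Ext^1` class is the class of an extension. -/
lemma exists_extClass {Q F : C} (y : Ext Q F 1) :
    ∃ (X : C) (i : F ⟶ X) (q : X ⟶ Q) (w : i ≫ q = 0) (h : (ShortComplex.mk i q w).ShortExact),
      h.extClass = y := by
  obtain ⟨Q', π, hπ, hy⟩ := Groth.Agent.S1033.exists_epi_comp_eq_zero (n := 0) y
  have hS : (ShortComplex.mk (kernel.ι π) π (kernel.condition π)).ShortExact :=
    { exact := ShortComplex.exact_kernel π }
  obtain ⟨x₁, hx₁⟩ := Ext.contravariant_sequence_exact₃ hS F y hy (n₀ := 0) (by lia)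
  obtain ⟨φ, rfl⟩ := (Ext.mk₀_bijective _ _).2 x₁
  dsimp at φ
  have hS₂ := pushout_shortExact π φ
  refine ⟨_, _, _, _, hS₂, ?_⟩
  let ψ : ShortComplex.mk (kernel.ι π) π (kernel.condition π) ⟶
      ShortComplex.mk (pushout.inr (kernel.ι π) φ) (pq π φ) (inr_pq π φ) :=
    { τ₁ := φ
      τ₂ := pushout.inl _ _
      τ₃ := 𝟙 Q
      comm₁₂ := pushout.condition.symm
      comm₂₃ := by dsimp; rw [Category.comp_id, inl_pq] }
  have := ShortComplex.ShortExact.extClass_naturality hS hS₂ ψ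
  dsimp [ψ] at this
  rw [Ext.mk₀_id_comp] at this
  rw [← this]
  exact hx₁

theorem main {P F R E Q : C} (a : P ⟶ F) (b : F ⟶ R) (wF : a ≫ b = 0)
    (hF : (ShortComplex.mk a b wF).ShortExact) (c : R ⟶ E) (d : E ⟶ Q) (wE : c ≫ d = 0)
    (hE : (ShortComplex.mk c d wE).ShortExact) :
    (∃ (X : C) (i : F ⟶ X) (p : X ⟶ E), i ≫ p = b ≫ c ∧
        (∃ w : (a ≫ i) ≫ p = 0, (ShortComplex.mk (a ≫ i) p w).ShortExact) ∧
        (∃ w : i ≫ (p ≫ d) = 0, (ShortComplex.mk i (p ≫ d) w).ShortExact)) ↔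
      hE.extClass.comp hF.extClass (rfl : 1 + 1 = 2) = 0 := by
  have hmc : Mono c := hE.mono_f
  have hma : Mono a := hF.mono_f
  have heb : Epi b := hF.epi_g
  have hed : Epi d := hE.epi_g
  constructor
  · rintro ⟨X, i, p, h1, ⟨w2, h2⟩, ⟨w3, h3⟩⟩
    let ψ : ShortComplex.mk i (p ≫ d) w3 ⟶ ShortComplex.mk c d wE :=
      { τ₁ := b
        τ₂ := p
        τ₃ := 𝟙 Q
        comm₁₂ := h1.symm
        comm₂₃ := by dsimp; rw [Category.comp_id] }
    have nat := ShortComplex.ShortExact.extClass_naturality h3 hE ψ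
    dsimp [ψ] at nat
    rw [Ext.mk₀_id_comp] at nat
    rw [← nat, Ext.comp_assoc_of_second_deg_zero]
    have : (Ext.mk₀ b).comp hF.extClass (zero_add 1) = 0 := hF.comp_extClass
    rw [this, Ext.comp_zero]
  · intro h
    obtain ⟨y, hy⟩ := Ext.covariant_sequence_exact₃ Q hF hE.extClass (rfl : 1 + 1 = 2) h
    dsimp at y hy
    obtain ⟨X, i, q, w, hS₂, rfl⟩ := exists_extClass y
    have hmi : Mono i := hS₂.mono_f
    have heq : Epi q := hS₂.epi_g
    -- lift `q` to `θ : X ⟶ E`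
    have hq0 : (Ext.mk₀ q).comp hE.extClass (zero_add 1) = 0 := by
      rw [← hy, ← Ext.comp_assoc_of_third_deg_zero]
      have : (Ext.mk₀ q).comp hS₂.extClass (zero_add 1) = 0 := hS₂.comp_extClass
      rw [this, Ext.zero_comp]
    obtain ⟨x₂, hx₂⟩ := Ext.covariant_sequence_exact₃ X hE (Ext.mk₀ q) (rfl : 0 + 1 = 1) hq0
    dsimp at x₂ hx₂
    obtain ⟨θ, rfl⟩ := (Ext.mk₀_bijective _ _).2 x₂
    rw [Ext.mk₀_comp_mk₀] at hx₂
    have hθ : θ ≫ d = q := (Ext.mk₀_bijective _ _).1 hx₂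
    -- `ρ : F ⟶ R`
    have hiθ : (i ≫ θ) ≫ d = 0 := by rw [Category.assoc, hθ, w]
    obtain ⟨ρ, hρ⟩ : ∃ ρ : F ⟶ R, ρ ≫ c = i ≫ θ := ⟨hE.exact.lift (i ≫ θ) hiθ, hE.exact.lift_f _ _⟩
    let ψ' : ShortComplex.mk i q w ⟶ ShortComplex.mk c d wE :=
      { τ₁ := ρ
        τ₂ := θ
        τ₃ := 𝟙 Q
        comm₁₂ := hρ
        comm₂₃ := by dsimp; rw [Category.comp_id, hθ] }
    have nat := ShortComplex.ShortExact.extClass_naturality hS₂ hE ψ'
    dsimp [ψ'] at nat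
    rw [Ext.mk₀_id_comp, ← hy] at nat
    have hdiff : hS₂.extClass.comp (Ext.mk₀ ρ - Ext.mk₀ b) (rfl : 1 + 0 = 1) = 0 := by
      rw [sub_eq_add_neg, Ext.comp_add, Ext.comp_neg, nat, add_neg_cancel]
    obtain ⟨x₃, hx₃⟩ := Ext.contravariant_sequence_exact₁ hS₂ R (Ext.mk₀ ρ - Ext.mk₀ b)
      (rfl : 1 + 0 = 1) hdiff
    dsimp at x₃ hx₃
    obtain ⟨σ, rfl⟩ := (Ext.mk₀_bijective _ _).2 x₃
    rw [Ext.mk₀_comp_mk₀] at hx₃
    have hσ : i ≫ σ + b = ρ := by
      apply (Ext.mk₀_bijective _ _).1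
      rw [Ext.mk₀_add, hx₃, sub_add_cancel]
    obtain ⟨p, hp⟩ : ∃ p : X ⟶ E, p = θ - σ ≫ c := ⟨_, rfl⟩
    have hpd : q = p ≫ d := by
      rw [hp, Preadditive.sub_comp, Category.assoc, wE, comp_zero, sub_zero, hθ]
    have hip : i ≫ p = b ≫ c := by
      rw [hp, Preadditive.comp_sub, ← hρ, ← hσ, Preadditive.add_comp, Category.assoc]
      abel
    subst hpd
    refine ⟨X, i, p, hip, ?_, ⟨w, hS₂⟩⟩
    have w2 : (a ≫ i) ≫ p = 0 := by rw [Category.assoc, hip, reassoc_of% wF, zero_comp]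
    refine ⟨w2, ?_⟩
    have hep : Epi p := by
      rw [epi_iff_surjective_up_to_refinements]
      intro T e
      obtain ⟨T₁, π₁, hπ₁, x₁, hx₁⟩ := surjective_up_to_refinements_of_epi (p ≫ d) (e ≫ d)
      have h0 : (π₁ ≫ e - x₁ ≫ p) ≫ d = 0 := by
        rw [Preadditive.sub_comp, Category.assoc, Category.assoc, hx₁, sub_self]
      obtain ⟨r, hr⟩ : ∃ r : T₁ ⟶ R, r ≫ c = π₁ ≫ e - x₁ ≫ p :=
        ⟨hE.exact.lift _ h0, hE.exact.lift_f _ _⟩
      obtain ⟨T₂, π₂, hπ₂, f, hf⟩ := surjective_up_to_refinements_of_epi b r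
      refine ⟨T₂, π₂ ≫ π₁, inferInstance, π₂ ≫ x₁ + f ≫ i, ?_⟩
      rw [Preadditive.add_comp, Category.assoc f, hip, ← reassoc_of% hf, hr,
        Preadditive.comp_sub, Category.assoc, Category.assoc]
      abel
    refine ShortComplex.ShortExact.mk' ?_ (mono_comp a i) hep
    rw [ShortComplex.exact_iff_exact_up_to_refinements]
    intro T x hx
    dsimp at x hx ⊢
    have hxq : x ≫ p ≫ d = 0 := by rw [reassoc_of% hx, zero_comp]
    obtain ⟨f, hf⟩ : ∃ f : T ⟶ F, f ≫ i = x := ⟨hS₂.exact.lift x hxq, hS₂.exact.lift_f _ _⟩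
    have hfb : f ≫ b = 0 := by
      rw [← cancel_mono c, Category.assoc, ← hip, reassoc_of% hf, hx, zero_comp]
    obtain ⟨t, ht⟩ : ∃ t : T ⟶ P, t ≫ a = f := ⟨hF.exact.lift f hfb, hF.exact.lift_f _ _⟩
    exact ⟨T, 𝟙 T, inferInstance, t, by rw [Category.id_comp, reassoc_of% ht, hf]⟩

end Groth.Agent.Lib.helper2.Blended
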