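import Mathlib

/-!
# Coproducts of distinguished triangles are distinguished (helper2)
-/

set_option autoImplicit false
set_option linter.unusedSectionVars false

namespace Groth.Agent.Lib.helper2.CoprodTriangle

open CategoryTheory CategoryTheory.Limits CategoryTheory.Pretriangulated

universe w v u

variable {D : Type u} [Category.{v} D] [Preadditive D] [HasZeroObject D] [HasShift D ℤ]
  [∀ n : ℤ, (shiftFunctor D n).Additive] [Pretriangulated D]

section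

variable {J : Type w} (T : J → Triangle D)
  [HasCoproduct (fun j => (T j).obj₁)] [HasCoproduct (fun j => (T j).obj₂)]
  [HasCoproduct (fun j => (T j).obj₃)]

/-- The coproduct of a family of triangles. -/
noncomputable def coproductTriangle : Triangle D :=
  Triangle.mk (Limits.Sigma.map (fun j => (T j).mor₁)) (Limits.Sigma.map (fun j => (T j).mor₂))
    (Sigma.desc (fun j => (T j).mor₃ ≫
      (shiftFunctor D (1 : ℤ)).map (Sigma.ι (fun j => (T j).obj₁) j)))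

/-- the shifted coproduct is a coproduct -/
noncomputable def isColimitShift (X : J → D) [HasCoproduct X] :
    IsColimit (Cofan.mk ((shiftFunctor D (1 : ℤ)).obj (∐ X))
      (fun j => (shiftFunctor D (1 : ℤ)).map (Sigma.ι X j))) :=
  isColimitCofanMkObjOfIsColimit (shiftFunctor D (1 : ℤ)) X _ (coproductIsCoproduct X)

lemma shift_hom_ext (X : J → D) [HasCoproduct X] {A : D}
    (f g : (shiftFunctor D (1 : ℤ)).obj (∐ X) ⟶ A)
    (h : ∀ j, (shiftFunctor D (1 : ℤ)).map (Sigma.ι X j) ≫ f =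
      (shiftFunctor D (1 : ℤ)).map (Sigma.ι X j) ≫ g) : f = g :=
  Cofan.IsColimit.hom_ext (isColimitShift X) _ _ h

lemma shift_exists_desc (X : J → D) [HasCoproduct X] {A : D}
    (b : ∀ j, (shiftFunctor D (1 : ℤ)).obj (X j) ⟶ A) :
    ∃ β : (shiftFunctor D (1 : ℤ)).obj (∐ X) ⟶ A,
      ∀ j, (shiftFunctor D (1 : ℤ)).map (Sigma.ι X j) ≫ β = b j :=
  ⟨Cofan.IsColimit.desc (isColimitShift X) b,
    fun j => Cofan.IsColimit.fac (isColimitShift X) b j⟩

/-- A coproduct of distinguished triangles is distinguished. -/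
theorem coproductTriangle_distinguished (hT : ∀ j, T j ∈ distTriang D) :
    coproductTriangle T ∈ distTriang D := by
  let X₁ : J → D := fun j => (T j).obj₁
  let X₂ : J → D := fun j => (T j).obj₂
  let X₃ : J → D := fun j => (T j).obj₃
  let f₁ : ∐ X₁ ⟶ ∐ X₂ := Limits.Sigma.map (fun j => (T j).mor₁)
  let f₂ : ∐ X₂ ⟶ ∐ X₃ := Limits.Sigma.map (fun j => (T j).mor₂)
  let f₃ : ∐ X₃ ⟶ (shiftFunctor D (1 : ℤ)).obj (∐ X₁) :=
    Sigma.desc (fun j => (T j).mor₃ ≫ (shiftFunctor D (1 : ℤ)).map (Sigma.ι X₁ j))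
  have hf₁ : ∀ j, Sigma.ι X₁ j ≫ f₁ = (T j).mor₁ ≫ Sigma.ι X₂ j := fun j => by
    simp [f₁, X₁, X₂]
  have hf₂ : ∀ j, Sigma.ι X₂ j ≫ f₂ = (T j).mor₂ ≫ Sigma.ι X₃ j := fun j => by
    simp [f₂, X₃, X₂]
  have hf₃ : ∀ j, Sigma.ι X₃ j ≫ f₃ =
      (T j).mor₃ ≫ (shiftFunctor D (1 : ℤ)).map (Sigma.ι X₁ j) := fun j => by
    simp [f₃, X₃]
  obtain ⟨Z, g₂, g₃, hT'⟩ := distinguished_cocone_triangle f₁
  have hφ : ∀ j, ∃ c : (T j).obj₃ ⟶ Z, (T j).mor₂ ≫ c = Sigma.ι X₂ j ≫ g₂ ∧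
      (T j).mor₃ ≫ (shiftFunctor D (1 : ℤ)).map (Sigma.ι X₁ j) = c ≫ g₃ := fun j =>
    complete_distinguished_triangle_morphism _ _ (hT j) hT' (Sigma.ι X₁ j) (Sigma.ι X₂ j)
      (hf₁ j).symm
  choose cj hcj₂ hcj₃ using hφ
  let c : ∐ X₃ ⟶ Z := Sigma.desc cj
  have hc : ∀ j, Sigma.ι X₃ j ≫ c = cj j := fun j => by simp [c]
  have comm₂ : f₂ ≫ c = g₂ := by
    apply Sigma.hom_ext
    intro j
    rw [← Category.assoc, hf₂, Category.assoc, hc, hcj₂]
  have comm₃ : f₃ = c ≫ g₃ := by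
    apply Sigma.hom_ext
    intro j
    rw [hf₃, ← Category.assoc, hc, hcj₃]
  suffices h : IsIso c by
    have := h
    let e : ∐ X₃ ≅ Z := asIso c
    refine isomorphic_distinguished _ hT' _
      (Triangle.isoMk _ _ (Iso.refl _) (Iso.refl _) e ?_ ?_ ?_)
    · change f₁ ≫ 𝟙 _ = 𝟙 _ ≫ f₁
      simp
    · change f₂ ≫ c = 𝟙 _ ≫ g₂
      simp [comm₂]
    · change f₃ ≫ (shiftFunctor D (1 : ℤ)).map (𝟙 _) = c ≫ g₃
      simp [comm₃]
  have hzero₁₂ : f₁ ≫ g₂ = 0 := comp_distTriang_mor_zero₁₂ _ hT'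
  have hzero₃₁ : g₃ ≫ (shiftFunctor D (1 : ℤ)).map f₁ = 0 := comp_distTriang_mor_zero₃₁ _ hT'
  refine isIso_of_coyoneda_map_bijective _ (fun A => ⟨?_, ?_⟩)
  · -- injectivity
    suffices h : ∀ a : Z ⟶ A, c ≫ a = 0 → a = 0 by
      intro a₁ a₂ ha
      have := h (a₁ - a₂) (by
        simp only [Preadditive.comp_sub]
        exact sub_eq_zero.mpr ha)
      exact sub_eq_zero.mp this
    intro a ha
    have h1 : g₂ ≫ a = 0 := by
      rw [← comm₂, Category.assoc, ha, comp_zero]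
    obtain ⟨b, hb⟩ := (Triangle.mk f₁ g₂ g₃).yoneda_exact₃ hT' a h1
    replace hb : a = g₃ ≫ b := hb
    have h2 : ∀ j, ∃ β : (shiftFunctor D (1 : ℤ)).obj (X₂ j) ⟶ A,
        (shiftFunctor D (1 : ℤ)).map (Sigma.ι X₁ j) ≫ b =
          (shiftFunctor D (1 : ℤ)).map (T j).mor₁ ≫ β := by
      intro j
      have h3 : (T j).mor₃ ≫ ((shiftFunctor D (1 : ℤ)).map (Sigma.ι X₁ j) ≫ b) = 0 := by
        rw [← Category.assoc, hcj₃, Category.assoc, ← hb, ← hc, Category.assoc, ha, comp_zero]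
      obtain ⟨β, hβ⟩ : ∃ β : (shiftFunctor D (1 : ℤ)).obj (X₂ j) ⟶ A,
          (shiftFunctor D (1 : ℤ)).map (Sigma.ι X₁ j) ≫ b =
            (-(shiftFunctor D (1 : ℤ)).map (T j).mor₁) ≫ β :=
        (T j).rotate.yoneda_exact₃ (rot_of_distTriang _ (hT j)) _ h3
      refine ⟨-β, ?_⟩
      rw [hβ, Preadditive.neg_comp, Preadditive.comp_neg]
    choose β hβ using h2
    obtain ⟨β', hβ'⟩ := shift_exists_desc X₂ β
    have hb2 : b = (shiftFunctor D (1 : ℤ)).map f₁ ≫ β' := by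
      apply shift_hom_ext
      intro j
      rw [hβ, ← Category.assoc, ← Functor.map_comp, hf₁, Functor.map_comp, Category.assoc, hβ']
    rw [hb, hb2, ← Category.assoc, hzero₃₁, zero_comp]
  · -- surjectivity
    intro a
    have h1 : f₁ ≫ f₂ ≫ a = 0 := by
      apply Sigma.hom_ext
      intro j
      rw [← Category.assoc, hf₁, Category.assoc, ← Category.assoc (Sigma.ι X₂ j), hf₂,
        Category.assoc, ← Category.assoc, comp_distTriang_mor_zero₁₂ _ (hT j), zero_comp,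
        comp_zero]
    obtain ⟨a', ha'⟩ : ∃ a' : Z ⟶ A, f₂ ≫ a = g₂ ≫ a' :=
      (Triangle.mk f₁ g₂ g₃).yoneda_exact₂ hT' (f₂ ≫ a) h1
    have h2 : ∀ j, ∃ b : (shiftFunctor D (1 : ℤ)).obj (X₁ j) ⟶ A,
        Sigma.ι X₃ j ≫ (a - c ≫ a') = (T j).mor₃ ≫ b := by
      intro j
      apply (T j).yoneda_exact₃ (hT j)
      rw [← Category.assoc, ← hf₂, Category.assoc, Preadditive.comp_sub, ha',
        ← Category.assoc f₂, comm₂, sub_self, comp_zero]
    choose b hb using h2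
    obtain ⟨b', hb'⟩ := shift_exists_desc X₁ b
    have h3 : a - c ≫ a' = f₃ ≫ b' := by
      apply Sigma.hom_ext
      intro j
      rw [hb, ← Category.assoc, hf₃, Category.assoc, hb']
    refine ⟨a' + g₃ ≫ b', ?_⟩
    change c ≫ (a' + g₃ ≫ b') = a
    rw [Preadditive.comp_add, ← Category.assoc, ← comm₃, ← h3]
    abel

end

end Groth.Agent.Lib.helper2.CoprodTriangle
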