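import Mathlib
import Groth.Agent.Lib.helper2.CoprodTriangle

/-!
# Brown representability (Krause's perfectly generated form) — helper2
-/

set_option autoImplicit false
set_option linter.unusedSectionVars false

namespace Groth.Agent.Lib.helper2.Brown

open CategoryTheory CategoryTheory.Limits CategoryTheory.Pretriangulated Opposite
open CategoryTheory.Pretriangulated.Opposite

universe w v u

variable {D : Type u} [Category.{v} D]

section PB

variable (H : Dᵒᵖ ⥤ AddCommGrpCat.{v})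

/-- pullback of elements along a morphism -/
def pb {Y Y' : D} (f : Y' ⟶ Y) : H.obj (op Y) →+ H.obj (op Y') := (H.map f.op).hom

lemma pb_id (Y : D) (x : H.obj (op Y)) : pb H (𝟙 Y) x = x := by
  simp [pb]

lemma pb_comp {Y Y' Y'' : D} (f : Y'' ⟶ Y') (g : Y' ⟶ Y) (x : H.obj (op Y)) :
    pb H (f ≫ g) x = pb H f (pb H g x) := by
  simp [pb]

variable [Preadditive D]

lemma pb_zero [H.PreservesZeroMorphisms] {Y Y' : D} (x : H.obj (op Y)) :
    pb H (0 : Y' ⟶ Y) x = 0 := by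
  simp [pb]

lemma pb_sub [H.Additive] {Y Y' : D} (f g : Y' ⟶ Y) (x : H.obj (op Y)) :
    pb H (f - g) x = pb H f x - pb H g x := by
  simp [pb, Functor.map_sub]

lemma pb_add [H.Additive] {Y Y' : D} (f g : Y' ⟶ Y) (x : H.obj (op Y)) :
    pb H (f + g) x = pb H f x + pb H g x := by
  simp [pb, Functor.map_add]

lemma pb_product {κ : Type w} (Y : κ → D) [HasCoproduct Y]
    [PreservesLimitsOfShape (Discrete κ) H] (y : ∀ k, H.obj (op (Y k))) :
    ∃! b : H.obj (op (∐ Y)), ∀ k, pb H (Sigma.ι Y k) b = y k := by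
  let c : Cofan Y := Cofan.mk (∐ Y) (Sigma.ι Y)
  have hc : IsColimit c := coproductIsCoproduct Y
  have h1 : IsLimit (H.mapCone c.op) := isLimitOfPreserves H (Cofan.IsColimit.op hc)
  have h2 := isLimitOfPreserves (forget AddCommGrpCat.{v}) h1
  have h3 := (Types.isLimit_iff _).mp ⟨h2⟩ (fun j => y j.as) (by
    rintro ⟨j⟩ ⟨j'⟩ ⟨⟨h⟩⟩
    cases h
    simp)
  obtain ⟨b, hb, hb'⟩ := h3
  refine ⟨b, fun k => hb ⟨k⟩, fun b' hb'' => hb' b' ?_⟩
  rintro ⟨k⟩
  exact hb'' k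

variable [HasZeroObject D] [HasShift D ℤ]
  [∀ n : ℤ, (shiftFunctor D n).Additive] [Pretriangulated D]

lemma pb_exact [H.IsHomological] (T : Triangle D) (hT : T ∈ distTriang D)
    (x : H.obj (op T.obj₂)) (hx : pb H T.mor₁ x = 0) :
    ∃ y : H.obj (op T.obj₃), pb H T.mor₂ y = x := by
  have h := H.map_distinguished_op_exact T hT
  rw [ShortComplex.ab_exact_iff] at h
  exact h x hx

end PB


section Seq

variable [Preadditive D]

/-- The shift map of a sequence. -/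
noncomputable def shiftMap (X : ℕ → D) (φ : ∀ n, X n ⟶ X (n + 1)) [HasCoproduct X] :
    ∐ X ⟶ ∐ X :=
  Sigma.desc (fun n => φ n ≫ Sigma.ι X (n + 1))

@[reassoc (attr := simp)]
lemma ι_shiftMap (X : ℕ → D) (φ : ∀ n, X n ⟶ X (n + 1)) [HasCoproduct X] (n : ℕ) :
    Sigma.ι X n ≫ shiftMap X φ = φ n ≫ Sigma.ι X (n + 1) := by
  simp [shiftMap]

/-- iterated transition map from `X 0`. -/
def iter (X : ℕ → D) (φ : ∀ n, X n ⟶ X (n + 1)) : ∀ n, X 0 ⟶ X n
  | 0 => 𝟙 _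
  | n + 1 => iter X φ n ≫ φ n

/-- iterated transition map from `X 1`. -/
def iter' (X : ℕ → D) (φ : ∀ n, X n ⟶ X (n + 1)) : ∀ n, X 1 ⟶ X (n + 1)
  | 0 => 𝟙 _
  | n + 1 => iter' X φ n ≫ φ (n + 1)

lemma iter_succ' (X : ℕ → D) (φ : ∀ n, X n ⟶ X (n + 1)) (n : ℕ) :
    iter X φ (n + 1) = φ 0 ≫ iter' X φ n := by
  induction n with
  | zero => simp [iter, iter']
  | succ n ih =>
    change iter X φ (n + 1) ≫ φ (n + 1) = φ 0 ≫ iter' X φ n ≫ φ (n + 1)
    rw [ih, Category.assoc]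

/-- the constant sequence -/
abbrev cst (Z : D) : ℕ → D := fun _ => Z

/-- pure shift on a constant coproduct -/
noncomputable def pshift (Z : D) [HasCoproduct (cst Z)] : ∐ (cst Z) ⟶ ∐ (cst Z) :=
  shiftMap (cst Z) (fun _ => 𝟙 Z)

@[reassoc (attr := simp)]
lemma ι_pshift (Z : D) [HasCoproduct (cst Z)] (n : ℕ) :
    Sigma.ι (cst Z) n ≫ pshift Z = Sigma.ι (cst Z) (n + 1) := by
  simp [pshift]

/-- retraction of the pure shift -/
noncomputable def pshiftRetr (Z : D) [HasCoproduct (cst Z)] : ∐ (cst Z) ⟶ ∐ (cst Z) :=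
  Sigma.desc (fun n => match n with
    | 0 => 0
    | n + 1 => Sigma.ι (cst Z) n)

lemma pshift_pshiftRetr (Z : D) [HasCoproduct (cst Z)] : pshift Z ≫ pshiftRetr Z = 𝟙 _ := by
  apply Sigma.hom_ext
  intro n
  simp [pshiftRetr]

/-- retraction of `1 - pshift` -/
noncomputable def oneSubRetr (Z : D) [HasCoproduct (cst Z)] : ∐ (cst Z) ⟶ ∐ (cst Z) :=
  Sigma.desc (fun n => - ∑ k ∈ Finset.range n, Sigma.ι (cst Z) k)

lemma oneSub_oneSubRetr (Z : D) [HasCoproduct (cst Z)] :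
    (𝟙 _ - pshift Z) ≫ oneSubRetr Z = 𝟙 _ := by
  apply Sigma.hom_ext
  intro n
  simp only [Preadditive.sub_comp, Preadditive.comp_sub, Category.id_comp, Category.comp_id,
    ι_pshift_assoc]
  simp only [oneSubRetr, colimit.ι_desc, Cofan.mk_pt, Cofan.mk_ι_app]
  rw [Finset.sum_range_succ]
  abel

lemma eq_zero_of_comp_pshift_oneSub (Z : D) [HasCoproduct (cst Z)] {Q : D} (x : Q ⟶ ∐ (cst Z))
    (h : x ≫ pshift Z ≫ (𝟙 _ - pshift Z) = 0) : x = 0 := by
  have h1 : x ≫ pshift Z ≫ (𝟙 _ - pshift Z) ≫ oneSubRetr Z ≫ pshiftRetr Z = 0 := by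
    rw [← Category.assoc, ← Category.assoc, Category.assoc x, h, zero_comp]
  rw [reassoc_of% (oneSub_oneSubRetr Z), pshift_pshiftRetr, Category.comp_id] at h1
  exact h1

variable (X : ℕ → D) (φ : ∀ n, X n ⟶ X (n + 1)) [HasCoproductsOfShape ℕ D]

/-- the map `∐ (cst (X 0)) ⟶ ∐ X` given by the iterated transition maps -/
noncomputable def bigPhi : ∐ (cst (X 0)) ⟶ ∐ X :=
  Limits.Sigma.map (fun n => iter X φ n)

@[reassoc (attr := simp)]
lemma ι_bigPhi (n : ℕ) : Sigma.ι (cst (X 0)) n ≫ bigPhi X φ = iter X φ n ≫ Sigma.ι X n := by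
  simp [bigPhi]

@[reassoc]
lemma bigPhi_shiftMap : bigPhi X φ ≫ shiftMap X φ = pshift (X 0) ≫ bigPhi X φ := by
  apply Sigma.hom_ext
  intro n
  simp [iter]

/-- `∐ (cst (X 0)) ⟶ ∐ (cst (X 1))` -/
noncomputable def bigPhi₁ : ∐ (cst (X 0)) ⟶ ∐ (cst (X 1)) :=
  Limits.Sigma.map (fun _ => φ 0)

@[reassoc]
lemma pshift_bigPhi₁ : pshift (X 0) ≫ bigPhi₁ X φ = bigPhi₁ X φ ≫ pshift (X 1) := by
  apply Sigma.hom_ext
  intro n
  simp [bigPhi₁]

/-- `∐ (cst (X 1)) ⟶ ∐ X` -/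
noncomputable def bigXi : ∐ (cst (X 1)) ⟶ ∐ X :=
  Sigma.desc (fun n => iter' X φ n ≫ Sigma.ι X (n + 1))

@[reassoc]
lemma pshift_bigPhi : pshift (X 0) ≫ bigPhi X φ = bigPhi₁ X φ ≫ bigXi X φ := by
  apply Sigma.hom_ext
  intro n
  simp [bigPhi₁, bigXi, iter_succ']

section Cocone

variable {X φ} {C : D} (c : ∀ n, X n ⟶ C) (hc : ∀ n, φ n ≫ c (n + 1) = c n)
include hc

lemma shiftMap_desc : shiftMap X φ ≫ Sigma.desc c = Sigma.desc c := by
  apply Sigma.hom_ext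
  intro n
  simp [hc]

lemma iter_cocone (n : ℕ) : iter X φ n ≫ c n = c 0 := by
  induction n with
  | zero => simp [iter]
  | succ n ih => simp [iter, hc, ih]

lemma bigPhi_desc : bigPhi X φ ≫ Sigma.desc c = Sigma.desc (fun _ => 𝟙 (X 0)) ≫ c 0 := by
  apply Sigma.hom_ext
  intro n
  simp [iter_cocone c hc]

end Cocone

end Seq


section Perfect

variable [Preadditive D] [HasCoproductsOfShape ℕ D]

/-- Condition (2): maps from objects of `P` into countable coproducts factor through coproducts of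
maps from objects of `P`. -/
def Perfect (P : D → Prop) : Prop :=
  ∀ Q, P Q → ∀ (Y : ℕ → D) (α : Q ⟶ ∐ Y), ∃ (R : ℕ → D) (_ : ∀ n, P (R n))
    (β : ∀ n, R n ⟶ Y n) (γ : Q ⟶ ∐ R), α = γ ≫ Limits.Sigma.map β

/-- the hypotheses on a tower -/
structure TowerHyp (P : D → Prop) (X : ℕ → D) (φ : ∀ n, X n ⟶ X (n + 1)) : Prop where
  hT : ∀ Q, P Q → ∀ n (β : Q ⟶ X n), ∃ f : Q ⟶ X 0, (β - f ≫ iter X φ n) ≫ φ n = 0
  hK : ∀ Q, P Q → ∀ n (f : Q ⟶ X 0), f ≫ iter X φ n = 0 → f ≫ φ 0 = 0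

variable {P : D → Prop} (hP : Perfect P) {X : ℕ → D} {φ : ∀ n, X n ⟶ X (n + 1)}
  (hX : TowerHyp P X φ)
include hP hX

/-- Lemma D (decomposition). -/
lemma exists_decomp {Q : D} (hQ : P Q) (g : Q ⟶ ∐ X) :
    ∃ ψ : Q ⟶ ∐ (cst (X 0)), (g - ψ ≫ bigPhi X φ) ≫ shiftMap X φ = 0 := by
  obtain ⟨R, hR, β, γ, rfl⟩ := hP Q hQ X g
  have h := fun n => hX.hT (R n) (hR n) n (β n)
  choose f hf using h
  refine ⟨γ ≫ Limits.Sigma.map (g := cst (X 0)) f, ?_⟩
  rw [Category.assoc, ← Preadditive.comp_sub, Category.assoc]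
  convert comp_zero
  apply Sigma.hom_ext
  intro n
  rw [comp_zero, Preadditive.sub_comp, Preadditive.comp_sub]
  simp only [Sigma.ι_map_assoc, ι_shiftMap, Category.assoc, ι_bigPhi_assoc]
  have := hf n
  rw [Preadditive.sub_comp, Category.assoc] at this
  rw [← Category.assoc (β n), ← Category.assoc (f n), ← Category.assoc (f n ≫ iter X φ n),
    Category.assoc (f n), ← Preadditive.sub_comp, this, zero_comp]

/-- Lemma B. -/
lemma exists_factor_zero {Q : D} (hQ : P Q) (g : Q ⟶ ∐ X) {C : D} (c : ∀ n, X n ⟶ C)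
    (hc : ∀ n, φ n ≫ c (n + 1) = c n) :
    ∃ f₀ : Q ⟶ X 0, g ≫ Sigma.desc c = f₀ ≫ c 0 := by
  obtain ⟨ψ, hψ⟩ := exists_decomp hP hX hQ g
  refine ⟨ψ ≫ Sigma.desc (fun _ => 𝟙 (X 0)), ?_⟩
  have h1 : (g - ψ ≫ bigPhi X φ) ≫ Sigma.desc c = 0 := by
    rw [← shiftMap_desc c hc, ← Category.assoc, hψ, zero_comp]
  rw [Preadditive.sub_comp, sub_eq_zero] at h1
  rw [h1, Category.assoc, bigPhi_desc c hc, Category.assoc]

end Perfect


section LemmaM

variable [Preadditive D] [HasCoproductsOfShape ℕ D] [HasZeroObject D] [HasShift D ℤ]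
  [∀ n : ℤ, (shiftFunctor D n).Additive] [Pretriangulated D]

variable {P : D → Prop} (hP : Perfect P)
include hP

/-- Lemma M: "coproducts of monomorphisms are monomorphisms" in the functor category. -/
lemma comp_sigmaMap_eq_zero {Y Z W : ℕ → D} (u : ∀ n, Y n ⟶ Z n) (v : ∀ n, Y n ⟶ W n)
    (huv : ∀ Q, P Q → ∀ n (f : Q ⟶ Y n), f ≫ u n = 0 → f ≫ v n = 0)
    {Q : D} (hQ : P Q) (θ : Q ⟶ ∐ Y) (hθ : θ ≫ Limits.Sigma.map u = 0) :
    θ ≫ Limits.Sigma.map v = 0 := by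
  have h := fun n => distinguished_cocone_triangle₁ (u n)
  choose C c d hT using h
  let T : ℕ → Triangle D := fun n => Triangle.mk (c n) (u n) (d n)
  have hT' := CoprodTriangle.coproductTriangle_distinguished T hT
  obtain ⟨θ', hθ'⟩ : ∃ θ' : Q ⟶ ∐ C, θ = θ' ≫ Limits.Sigma.map c :=
    Triangle.coyoneda_exact₂ _ hT' θ hθ
  obtain ⟨R, hR, β, γ, rfl⟩ := hP Q hQ C θ'
  rw [hθ', Category.assoc, Category.assoc, Limits.Sigma.map_comp_map, Limits.Sigma.map_comp_map]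
  convert comp_zero
  apply Sigma.hom_ext
  intro n
  rw [comp_zero, Sigma.ι_map]
  have h1 : (β n ≫ c n) ≫ u n = 0 := by
    rw [Category.assoc]
    have : c n ≫ u n = 0 := comp_distTriang_mor_zero₁₂ _ (hT n)
    rw [this, comp_zero]
  rw [← Category.assoc (β n), huv (R n) (hR n) n _ h1, zero_comp]

variable {X : ℕ → D} {φ : ∀ n, X n ⟶ X (n + 1)} (hX : TowerHyp P X φ)
include hX

/-- Lemma A. -/
lemma eq_zero_of_comp_shiftMap_eq {Q : D} (hQ : P Q) (g : Q ⟶ ∐ X)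
    (hg : g ≫ shiftMap X φ = g) : g = 0 := by
  obtain ⟨ψ, hψ⟩ := exists_decomp hP hX hQ g
  rw [Preadditive.sub_comp, sub_eq_zero, hg, Category.assoc, bigPhi_shiftMap] at hψ
  -- hψ : g = ψ ≫ pshift ≫ bigPhi
  have h1 : (ψ ≫ pshift (X 0) ≫ (𝟙 _ - pshift (X 0))) ≫ bigPhi X φ = 0 := by
    have h2 := hg
    rw [hψ] at h2
    simp only [Category.assoc, bigPhi_shiftMap] at h2
    simp only [Preadditive.comp_sub, Preadditive.sub_comp, Category.comp_id, Category.assoc]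
    rw [sub_eq_zero]
    exact h2.symm
  have h3 := comp_sigmaMap_eq_zero hP (Y := cst (X 0)) (Z := X) (W := cst (X 1))
    (fun n => iter X φ n) (fun _ => φ 0) (fun Q hQ n f hf => hX.hK Q hQ n f hf) hQ _ h1
  change (ψ ≫ pshift (X 0) ≫ (𝟙 _ - pshift (X 0))) ≫ bigPhi₁ X φ = 0 at h3
  have h4 : (ψ ≫ bigPhi₁ X φ) ≫ pshift (X 1) ≫ (𝟙 _ - pshift (X 1)) = 0 := by
    rw [← h3]
    simp only [Preadditive.comp_sub, Preadditive.sub_comp, Category.comp_id, Category.assoc,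
      pshift_bigPhi₁, pshift_bigPhi₁_assoc]
  have h5 := eq_zero_of_comp_pshift_oneSub _ _ h4
  rw [hψ, pshift_bigPhi, ← Category.assoc, h5, zero_comp]

end LemmaM


section Construction

variable [Preadditive D] [HasZeroObject D] [HasShift D ℤ]
  [∀ n : ℤ, (shiftFunctor D n).Additive] [Pretriangulated D]
  [HasCoproducts.{v} D] [HasCoproductsOfShape ℕ D]
variable (H : Dᵒᵖ ⥤ AddCommGrpCat.{v}) [H.IsHomological]
  [∀ κ : Type v, PreservesLimitsOfShape (Discrete κ) H]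
variable {ι' : Type v} (E' : ι' → D)

lemma preservesNat : PreservesLimitsOfShape (Discrete ℕ) H :=
  preservesLimitsOfShape_of_equiv
    (Discrete.equivalence Equiv.ulift : Discrete (ULift.{v} ℕ) ≌ Discrete ℕ) H

/-- the iso-closure of the family -/
def PE (Q : D) : Prop := ∃ j, Nonempty (Q ≅ E' j)

lemma exists_step (X : D) (a : H.obj (op X)) :
    ∃ (X' : D) (φ : X ⟶ X') (a' : H.obj (op X')), pb H φ a' = a ∧
      (∀ j (f : E' j ⟶ X), pb H f a = 0 → f ≫ φ = 0) ∧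
      ∃ (κ : Type v) (idx : κ → ι') (y : (∐ fun k => E' (idx k)) ⟶ X)
        (z : X' ⟶ (shiftFunctor D (1 : ℤ)).obj (∐ fun k => E' (idx k))),
        Triangle.mk y φ z ∈ distTriang D := by
  let I := Σ j, {f : E' j ⟶ X // pb H f a = 0}
  let Fam : I → D := fun p => E' p.1
  let k : ∐ Fam ⟶ X := Sigma.desc (fun p => p.2.1)
  obtain ⟨X', φ, δ, hT⟩ := distinguished_cocone_triangle k
  have hk : pb H k a = 0 := by
    obtain ⟨b, _, hb⟩ := pb_product H Fam (fun _ => 0)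
    rw [hb (pb H k a) (fun p => by
      rw [← pb_comp]
      simp only [k, colimit.ι_desc, Cofan.mk_pt, Cofan.mk_ι_app]
      exact p.2.2), hb 0 (fun p => by simp)]
  obtain ⟨a', ha'⟩ := pb_exact H _ hT a hk
  refine ⟨X', φ, a', ha', fun j f hf => ?_, I, fun p => p.1, k, δ, hT⟩
  have h1 : f = Sigma.ι Fam ⟨j, f, hf⟩ ≫ k := by simp [k, Fam]
  have h2 : k ≫ φ = 0 := comp_distTriang_mor_zero₁₂ _ hT
  rw [h1, Category.assoc, h2, comp_zero]

/-- a state of the tower -/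
structure TowerState where
  X : D
  a : H.obj (op X)

variable {H}

/-- the next state -/
noncomputable def next (s : TowerState H) : TowerState H :=
  ⟨(exists_step H E' s.X s.a).choose, (exists_step H E' s.X s.a).choose_spec.choose_spec.choose⟩

/-- the transition map -/
noncomputable def nextMap (s : TowerState H) : s.X ⟶ (next E' s).X :=
  (exists_step H E' s.X s.a).choose_spec.choose

lemma next_pb (s : TowerState H) : pb H (nextMap E' s) (next E' s).a = s.a :=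
  (exists_step H E' s.X s.a).choose_spec.choose_spec.choose_spec.1

lemma next_kill (s : TowerState H) (j : ι') (f : E' j ⟶ s.X) (hf : pb H f s.a = 0) :
    f ≫ nextMap E' s = 0 :=
  (exists_step H E' s.X s.a).choose_spec.choose_spec.choose_spec.2.1 j f hf

lemma next_tri (s : TowerState H) :
    ∃ (κ : Type v) (idx : κ → ι') (y : (∐ fun k => E' (idx k)) ⟶ s.X)
      (z : (next E' s).X ⟶ (shiftFunctor D (1 : ℤ)).obj (∐ fun k => E' (idx k))),
      Triangle.mk y (nextMap E' s) z ∈ distTriang D :=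
  (exists_step H E' s.X s.a).choose_spec.choose_spec.choose_spec.2.2

/-- the tower -/
noncomputable def tower (s₀ : TowerState H) : ℕ → TowerState H := fun n =>
  Nat.rec (motive := fun _ => TowerState H) s₀ (fun _ s => next E' s) n

/-- the objects of the tower -/
noncomputable def tX (s₀ : TowerState H) (n : ℕ) : D := (tower E' s₀ n).X

/-- the elements of the tower -/
noncomputable def ta (s₀ : TowerState H) (n : ℕ) : H.obj (op (tX E' s₀ n)) := (tower E' s₀ n).a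

/-- the maps of the tower -/
noncomputable def tφ (s₀ : TowerState H) (n : ℕ) : tX E' s₀ n ⟶ tX E' s₀ (n + 1) :=
  nextMap E' (tower E' s₀ n)

lemma tφ_tri (s₀ : TowerState H) (n : ℕ) :
    ∃ (κ : Type v) (idx : κ → ι') (y : (∐ fun k => E' (idx k)) ⟶ tX E' s₀ n)
      (z : tX E' s₀ (n + 1) ⟶ (shiftFunctor D (1 : ℤ)).obj (∐ fun k => E' (idx k))),
      Triangle.mk y (tφ E' s₀ n) z ∈ distTriang D :=
  next_tri E' (tower E' s₀ n)

lemma tφ_pb (s₀ : TowerState H) (n : ℕ) : pb H (tφ E' s₀ n) (ta E' s₀ (n + 1)) = ta E' s₀ n :=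
  next_pb E' (tower E' s₀ n)

lemma iter_pb (s₀ : TowerState H) (n : ℕ) :
    pb H (iter (tX E' s₀) (tφ E' s₀) n) (ta E' s₀ n) = ta E' s₀ 0 := by
  induction n with
  | zero => simp [iter, pb_id]
  | succ n ih =>
    change pb H (iter (tX E' s₀) (tφ E' s₀) n ≫ tφ E' s₀ n) _ = _
    rw [pb_comp, tφ_pb, ih]

lemma tower_kill (s₀ : TowerState H) (n : ℕ) {Q : D} (hQ : PE E' Q) (f : Q ⟶ tX E' s₀ n)
    (hf : pb H f (ta E' s₀ n) = 0) : f ≫ tφ E' s₀ n = 0 := by
  obtain ⟨j, ⟨e⟩⟩ := hQ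
  have h1 : (e.inv ≫ f) ≫ tφ E' s₀ n = 0 :=
    next_kill E' (tower E' s₀ n) j (e.inv ≫ f) (by
      change pb H (e.inv ≫ f) (ta E' s₀ n) = 0
      rw [pb_comp, hf, map_zero])
  rw [Category.assoc] at h1
  rw [← cancel_epi e.inv, h1, comp_zero]

lemma towerHyp (s₀ : TowerState H)
    (hS : ∀ j (b : H.obj (op (E' j))), ∃ f : E' j ⟶ s₀.X, pb H f s₀.a = b) :
    TowerHyp (PE E') (tX E' s₀) (tφ E' s₀) := by
  have hS' : ∀ Q, PE E' Q → ∀ b : H.obj (op Q), ∃ f : Q ⟶ tX E' s₀ 0,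
      pb H f (ta E' s₀ 0) = b := by
    rintro Q ⟨j, ⟨e⟩⟩ b
    obtain ⟨f, hf⟩ := hS j (pb H e.inv b)
    refine ⟨e.hom ≫ f, ?_⟩
    change pb H (e.hom ≫ f) s₀.a = b
    rw [pb_comp, hf, ← pb_comp, e.hom_inv_id, pb_id]
  constructor
  · intro Q hQ n β
    obtain ⟨f, hf⟩ := hS' Q hQ (pb H β (ta E' s₀ n))
    refine ⟨f, tower_kill E' s₀ n hQ _ ?_⟩
    rw [pb_sub, pb_comp, iter_pb, hf, sub_self]
  · intro Q hQ n f hf
    refine tower_kill E' s₀ 0 hQ f ?_
    rw [← iter_pb E' s₀ n, ← pb_comp, hf, pb_zero]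

end Construction


section ShiftTransfer

variable [Preadditive D] [HasZeroObject D] [HasShift D ℤ]
  [∀ n : ℤ, (shiftFunctor D n).Additive] [Pretriangulated D]

/-- Lemma S. -/
lemma eq_zero_of_shift {Q Y Y' : D} (p : Y ⟶ Y') (g : Q ⟶ (shiftFunctor D (1 : ℤ)).obj Y)
    (hg : g ≫ (shiftFunctor D (1 : ℤ)).map p = 0)
    (h : ∀ g' : (shiftFunctor D (-1 : ℤ)).obj Q ⟶ Y, g' ≫ p = 0 → g' = 0) : g = 0 := by
  let e : (shiftFunctor D (1 : ℤ)).obj ((shiftFunctor D (-1 : ℤ)).obj Q) ≅ Q :=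
    (shiftFunctorCompIsoId D (-1 : ℤ) 1 (by norm_num)).app Q
  obtain ⟨g', hg'⟩ := (shiftFunctor D (1 : ℤ)).map_surjective (e.hom ≫ g)
  have h1 : g' ≫ p = 0 := by
    apply (shiftFunctor D (1 : ℤ)).map_injective
    rw [Functor.map_comp, hg', Category.assoc, hg, comp_zero, Functor.map_zero]
  have h2 := h g' h1
  rw [h2, Functor.map_zero] at hg'
  rw [← cancel_epi e.hom, ← hg', comp_zero]

end ShiftTransfer

section Step1

variable [Preadditive D] [HasZeroObject D] [HasShift D ℤ]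
  [∀ n : ℤ, (shiftFunctor D n).Additive] [Pretriangulated D]
  [HasCoproducts.{v} D] [HasCoproductsOfShape ℕ D]
variable (H : Dᵒᵖ ⥤ AddCommGrpCat.{v}) [H.IsHomological]
  [∀ κ : Type v, PreservesLimitsOfShape (Discrete κ) H]
variable {ι' : Type v} (E' : ι' → D)

/-- Step 1 (explicit form): from a starting object which surjects onto `H` on the generators,
the homotopy colimit of the tower represents `H` on the generators. -/
theorem step1_explicit (hP : Perfect (PE E'))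
    (hshift : ∀ Q, PE E' Q → PE E' ((shiftFunctor D (-1 : ℤ)).obj Q))
    (X₀ : D) (a₀ : H.obj (op X₀))
    (hS : ∀ j (b : H.obj (op (E' j))), ∃ f : E' j ⟶ X₀, pb H f a₀ = b) :
    ∃ (Xinf : D) (π : ∐ (tX E' ⟨X₀, a₀⟩) ⟶ Xinf)
      (δ : Xinf ⟶ (shiftFunctor D (1 : ℤ)).obj (∐ (tX E' ⟨X₀, a₀⟩)))
      (ainf : H.obj (op Xinf)),
      Triangle.mk (𝟙 (∐ (tX E' ⟨X₀, a₀⟩)) - shiftMap (tX E' ⟨X₀, a₀⟩) (tφ E' ⟨X₀, a₀⟩)) π δ ∈
        distTriang D ∧
      (∀ n, pb H (Sigma.ι (tX E' ⟨X₀, a₀⟩) n ≫ π) ainf = ta E' ⟨X₀, a₀⟩ n) ∧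
      ∀ Q, PE E' Q → Function.Bijective (fun f : Q ⟶ Xinf => pb H f ainf) := by
  let s₀ : TowerState H := ⟨X₀, a₀⟩
  have hX := towerHyp E' s₀ hS
  let X := tX E' s₀
  let φ := tφ E' s₀
  let a := ta E' s₀
  obtain ⟨Xinf, π, δ, hT⟩ := distinguished_cocone_triangle (𝟙 (∐ X) - shiftMap X φ)
  have hπ : (𝟙 (∐ X) - shiftMap X φ) ≫ π = 0 := comp_distTriang_mor_zero₁₂ _ hT
  let c : ∀ n, X n ⟶ Xinf := fun n => Sigma.ι X n ≫ π
  have hc : ∀ n, φ n ≫ c (n + 1) = c n := by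
    intro n
    have := Sigma.ι X n ≫= hπ
    rw [comp_zero, Preadditive.sub_comp, Preadditive.comp_sub, Category.id_comp,
      ι_shiftMap_assoc, sub_eq_zero] at this
    exact this.symm
  have hπc : π = Sigma.desc c := by
    apply Sigma.hom_ext
    intro n
    simp [c]
  have := preservesNat H
  obtain ⟨α, hα, hα'⟩ := pb_product H X a
  have hα0 : pb H (𝟙 (∐ X) - shiftMap X φ) α = 0 := by
    obtain ⟨b, _, hb⟩ := pb_product H X (fun _ => 0)
    rw [hb (pb H (𝟙 (∐ X) - shiftMap X φ) α) (fun n => by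
      rw [← pb_comp, Preadditive.comp_sub, Category.comp_id, ι_shiftMap, pb_sub, pb_comp,
        hα, hα, sub_eq_zero]
      exact (tφ_pb E' s₀ n).symm), hb 0 (fun n => by simp)]
  obtain ⟨ainf, hainf⟩ := pb_exact H _ hT α hα0
  replace hainf : pb H π ainf = α := hainf
  have hca : ∀ n, pb H (c n) ainf = a n := by
    intro n
    rw [pb_comp, hainf, hα]
  refine ⟨Xinf, π, δ, ainf, hT, hca, fun Q hQ => ?_⟩
  have hS' : ∀ b : H.obj (op Q), ∃ f : Q ⟶ X 0, pb H f (a 0) = b := by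
    obtain ⟨j, ⟨e⟩⟩ := hQ
    intro b
    obtain ⟨f, hf⟩ := hS j (pb H e.inv b)
    refine ⟨e.hom ≫ f, ?_⟩
    change pb H (e.hom ≫ f) a₀ = b
    rw [pb_comp, hf, ← pb_comp, e.hom_inv_id, pb_id]
  constructor
  · -- injectivity
    suffices h : ∀ f : Q ⟶ Xinf, pb H f ainf = 0 → f = 0 by
      intro f₁ f₂ hf
      have := h (f₁ - f₂) (by
        rw [pb_sub]
        exact sub_eq_zero.mpr hf)
      exact sub_eq_zero.mp this
    intro f hf
    have h1 : f ≫ δ = 0 := by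
      apply eq_zero_of_shift (𝟙 (∐ X) - shiftMap X φ) (f ≫ δ)
      · rw [Category.assoc]
        have : δ ≫ (shiftFunctor D (1 : ℤ)).map (𝟙 (∐ X) - shiftMap X φ) = 0 :=
          comp_distTriang_mor_zero₃₁ _ hT
        rw [this, comp_zero]
      · intro g' hg'
        apply eq_zero_of_comp_shiftMap_eq hP hX (hshift Q hQ) g'
        rw [Preadditive.comp_sub, Category.comp_id, sub_eq_zero] at hg'
        exact hg'.symm
    obtain ⟨g, hg⟩ : ∃ g : Q ⟶ ∐ X, f = g ≫ π := Triangle.coyoneda_exact₃ _ hT f h1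
    obtain ⟨f₀, hf₀⟩ := exists_factor_zero hP hX hQ g c hc
    rw [← hπc] at hf₀
    have h2 : pb H f₀ (a 0) = 0 := by
      rw [← hca 0, ← pb_comp, ← hf₀, ← hg, hf]
    have h3 : f₀ ≫ φ 0 = 0 := tower_kill E' s₀ 0 hQ f₀ h2
    rw [hg, hf₀, ← hc 0, ← Category.assoc, h3, zero_comp]
  · -- surjectivity
    intro b
    obtain ⟨f, hf⟩ := hS' b
    refine ⟨f ≫ c 0, ?_⟩
    change pb H (f ≫ c 0) ainf = b
    rw [pb_comp, hca, hf]

/-- Step 1: from a starting object which surjects onto `H` on the generators, construct an object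
representing `H` on the generators. -/
theorem step1 (hP : Perfect (PE E'))
    (hshift : ∀ Q, PE E' Q → PE E' ((shiftFunctor D (-1 : ℤ)).obj Q))
    (X₀ : D) (a₀ : H.obj (op X₀))
    (hS : ∀ j (b : H.obj (op (E' j))), ∃ f : E' j ⟶ X₀, pb H f a₀ = b) :
    ∃ (X : D) (a : H.obj (op X)) (i₀ : X₀ ⟶ X), pb H i₀ a = a₀ ∧
      ∀ Q, PE E' Q → Function.Bijective (fun f : Q ⟶ X => pb H f a) := by
  obtain ⟨Xinf, π, δ, ainf, -, hca, hbij⟩ := step1_explicit H E' hP hshift X₀ a₀ hS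
  exact ⟨Xinf, ainf, Sigma.ι (tX E' ⟨X₀, a₀⟩) 0 ≫ π, hca 0, hbij⟩

end Step1


section Final

variable [Preadditive D] [HasZeroObject D] [HasShift D ℤ]
  [∀ n : ℤ, (shiftFunctor D n).Additive] [Pretriangulated D]

/-- Lemma C (conservativity). -/
lemma isIso_of_bijective {P : D → Prop}
    (hgen : ∀ X : D, (∀ Q, P Q → ∀ f : Q ⟶ X, f = 0) → IsZero X)
    (hshift : ∀ Q, P Q → P ((shiftFunctor D (-1 : ℤ)).obj Q))
    {X X' : D} (u : X ⟶ X')
    (hu : ∀ Q, P Q → Function.Bijective (fun f : Q ⟶ X => f ≫ u)) : IsIso u := by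
  obtain ⟨C, v, w, hT⟩ := distinguished_cocone_triangle u
  have hC : IsZero C := hgen C (fun Q hQ f => by
    have h1 : f ≫ w = 0 := eq_zero_of_shift u (f ≫ w) (by
      rw [Category.assoc]
      have : w ≫ (shiftFunctor D (1 : ℤ)).map u = 0 := comp_distTriang_mor_zero₃₁ _ hT
      rw [this, comp_zero]) (fun g' hg' => (hu _ (hshift Q hQ)).1 (by simpa using hg'))
    obtain ⟨f', hf'⟩ : ∃ f' : Q ⟶ X', f = f' ≫ v := Triangle.coyoneda_exact₃ _ hT f h1
    obtain ⟨f'', hf''⟩ := (hu Q hQ).2 f'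
    have : u ≫ v = 0 := comp_distTriang_mor_zero₁₂ _ hT
    rw [hf', ← hf'', Category.assoc, this, comp_zero])
  exact (Triangle.isZero₃_iff_isIso₁ _ hT).mp hC

variable [HasCoproducts.{v} D] [HasCoproductsOfShape ℕ D]
variable (H : Dᵒᵖ ⥤ AddCommGrpCat.{v}) [H.IsHomological]
  [∀ κ : Type v, PreservesLimitsOfShape (Discrete κ) H]
variable {ι' : Type v} (E' : ι' → D)

/-- Lemma R. -/
lemma exists_rep_on_generators (hP : Perfect (PE E'))
    (hshift : ∀ Q, PE E' Q → PE E' ((shiftFunctor D (-1 : ℤ)).obj Q))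
    {κ : Type v} (Y : κ → D) (y : ∀ k, H.obj (op (Y k))) :
    ∃ (X : D) (a : H.obj (op X)) (j : ∀ k, Y k ⟶ X), (∀ k, pb H (j k) a = y k) ∧
      ∀ Q, PE E' Q → Function.Bijective (fun f : Q ⟶ X => pb H f a) := by
  let I := κ ⊕ (Σ j, H.obj (op (E' j)))
  let Fam : I → D := Sum.elim Y (fun p => E' p.1)
  let yy : ∀ i, H.obj (op (Fam i)) := fun i => match i with
    | .inl k => y k
    | .inr p => p.2
  obtain ⟨a₀, ha₀, -⟩ := pb_product H Fam yy
  obtain ⟨X, a, i₀, hi₀, hX⟩ := step1 H E' hP hshift (∐ Fam) a₀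
    (fun j b => ⟨Sigma.ι Fam (.inr ⟨j, b⟩), ha₀ (.inr ⟨j, b⟩)⟩)
  refine ⟨X, a, fun k => Sigma.ι Fam (.inl k) ≫ i₀, fun k => ?_, hX⟩
  rw [pb_comp, hi₀]
  exact ha₀ (.inl k)

/-- Brown representability, in element form. -/
theorem brown_elements (hP : Perfect (PE E'))
    (hshift : ∀ Q, PE E' Q → PE E' ((shiftFunctor D (-1 : ℤ)).obj Q))
    (hgen : ∀ X : D, (∀ Q, PE E' Q → ∀ f : Q ⟶ X, f = 0) → IsZero X) :
    ∃ (X : D) (a : H.obj (op X)), ∀ Y : D, Function.Bijective (fun f : Y ⟶ X => pb H f a) := by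
  obtain ⟨X, a, -, -, hXa⟩ := exists_rep_on_generators H E' hP hshift
    (fun k : PEmpty.{v + 1} => k.elim) (fun k => k.elim)
  have hsurj : ∀ (Y : D) (y : H.obj (op Y)), ∃ f : Y ⟶ X, pb H f a = y := by
    intro Y y
    let Yf : ULift.{v} Bool → D := fun b => cond b.down X Y
    let yf : ∀ b, H.obj (op (Yf b)) := fun b => match b with
      | ⟨true⟩ => a
      | ⟨false⟩ => y
    obtain ⟨X'', a'', j, hj, hX''⟩ := exists_rep_on_generators H E' hP hshift Yf yf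
    let jX : X ⟶ X'' := j ⟨true⟩
    let jY : Y ⟶ X'' := j ⟨false⟩
    have hjX : pb H jX a'' = a := hj ⟨true⟩
    have hjY : pb H jY a'' = y := hj ⟨false⟩
    have : IsIso jX := isIso_of_bijective hgen hshift jX (fun Q hQ => by
      have h1 : (fun f : Q ⟶ X'' => pb H f a'') ∘ (fun f : Q ⟶ X => f ≫ jX) =
          fun f : Q ⟶ X => pb H f a := by
        funext f
        change pb H (f ≫ jX) a'' = pb H f a
        rw [pb_comp, hjX]
      have h2 := hXa Q hQ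
      rw [← h1] at h2
      exact (Function.Bijective.of_comp_iff' (hX'' Q hQ) _).mp h2)
    refine ⟨jY ≫ inv jX, ?_⟩
    have h3 : pb H (inv jX) a = a'' := by
      rw [← hjX, ← pb_comp, IsIso.inv_hom_id, pb_id]
    rw [pb_comp, h3, hjY]
  refine ⟨X, a, fun Y => ⟨?_, hsurj Y⟩⟩
  suffices h : ∀ g : Y ⟶ X, pb H g a = 0 → g = 0 by
    intro f₁ f₂ hf
    have := h (f₁ - f₂) (by
      rw [pb_sub]
      exact sub_eq_zero.mpr hf)
    exact sub_eq_zero.mp this
  intro g hg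
  obtain ⟨Z, q, r, hT⟩ := distinguished_cocone_triangle g
  obtain ⟨z, hz⟩ := pb_exact H _ hT a hg
  replace hz : pb H q z = a := hz
  obtain ⟨t, ht⟩ := hsurj Z z
  have : IsIso (q ≫ t) := isIso_of_bijective hgen hshift (q ≫ t) (fun Q hQ => by
    have h1 : (fun f : Q ⟶ X => f ≫ q ≫ t) = id := by
      funext f
      apply (hXa Q hQ).1
      change pb H (f ≫ q ≫ t) a = pb H f a
      rw [pb_comp, pb_comp, ht, hz]
    rw [h1]
    exact Function.bijective_id)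
  have hgq : g ≫ q = 0 := comp_distTriang_mor_zero₁₂ _ hT
  rw [← cancel_mono (q ≫ t), zero_comp, ← Category.assoc, hgq, zero_comp]

/-- Brown representability. -/
theorem brown (hP : Perfect (PE E'))
    (hshift : ∀ Q, PE E' Q → PE E' ((shiftFunctor D (-1 : ℤ)).obj Q))
    (hgen : ∀ X : D, (∀ Q, PE E' Q → ∀ f : Q ⟶ X, f = 0) → IsZero X) :
    (H ⋙ forget AddCommGrpCat.{v}).IsRepresentable := by
  obtain ⟨X, a, h⟩ := brown_elements H E' hP hshift hgen
  exact Functor.RepresentableBy.isRepresentable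
    { homEquiv := fun {Y} => Equiv.ofBijective (fun f : Y ⟶ X => pb H f a) (h Y)
      homEquiv_comp := fun {Y Y'} f g => by
        change pb H (f ≫ g) a = pb H f (pb H g a)
        rw [pb_comp] }

end Final


section Transfer

variable [Preadditive D] [HasCoproductsOfShape ℕ D]

/-- transfer of condition (2) along a full essentially surjective functor preserving countable
coproducts -/
lemma perfect_transfer (F : D ⥤ D) [F.Full] [F.EssSurj]
    [PreservesColimitsOfShape (Discrete ℕ) F]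
    {P P' : D → Prop} (hPP' : ∀ Q, P Q → P' (F.obj Q)) (A : D)
    (hA : ∀ (Y : ℕ → D) (α : A ⟶ ∐ Y), ∃ (R : ℕ → D) (_ : ∀ n, P (R n))
      (β : ∀ n, R n ⟶ Y n) (γ : A ⟶ ∐ R), α = γ ≫ Limits.Sigma.map β)
    (Y : ℕ → D) (α : F.obj A ⟶ ∐ Y) :
    ∃ (R : ℕ → D) (_ : ∀ n, P' (R n)) (β : ∀ n, R n ⟶ Y n) (γ : F.obj A ⟶ ∐ R),
      α = γ ≫ Limits.Sigma.map β := by
  let Y' : ℕ → D := fun n => F.objPreimage (Y n)
  let ε : ∀ n, F.obj (Y' n) ≅ Y n := fun n => F.objObjPreimageIso (Y n)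
  let σ := sigmaComparison F Y'
  let α₁ : F.obj A ⟶ F.obj (∐ Y') := α ≫ inv (Limits.Sigma.map (fun n => (ε n).hom)) ≫ σ
  obtain ⟨R, hR, β, γ, hα₂⟩ := hA Y' (F.preimage α₁)
  refine ⟨fun n => F.obj (R n), fun n => hPP' _ (hR n), fun n => F.map (β n) ≫ (ε n).hom,
    F.map γ ≫ inv (sigmaComparison F R), ?_⟩
  have h1 : α = α₁ ≫ inv σ ≫ Limits.Sigma.map (fun n => (ε n).hom) := by
    simp [α₁]
  have h2 : α₁ = F.map γ ≫ F.map (Limits.Sigma.map β) := by
    rw [← F.map_comp, ← hα₂, F.map_preimage]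
  have h3 : F.map (Limits.Sigma.map β) ≫ inv σ ≫ Limits.Sigma.map (fun n => (ε n).hom) =
      inv (sigmaComparison F R) ≫ Limits.Sigma.map (fun n => F.map (β n) ≫ (ε n).hom) := by
    rw [← cancel_epi (sigmaComparison F R), IsIso.hom_inv_id_assoc]
    apply Sigma.hom_ext
    intro n
    rw [ι_comp_sigmaComparison_assoc, ← F.map_comp_assoc, Sigma.ι_map, F.map_comp_assoc,
      map_ι_comp_inv_sigmaComparison_assoc, Sigma.ι_map, Sigma.ι_map, Category.assoc]
  rw [h1, h2, Category.assoc, h3, Category.assoc]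

end Transfer

section ShiftClosure

variable [Preadditive D] [HasZeroObject D] [HasShift D ℤ]
  [∀ n : ℤ, (shiftFunctor D n).Additive] [Pretriangulated D]

variable {ι : Type v} (E : ι → D)

/-- the family of all shifts -/
def shifts : ι × ℤ → D := fun p => (shiftFunctor D p.2).obj (E p.1)

lemma pe_shifts_of_iso {Q : D} (i : ι) (k : ℤ) (e : Q ≅ (shiftFunctor D k).obj (E i)) :
    PE (shifts E) Q := ⟨(i, k), ⟨e⟩⟩

lemma pe_shifts_self (i : ι) : PE (shifts E) (E i) :=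
  pe_shifts_of_iso E i 0 ((shiftFunctorZero D ℤ).app (E i)).symm

lemma pe_shifts_shift {Q : D} (hQ : PE (shifts E) Q) (m : ℤ) :
    PE (shifts E) ((shiftFunctor D m).obj Q) := by
  obtain ⟨⟨i, k⟩, ⟨e⟩⟩ := hQ
  exact pe_shifts_of_iso E i (k + m) ((shiftFunctor D m).mapIso e ≪≫
    ((shiftFunctorAdd' D k m (k + m) rfl).app (E i)).symm)

lemma perfect_shifts [HasCoproductsOfShape ℕ D]
    (h2 : ∀ (X : ℕ → D) (i : ι) (α : E i ⟶ ∐ X), ∃ (j : ℕ → ι) (β : ∀ n, E (j n) ⟶ X n)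
      (γ : E i ⟶ ∐ (fun n => E (j n))), α = γ ≫ Limits.Sigma.map β) :
    Perfect (PE (shifts E)) := by
  rintro Q ⟨⟨i, k⟩, ⟨e'⟩⟩ Y α
  let e : Q ≅ (shiftFunctor D k).obj (E i) := e'
  obtain ⟨R, hR, β, γ, h⟩ := perfect_transfer (shiftFunctor D k) (P := PE (shifts E))
    (P' := PE (shifts E)) (fun Q hQ => pe_shifts_shift E hQ k) (E i)
    (fun Y α => by
      obtain ⟨j, β, γ, h⟩ := h2 Y i α
      exact ⟨fun n => E (j n), fun n => pe_shifts_self E (j n), β, γ, h⟩) Y (e.inv ≫ α)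
  refine ⟨R, hR, β, e.hom ≫ γ, ?_⟩
  rw [Category.assoc, ← h, e.hom_inv_id_assoc]

end ShiftClosure


section Adjoint

universe u'

variable [Preadditive D] [HasZeroObject D] [HasShift D ℤ]
  [∀ n : ℤ, (shiftFunctor D n).Additive] [Pretriangulated D]
  [HasCoproducts.{v} D] [HasCoproductsOfShape ℕ D]
variable {D' : Type u'} [Category.{v} D'] [Preadditive D'] [HasZeroObject D'] [HasShift D' ℤ]
  [∀ n : ℤ, (shiftFunctor D' n).Additive] [Pretriangulated D']
variable {ι' : Type v} (E' : ι' → D)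

lemma preservesProducts_op (F : D ⥤ D') (κ : Type w) [PreservesColimitsOfShape (Discrete κ) F] :
    PreservesLimitsOfShape (Discrete κ) F.op := by
  have : PreservesColimitsOfShape (Discrete κ)ᵒᵖ F :=
    preservesColimitsOfShape_of_equiv (Discrete.opposite κ).symm F
  exact preservesLimitsOfShape_op _ F

/-- an exact functor preserving coproducts out of a perfectly generated category is a left
adjoint. -/
theorem isLeftAdjoint_of_brown (F : D ⥤ D') [F.CommShift ℤ] [F.IsTriangulated]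
    [∀ κ : Type v, PreservesColimitsOfShape (Discrete κ) F]
    (hP : Perfect (PE E'))
    (hshift : ∀ Q, PE E' Q → PE E' ((shiftFunctor D (-1 : ℤ)).obj Q))
    (hgen : ∀ X : D, (∀ Q, PE E' Q → ∀ f : Q ⟶ X, f = 0) → IsZero X) :
    F.IsLeftAdjoint := by
  apply Functor.isLeftAdjoint_of_rightAdjointObjIsDefined_eq_top
  ext Y'
  simp only [Pi.top_apply, Prop.top_eq_true, iff_true]
  rw [Functor.rightAdjointObjIsDefined_iff]
  let H : Dᵒᵖ ⥤ AddCommGrpCat.{v} := F.op ⋙ preadditiveYoneda.obj Y'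
  have : ∀ κ : Type v, PreservesLimitsOfShape (Discrete κ) F.op :=
    fun κ => preservesProducts_op F κ
  have : ∀ κ : Type v, PreservesLimitsOfShape (Discrete κ) H := fun κ => by
    dsimp only [H]
    infer_instance
  exact brown H E' hP hshift hgen

end Adjoint


section ShiftHom

variable [Preadditive D] [HasZeroObject D] [HasShift D ℤ]
  [∀ n : ℤ, (shiftFunctor D n).Additive] [Pretriangulated D]

/-- If postcomposition with `f⟦-m⟧'` is bijective on `Hom(A, X⟦-m⟧)`, then postcomposition with `f`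
is bijective on `Hom(Q, X)` for `Q ≅ A⟦m⟧`. -/
lemma bijective_comp_of_iso_shift {A Q X Y : D} (m : ℤ) (e : Q ≅ (shiftFunctor D m).obj A)
    (f : X ⟶ Y)
    (h : Function.Bijective (fun g : A ⟶ (shiftFunctor D (-m)).obj X =>
      g ≫ (shiftFunctor D (-m)).map f)) :
    Function.Bijective (fun g : Q ⟶ X => g ≫ f) := by
  let F := shiftFunctor D (-m)
  let η : F.obj ((shiftFunctor D m).obj A) ≅ A :=
    (shiftFunctorCompIsoId D m (-m) (add_neg_cancel m)).app A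
  let Φ : ∀ Z : D, (Q ⟶ Z) → (A ⟶ F.obj Z) := fun Z g => η.inv ≫ F.map (e.inv ≫ g)
  have hΦ : ∀ Z, Function.Bijective (Φ Z) := by
    intro Z
    constructor
    · intro g g' hg
      dsimp only [Φ] at hg
      rw [cancel_epi] at hg
      have := F.map_injective hg
      rwa [cancel_epi] at this
    · intro k
      refine ⟨e.hom ≫ F.preimage (η.hom ≫ k), ?_⟩
      dsimp only [Φ]
      rw [e.inv_hom_id_assoc, F.map_preimage, η.inv_hom_id_assoc]
  have hcomm : Φ Y ∘ (fun g : Q ⟶ X => g ≫ f) = (fun g : A ⟶ F.obj X => g ≫ F.map f) ∘ Φ X := by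
    funext g
    dsimp only [Φ, Function.comp]
    rw [← Category.assoc e.inv, F.map_comp, Category.assoc]
  have h1 : Function.Bijective (Φ Y ∘ (fun g : Q ⟶ X => g ≫ f)) := by
    rw [hcomm]
    exact h.comp (hΦ X)
  exact (Function.Bijective.of_comp_iff' (hΦ Y) _).mp h1

variable {ι : Type w} (E : ι → D)

/-- the class of objects isomorphic to a shift of a member of the family -/
def PS (Q : D) : Prop := ∃ (i : ι) (k : ℤ), Nonempty (Q ≅ (shiftFunctor D k).obj (E i))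

lemma ps_shift {Q : D} (hQ : PS E Q) (m : ℤ) : PS E ((shiftFunctor D m).obj Q) := by
  obtain ⟨i, k, ⟨e⟩⟩ := hQ
  exact ⟨i, k + m, ⟨(shiftFunctor D m).mapIso e ≪≫
    ((shiftFunctorAdd' D k m (k + m) rfl).app (E i)).symm⟩⟩

lemma hgen_ps (hE : ∀ (K : D), (∀ (i : ι) (n : ℤ) (f : E i ⟶ (shiftFunctor D n).obj K), f = 0) →
    IsZero K) : ∀ X : D, (∀ Q, PS E Q → ∀ f : Q ⟶ X, f = 0) → IsZero X := by
  intro X hX
  apply hE
  intro i n f
  have h1 := hX ((shiftFunctor D (-n)).obj (E i)) ⟨i, -n, ⟨Iso.refl _⟩⟩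
    ((shiftFunctor D (-n)).map f ≫ (shiftFunctorCompIsoId D n (-n) (by simp)).hom.app X)
  have h2 : (shiftFunctor D (-n)).map f = 0 := by
    rw [← cancel_mono ((shiftFunctorCompIsoId D n (-n) (by simp)).hom.app X), h1, zero_comp]
  exact (shiftFunctor D (-n)).map_injective (by rw [h2, Functor.map_zero])

/-- A morphism is an isomorphism if it induces bijections on `Hom(E i, -⟦n⟧)` for a generating
family. -/
theorem isIso_of_generates
    (hE : ∀ (K : D), (∀ (i : ι) (n : ℤ) (f : E i ⟶ (shiftFunctor D n).obj K), f = 0) → IsZero K)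
    {X Y : D} (f : X ⟶ Y)
    (hf : ∀ (i : ι) (n : ℤ), Function.Bijective
      (fun g : E i ⟶ (shiftFunctor D n).obj X => g ≫ (shiftFunctor D n).map f)) : IsIso f := by
  refine isIso_of_bijective (P := PS E) (hgen_ps E hE) (fun Q hQ => ps_shift E hQ (-1)) f ?_
  rintro Q ⟨i, k, ⟨e⟩⟩
  exact bijective_comp_of_iso_shift k e f (hf i (-k))

end ShiftHom


section Hocolim

variable [Preadditive D] [HasZeroObject D] [HasShift D ℤ]
  [∀ n : ℤ, (shiftFunctor D n).Additive] [Pretriangulated D]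
  [HasCoproducts.{v} D] [HasCoproductsOfShape ℕ D]
variable {ι' : Type v} (E' : ι' → D)

/-- every object is the homotopy colimit of a tower built from coproducts of generators -/
theorem exists_hocolim_presentation (hP : Perfect (PE E'))
    (hshift : ∀ Q, PE E' Q → PE E' ((shiftFunctor D (-1 : ℤ)).obj Q))
    (hgen : ∀ X : D, (∀ Q, PE E' Q → ∀ f : Q ⟶ X, f = 0) → IsZero X) (X : D) :
    ∃ (K : ℕ → D) (f : ∀ n, K n ⟶ K (n + 1)) (i : ∀ n, K n ⟶ X)
      (c : X ⟶ (shiftFunctor D (1 : ℤ)).obj (∐ K)),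
      Triangle.mk (𝟙 (∐ K) - shiftMap K f) (Sigma.desc i) c ∈ distTriang D ∧
      (∃ (κ : Type v) (idx : κ → ι'), Nonempty (K 0 ≅ ∐ fun k => E' (idx k))) ∧
      ∀ n, ∃ (κ : Type v) (idx : κ → ι') (y : (∐ fun k => E' (idx k)) ⟶ K n)
        (z : K (n + 1) ⟶ (shiftFunctor D (1 : ℤ)).obj (∐ fun k => E' (idx k))),
        Triangle.mk y (f n) z ∈ distTriang D := by
  let H : Dᵒᵖ ⥤ AddCommGrpCat.{v} := preadditiveYoneda.obj X
  let I₀ := Σ j, (E' j ⟶ X)
  let X₀ : D := ∐ (fun p : I₀ => E' p.1)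
  let a₀ : H.obj (op X₀) := (Sigma.desc (fun p : I₀ => p.2) : X₀ ⟶ X)
  have hpb : ∀ {Y Y' : D} (f : Y' ⟶ Y) (x : Y ⟶ X), pb H f (x : H.obj (op Y)) = (f ≫ x : Y' ⟶ X) :=
    fun f x => rfl
  obtain ⟨Xinf, π, δ, ainf, hT, hca, hbij⟩ := step1_explicit H E' hP hshift X₀ a₀
    (fun j b => ⟨Sigma.ι (fun p : I₀ => E' p.1) ⟨j, b⟩, by
      rw [hpb]
      simp [a₀]⟩)
  let ε : Xinf ⟶ X := ainf
  have : IsIso ε := isIso_of_bijective hgen hshift ε (fun Q hQ => hbij Q hQ)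
  let K := tX E' (⟨X₀, a₀⟩ : TowerState H)
  let f := tφ E' (⟨X₀, a₀⟩ : TowerState H)
  refine ⟨K, f, fun n => Sigma.ι K n ≫ π ≫ ε, inv ε ≫ δ, ?_, ⟨I₀, fun p => p.1, ⟨Iso.refl _⟩⟩,
    fun n => tφ_tri E' _ n⟩
  refine isomorphic_distinguished _ hT _
    (Triangle.isoMk _ _ (Iso.refl _) (Iso.refl _) (asIso ε).symm ?_ ?_ ?_)
  · change (𝟙 (∐ K) - shiftMap K f) ≫ 𝟙 _ = 𝟙 _ ≫ (𝟙 (∐ K) - shiftMap K f)
    rw [Category.comp_id, Category.id_comp]
  · change Sigma.desc (fun n => Sigma.ι K n ≫ π ≫ ε) ≫ inv ε = 𝟙 _ ≫ π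
    rw [Category.id_comp, ← cancel_mono ε, Category.assoc, IsIso.inv_hom_id, Category.comp_id]
    apply Sigma.hom_ext
    intro n
    simp
  · change (inv ε ≫ δ) ≫ (shiftFunctor D (1 : ℤ)).map (𝟙 _) = inv ε ≫ δ
    rw [CategoryTheory.Functor.map_id, Category.comp_id]

end Hocolim

end Groth.Agent.Lib.helper2.Brown
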