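import Mathlib
import Groth.Agent.Lib.helper2.Brown

/-!
# Brown tower with a separate universe for index types (helper2)

Same as the tower construction of `Brown.lean`, but coproducts are indexed by `Type w` while
morphisms live in `Type v`; smallness of the `Hom(E' j, X)` is assumed.
-/

set_option autoImplicit false
set_option linter.unusedSectionVars false

namespace Groth.Agent.Lib.helper2.BrownW

open CategoryTheory CategoryTheory.Limits CategoryTheory.Pretriangulated Opposite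
open CategoryTheory.Pretriangulated.Opposite
open Groth.Agent.Lib.helper2.Brown

universe w v u

variable {D : Type u} [Category.{v} D]

section Construction

variable [Preadditive D] [HasZeroObject D] [HasShift D ℤ]
  [∀ n : ℤ, (shiftFunctor D n).Additive] [Pretriangulated D]
  [HasCoproducts.{w} D] [HasCoproductsOfShape ℕ D]
variable (H : Dᵒᵖ ⥤ AddCommGrpCat.{v}) [H.IsHomological]
  [∀ κ : Type w, PreservesLimitsOfShape (Discrete κ) H]
variable {ι' : Type w} (E' : ι' → D) [hsm : ∀ (j : ι') (X : D), Small.{w} (E' j ⟶ X)]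

lemma preservesNatW : PreservesLimitsOfShape (Discrete ℕ) H :=
  preservesLimitsOfShape_of_equiv
    (Discrete.equivalence Equiv.ulift : Discrete (ULift.{w} ℕ) ≌ Discrete ℕ) H

/-- the iso-closure of the family -/
def PEW (Q : D) : Prop := ∃ j, Nonempty (Q ≅ E' j)

lemma exists_stepW (X : D) (a : H.obj (op X)) :
    ∃ (X' : D) (φ : X ⟶ X') (a' : H.obj (op X')), pb H φ a' = a ∧
      (∀ j (f : E' j ⟶ X), pb H f a = 0 → f ≫ φ = 0) ∧
      ∃ (κ : Type w) (idx : κ → ι') (y : (∐ fun k => E' (idx k)) ⟶ X)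
        (z : X' ⟶ (shiftFunctor D (1 : ℤ)).obj (∐ fun k => E' (idx k))),
        Triangle.mk y φ z ∈ distTriang D := by
  let I₀ := Σ j, {f : E' j ⟶ X // pb H f a = 0}
  let I : Type w := Shrink.{w} I₀
  let e : I ≃ I₀ := (equivShrink.{w} I₀).symm
  let Fam : I → D := fun p => E' (e p).1
  let k : ∐ Fam ⟶ X := Sigma.desc (fun p => (e p).2.1)
  obtain ⟨X', φ, δ, hT⟩ := distinguished_cocone_triangle k
  have hk : pb H k a = 0 := by
    obtain ⟨b, _, hb⟩ := pb_product H Fam (fun _ => 0)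
    rw [hb (pb H k a) (fun p => by
      rw [← pb_comp]
      simp only [k, colimit.ι_desc, Cofan.mk_pt, Cofan.mk_ι_app]
      exact (e p).2.2), hb 0 (fun p => by simp)]
  obtain ⟨a', ha'⟩ := pb_exact H _ hT a hk
  refine ⟨X', φ, a', ha', fun j f hf => ?_, I, fun p => (e p).1, k, δ, hT⟩
  have h2 : k ≫ φ = 0 := comp_distTriang_mor_zero₁₂ _ hT
  have key : ∀ (p : I) (x : I₀), e p = x → x.2.1 ≫ φ = 0 := by
    rintro p x rfl
    have h1 : (e p).2.1 = Sigma.ι Fam p ≫ k := by simp [k, Fam]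
    rw [h1, Category.assoc, h2, comp_zero]
  exact key (e.symm ⟨j, f, hf⟩) ⟨j, f, hf⟩ (e.apply_symm_apply _)

/-- a state of the towerW -/
structure TowerStateW where
  X : D
  a : H.obj (op X)

variable {H}

/-- the nextW state -/
noncomputable def nextW (s : TowerStateW H) : TowerStateW H :=
  ⟨(exists_stepW H E' s.X s.a).choose, (exists_stepW H E' s.X s.a).choose_spec.choose_spec.choose⟩

/-- the transition map -/
noncomputable def nextMapW (s : TowerStateW H) : s.X ⟶ (nextW E' s).X :=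
  (exists_stepW H E' s.X s.a).choose_spec.choose

lemma next_pbW (s : TowerStateW H) : pb H (nextMapW E' s) (nextW E' s).a = s.a :=
  (exists_stepW H E' s.X s.a).choose_spec.choose_spec.choose_spec.1

lemma next_killW (s : TowerStateW H) (j : ι') (f : E' j ⟶ s.X) (hf : pb H f s.a = 0) :
    f ≫ nextMapW E' s = 0 :=
  (exists_stepW H E' s.X s.a).choose_spec.choose_spec.choose_spec.2.1 j f hf

lemma next_triW (s : TowerStateW H) :
    ∃ (κ : Type w) (idx : κ → ι') (y : (∐ fun k => E' (idx k)) ⟶ s.X)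
      (z : (nextW E' s).X ⟶ (shiftFunctor D (1 : ℤ)).obj (∐ fun k => E' (idx k))),
      Triangle.mk y (nextMapW E' s) z ∈ distTriang D :=
  (exists_stepW H E' s.X s.a).choose_spec.choose_spec.choose_spec.2.2

/-- the towerW -/
noncomputable def towerW (s₀ : TowerStateW H) : ℕ → TowerStateW H := fun n =>
  Nat.rec (motive := fun _ => TowerStateW H) s₀ (fun _ s => nextW E' s) n

/-- the objects of the towerW -/
noncomputable def tXW (s₀ : TowerStateW H) (n : ℕ) : D := (towerW E' s₀ n).X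

/-- the elements of the towerW -/
noncomputable def taW (s₀ : TowerStateW H) (n : ℕ) : H.obj (op (tXW E' s₀ n)) := (towerW E' s₀ n).a

/-- the maps of the towerW -/
noncomputable def tφW (s₀ : TowerStateW H) (n : ℕ) : tXW E' s₀ n ⟶ tXW E' s₀ (n + 1) :=
  nextMapW E' (towerW E' s₀ n)

lemma tφ_triW (s₀ : TowerStateW H) (n : ℕ) :
    ∃ (κ : Type w) (idx : κ → ι') (y : (∐ fun k => E' (idx k)) ⟶ tXW E' s₀ n)
      (z : tXW E' s₀ (n + 1) ⟶ (shiftFunctor D (1 : ℤ)).obj (∐ fun k => E' (idx k))),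
      Triangle.mk y (tφW E' s₀ n) z ∈ distTriang D :=
  next_triW E' (towerW E' s₀ n)

lemma tφ_pbW (s₀ : TowerStateW H) (n : ℕ) : pb H (tφW E' s₀ n) (taW E' s₀ (n + 1)) = taW E' s₀ n :=
  next_pbW E' (towerW E' s₀ n)

lemma iter_pbW (s₀ : TowerStateW H) (n : ℕ) :
    pb H (iter (tXW E' s₀) (tφW E' s₀) n) (taW E' s₀ n) = taW E' s₀ 0 := by
  induction n with
  | zero => simp [iter, pb_id]
  | succ n ih =>
    change pb H (iter (tXW E' s₀) (tφW E' s₀) n ≫ tφW E' s₀ n) _ = _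
    rw [pb_comp, tφ_pbW, ih]

lemma tower_killW (s₀ : TowerStateW H) (n : ℕ) {Q : D} (hQ : PEW E' Q) (f : Q ⟶ tXW E' s₀ n)
    (hf : pb H f (taW E' s₀ n) = 0) : f ≫ tφW E' s₀ n = 0 := by
  obtain ⟨j, ⟨e⟩⟩ := hQ
  have h1 : (e.inv ≫ f) ≫ tφW E' s₀ n = 0 :=
    next_killW E' (towerW E' s₀ n) j (e.inv ≫ f) (by
      change pb H (e.inv ≫ f) (taW E' s₀ n) = 0
      rw [pb_comp, hf, map_zero])
  rw [Category.assoc] at h1
  rw [← cancel_epi e.inv, h1, comp_zero]

lemma towerHypW (s₀ : TowerStateW H)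
    (hS : ∀ j (b : H.obj (op (E' j))), ∃ f : E' j ⟶ s₀.X, pb H f s₀.a = b) :
    TowerHyp (PEW E') (tXW E' s₀) (tφW E' s₀) := by
  have hS' : ∀ Q, PEW E' Q → ∀ b : H.obj (op Q), ∃ f : Q ⟶ tXW E' s₀ 0,
      pb H f (taW E' s₀ 0) = b := by
    rintro Q ⟨j, ⟨e⟩⟩ b
    obtain ⟨f, hf⟩ := hS j (pb H e.inv b)
    refine ⟨e.hom ≫ f, ?_⟩
    change pb H (e.hom ≫ f) s₀.a = b
    rw [pb_comp, hf, ← pb_comp, e.hom_inv_id, pb_id]
  constructor
  · intro Q hQ n β
    obtain ⟨f, hf⟩ := hS' Q hQ (pb H β (taW E' s₀ n))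
    refine ⟨f, tower_killW E' s₀ n hQ _ ?_⟩
    rw [pb_sub, pb_comp, iter_pbW, hf, sub_self]
  · intro Q hQ n f hf
    refine tower_killW E' s₀ 0 hQ f ?_
    rw [← iter_pbW E' s₀ n, ← pb_comp, hf, pb_zero]

end Construction

section Step1

variable [Preadditive D] [HasZeroObject D] [HasShift D ℤ]
  [∀ n : ℤ, (shiftFunctor D n).Additive] [Pretriangulated D]
  [HasCoproducts.{w} D] [HasCoproductsOfShape ℕ D]
variable (H : Dᵒᵖ ⥤ AddCommGrpCat.{v}) [H.IsHomological]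
  [∀ κ : Type w, PreservesLimitsOfShape (Discrete κ) H]
variable {ι' : Type w} (E' : ι' → D) [hsm : ∀ (j : ι') (X : D), Small.{w} (E' j ⟶ X)]

/-- Step 1 (explicit form): from a starting object which surjects onto `H` on the generators,
the homotopy colimit of the towerW represents `H` on the generators. -/
theorem step1_explicitW (hP : Perfect (PEW E'))
    (hshift : ∀ Q, PEW E' Q → PEW E' ((shiftFunctor D (-1 : ℤ)).obj Q))
    (X₀ : D) (a₀ : H.obj (op X₀))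
    (hS : ∀ j (b : H.obj (op (E' j))), ∃ f : E' j ⟶ X₀, pb H f a₀ = b) :
    ∃ (Xinf : D) (π : ∐ (tXW E' ⟨X₀, a₀⟩) ⟶ Xinf)
      (δ : Xinf ⟶ (shiftFunctor D (1 : ℤ)).obj (∐ (tXW E' ⟨X₀, a₀⟩)))
      (ainf : H.obj (op Xinf)),
      Triangle.mk (𝟙 (∐ (tXW E' ⟨X₀, a₀⟩)) - shiftMap (tXW E' ⟨X₀, a₀⟩) (tφW E' ⟨X₀, a₀⟩)) π δ ∈
        distTriang D ∧
      (∀ n, pb H (Sigma.ι (tXW E' ⟨X₀, a₀⟩) n ≫ π) ainf = taW E' ⟨X₀, a₀⟩ n) ∧
      ∀ Q, PEW E' Q → Function.Bijective (fun f : Q ⟶ Xinf => pb H f ainf) := by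
  let s₀ : TowerStateW H := ⟨X₀, a₀⟩
  have hX := towerHypW E' s₀ hS
  let X := tXW E' s₀
  let φ := tφW E' s₀
  let a := taW E' s₀
  obtain ⟨Xinf, π, δ, hT⟩ := distinguished_cocone_triangle (𝟙 (∐ X) - shiftMap X φ)
  have hπ : (𝟙 (∐ X) - shiftMap X φ) ≫ π = 0 := comp_distTriang_mor_zero₁₂ _ hT
  let c : ∀ n, X n ⟶ Xinf := fun n => Sigma.ι X n ≫ π
  have hc : ∀ n, φ n ≫ c (n + 1) = c n := by
    intro n
    have := Sigma.ι X n ≫= hπ
    rw [comp_zero, Preadditive.sub_comp, Preadditive.comp_sub, Category.id_comp,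
      ι_shiftMap_assoc, sub_eq_zero] at this
    exact this.symm
  have hπc : π = Sigma.desc c := by
    apply Sigma.hom_ext
    intro n
    simp [c]
  have := preservesNatW H
  obtain ⟨α, hα, hα'⟩ := pb_product H X a
  have hα0 : pb H (𝟙 (∐ X) - shiftMap X φ) α = 0 := by
    obtain ⟨b, _, hb⟩ := pb_product H X (fun _ => 0)
    rw [hb (pb H (𝟙 (∐ X) - shiftMap X φ) α) (fun n => by
      rw [← pb_comp, Preadditive.comp_sub, Category.comp_id, ι_shiftMap, pb_sub, pb_comp,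
        hα, hα, sub_eq_zero]
      exact (tφ_pbW E' s₀ n).symm), hb 0 (fun n => by simp)]
  obtain ⟨ainf, hainf⟩ := pb_exact H _ hT α hα0
  replace hainf : pb H π ainf = α := hainf
  have hca : ∀ n, pb H (c n) ainf = a n := by
    intro n
    rw [pb_comp, hainf, hα]
  refine ⟨Xinf, π, δ, ainf, hT, hca, fun Q hQ => ?_⟩
  have hS' : ∀ b : H.obj (op Q), ∃ f : Q ⟶ X 0, pb H f (a 0) = b := by
    obtain ⟨j, ⟨e⟩⟩ := hQ
    intro b
    obtain ⟨f, hf⟩ := hS j (pb H e.inv b)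
    refine ⟨e.hom ≫ f, ?_⟩
    change pb H (e.hom ≫ f) a₀ = b
    rw [pb_comp, hf, ← pb_comp, e.hom_inv_id, pb_id]
  constructor
  · -- injectivity
    suffices h : ∀ f : Q ⟶ Xinf, pb H f ainf = 0 → f = 0 by
      intro f₁ f₂ hf
      have := h (f₁ - f₂) (by
        rw [pb_sub]
        exact sub_eq_zero.mpr hf)
      exact sub_eq_zero.mp this
    intro f hf
    have h1 : f ≫ δ = 0 := by
      apply eq_zero_of_shift (𝟙 (∐ X) - shiftMap X φ) (f ≫ δ)
      · rw [Category.assoc]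
        have : δ ≫ (shiftFunctor D (1 : ℤ)).map (𝟙 (∐ X) - shiftMap X φ) = 0 :=
          comp_distTriang_mor_zero₃₁ _ hT
        rw [this, comp_zero]
      · intro g' hg'
        apply eq_zero_of_comp_shiftMap_eq hP hX (hshift Q hQ) g'
        rw [Preadditive.comp_sub, Category.comp_id, sub_eq_zero] at hg'
        exact hg'.symm
    obtain ⟨g, hg⟩ : ∃ g : Q ⟶ ∐ X, f = g ≫ π := Triangle.coyoneda_exact₃ _ hT f h1
    obtain ⟨f₀, hf₀⟩ := exists_factor_zero hP hX hQ g c hc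
    rw [← hπc] at hf₀
    have h2 : pb H f₀ (a 0) = 0 := by
      rw [← hca 0, ← pb_comp, ← hf₀, ← hg, hf]
    have h3 : f₀ ≫ φ 0 = 0 := tower_killW E' s₀ 0 hQ f₀ h2
    rw [hg, hf₀, ← hc 0, ← Category.assoc, h3, zero_comp]
  · -- surjectivity
    intro b
    obtain ⟨f, hf⟩ := hS' b
    refine ⟨f ≫ c 0, ?_⟩
    change pb H (f ≫ c 0) ainf = b
    rw [pb_comp, hca, hf]

/-- Step 1: from a starting object which surjects onto `H` on the generators, construct an object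
representing `H` on the generators. -/
theorem step1W (hP : Perfect (PEW E'))
    (hshift : ∀ Q, PEW E' Q → PEW E' ((shiftFunctor D (-1 : ℤ)).obj Q))
    (X₀ : D) (a₀ : H.obj (op X₀))
    (hS : ∀ j (b : H.obj (op (E' j))), ∃ f : E' j ⟶ X₀, pb H f a₀ = b) :
    ∃ (X : D) (a : H.obj (op X)) (i₀ : X₀ ⟶ X), pb H i₀ a = a₀ ∧
      ∀ Q, PEW E' Q → Function.Bijective (fun f : Q ⟶ X => pb H f a) := by
  obtain ⟨Xinf, π, δ, ainf, -, hca, hbij⟩ := step1_explicitW H E' hP hshift X₀ a₀ hS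
  exact ⟨Xinf, ainf, Sigma.ι (tXW E' ⟨X₀, a₀⟩) 0 ≫ π, hca 0, hbij⟩

end Step1

section Hocolim

variable [Preadditive D] [HasZeroObject D] [HasShift D ℤ]
  [∀ n : ℤ, (shiftFunctor D n).Additive] [Pretriangulated D]
  [HasCoproducts.{w} D] [HasCoproductsOfShape ℕ D]
variable {ι' : Type w} (E' : ι' → D) [hsm : ∀ (j : ι') (X : D), Small.{w} (E' j ⟶ X)]

/-- every object is the homotopy colimit of a towerW built from coproducts of generators -/
theorem exists_hocolim_presentationW (hP : Perfect (PEW E'))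
    (hshift : ∀ Q, PEW E' Q → PEW E' ((shiftFunctor D (-1 : ℤ)).obj Q))
    (hgen : ∀ X : D, (∀ Q, PEW E' Q → ∀ f : Q ⟶ X, f = 0) → IsZero X)
    (hY : ∀ (X : D) (κ : Type w),
      PreservesLimitsOfShape (Discrete κ) (preadditiveYoneda.obj X)) (X : D) :
    ∃ (K : ℕ → D) (f : ∀ n, K n ⟶ K (n + 1)) (i : ∀ n, K n ⟶ X)
      (c : X ⟶ (shiftFunctor D (1 : ℤ)).obj (∐ K)),
      Triangle.mk (𝟙 (∐ K) - shiftMap K f) (Sigma.desc i) c ∈ distTriang D ∧
      (∃ (κ : Type w) (idx : κ → ι'), Nonempty (K 0 ≅ ∐ fun k => E' (idx k))) ∧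
      ∀ n, ∃ (κ : Type w) (idx : κ → ι') (y : (∐ fun k => E' (idx k)) ⟶ K n)
        (z : K (n + 1) ⟶ (shiftFunctor D (1 : ℤ)).obj (∐ fun k => E' (idx k))),
        Triangle.mk y (f n) z ∈ distTriang D := by
  let H : Dᵒᵖ ⥤ AddCommGrpCat.{v} := preadditiveYoneda.obj X
  have : ∀ κ : Type w, PreservesLimitsOfShape (Discrete κ) H := hY X
  let J₀ := Σ j, (E' j ⟶ X)
  let I₀ : Type w := Shrink.{w} J₀
  let e : I₀ ≃ J₀ := (equivShrink.{w} J₀).symm
  let X₀ : D := ∐ (fun p : I₀ => E' (e p).1)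
  let a₀ : H.obj (op X₀) := (Sigma.desc (fun p : I₀ => (e p).2) : X₀ ⟶ X)
  have hpb : ∀ {Y Y' : D} (f : Y' ⟶ Y) (x : Y ⟶ X), pb H f (x : H.obj (op Y)) = (f ≫ x : Y' ⟶ X) :=
    fun f x => rfl
  have hS : ∀ j (b : H.obj (op (E' j))), ∃ f : E' j ⟶ X₀, pb H f a₀ = b := by
    intro j b
    have key : ∀ (p : I₀) (x : J₀), e p = x → ∃ f : E' x.1 ⟶ X₀, pb H f a₀ = (x.2 : H.obj (op (E' x.1))) := by
      rintro p x rfl
      refine ⟨Sigma.ι (fun p : I₀ => E' (e p).1) p, ?_⟩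
      rw [hpb]
      simp [a₀]
    exact key (e.symm ⟨j, b⟩) ⟨j, b⟩ (e.apply_symm_apply _)
  obtain ⟨Xinf, π, δ, ainf, hT, hca, hbij⟩ := step1_explicitW H E' hP hshift X₀ a₀ hS
  let ε : Xinf ⟶ X := ainf
  have : IsIso ε := isIso_of_bijective hgen hshift ε (fun Q hQ => hbij Q hQ)
  let K := tXW E' (⟨X₀, a₀⟩ : TowerStateW H)
  let f := tφW E' (⟨X₀, a₀⟩ : TowerStateW H)
  refine ⟨K, f, fun n => Sigma.ι K n ≫ π ≫ ε, inv ε ≫ δ, ?_, ⟨I₀, fun p => (e p).1, ⟨Iso.refl _⟩⟩,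
    fun n => tφ_triW E' _ n⟩
  refine isomorphic_distinguished _ hT _
    (Triangle.isoMk _ _ (Iso.refl _) (Iso.refl _) (asIso ε).symm ?_ ?_ ?_)
  · change (𝟙 (∐ K) - shiftMap K f) ≫ 𝟙 _ = 𝟙 _ ≫ (𝟙 (∐ K) - shiftMap K f)
    rw [Category.comp_id, Category.id_comp]
  · change Sigma.desc (fun n => Sigma.ι K n ≫ π ≫ ε) ≫ inv ε = 𝟙 _ ≫ π
    rw [Category.id_comp, ← cancel_mono ε, Category.assoc, IsIso.inv_hom_id, Category.comp_id]
    apply Sigma.hom_ext
    intro n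
    simp
  · change (inv ε ≫ δ) ≫ (shiftFunctor D (1 : ℤ)).map (𝟙 _) = inv ε ≫ δ
    rw [CategoryTheory.Functor.map_id, Category.comp_id]

end Hocolim

section Generation

variable [Preadditive D] [HasZeroObject D] [HasShift D ℤ]
  [∀ n : ℤ, (shiftFunctor D n).Additive] [Pretriangulated D]
  [HasCoproducts.{w} D] [HasCoproductsOfShape ℕ D]
variable {ι' : Type w} (E' : ι' → D) [hsm : ∀ (j : ι') (X : D), Small.{w} (E' j ⟶ X)]

include hsm in
/-- a localizing class containing a perfect generating family is everything -/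
theorem generation (hP : Perfect (PEW E'))
    (hshift : ∀ Q, PEW E' Q → PEW E' ((shiftFunctor D (-1 : ℤ)).obj Q))
    (hgen : ∀ X : D, (∀ Q, PEW E' Q → ∀ f : Q ⟶ X, f = 0) → IsZero X)
    (hY : ∀ (X : D) (κ : Type w),
      PreservesLimitsOfShape (Discrete κ) (preadditiveYoneda.obj X))
    (P : D → Prop) (hiso : ∀ {X Y : D}, (X ≅ Y) → P X → P Y)
    (hcop : ∀ (κ : Type w) (Y : κ → D), (∀ k, P (Y k)) → P (∐ Y))
    (hcopN : ∀ (Y : ℕ → D), (∀ n, P (Y n)) → P (∐ Y))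
    (hcone : ∀ T ∈ distTriang D, P T.obj₁ → P T.obj₂ → P T.obj₃)
    (hE : ∀ j, P (E' j)) (X : D) : P X := by
  obtain ⟨K, f, i, c, hT, ⟨κ0, idx0, ⟨e0⟩⟩, hstep⟩ :=
    exists_hocolim_presentationW E' hP hshift hgen hY X
  have hK : ∀ n, P (K n) := by
    intro n
    induction n with
    | zero => exact hiso e0.symm (hcop κ0 _ (fun k => hE _))
    | succ n ih =>
      obtain ⟨κ, idx, y, z, hTn⟩ := hstep n
      exact hcone _ hTn (hcop κ _ (fun k => hE _)) ih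
  exact hcone _ hT (hcopN K hK) (hcopN K hK)

end Generation

end Groth.Agent.Lib.helper2.BrownW
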