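import Mathlib
import Groth.Agent.Lib.helper2.DerTrunc

/-!
# Composites of cohomologically trivial maps between objects of bounded amplitude vanish
-/

namespace Groth.Agent.Lib.helper2.ChainZero

open CategoryTheory Limits DerivedCategory Pretriangulated

variable {C : Type*} [Category C] [Abelian C] [HasDerivedCategory C]

/-- truncation `τ_{<b}` of a map which is zero on `H^p`, `p < b`, is zero on all cohomology -/
lemma homology_map_truncLT_eq_zero {X Y : DerivedCategory C} (g : X ⟶ Y) (b : ℤ)
    (hg : ∀ p, p < b → (homologyFunctor C p).map g = 0) (p : ℤ) :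
    (homologyFunctor C p).map ((TStructure.t.truncLT b).map g) = 0 := by
  by_cases hp : p < b
  · have := DerTrunc.isIso_homology_map_truncLTι Y b p hp
    have nat := (TStructure.t.truncLTι b).naturality g
    rw [← cancel_mono ((homologyFunctor C p).map ((TStructure.t.truncLTι b).app Y)), zero_comp,
      ← Functor.map_comp, nat, Functor.map_comp]
    change _ ≫ (homologyFunctor C p).map g = 0
    rw [hg p hp, comp_zero]
  · have : TStructure.t.IsLE ((TStructure.t.truncLT b).obj X) (b - 1) := inferInstance
    exact (DerivedCategory.isZero_of_isLE _ (b - 1) p (by lia)).eq_of_src _ _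

/-- a map between objects concentrated in degree `b` which is zero on `H^b` is zero -/
lemma eq_zero_of_homology_map_eq_zero {M N : DerivedCategory C} (b : ℤ) [M.IsGE b] [M.IsLE b]
    [N.IsGE b] [N.IsLE b] (φ : M ⟶ N) (h : (homologyFunctor C b).map φ = 0) : φ = 0 := by
  obtain ⟨M', ⟨eM⟩⟩ := exists_iso_singleFunctor_obj_of_isGE_of_isLE M b
  obtain ⟨N', ⟨eN⟩⟩ := exists_iso_singleFunctor_obj_of_isGE_of_isLE N b
  obtain ⟨ψ, hψ⟩ := (singleFunctor C b).map_surjective (eM.inv ≫ φ ≫ eN.hom)
  have h1 : (homologyFunctor C b).map ((singleFunctor C b).map ψ) = 0 := by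
    rw [hψ, Functor.map_comp, Functor.map_comp, h, zero_comp, comp_zero]
  have h2 : ψ = 0 := by
    have nat := (singleFunctorCompHomologyFunctorIso C b).hom.naturality ψ
    dsimp at nat
    rw [h1, zero_comp] at nat
    rw [← cancel_epi ((singleFunctorCompHomologyFunctorIso C b).hom.app M'), ← nat, comp_zero]
  rw [h2, Functor.map_zero] at hψ
  rw [← cancel_epi eM.inv, ← cancel_mono eN.hom, Category.assoc, ← hψ, comp_zero, zero_comp]

/-- a map `X ⟶ Y` between objects which are `≤ b`, zero on `H^b`, factors through `τ_{<b} Y` -/
lemma exists_factor_truncLT {X Y : DerivedCategory C} (b : ℤ) [X.IsLE b] [Y.IsLE b] (f : X ⟶ Y)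
    (h : (homologyFunctor C b).map f = 0) :
    ∃ f' : X ⟶ (TStructure.t.truncLT b).obj Y, f = f' ≫ (TStructure.t.truncLTι b).app Y := by
  have hT := TStructure.t.triangleLTGE_distinguished b Y
  have h0 : f ≫ (TStructure.t.truncGEπ b).app Y = 0 := by
    have nat := (TStructure.t.truncGEπ b).naturality f
    have h1 : (TStructure.t.truncGE b).map f = 0 := by
      have i1 : TStructure.t.IsGE ((TStructure.t.truncGE b).obj X) b := inferInstance
      have i2 : TStructure.t.IsLE ((TStructure.t.truncGE b).obj X) b := inferInstance
      have i3 : TStructure.t.IsGE ((TStructure.t.truncGE b).obj Y) b := inferInstance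
      have i4 : TStructure.t.IsLE ((TStructure.t.truncGE b).obj Y) b := inferInstance
      apply eq_zero_of_homology_map_eq_zero b
      have := DerTrunc.isIso_homology_map_truncGEπ X b b le_rfl
      rw [← cancel_epi ((homologyFunctor C b).map ((TStructure.t.truncGEπ b).app X)), comp_zero,
        ← Functor.map_comp, ← nat, Functor.map_comp]
      change (homologyFunctor C b).map f ≫ _ = 0
      rw [h, zero_comp]
    change f ≫ _ = _ at nat
    rw [nat, h1, comp_zero]
  exact Triangle.coyoneda_exact₂ _ hT f h0

/-- the composite of `n` cohomologically trivial maps between objects of amplitude `< n`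
vanishes -/
theorem map_eq_zero (n : ℕ) : ∀ (a b : ℤ), b < a + n → ∀ (F : ℕ ⥤ DerivedCategory C),
    (∀ i, i ≤ n → (F.obj i).IsGE a) → (∀ i, i ≤ n → (F.obj i).IsLE b) →
    (∀ i, i < n → ∀ p, (homologyFunctor C p).map (F.map (homOfLE (Nat.le_succ i))) = 0) →
    F.map (homOfLE (Nat.zero_le n)) = 0 := by
  induction n with
  | zero =>
    intro a b hab F hGE hLE _
    have := hGE 0 le_rfl
    have := hLE 0 le_rfl
    exact (TStructure.t.isZero (F.obj 0) b a (by simpa using hab)).eq_of_src _ _
  | succ n ih =>
    intro a b hab F hGE hLE hz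
    by_cases hba : b < a
    · have := hGE 0 (Nat.zero_le _)
      have := hLE 0 (Nat.zero_le _)
      exact (TStructure.t.isZero (F.obj 0) b a hba).eq_of_src _ _
    · have i0 := hLE 0 (Nat.zero_le _)
      have i1 := hLE 1 (by lia)
      obtain ⟨f', hf'⟩ := exists_factor_truncLT b (F.map (homOfLE (Nat.le_succ 0)))
        (hz 0 (by lia) b)
      let S : ℕ ⥤ ℕ := (show Monotone (fun i : ℕ => i + 1) from fun i j h => by
        dsimp only; lia).functor
      let F' : ℕ ⥤ DerivedCategory C := S ⋙ F ⋙ TStructure.t.truncLT b
      have key : F'.map (homOfLE (Nat.zero_le n)) = 0 := by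
        refine ih a (b - 1) (by push_cast at hab; lia) F' ?_ ?_ ?_
        · intro i hi
          have := hGE (i + 1) (by lia)
          change TStructure.t.IsGE ((TStructure.t.truncLT b).obj (F.obj (i + 1))) a
          infer_instance
        · intro i hi
          change TStructure.t.IsLE ((TStructure.t.truncLT b).obj (F.obj (i + 1))) (b - 1)
          infer_instance
        · intro i hi p
          change (homologyFunctor C p).map ((TStructure.t.truncLT b).map
            (F.map (S.map (homOfLE (Nat.le_succ i))))) = 0
          apply homology_map_truncLT_eq_zero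
          intro q _
          have : S.map (homOfLE (Nat.le_succ i)) = homOfLE (Nat.le_succ (i + 1)) :=
            Subsingleton.elim _ _
          rw [this]
          exact hz (i + 1) (by lia) q
      have hcomp : F.map (homOfLE (Nat.zero_le (n + 1))) =
          F.map (homOfLE (Nat.le_succ 0)) ≫ F.map (homOfLE (show 1 ≤ n + 1 by lia)) := by
        rw [← Functor.map_comp]
        congr 1
      have key' : (TStructure.t.truncLT b).map (F.map (homOfLE (show 1 ≤ n + 1 by lia))) = 0 := by
        have : S.map (homOfLE (Nat.zero_le n)) = homOfLE (show 1 ≤ n + 1 by lia) :=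
          Subsingleton.elim _ _
        rw [← this]
        exact key
      have nat := (TStructure.t.truncLTι b).naturality (F.map (homOfLE (show 1 ≤ n + 1 by lia)))
      change _ = _ ≫ F.map _ at nat
      rw [hcomp, hf', Category.assoc, ← nat, key', zero_comp, comp_zero]

end Groth.Agent.Lib.helper2.ChainZero
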