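import Mathlib
import Groth.Prelude.Def_CohDer
import Groth.Agent.Lib.helper2.Brown

/-!
# Compact objects (in the sense of `CohDer.IsCompactObject`) — helper2
-/

set_option autoImplicit false
set_option linter.unusedSectionVars false

namespace Groth.Agent.Lib.helper2.Compact

open CategoryTheory CategoryTheory.Limits CohDer

universe w v u

variable {D : Type u} [Category.{v} D] [Preadditive D]

lemma homSumToHomCoprod_of (K : D) {κ : Type v} (X : κ → D) [HasCoproduct X] (k : κ)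
    (a : K ⟶ X k) [DecidableEq κ] :
    homSumToHomCoprod K X (DirectSum.of (fun i => K ⟶ X i) k a) = a ≫ Sigma.ι X k := by
  unfold homSumToHomCoprod
  have h : (‹DecidableEq κ›) = fun a b => Classical.propDecidable (a = b) :=
    Subsingleton.elim _ _
  subst h
  classical
  exact DirectSum.toAddMonoid_of (β := fun i => K ⟶ X i)
    (fun i => Preadditive.rightComp K (Sigma.ι X i)) k a


section Range

variable (K : D) {κ : Type v} (X : κ → D) [HasCoproduct X]

/-- the subgroup of finitely supported maps `K ⟶ ∐ X` -/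
noncomputable def finSupp : AddSubgroup (K ⟶ ∐ X) := (homSumToHomCoprod K X).range

variable {K X}

lemma comp_ι_mem_finSupp (k : κ) (a : K ⟶ X k) : a ≫ Sigma.ι X k ∈ finSupp K X := by
  classical
  exact ⟨DirectSum.of (fun i => K ⟶ X i) k a, homSumToHomCoprod_of K X k a⟩

lemma mem_finSupp_iff (α : K ⟶ ∐ X) :
    α ∈ finSupp K X ↔ ∃ (s : Finset κ) (a : ∀ k, K ⟶ X k), α = ∑ k ∈ s, a k ≫ Sigma.ι X k := by
  classical
  constructor
  · rintro ⟨x, rfl⟩
    refine ⟨DFinsupp.support x, fun k => x k, ?_⟩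
    conv_lhs => rw [← DirectSum.sum_support_of x]
    rw [map_sum]
    refine Finset.sum_congr rfl (fun k _ => ?_)
    exact homSumToHomCoprod_of K X k (x k)
  · rintro ⟨s, a, rfl⟩
    exact AddSubgroup.sum_mem _ (fun k _ => comp_ι_mem_finSupp k (a k))

lemma comp_mem_finSupp {K' : D} (v : K' ⟶ K) {β : K ⟶ ∐ X} (hβ : β ∈ finSupp K X) :
    v ≫ β ∈ finSupp K' X := by
  rw [mem_finSupp_iff] at hβ ⊢
  obtain ⟨s, a, rfl⟩ := hβ
  exact ⟨s, fun k => v ≫ a k, by simp [Preadditive.comp_sum]⟩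

lemma homSumToHomCoprod_comp_π [DecidableEq κ] (x : DirectSum κ (fun i => K ⟶ X i)) (k : κ) :
    homSumToHomCoprod K X x ≫ Sigma.π X k = x k := by
  induction x using DirectSum.induction_on with
  | zero => simp
  | of j a =>
    rw [homSumToHomCoprod_of, Category.assoc, Sigma.ι_π, DirectSum.of_apply]
    by_cases h : j = k
    · subst h
      simp
    · simp [h]
  | add x y hx hy =>
    rw [map_add, Preadditive.add_comp, hx, hy]
    rfl

lemma homSumToHomCoprod_injective : Function.Injective (homSumToHomCoprod K X) := by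
  classical
  rw [injective_iff_map_eq_zero]
  intro x hx
  ext k
  rw [← homSumToHomCoprod_comp_π x k, hx, zero_comp]
  rfl

end Range

lemma isCompactObject_iff [HasCoproducts.{v} D] (K : D) :
    IsCompactObject K ↔ ∀ (κ : Type v) (X : κ → D) (α : K ⟶ ∐ X), α ∈ finSupp K X := by
  constructor
  · intro h κ X α
    exact (h κ X).2 α
  · intro h κ X
    exact ⟨homSumToHomCoprod_injective, fun α => h κ X α⟩

lemma exists_finset_of_compact [HasCoproducts.{v} D] {K : D} (hK : IsCompactObject K)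
    {κ : Type v} (X : κ → D) (α : K ⟶ ∐ X) :
    ∃ (s : Finset κ) (a : ∀ k, K ⟶ X k), α = ∑ k ∈ s, a k ≫ Sigma.ι X k := by
  classical
  obtain ⟨x, hx⟩ := (hK κ X).2 α
  refine ⟨DFinsupp.support x, fun k => x k, ?_⟩
  rw [← hx]
  conv_lhs => rw [← DirectSum.sum_support_of x]
  rw [map_sum]
  refine Finset.sum_congr rfl (fun k _ => ?_)
  exact homSumToHomCoprod_of K X k (x k)

lemma h2_of_compact [HasCoproducts.{v} D] [HasCoproductsOfShape ℕ D] {K : D}
    (hK : IsCompactObject K) (X : ℕ → D) (α : K ⟶ ∐ X) :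
    ∃ (β : ∀ n, K ⟶ X n) (γ : K ⟶ ∐ (fun _ : ℕ => K)), α = γ ≫ Limits.Sigma.map β := by
  let X' : ULift.{v} ℕ → D := fun k => X k.down
  let toX : ∐ X' ⟶ ∐ X := Sigma.desc (fun k => Sigma.ι X k.down)
  let fromX : ∐ X ⟶ ∐ X' := Sigma.desc (fun n => Sigma.ι X' ⟨n⟩)
  have h1 : fromX ≫ toX = 𝟙 _ := by
    apply Sigma.hom_ext
    intro n
    simp [fromX, toX]
  obtain ⟨s, a, ha⟩ := exists_finset_of_compact hK X' (α ≫ fromX)
  refine ⟨fun n => a ⟨n⟩, ∑ k ∈ s, Sigma.ι (fun _ : ℕ => K) k.down, ?_⟩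
  have h2 : α = (α ≫ fromX) ≫ toX := by rw [Category.assoc, h1, Category.comp_id]
  rw [h2, ha, Preadditive.sum_comp, Preadditive.sum_comp]
  refine Finset.sum_congr rfl (fun k _ => ?_)
  simp [toX, X']


lemma hasCoproductsOfShape_nat [HasCoproducts.{v} D] : HasCoproductsOfShape ℕ D :=
  hasColimitsOfShape_of_equivalence
    (Discrete.equivalence Equiv.ulift : Discrete (ULift.{v} ℕ) ≌ Discrete ℕ)


section Triang

open CategoryTheory.Pretriangulated

variable [HasCoproducts.{v} D]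

lemma isCompactObject_of_isZero {K : D} (hK : IsZero K) : IsCompactObject K := by
  rw [isCompactObject_iff]
  intro κ X α
  rw [hK.eq_of_src α 0]
  exact zero_mem _

/-- transfer of compactness along a full, essentially surjective, additive endofunctor
preserving coproducts -/
lemma isCompactObject_map (F : D ⥤ D) [F.Full] [F.EssSurj] [F.Additive]
    [∀ κ : Type v, PreservesColimitsOfShape (Discrete κ) F] {K : D} (hK : IsCompactObject K) :
    IsCompactObject (F.obj K) := by
  rw [isCompactObject_iff] at hK ⊢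
  intro κ X α
  let X' : κ → D := fun n => F.objPreimage (X n)
  let ε : ∀ n, F.obj (X' n) ≅ X n := fun n => F.objObjPreimageIso (X n)
  let σ := sigmaComparison F X'
  let α₁ : F.obj K ⟶ F.obj (∐ X') := α ≫ inv (Limits.Sigma.map (fun n => (ε n).hom)) ≫ σ
  have h1 : α = α₁ ≫ inv σ ≫ Limits.Sigma.map (fun n => (ε n).hom) := by
    simp [α₁]
  obtain ⟨s, a, ha⟩ := (mem_finSupp_iff _).mp (hK κ X' (F.preimage α₁))
  have h2 : α₁ = ∑ k ∈ s, F.map (a k) ≫ F.map (Sigma.ι X' k) := by
    rw [← F.map_preimage α₁, ha, Functor.map_sum]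
    simp
  rw [h1, h2, Preadditive.sum_comp]
  refine AddSubgroup.sum_mem _ (fun k _ => ?_)
  rw [Category.assoc, map_ι_comp_inv_sigmaComparison_assoc, Sigma.ι_map, ← Category.assoc]
  exact comp_ι_mem_finSupp k _

variable [HasZeroObject D] [HasShift D ℤ] [∀ n : ℤ, (shiftFunctor D n).Additive]

lemma isCompactObject_shift {K : D} (hK : IsCompactObject K) (n : ℤ) :
    IsCompactObject ((shiftFunctor D n).obj K) :=
  isCompactObject_map (shiftFunctor D n) hK

variable [Pretriangulated D]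

lemma isCompactObject_ext₂ (T : Triangle D) (hT : T ∈ distTriang D)
    (h₁ : IsCompactObject T.obj₁) (h₃ : IsCompactObject T.obj₃) : IsCompactObject T.obj₂ := by
  classical
  rw [isCompactObject_iff] at h₁ h₃ ⊢
  intro κ X α
  obtain ⟨s, a, ha⟩ := (mem_finSupp_iff _).mp (h₁ κ X (T.mor₁ ≫ α))
  let p : ∐ X ⟶ ∐ X := ∑ k ∈ s, Sigma.π X k ≫ Sigma.ι X k
  have hp : ∀ j ∈ s, Sigma.ι X j ≫ p = Sigma.ι X j := by
    intro j hj
    dsimp only [p]
    rw [Preadditive.comp_sum, Finset.sum_eq_single j]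
    · simp
    · intro k _ hk
      rw [Sigma.ι_π_of_ne_assoc _ (Ne.symm hk), zero_comp]
    · intro h
      exact absurd hj h
  have h1 : T.mor₁ ≫ (α - α ≫ p) = 0 := by
    rw [Preadditive.comp_sub, ← Category.assoc, ha, Preadditive.sum_comp, sub_eq_zero]
    refine Finset.sum_congr rfl (fun j hj => ?_)
    rw [Category.assoc, hp j hj]
  obtain ⟨β, hβ⟩ := T.yoneda_exact₂ hT _ h1
  have h2 : α ≫ p ∈ finSupp T.obj₂ X := by
    dsimp only [p]
    rw [Preadditive.comp_sum]
    refine AddSubgroup.sum_mem _ (fun k _ => ?_)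
    rw [← Category.assoc]
    exact comp_ι_mem_finSupp k _
  have h3 : α - α ≫ p ∈ finSupp T.obj₂ X := by
    rw [hβ]
    exact comp_mem_finSupp _ (h₃ κ X β)
  have h4 : α = α ≫ p + (α - α ≫ p) := by abel
  rw [h4]
  exact add_mem h2 h3

end Triang


section FiniteCoprod

lemma isCompactObject_of_iso [HasCoproducts.{v} D] {K K' : D} (e : K ≅ K')
    (hK : IsCompactObject K) : IsCompactObject K' := by
  rw [isCompactObject_iff] at hK ⊢
  intro κ X α
  have h := comp_mem_finSupp e.inv (hK κ X (e.hom ≫ α))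
  rwa [e.inv_hom_id_assoc] at h

variable {J : Type w} [Fintype J] (f : J → D) [HasCoproduct f]

lemma sum_π_ι [DecidableEq J] : ∑ j, Sigma.π f j ≫ Sigma.ι f j = 𝟙 (∐ f) := by
  apply Sigma.hom_ext
  intro i
  rw [Preadditive.comp_sum, Finset.sum_eq_single i]
  · simp
  · intro k _ hk
    rw [Sigma.ι_π_of_ne_assoc _ (Ne.symm hk), zero_comp]
  · intro h
    exact absurd (Finset.mem_univ i) h

/-- the bicone on a finite coproduct -/
noncomputable def coprodBicone [DecidableEq J] : Bicone f where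
  pt := ∐ f
  π := Sigma.π f
  ι := Sigma.ι f
  ι_π := fun j j' => by
    rw [Sigma.ι_π f j j']
    congr

lemma prop_sigma_finite (P : ObjectProperty D) [P.IsClosedUnderFiniteProducts]
    (h : ∀ j, P (f j)) : P (∐ f) := by
  classical
  exact P.prop_of_isLimit_fan (isBilimitOfTotal (coprodBicone f) (sum_π_ι f)).isLimit h

lemma isCompactObject_sigma_finite [HasCoproducts.{v} D] (h : ∀ j, IsCompactObject (f j)) :
    IsCompactObject (∐ f) := by
  classical
  rw [isCompactObject_iff]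
  intro κ X α
  have h1 : α = ∑ j, Sigma.π f j ≫ Sigma.ι f j ≫ α := by
    conv_lhs => rw [← Category.id_comp α, ← sum_π_ι f, Preadditive.sum_comp]
    simp
  rw [h1]
  refine AddSubgroup.sum_mem _ (fun j _ => comp_mem_finSupp _ ?_)
  exact ((isCompactObject_iff _).mp (h j)) κ X _

end FiniteCoprod

section Factor

variable [HasCoproducts.{v} D]

lemma exists_finset_of_compact_cofan {K : D} (hK : IsCompactObject K)
    {κ : Type v} {X : κ → D} (c : Cofan X) (hc : IsColimit c) (α : K ⟶ c.pt) :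
    ∃ (s : Finset κ) (a : ∀ k, K ⟶ X k), α = ∑ k ∈ s, a k ≫ c.inj k := by
  let e : ∐ X ≅ c.pt := (coproductIsCoproduct X).coconePointUniqueUpToIso hc
  have he : ∀ k, Sigma.ι X k ≫ e.hom = c.inj k := fun k =>
    (coproductIsCoproduct X).comp_coconePointUniqueUpToIso_hom hc ⟨k⟩
  obtain ⟨s, a, ha⟩ := (mem_finSupp_iff _).mp
    (((isCompactObject_iff _).mp hK) κ X (α ≫ e.inv))
  refine ⟨s, a, ?_⟩
  have h1 : α = (α ≫ e.inv) ≫ e.hom := by simp
  rw [h1, ha, Preadditive.sum_comp]
  refine Finset.sum_congr rfl (fun k _ => ?_)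
  rw [Category.assoc, he]

/-- a map from a compact object to a coproduct factors through a finite subcoproduct -/
lemma exists_factor_finite {K : D} (hK : IsCompactObject K)
    {κ : Type v} {X : κ → D} (c : Cofan X) (hc : IsColimit c) (α : K ⟶ c.pt) :
    ∃ (t : Finset κ) (g : K ⟶ ∐ (fun j : t => X j.1)),
      α = g ≫ Sigma.desc (fun j : t => c.inj j.1) := by
  obtain ⟨t, a, ha⟩ := exists_finset_of_compact_cofan hK c hc α
  refine ⟨t, ∑ j : t, a j.1 ≫ Sigma.ι (fun j : t => X j.1) j, ?_⟩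
  rw [ha, Preadditive.sum_comp]
  simp only [Category.assoc, colimit.ι_desc, Cofan.mk_pt, Cofan.mk_ι_app]
  exact (Finset.sum_coe_sort t (fun k => a k ≫ c.inj k)).symm

end Factor


section Hocolim

open CategoryTheory.Pretriangulated

variable [HasCoproducts.{v} D] [HasCoproductsOfShape ℕ D]

lemma exists_finset_nat_of_compact {Q : D} (hQ : IsCompactObject Q) (K : ℕ → D)
    (α : Q ⟶ ∐ K) :
    ∃ (t : Finset ℕ) (a : ∀ n, Q ⟶ K n), α = ∑ n ∈ t, a n ≫ Sigma.ι K n := by
  let X' : ULift.{v} ℕ → D := fun k => K k.down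
  let toX : ∐ X' ⟶ ∐ K := Sigma.desc (fun k => Sigma.ι K k.down)
  let fromX : ∐ K ⟶ ∐ X' := Sigma.desc (fun n => Sigma.ι X' ⟨n⟩)
  have h1 : fromX ≫ toX = 𝟙 _ := by
    apply Sigma.hom_ext
    intro n
    simp [fromX, toX]
  obtain ⟨s, a, ha⟩ := exists_finset_of_compact hQ X' (α ≫ fromX)
  refine ⟨s.map ⟨ULift.down, ULift.down_injective⟩, fun n => a ⟨n⟩, ?_⟩
  have h2 : α = (α ≫ fromX) ≫ toX := by rw [Category.assoc, h1, Category.comp_id]
  rw [h2, ha, Preadditive.sum_comp, Finset.sum_map]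
  refine Finset.sum_congr rfl (fun k _ => ?_)
  simp [toX, X']

variable (K : ℕ → D) (f : ∀ n, K n ⟶ K (n + 1))

lemma shiftMap_π_zero [DecidableEq ℕ] : Brown.shiftMap K f ≫ Sigma.π K 0 = 0 := by
  apply Sigma.hom_ext
  intro n
  rw [Brown.ι_shiftMap_assoc, comp_zero, Sigma.ι_π_of_ne _ (Nat.succ_ne_zero n), comp_zero]

lemma shiftMap_π_succ [DecidableEq ℕ] (m : ℕ) :
    Brown.shiftMap K f ≫ Sigma.π K (m + 1) = Sigma.π K m ≫ f m := by
  apply Sigma.hom_ext
  intro n
  rw [Brown.ι_shiftMap_assoc]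
  by_cases h : n = m
  · subst h
    simp
  · rw [Sigma.ι_π_of_ne _ (fun h' => h (Nat.succ_injective h')), comp_zero,
      Sigma.ι_π_of_ne_assoc _ h, zero_comp]

/-- `1 - shift` is injective on maps out of compact objects -/
lemma eq_zero_of_comp_one_sub_shiftMap {Q : D} (hQ : IsCompactObject Q) (g : Q ⟶ ∐ K)
    (hg : g ≫ (𝟙 _ - Brown.shiftMap K f) = 0) : g = 0 := by
  classical
  rw [Preadditive.comp_sub, Category.comp_id, sub_eq_zero] at hg
  have h1 : ∀ m, g ≫ Sigma.π K m = 0 := by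
    intro m
    induction m with
    | zero => rw [hg, Category.assoc, shiftMap_π_zero, comp_zero]
    | succ m ih => rw [hg, Category.assoc, shiftMap_π_succ, ← Category.assoc, ih, zero_comp]
  obtain ⟨t, a, ha⟩ := exists_finset_nat_of_compact hQ K g
  have h2 : ∀ n ∈ t, a n = 0 := by
    intro n hn
    have := h1 n
    rw [ha, Preadditive.sum_comp, Finset.sum_eq_single n] at this
    · simpa using this
    · intro k _ hk
      rw [Category.assoc, Sigma.ι_π_of_ne _ hk, comp_zero]
    · intro h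
      exact absurd hn h
  rw [ha]
  exact Finset.sum_eq_zero (fun n hn => by rw [h2 n hn, zero_comp])

variable [HasZeroObject D] [HasShift D ℤ] [∀ n : ℤ, (shiftFunctor D n).Additive]
  [Pretriangulated D]

/-- a map from a compact object to a homotopy colimit factors through a finite stage -/
lemma exists_factor_of_hocolim {X : D} (hX : IsCompactObject X) {L : D} (i : ∀ n, K n ⟶ L)
    (c : L ⟶ (shiftFunctor D (1 : ℤ)).obj (∐ K))
    (hT : Triangle.mk (𝟙 (∐ K) - Brown.shiftMap K f) (Sigma.desc i) c ∈ distTriang D)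
    (g : X ⟶ L) : ∃ (N : ℕ) (g' : X ⟶ K N), g = g' ≫ i N := by
  have hi : ∀ n, f n ≫ i (n + 1) = i n := by
    intro n
    have h0 : (𝟙 (∐ K) - Brown.shiftMap K f) ≫ Sigma.desc i = 0 :=
      comp_distTriang_mor_zero₁₂ _ hT
    have := Sigma.ι K n ≫= h0
    rw [comp_zero, Preadditive.sub_comp, Preadditive.comp_sub, Category.id_comp,
      Brown.ι_shiftMap_assoc, sub_eq_zero] at this
    simpa using this.symm
  have hup : ∀ (n k : ℕ) (g' : X ⟶ K n), ∃ g'' : X ⟶ K (n + k), g' ≫ i n = g'' ≫ i (n + k) := by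
    intro n k g'
    induction k with
    | zero => exact ⟨g', rfl⟩
    | succ k ih =>
      obtain ⟨g'', hg''⟩ := ih
      exact ⟨g'' ≫ f (n + k), by rw [hg'', Category.assoc]; erw [hi (n + k)]⟩
  have hup' : ∀ (n N : ℕ) (_ : n ≤ N) (g' : X ⟶ K n), ∃ g'' : X ⟶ K N, g' ≫ i n = g'' ≫ i N := by
    intro n N h g'
    obtain ⟨k, rfl⟩ := Nat.exists_eq_add_of_le h
    exact hup n k g'
  have h1 : g ≫ c = 0 := by
    apply Brown.eq_zero_of_shift (𝟙 (∐ K) - Brown.shiftMap K f) (g ≫ c)
    · rw [Category.assoc]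
      have : c ≫ (shiftFunctor D (1 : ℤ)).map (𝟙 (∐ K) - Brown.shiftMap K f) = 0 :=
        comp_distTriang_mor_zero₃₁ _ hT
      rw [this, comp_zero]
    · intro g' hg'
      exact eq_zero_of_comp_one_sub_shiftMap K f (isCompactObject_shift hX (-1)) g' hg'
  obtain ⟨g₀, hg₀⟩ : ∃ g₀ : X ⟶ ∐ K, g = g₀ ≫ Sigma.desc i := Triangle.coyoneda_exact₃ _ hT g h1
  obtain ⟨t, a, ha⟩ := exists_finset_nat_of_compact hX K g₀
  have h2 : g = ∑ n ∈ t, a n ≫ i n := by
    rw [hg₀, ha, Preadditive.sum_comp]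
    refine Finset.sum_congr rfl (fun n _ => ?_)
    simp
  rw [h2]
  clear h2 ha hg₀ h1
  induction t using Finset.induction_on with
  | empty => exact ⟨0, 0, by simp⟩
  | insert m t hm ih =>
    obtain ⟨N, g', hg'⟩ := ih
    obtain ⟨g₁, hg₁⟩ := hup' m (max m N) (le_max_left _ _) (a m)
    obtain ⟨g₂, hg₂⟩ := hup' N (max m N) (le_max_right _ _) g'
    refine ⟨max m N, g₁ + g₂, ?_⟩
    rw [Finset.sum_insert hm, hg', hg₁, hg₂, Preadditive.add_comp]

end Hocolim

section Gen

open CategoryTheory.Pretriangulated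

variable [HasZeroObject D] [HasShift D ℤ] [∀ n : ℤ, (shiftFunctor D n).Additive]
  [Pretriangulated D]

lemma hgen_of_generates {ι : Type v} (E : ι → D) (hE : Generates E) :
    ∀ X : D, (∀ Q, Brown.PE (Brown.shifts E) Q → ∀ f : Q ⟶ X, f = 0) → IsZero X := by
  intro X hX
  apply hE
  intro i n f
  have h1 := hX ((shiftFunctor D (-n)).obj (E i)) (Brown.pe_shifts_of_iso E i (-n) (Iso.refl _))
    ((shiftFunctor D (-n)).map f ≫ (shiftFunctorCompIsoId D n (-n) (by simp)).hom.app X)
  have h2 : (shiftFunctor D (-n)).map f = 0 := by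
    rw [← cancel_mono ((shiftFunctorCompIsoId D n (-n) (by simp)).hom.app X), h1, zero_comp]
  exact (shiftFunctor D (-n)).map_injective (by rw [h2, Functor.map_zero])

end Gen

end Groth.Agent.Lib.helper2.Compact
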