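import Mathlib

set_option autoImplicit false
set_option linter.unusedSectionVars false

namespace Groth.Agent.Lib.helper2.HomologyLinear

open CategoryTheory CategoryTheory.Limits DerivedCategory

universe u

attribute [local instance] HasDerivedCategory.standard

variable {R : Type u} [CommRing R]

lemma homologyMap_smul_id (E : CochainComplex (ModuleCat.{u} R) ℤ) (a : R) (i : ℤ) :
    HomologicalComplex.homologyMap (a • 𝟙 E) i = a • 𝟙 (E.homology i) := by
  have h1 : (HomologicalComplex.shortComplexFunctor (ModuleCat.{u} R) (ComplexShape.up ℤ) i).map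
      (a • 𝟙 E) = a • 𝟙 (E.sc i) := by
    ext <;> rfl
  show ShortComplex.homologyMap _ = _
  rw [h1, ShortComplex.homologyMap_smul, ShortComplex.homologyMap_id]
  rfl

lemma comp_smul_id {C : Type*} [Category C] [Preadditive C] [Linear R C] {X Y : C} (f : X ⟶ Y)
    (a : R) : f ≫ (a • 𝟙 Y) = a • f := by
  rw [Linear.comp_smul, Category.comp_id]

lemma smul_id_comp {C : Type*} [Category C] [Preadditive C] [Linear R C] {X Y : C} (f : X ⟶ Y)
    (a : R) : (a • 𝟙 X) ≫ f = a • f := by
  rw [Linear.smul_comp, Category.id_comp]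

lemma homologyFunctor_map_smul_id (X : DerivedCategory (ModuleCat.{u} R)) (a : R) (i : ℤ) :
    (homologyFunctor (ModuleCat.{u} R) i).map (a • 𝟙 X) =
      a • 𝟙 ((homologyFunctor (ModuleCat.{u} R) i).obj X) := by
  let E := Q.objPreimage X
  let e : Q.obj E ≅ X := Q.objObjPreimageIso X
  have h0 : Q.map (a • 𝟙 E) = a • 𝟙 (Q.obj E) := by
    rw [CategoryTheory.Functor.map_smul, CategoryTheory.Functor.map_id]
  have h1 : a • 𝟙 X = e.inv ≫ Q.map (a • 𝟙 E) ≫ e.hom := by
    rw [h0, smul_id_comp, Linear.comp_smul, e.inv_hom_id]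
  have h2 : (homologyFunctor (ModuleCat.{u} R) i).map (Q.map (a • 𝟙 E)) =
      a • 𝟙 ((homologyFunctor (ModuleCat.{u} R) i).obj (Q.obj E)) := by
    let φ : (homologyFunctor (ModuleCat.{u} R) i).obj (Q.obj E) ≅ E.homology i :=
      (homologyFunctorFactors (ModuleCat.{u} R) i).app E
    have hn : (homologyFunctor (ModuleCat.{u} R) i).map (Q.map (a • 𝟙 E)) ≫ φ.hom =
        φ.hom ≫ HomologicalComplex.homologyMap (a • 𝟙 E) i :=
      (homologyFunctorFactors (ModuleCat.{u} R) i).hom.naturality (X := E) (Y := E)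
        (a • 𝟙 E : E ⟶ E)
    rw [← cancel_mono φ.hom, hn, homologyMap_smul_id]
    exact (comp_smul_id φ.hom a).trans (smul_id_comp φ.hom a).symm
  rw [h1, CategoryTheory.Functor.map_comp, CategoryTheory.Functor.map_comp, h2]
  have h4 := comp_smul_id ((homologyFunctor (ModuleCat.{u} R) i).map e.inv) a
  rw [← Category.assoc, h4, Linear.smul_comp (R := R), ← CategoryTheory.Functor.map_comp,
    e.inv_hom_id, CategoryTheory.Functor.map_id]

lemma homologyFunctor_map_smul_id_apply (X : DerivedCategory (ModuleCat.{u} R)) (a : R) (i : ℤ)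
    (x : (homologyFunctor (ModuleCat.{u} R) i).obj X) :
    ((homologyFunctor (ModuleCat.{u} R) i).map (a • 𝟙 X)).hom x = a • x := by
  rw [homologyFunctor_map_smul_id]
  rfl

end Groth.Agent.Lib.helper2.HomologyLinear
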