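import Mathlib

set_option autoImplicit false
set_option linter.unusedSectionVars false
set_option linter.style.haveILetI false
set_option backward.isDefEq.respectTransparency false
set_option backward.defeqAttrib.useBackward true

namespace Groth.Agent.Lib.helper2.InjAmp

open CategoryTheory CategoryTheory.Limits HomologicalComplex CochainComplex DerivedCategory

universe w w' v u

variable {C : Type u} [Category.{v} C] [Abelian C] [HasDerivedCategory.{w'} C]

/-- the cycle inclusion as a chain map from a single complex -/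
noncomputable def cyc (K : CochainComplex C ℤ) (i : ℤ) :
    (CochainComplex.singleFunctor C i).obj (K.cycles i) ⟶ K :=
  HomologicalComplex.mkHomFromSingle (K.iCycles i) (fun k _ => K.iCycles_d i k)

lemma cyc_f (K : CochainComplex C ℤ) (i : ℤ) :
    (cyc K i).f i = (HomologicalComplex.singleObjXSelf (ComplexShape.up ℤ) i (K.cycles i)).hom ≫
      K.iCycles i :=
  HomologicalComplex.mkHomFromSingle_f _ _

lemma isZero_homology_of_Q_map_cyc_eq_zero (K : CochainComplex C ℤ) (i : ℤ)
    (h : Q.map (cyc K i) = 0) : IsZero (K.homology i) := by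
  have h1 : homologyMap (cyc K i) i = 0 := by
    have e := DerivedCategory.homologyFunctorFactors C i
    have hn : (DerivedCategory.homologyFunctor C i).map (Q.map (cyc K i)) ≫ e.hom.app K =
        e.hom.app _ ≫ homologyMap (cyc K i) i := e.hom.naturality (cyc K i)
    rw [h, Functor.map_zero, zero_comp] at hn
    have : (e.app _).hom ≫ homologyMap (cyc K i) i = (e.app _).hom ≫ 0 := by
      rw [comp_zero]; exact hn.symm
    exact (Iso.cancel_iso_hom_left (e.app _) _ _).1 this
  let S := (CochainComplex.singleFunctor C i).obj (K.cycles i)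
  have h2 : IsIso (S.iCycles i) := S.isIso_iCycles i (i + 1) (by simp) (by
    exact HomologicalComplex.single_obj_d _ _ _ _ _)
  have h3 : cyclesMap (cyc K i) i = S.iCycles i ≫
      (HomologicalComplex.singleObjXSelf (ComplexShape.up ℤ) i (K.cycles i)).hom := by
    rw [← cancel_mono (K.iCycles i), cyclesMap_i, cyc_f, Category.assoc]
  have h4 : IsIso (cyclesMap (cyc K i) i) := by
    rw [h3]
    infer_instance
  have h5 : K.homologyπ i = 0 := by
    rw [← cancel_epi (cyclesMap (cyc K i) i), ← homologyπ_naturality, h1, comp_zero, comp_zero]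
  exact IsZero.of_epi_eq_zero _ h5

/-- a map to a K-injective complex which vanishes in the derived category is null-homotopic -/
lemma nonempty_homotopy_zero_of_Q_map_eq_zero {S I : CochainComplex C ℤ} [I.IsKInjective]
    (f : S ⟶ I) (h : Q.map f = 0) : Nonempty (Homotopy f 0) := by
  have h1 : Qh.map ((HomotopyCategory.quotient C (ComplexShape.up ℤ)).map f) =
      Qh.map ((HomotopyCategory.quotient C (ComplexShape.up ℤ)).map (0 : S ⟶ I)) := by
    have := (quotientCompQhIso C).hom.naturality f
    dsimp at this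
    rw [← cancel_mono ((quotientCompQhIso C).hom.app I), this, h, comp_zero,
      Functor.map_zero, Functor.map_zero, zero_comp]
  exact ⟨HomotopyCategory.homotopyOfEq _ _
    ((CochainComplex.IsKInjective.Qh_map_bijective _ I).injective h1)⟩

/-- if the cycle inclusion is null-homotopic, it factors through the differential -/
lemma exists_section_of_homotopy (K : CochainComplex C ℤ) (i : ℤ)
    (h : Homotopy (cyc K i) 0) :
    ∃ s : K.cycles i ⟶ K.X (i - 1), s ≫ K.d (i - 1) i = K.iCycles i := by
  refine ⟨(HomologicalComplex.singleObjXSelf (ComplexShape.up ℤ) i (K.cycles i)).inv ≫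
    h.hom i (i - 1), ?_⟩
  have h1 := h.comm i
  rw [dNext_eq _ (show (ComplexShape.up ℤ).Rel i (i + 1) by simp),
    prevD_eq _ (show (ComplexShape.up ℤ).Rel (i - 1) i by simp), cyc_f] at h1
  have h2 : ((CochainComplex.singleFunctor C i).obj (K.cycles i)).d i (i + 1) = 0 :=
    HomologicalComplex.single_obj_d _ _ _ _ _
  rw [h2, zero_comp, zero_add, HomologicalComplex.zero_f, add_zero] at h1
  rw [Category.assoc, ← h1, Iso.inv_hom_id_assoc]

section

variable (K : CochainComplex C ℤ) (i : ℤ) (s : K.cycles i ⟶ K.X (i - 1))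
  (hs : s ≫ K.d (i - 1) i = K.iCycles i)

include hs

lemma section_toCycles : s ≫ K.toCycles (i - 1) i = 𝟙 _ := by
  rw [← cancel_mono (K.iCycles i), Category.assoc, toCycles_i, hs, Category.id_comp]

lemma isZero_homology_of_section : IsZero (K.homology i) := by
  have h5 : K.homologyπ i = 0 := by
    have : K.homologyπ i = (s ≫ K.toCycles (i - 1) i) ≫ K.homologyπ i := by
      rw [section_toCycles K i s hs, Category.id_comp]
    rw [this, Category.assoc, toCycles_comp_homologyπ, comp_zero]
  exact IsZero.of_epi_eq_zero _ h5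

/-- the cycles in degree `i - 1` are a retract of `K.X (i - 1)` -/
noncomputable def retractCycles : Retract (K.cycles (i - 1)) (K.X (i - 1)) where
  i := K.iCycles (i - 1)
  r := K.liftCycles (𝟙 _ - K.toCycles (i - 1) i ≫ s) i (by simp) (by
    rw [Preadditive.sub_comp, Category.id_comp, Category.assoc, hs, toCycles_i, sub_self])
  retract := by
    rw [← cancel_mono (K.iCycles (i - 1)), Category.assoc, liftCycles_i,
      Preadditive.comp_sub, Category.comp_id, Category.id_comp]
    have : K.iCycles (i - 1) ≫ K.toCycles (i - 1) i = 0 := by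
      rw [← cancel_mono (K.iCycles i), Category.assoc, toCycles_i, iCycles_d, zero_comp]
    rw [reassoc_of% this, zero_comp, sub_zero]

end

lemma hom_single_shift_iff (X : DerivedCategory C) (i : ℤ) (F : C) :
    (∀ φ : (DerivedCategory.singleFunctor C 0).obj F ⟶
      (CategoryTheory.shiftFunctor (DerivedCategory C) i).obj X, φ = 0) ↔
    (∀ ψ : (DerivedCategory.singleFunctor C i).obj F ⟶ X, ψ = 0) := by
  let e : ((DerivedCategory.singleFunctor C i).obj F)⟦i⟧ ≅
      (DerivedCategory.singleFunctor C 0).obj F :=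
    ((DerivedCategory.singleFunctors C).shiftIso i 0 i (by simp)).app F
  constructor
  · intro h ψ
    apply (CategoryTheory.shiftFunctor (DerivedCategory C) i).map_injective
    rw [Functor.map_zero, ← cancel_epi e.inv, comp_zero]
    exact h _
  · intro h φ
    obtain ⟨ψ, hψ⟩ := (CategoryTheory.shiftFunctor (DerivedCategory C) i).map_surjective (e.hom ≫ φ)
    rw [h ψ, Functor.map_zero] at hψ
    rw [← cancel_epi e.hom, ← hψ, comp_zero]

theorem backward (X : DerivedCategory C) (a b : ℤ) (I : CochainComplex C ℤ)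
    (hI : ∀ i, Injective (I.X i)) (hz : ∀ i, (i < a ∨ b < i) → IsZero (I.X i))
    (e : Q.obj I ≅ X) (F : C) (i : ℤ) (hi : i < a ∨ b < i)
    (ψ : (DerivedCategory.singleFunctor C i).obj F ⟶ X) : ψ = 0 := by
  haveI : I.IsStrictlyGE a := by
    rw [CochainComplex.isStrictlyGE_iff]
    intro j hj
    exact hz j (Or.inl hj)
  haveI := hI
  haveI : I.IsKInjective := CochainComplex.isKInjective_of_injective I a
  let S := (CochainComplex.singleFunctor C i).obj F
  obtain ⟨g, hg⟩ := (CochainComplex.IsKInjective.Qh_map_bijective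
    ((HomotopyCategory.quotient _ _).obj S) I).surjective
      ((quotientCompQhIso C).hom.app S ≫ (singleFunctorIsoCompQ C i).inv.app F ≫ ψ ≫ e.inv ≫
        (quotientCompQhIso C).inv.app I)
  obtain ⟨f, rfl⟩ := (HomotopyCategory.quotient _ _).map_surjective g
  have hf : f = 0 := by
    apply HomologicalComplex.from_single_hom_ext
    exact (hz i hi).eq_of_tgt _ _
  subst hf
  rw [Functor.map_zero, Functor.map_zero] at hg
  rw [← cancel_mono e.inv, ← cancel_mono ((quotientCompQhIso C).inv.app I),
    ← cancel_epi ((singleFunctorIsoCompQ C i).inv.app F),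
    ← cancel_epi ((quotientCompQhIso C).hom.app S)]
  simp only [Category.assoc, zero_comp, comp_zero]
  exact hg.symm

lemma isStrictlyGE_truncLE (I : CochainComplex C ℤ) (a b : ℤ) [I.IsStrictlyGE a] :
    (I.truncLE b).IsStrictlyGE a := by
  rw [CochainComplex.isStrictlyGE_iff]
  intro q hq
  obtain h | rfl | h := lt_trichotomy q b
  · exact (CochainComplex.isZero_of_isStrictlyGE I a q hq).of_iso (I.truncLEXIso b q h)
  · refine IsZero.of_iso ?_ (I.truncLEXIsoCycles q)
    exact IsZero.of_mono (I.iCycles q) (CochainComplex.isZero_of_isStrictlyGE I a q hq)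
  · exact CochainComplex.isZero_of_isStrictlyLE _ b _ h

lemma injective_truncLE_X (I : CochainComplex C ℤ) (b : ℤ) (hI : ∀ n, Injective (I.X n))
    (hcyc : Injective (I.cycles b)) (q : ℤ) : Injective ((I.truncLE b).X q) := by
  obtain h | rfl | h := lt_trichotomy q b
  · exact Injective.of_iso (I.truncLEXIso b q h).symm (hI q)
  · exact Injective.of_iso (I.truncLEXIsoCycles q).symm hcyc
  · exact (CochainComplex.isZero_of_isStrictlyLE _ b _ h).injective

/-- the core of the argument: a bounded below complex of injectives with no maps from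
`F[-i]` for `i > b` is cohomologically `≤ b` with injective cycles in degree `b`. -/
lemma core (I : CochainComplex C ℤ) (a b : ℤ) [I.IsStrictlyGE a] (hI : ∀ n, Injective (I.X n))
    (H : ∀ (F : C) (i : ℤ), b < i →
      ∀ ψ : (DerivedCategory.singleFunctor C i).obj F ⟶ Q.obj I, ψ = 0) :
    I.IsLE b ∧ Injective (I.cycles b) := by
  haveI := hI
  haveI : I.IsKInjective := CochainComplex.isKInjective_of_injective I a
  have sec : ∀ i, b < i → ∃ s : I.cycles i ⟶ I.X (i - 1), s ≫ I.d (i - 1) i = I.iCycles i := by
    intro i hi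
    have h0 : Q.map (cyc I i) = 0 := by
      have := H (I.cycles i) i hi ((singleFunctorIsoCompQ C i).hom.app _ ≫ Q.map (cyc I i))
      rw [← cancel_epi ((singleFunctorIsoCompQ C i).hom.app _), comp_zero]
      exact this
    obtain ⟨h⟩ := nonempty_homotopy_zero_of_Q_map_eq_zero _ h0
    exact exists_section_of_homotopy I i h
  constructor
  · rw [CochainComplex.isLE_iff]
    intro i hi
    rw [HomologicalComplex.exactAt_iff_isZero_homology]
    obtain ⟨s, hs⟩ := sec i hi
    exact isZero_homology_of_section I i s hs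
  · obtain ⟨s, hs⟩ := sec (b + 1) (by lia)
    have r := retractCycles I (b + 1) s hs
    have hb : b + 1 - 1 = b := by lia
    rw [hb] at r
    exact r.injective

/-- if there are no maps from `F[-i]` to `X` for `i < a`, then `X` is `≥ a`. -/
lemma isGE_of_hom_single_eq_zero (X : DerivedCategory C) (a : ℤ)
    (H : ∀ (F : C) (i : ℤ), i < a →
      ∀ ψ : (DerivedCategory.singleFunctor C i).obj F ⟶ X, ψ = 0) : X.IsGE a := by
  have : (Q.obj (Q.objPreimage X)).IsGE a := by
    rw [isGE_Q_obj_iff, CochainComplex.isGE_iff]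
    intro i hi
    rw [HomologicalComplex.exactAt_iff_isZero_homology]
    apply isZero_homology_of_Q_map_cyc_eq_zero
    have := H ((Q.objPreimage X).cycles i) i hi
      ((singleFunctorIsoCompQ C i).hom.app _ ≫ Q.map (cyc _ i) ≫ (Q.objObjPreimageIso X).hom)
    rw [← cancel_mono (Q.objObjPreimageIso X).hom, zero_comp,
      ← cancel_epi ((singleFunctorIsoCompQ C i).hom.app _), comp_zero]
    exact this
  exact TStructure.t.isGE_of_iso (Q.objObjPreimageIso X) a

theorem forward [EnoughInjectives C] (X : DerivedCategory C) (a b : ℤ)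
    (H : ∀ (F : C) (i : ℤ), (i < a ∨ b < i) →
      ∀ ψ : (DerivedCategory.singleFunctor C i).obj F ⟶ X, ψ = 0) :
    ∃ I : CochainComplex C ℤ, (∀ i, Injective (I.X i)) ∧
      I.IsStrictlyGE a ∧ I.IsStrictlyLE b ∧ Nonempty (DerivedCategory.Q.obj I ≅ X) := by
  have hGE : X.IsGE a := isGE_of_hom_single_eq_zero X a (fun F i hi => H F i (Or.inl hi))
  obtain ⟨K', hK', ⟨e'⟩⟩ := X.exists_iso_Q_obj_of_isGE a
  obtain ⟨I, f, hf, hI, hIa⟩ :=
    CochainComplex.Plus.modelCategoryQuillen.exists_quasiIso_injective K' a
  haveI : IsIso (Q.map f) := by rw [isIso_Q_map_iff_quasiIso]; exact hf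
  let eI : Q.obj I ≅ X := (asIso (Q.map f)).symm ≪≫ e'.symm
  obtain ⟨hLE, hcyc⟩ := core I a b hI (fun F i hi ψ => by
    rw [← cancel_mono eI.hom, zero_comp]
    exact H F i (Or.inr hi) _)
  haveI : IsIso (Q.map (I.ιTruncLE b)) := by rw [isIso_Q_map_iff_quasiIso]; infer_instance
  exact ⟨I.truncLE b, injective_truncLE_X I b hI hcyc, isStrictlyGE_truncLE I a b, inferInstance,
    ⟨asIso (Q.map (I.ιTruncLE b)) ≪≫ eI⟩⟩

theorem backward' (X : DerivedCategory C) (a b : ℤ) (I : CochainComplex C ℤ)
    (hI : ∀ i, Injective (I.X i)) [I.IsStrictlyGE a] [I.IsStrictlyLE b]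
    (e : Q.obj I ≅ X) (F : C) (i : ℤ) (hi : i < a ∨ b < i)
    (ψ : (DerivedCategory.singleFunctor C i).obj F ⟶ X) : ψ = 0 :=
  backward X a b I hI (fun j hj => by
    obtain hj | hj := hj
    · exact CochainComplex.isZero_of_isStrictlyGE I a j hj
    · exact CochainComplex.isZero_of_isStrictlyLE I b j hj) e F i hi ψ

end Groth.Agent.Lib.helper2.InjAmp
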