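import Mathlib
import Groth.Agent.Lib.helper2.InjAmp

/-!
# Injective amplitude over a ring: Baer-type criterion (helper2)
-/

set_option autoImplicit false
set_option linter.unusedSectionVars false
set_option linter.style.haveILetI false
set_option backward.isDefEq.respectTransparency false
set_option backward.defeqAttrib.useBackward true

namespace Groth.Agent.Lib.helper2.InjAmp

open CategoryTheory CategoryTheory.Limits HomologicalComplex CochainComplex DerivedCategory

universe w v u

section General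

variable {C : Type u} [Category.{v} C] [Abelian C] [HasDerivedCategory.{w} C]

/-- the chain map from a single complex associated to a map to the cycles -/
noncomputable def cycOf (K : CochainComplex C ℤ) (i : ℤ) {F : C} (g : F ⟶ K.cycles i) :
    (CochainComplex.singleFunctor C i).obj F ⟶ K :=
  (CochainComplex.singleFunctor C i).map g ≫ cyc K i

lemma cycOf_f (K : CochainComplex C ℤ) (i : ℤ) {F : C} (g : F ⟶ K.cycles i) :
    (cycOf K i g).f i = (HomologicalComplex.singleObjXSelf (ComplexShape.up ℤ) i F).hom ≫ g ≫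
      K.iCycles i := by
  dsimp only [cycOf]
  rw [HomologicalComplex.comp_f, cyc_f]
  have : ((CochainComplex.singleFunctor C i).map g).f i =
      (HomologicalComplex.singleObjXSelf (ComplexShape.up ℤ) i F).hom ≫ g ≫
        (HomologicalComplex.singleObjXSelf (ComplexShape.up ℤ) i (K.cycles i)).inv :=
    HomologicalComplex.single_map_f_self _ _ _
  rw [this]
  simp

/-- if the map `cycOf g` vanishes in the derived category, the class of `g` in homology is zero -/
lemma comp_homologyπ_eq_zero_of_Q_map_cycOf (K : CochainComplex C ℤ) (i : ℤ) {F : C}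
    (g : F ⟶ K.cycles i) (h : Q.map (cycOf K i g) = 0) : g ≫ K.homologyπ i = 0 := by
  have h1 : homologyMap (cycOf K i g) i = 0 := by
    have e := DerivedCategory.homologyFunctorFactors C i
    have hn : (DerivedCategory.homologyFunctor C i).map (Q.map (cycOf K i g)) ≫ e.hom.app K =
        e.hom.app _ ≫ homologyMap (cycOf K i g) i := e.hom.naturality (cycOf K i g)
    rw [h, Functor.map_zero, zero_comp] at hn
    have : (e.app _).hom ≫ homologyMap (cycOf K i g) i = (e.app _).hom ≫ 0 := by
      rw [comp_zero]; exact hn.symm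
    exact (Iso.cancel_iso_hom_left (e.app _) _ _).1 this
  let S := (CochainComplex.singleFunctor C i).obj F
  have h2 : IsIso (S.iCycles i) := S.isIso_iCycles i (i + 1) (by simp) (by
    exact HomologicalComplex.single_obj_d _ _ _ _ _)
  have h3 : cyclesMap (cycOf K i g) i = S.iCycles i ≫
      (HomologicalComplex.singleObjXSelf (ComplexShape.up ℤ) i F).hom ≫ g := by
    rw [← cancel_mono (K.iCycles i), cyclesMap_i, cycOf_f, Category.assoc, Category.assoc]
  have h5 : cyclesMap (cycOf K i g) i ≫ K.homologyπ i = 0 := by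
    rw [← homologyπ_naturality, h1, comp_zero]
  rw [h3, Category.assoc, Category.assoc] at h5
  have h6 : IsIso (S.iCycles i ≫
      (HomologicalComplex.singleObjXSelf (ComplexShape.up ℤ) i F).hom) := inferInstance
  rw [← cancel_epi (S.iCycles i ≫
      (HomologicalComplex.singleObjXSelf (ComplexShape.up ℤ) i F).hom), comp_zero,
    Category.assoc]
  exact h5

/-- a null-homotopy of `cycOf g` gives a lift of `g` through the differential -/
lemma exists_lift_of_homotopy_cycOf (K : CochainComplex C ℤ) (i j : ℤ) (hji : j + 1 = i) {F : C}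
    (g : F ⟶ K.cycles i) (h : Homotopy (cycOf K i g) 0) :
    ∃ s : F ⟶ K.X j, s ≫ K.d j i = g ≫ K.iCycles i := by
  refine ⟨(HomologicalComplex.singleObjXSelf (ComplexShape.up ℤ) i F).inv ≫ h.hom i j, ?_⟩
  have h1 := h.comm i
  rw [dNext_eq _ (show (ComplexShape.up ℤ).Rel i (i + 1) by simp),
    prevD_eq _ (show (ComplexShape.up ℤ).Rel j i by simpa using hji), cycOf_f] at h1
  have h2 : ((CochainComplex.singleFunctor C i).obj F).d i (i + 1) = 0 :=
    HomologicalComplex.single_obj_d _ _ _ _ _
  rw [h2, zero_comp, zero_add, HomologicalComplex.zero_f, add_zero] at h1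
  rw [Category.assoc, ← h1, Iso.inv_hom_id_assoc]

/-- vanishing of `Hom(F[-i], Q I)` gives: maps from `F` to cycles of a K-injective `I` lift
through the differential -/
lemma exists_lift_of_hom_eq_zero (I : CochainComplex C ℤ) [I.IsKInjective] (F : C) (i j : ℤ)
    (hji : j + 1 = i)
    (H : ∀ ψ : (DerivedCategory.singleFunctor C i).obj F ⟶ Q.obj I, ψ = 0)
    (g : F ⟶ I.cycles i) : ∃ s : F ⟶ I.X j, s ≫ I.d j i = g ≫ I.iCycles i := by
  have h0 : Q.map (cycOf I i g) = 0 := by
    have := H ((singleFunctorIsoCompQ C i).hom.app _ ≫ Q.map (cycOf I i g))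
    rw [← cancel_epi ((singleFunctorIsoCompQ C i).hom.app _), comp_zero]
    exact this
  obtain ⟨h⟩ := nonempty_homotopy_zero_of_Q_map_eq_zero _ h0
  exact exists_lift_of_homotopy_cycOf I i j hji g h

lemma comp_homologyπ_eq_zero_of_hom_eq_zero (K : CochainComplex C ℤ) (F : C) (i : ℤ)
    (H : ∀ ψ : (DerivedCategory.singleFunctor C i).obj F ⟶ Q.obj K, ψ = 0)
    (g : F ⟶ K.cycles i) : g ≫ K.homologyπ i = 0 := by
  apply comp_homologyπ_eq_zero_of_Q_map_cycOf
  have := H ((singleFunctorIsoCompQ C i).hom.app _ ≫ Q.map (cycOf K i g))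
  rw [← cancel_epi ((singleFunctorIsoCompQ C i).hom.app _), comp_zero]
  exact this

end General

section Module

variable {R : Type u} [CommRing R]

/-- a morphism of modules vanishes if it kills all maps from `R ⧸ ⊥` -/
lemma eq_zero_of_comp_eq_zero {M N : ModuleCat.{u} R} (f : M ⟶ N)
    (h : ∀ g : ModuleCat.of R (R ⧸ (⊥ : Ideal R)) ⟶ M, g ≫ f = 0) : f = 0 := by
  apply ModuleCat.hom_ext
  apply LinearMap.ext
  intro x
  let g : ModuleCat.of R (R ⧸ (⊥ : Ideal R)) ⟶ M :=
    ModuleCat.ofHom (Submodule.liftQ ⊥ (LinearMap.toSpanSingleton R M x) bot_le)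
  have h1 := ConcreteCategory.congr_hom (h g) (Submodule.Quotient.mk (1 : R))
  have h2 : g.hom (Submodule.Quotient.mk (1 : R)) = x := by
    change (Submodule.liftQ ⊥ (LinearMap.toSpanSingleton R M x) bot_le)
      (Submodule.Quotient.mk (1 : R)) = x
    rw [Submodule.liftQ_apply]
    simp
  change f.hom (g.hom (Submodule.Quotient.mk (1 : R))) = 0 at h1
  rw [h2] at h1
  exact h1

lemma baer_cycles (I : CochainComplex (ModuleCat.{u} R) ℤ) (b : ℤ)
    (hI : Module.Injective R (I.X b))
    (hlift : ∀ (J : Ideal R) (g : ModuleCat.of R (R ⧸ J) ⟶ I.cycles (b + 1)),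
      ∃ s : ModuleCat.of R (R ⧸ J) ⟶ I.X b, s ≫ I.d b (b + 1) = g ≫ I.iCycles (b + 1)) :
    Module.Baer R (I.cycles b) := by
  intro J g
  obtain ⟨g₁, hg₁⟩ := Module.Baer.of_injective hI J ((I.iCycles b).hom.comp g)
  let u : R →ₗ[R] I.X (b + 1) := (I.d b (b + 1)).hom.comp g₁
  have hdi : ∀ z : I.cycles b, (I.d b (b + 1)).hom ((I.iCycles b).hom z) = 0 := by
    intro z
    have h1 : (I.iCycles b ≫ I.d b (b + 1)) = 0 := I.iCycles_d b (b + 1)
    exact ConcreteCategory.congr_hom h1 z
  have hdd : ∀ z : I.X b, (I.d (b + 1) (b + 1 + 1)).hom ((I.d b (b + 1)).hom z) = 0 := by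
    intro z
    exact ConcreteCategory.congr_hom (I.d_comp_d b (b + 1) (b + 1 + 1)) z
  have hu : J ≤ LinearMap.ker u := by
    intro x hx
    rw [LinearMap.mem_ker]
    change (I.d b (b + 1)).hom (g₁ x) = 0
    rw [hg₁ x hx]
    exact hdi _
  let ubar : ModuleCat.of R (R ⧸ J) ⟶ I.X (b + 1) := ModuleCat.ofHom (Submodule.liftQ J u hu)
  have hubar : ubar ≫ I.d (b + 1) (b + 1 + 1) = 0 := by
    apply ModuleCat.hom_ext
    apply LinearMap.ext
    intro x
    obtain ⟨x, rfl⟩ := Submodule.Quotient.mk_surjective _ x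
    change (I.d (b + 1) (b + 1 + 1)).hom ((Submodule.liftQ J u hu) (Submodule.Quotient.mk x)) = 0
    rw [Submodule.liftQ_apply]
    exact hdd _
  let gbar := I.liftCycles ubar (b + 1 + 1) (by simp) hubar
  obtain ⟨s, hs⟩ := hlift J gbar
  rw [liftCycles_i] at hs
  let g₂ : ModuleCat.of R R ⟶ I.X b := ModuleCat.ofHom (g₁ - s.hom.comp (Submodule.mkQ J))
  have hg₂ : g₂ ≫ I.d b (b + 1) = 0 := by
    apply ModuleCat.hom_ext
    apply LinearMap.ext
    intro x
    have h1 := ConcreteCategory.congr_hom hs (Submodule.Quotient.mk x)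
    change (I.d b (b + 1)).hom (s.hom (Submodule.Quotient.mk x)) =
      (Submodule.liftQ J u hu) (Submodule.Quotient.mk x) at h1
    rw [Submodule.liftQ_apply] at h1
    change (I.d b (b + 1)).hom (g₁ x - s.hom (Submodule.Quotient.mk x)) = 0
    rw [map_sub, h1]
    exact sub_self _
  let g' := I.liftCycles g₂ (b + 1) (by simp) hg₂
  refine ⟨g'.hom, fun x hx => ?_⟩
  apply (ModuleCat.mono_iff_injective (I.iCycles b)).1 inferInstance
  have h1 := ConcreteCategory.congr_hom (I.liftCycles_i g₂ (b + 1) (by simp) hg₂) x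
  change (I.iCycles b).hom (g'.hom x) = g₁ x - s.hom (Submodule.Quotient.mk x) at h1
  have h2 : (Submodule.Quotient.mk x : R ⧸ J) = 0 := by
    rw [Submodule.Quotient.mk_eq_zero]
    exact hx
  change (I.iCycles b).hom (g'.hom x) = _
  rw [h1, h2, map_zero, sub_zero, hg₁ x hx]
  rfl

variable [HasDerivedCategory.{w} (ModuleCat.{u} R)]

lemma isZero_homology_of_hom_cyclic_eq_zero (L : CochainComplex (ModuleCat.{u} R) ℤ) (i : ℤ)
    (H : ∀ ψ : (DerivedCategory.singleFunctor _ i).obj
      (ModuleCat.of R (R ⧸ (⊥ : Ideal R))) ⟶ Q.obj L, ψ = 0) : IsZero (L.homology i) := by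
  have h5 : L.homologyπ i = 0 :=
    eq_zero_of_comp_eq_zero _ (fun g => comp_homologyπ_eq_zero_of_hom_eq_zero L _ i H g)
  exact IsZero.of_epi_eq_zero _ h5

theorem forward_cyclic (K : DerivedCategory (ModuleCat.{u} R)) (a b : ℤ)
    (H : ∀ (J : Ideal R) (i : ℤ), (i < a ∨ b < i) →
      ∀ ψ : (DerivedCategory.singleFunctor _ i).obj (ModuleCat.of R (R ⧸ J)) ⟶ K, ψ = 0) :
    ∃ I : CochainComplex (ModuleCat.{u} R) ℤ, (∀ i, Injective (I.X i)) ∧
      I.IsStrictlyGE a ∧ I.IsStrictlyLE b ∧ Nonempty (Q.obj I ≅ K) := by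
  have hGE : K.IsGE a := by
    have : (Q.obj (Q.objPreimage K)).IsGE a := by
      rw [isGE_Q_obj_iff, CochainComplex.isGE_iff]
      intro i hi
      rw [HomologicalComplex.exactAt_iff_isZero_homology]
      apply isZero_homology_of_hom_cyclic_eq_zero
      intro ψ
      rw [← cancel_mono (Q.objObjPreimageIso K).hom, zero_comp]
      exact H _ i (Or.inl hi) _
    exact TStructure.t.isGE_of_iso (Q.objObjPreimageIso K) a
  obtain ⟨K', hK', ⟨e'⟩⟩ := K.exists_iso_Q_obj_of_isGE a
  obtain ⟨I, f, hf, hI, hIa⟩ :=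
    CochainComplex.Plus.modelCategoryQuillen.exists_quasiIso_injective K' a
  haveI : IsIso (Q.map f) := by rw [isIso_Q_map_iff_quasiIso]; exact hf
  let eI : Q.obj I ≅ K := (asIso (Q.map f)).symm ≪≫ e'.symm
  have H' : ∀ (J : Ideal R) (i : ℤ), (i < a ∨ b < i) →
      ∀ ψ : (DerivedCategory.singleFunctor _ i).obj (ModuleCat.of R (R ⧸ J)) ⟶ Q.obj I,
        ψ = 0 := by
    intro J i hi ψ
    rw [← cancel_mono eI.hom, zero_comp]
    exact H J i hi _
  haveI := hI
  haveI : I.IsKInjective := CochainComplex.isKInjective_of_injective I a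
  have hLE : I.IsLE b := by
    rw [CochainComplex.isLE_iff]
    intro i hi
    rw [HomologicalComplex.exactAt_iff_isZero_homology]
    exact isZero_homology_of_hom_cyclic_eq_zero I i (H' _ i (Or.inr hi))
  have hcyc : Injective (I.cycles b) := by
    have h1 : Module.Injective R (I.X b) := Module.injective_module_of_injective_object R (I.X b)
    have h2 : Module.Baer R (I.cycles b) := baer_cycles I b h1 (fun J g =>
      exists_lift_of_hom_eq_zero I _ (b + 1) b rfl (H' J (b + 1) (Or.inr (by lia))) g)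
    have h3 : Module.Injective R (I.cycles b) := h2.injective
    exact Module.injective_object_of_injective_module R (I.cycles b)
  haveI : IsIso (Q.map (I.ιTruncLE b)) := by rw [isIso_Q_map_iff_quasiIso]; infer_instance
  exact ⟨I.truncLE b, injective_truncLE_X I b hI hcyc, isStrictlyGE_truncLE I a b, inferInstance,
    ⟨asIso (Q.map (I.ιTruncLE b)) ≪≫ eI⟩⟩

end Module

end Groth.Agent.Lib.helper2.InjAmp
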