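import Mathlib
import Groth.Agent.Lib.helper2.InjAmpMod
import Groth.Agent.Lib.helper2.HomologyLinear

/-!
# Hom(R[-i], Y) surjects onto H^i(Y) in D(R) (helper2)
-/

set_option autoImplicit false
set_option linter.unusedSectionVars false
set_option linter.style.haveILetI false

namespace Groth.Agent.Lib.helper2.CorepR

open CategoryTheory CategoryTheory.Limits HomologicalComplex CochainComplex DerivedCategory

attribute [local instance] HasDerivedCategory.standard

universe u

variable (B : Type u) [CommRing B]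

/-- the ring placed in degree `i`, as a complex -/
noncomputable abbrev S (i : ℤ) : CochainComplex (ModuleCat.{u} B) ℤ :=
  (CochainComplex.singleFunctor (ModuleCat.{u} B) i).obj (ModuleCat.of B B)

lemma cyclesMap_cycOf (K : CochainComplex (ModuleCat.{u} B) ℤ) (i : ℤ) {F : ModuleCat.{u} B}
    (g : F ⟶ K.cycles i) :
    cyclesMap (InjAmp.cycOf K i g) i =
      ((CochainComplex.singleFunctor (ModuleCat.{u} B) i).obj F).iCycles i ≫
      (HomologicalComplex.singleObjXSelf (ComplexShape.up ℤ) i F).hom ≫ g := by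
  rw [← cancel_mono (K.iCycles i), cyclesMap_i, InjAmp.cycOf_f, Category.assoc, Category.assoc]
  rfl

/-- there is a class `u ∈ H^i(B[-i])` such that evaluation at `u` is surjective
`Hom(B[-i], Q L) → H^i(Q L)` -/
lemma exists_gen (i : ℤ) : ∃ u : (homologyFunctor (ModuleCat.{u} B) i).obj (Q.obj (S B i)),
    ∀ (L : CochainComplex (ModuleCat.{u} B) ℤ)
      (h : (homologyFunctor (ModuleCat.{u} B) i).obj (Q.obj L)),
      ∃ g : Q.obj (S B i) ⟶ Q.obj L, ((homologyFunctor (ModuleCat.{u} B) i).map g).hom u = h := by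
  let F := homologyFunctorFactors (ModuleCat.{u} B) i
  have hiso : IsIso ((S B i).iCycles i) := (S B i).isIso_iCycles i (i + 1) (by simp) (by
    exact HomologicalComplex.single_obj_d _ _ _ _ _)
  let θ : (S B i).cycles i ⟶ ModuleCat.of B B := (S B i).iCycles i ≫
      (HomologicalComplex.singleObjXSelf (ComplexShape.up ℤ) i (ModuleCat.of B B)).hom
  have hθ : IsIso θ := inferInstance
  let c : (S B i).cycles i := (inv θ).hom (1 : B)
  have hc : θ.hom c = (1 : B) := by
    change (inv θ ≫ θ).hom (1 : B) = 1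
    rw [IsIso.inv_hom_id]
    rfl
  refine ⟨(F.inv.app (S B i)).hom (((S B i).homologyπ i).hom c), fun L h => ?_⟩
  let h' : L.homology i := (F.hom.app L).hom h
  have hsurj : Function.Surjective (L.homologyπ i).hom :=
    (ModuleCat.epi_iff_surjective _).1 inferInstance
  obtain ⟨z, hz⟩ := hsurj h'
  let zt : ModuleCat.of B B ⟶ L.cycles i :=
    ModuleCat.ofHom (LinearMap.toSpanSingleton B (L.cycles i) z)
  have hzt : zt.hom (1 : B) = z := by
    change (LinearMap.toSpanSingleton B (L.cycles i) z) 1 = z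
    rw [LinearMap.toSpanSingleton_apply, one_smul]
  refine ⟨Q.map (InjAmp.cycOf L i zt), ?_⟩
  have hn : F.inv.app (S B i) ≫ (homologyFunctor (ModuleCat.{u} B) i).map
      (Q.map (InjAmp.cycOf L i zt)) = homologyMap (InjAmp.cycOf L i zt) i ≫ F.inv.app L :=
    (F.inv.naturality (InjAmp.cycOf L i zt)).symm
  have h1 : ((homologyFunctor (ModuleCat.{u} B) i).map (Q.map (InjAmp.cycOf L i zt))).hom
      ((F.inv.app (S B i)).hom (((S B i).homologyπ i).hom c)) =
      (F.inv.app L).hom ((homologyMap (InjAmp.cycOf L i zt) i).hom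
        (((S B i).homologyπ i).hom c)) := by
    exact congrArg (fun φ => φ.hom (((S B i).homologyπ i).hom c)) hn
  rw [h1]
  have h2 : (homologyMap (InjAmp.cycOf L i zt) i).hom (((S B i).homologyπ i).hom c) =
      (L.homologyπ i).hom ((cyclesMap (InjAmp.cycOf L i zt) i).hom c) := by
    exact congrArg (fun φ => φ.hom c) (homologyπ_naturality (InjAmp.cycOf L i zt) i)
  rw [h2, cyclesMap_cycOf]
  have h3 : ((S B i).iCycles i ≫
      (HomologicalComplex.singleObjXSelf (ComplexShape.up ℤ) i (ModuleCat.of B B)).hom ≫ zt).hom c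
      = z := by
    change zt.hom (θ.hom c) = z
    rw [hc, hzt]
  rw [h3, hz]
  change (F.hom.app L ≫ F.inv.app L).hom h = h
  rw [Iso.hom_inv_id_app]
  rfl

/-- a `B`-linear surjection `Hom(B[-i], Y) → H^i(Y)` -/
lemma exists_surj (i : ℤ) (Y : DerivedCategory (ModuleCat.{u} B)) :
    ∃ ρ : (Q.obj (S B i) ⟶ Y) →ₗ[B] ((homologyFunctor (ModuleCat.{u} B) i).obj Y : ModuleCat.{u} B),
      Function.Surjective ρ := by
  obtain ⟨u, hu⟩ := exists_gen B i
  let H := homologyFunctor (ModuleCat.{u} B) i
  refine ⟨{ toFun := fun g => (H.map g).hom u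
            map_add' := fun g g' => by
              rw [Functor.map_add, ModuleCat.hom_add, LinearMap.add_apply]
            map_smul' := fun b g => by
              rw [← HomologyLinear.comp_smul_id, Functor.map_comp, ModuleCat.hom_comp,
                LinearMap.comp_apply, HomologyLinear.homologyFunctor_map_smul_id_apply]
              rfl }, ?_⟩
  intro h
  let e : Q.obj (Q.objPreimage Y) ≅ Y := Q.objObjPreimageIso Y
  obtain ⟨g₀, hg₀⟩ := hu (Q.objPreimage Y) ((H.map e.inv).hom h)
  refine ⟨g₀ ≫ e.hom, ?_⟩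
  change (H.map (g₀ ≫ e.hom)).hom u = h
  rw [Functor.map_comp, ModuleCat.hom_comp, LinearMap.comp_apply, hg₀]
  change (H.map e.inv ≫ H.map e.hom).hom h = h
  rw [← Functor.map_comp, e.inv_hom_id, CategoryTheory.Functor.map_id]
  rfl

end Groth.Agent.Lib.helper2.CorepR
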