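import Mathlib

/-!
# The telescope resolution `0 → A^(ℕ) → A^(ℕ) → A_f → 0` (helper2)
-/

set_option autoImplicit false
set_option linter.unusedSectionVars false

namespace Groth.Agent.Lib.helper2.Telescope

universe u

variable {A : Type u} [CommRing A] (f : A)

/-- the shift `e_n ↦ e_{n+1}` -/
noncomputable def sh : (ℕ →₀ A) →ₗ[A] (ℕ →₀ A) := Finsupp.lmapDomain A A Nat.succ

/-- `T = 1 - f • shift` -/
noncomputable def T : (ℕ →₀ A) →ₗ[A] (ℕ →₀ A) := LinearMap.id - f • sh

/-- the inverse of `f` in `A_f` -/
noncomputable abbrev inv : Localization.Away f := IsLocalization.Away.invSelf f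

/-- `π : e_n ↦ f^{-n}` -/
noncomputable def π : (ℕ →₀ A) →ₗ[A] Localization.Away f :=
  Finsupp.linearCombination A (fun n : ℕ => (inv f) ^ n)

lemma sh_single (n : ℕ) (a : A) : sh (Finsupp.single n a) = Finsupp.single (n + 1) a := by
  simp [sh]

lemma T_single (n : ℕ) (a : A) :
    T f (Finsupp.single n a) = Finsupp.single n a - Finsupp.single (n + 1) (f * a) := by
  simp [T, sh_single]

lemma π_single (n : ℕ) (a : A) : π f (Finsupp.single n a) = a • (inv f) ^ n := by
  simp [π]

lemma smul_inv (a : A) (n : ℕ) :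
    (f * a) • (inv f) ^ (n + 1) = a • (inv f) ^ n := by
  rw [Algebra.smul_def, Algebra.smul_def, map_mul, pow_succ]
  have := IsLocalization.Away.mul_invSelf (S := Localization.Away f) f
  calc algebraMap A (Localization.Away f) f * algebraMap A (Localization.Away f) a *
        ((inv f) ^ n * inv f)
      = algebraMap A (Localization.Away f) a * (inv f) ^ n *
        (algebraMap A (Localization.Away f) f * inv f) := by ring
    _ = _ := by rw [this, mul_one]

lemma π_comp_T : (π f).comp (T f) = 0 := by
  apply Finsupp.lhom_ext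
  intro n a
  simp only [LinearMap.comp_apply, LinearMap.zero_apply, T_single, map_sub, π_single, smul_inv,
    sub_self]

lemma π_surjective : Function.Surjective (π f) := by
  intro x
  obtain ⟨a, s, rfl⟩ := IsLocalization.exists_mk'_eq (Submonoid.powers f) x
  obtain ⟨n, hn⟩ := s.2
  refine ⟨Finsupp.single n a, ?_⟩
  rw [π_single, eq_comm, IsLocalization.mk'_eq_iff_eq_mul, ← hn, Algebra.smul_def, map_pow,
    mul_assoc, ← mul_pow, mul_comm (inv f), IsLocalization.Away.mul_invSelf, one_pow, mul_one]

lemma T_injective : Function.Injective (T f) := by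
  rw [injective_iff_map_eq_zero]
  intro x hx
  have hx' : x = f • sh x := by
    have : x - f • sh x = 0 := hx
    exact sub_eq_zero.1 this
  ext n
  induction n with
  | zero =>
    rw [hx', Finsupp.smul_apply, sh, Finsupp.lmapDomain_apply,
      Finsupp.mapDomain_of_notMem_range _ _ (by simp), smul_zero]
    rfl
  | succ n ih =>
    rw [hx', Finsupp.smul_apply, sh, Finsupp.lmapDomain_apply,
      Finsupp.mapDomain_apply Nat.succ_injective, ih]
    simp

/-- `a e_n ≡ a f^k e_{n+k}` modulo the range of `T`. -/
lemma single_sub_single_mem_range (n k : ℕ) (a : A) :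
    Finsupp.single n a - Finsupp.single (n + k) (f ^ k * a) ∈ LinearMap.range (T f) := by
  induction k with
  | zero => simp
  | succ k ih =>
    have h2 : Finsupp.single (n + k) (f ^ k * a) - Finsupp.single (n + k + 1) (f * (f ^ k * a)) ∈
        LinearMap.range (T f) := ⟨_, T_single f (n + k) (f ^ k * a)⟩
    have := Submodule.add_mem _ ih h2
    have e : f ^ (k + 1) * a = f * (f ^ k * a) := by ring
    rw [e, ← add_assoc]
    convert this using 1
    abel

/-- every element is congruent modulo `range T` to a multiple `c e_N` for all large `N`, with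
`π x = c / f^N`. -/
lemma exists_reduce (x : ℕ →₀ A) : ∃ N₀ : ℕ, ∀ N : ℕ, N₀ ≤ N → ∃ c : A,
    x - Finsupp.single N c ∈ LinearMap.range (T f) ∧ π f x = c • (inv f) ^ N := by
  induction x using Finsupp.induction_linear with
  | zero => exact ⟨0, fun N _ => ⟨0, by simp, by simp⟩⟩
  | add x y hx hy =>
    obtain ⟨N₁, h₁⟩ := hx
    obtain ⟨N₂, h₂⟩ := hy
    refine ⟨max N₁ N₂, fun N hN => ?_⟩
    obtain ⟨c₁, hc₁, hc₁'⟩ := h₁ N (le_trans (le_max_left _ _) hN)
    obtain ⟨c₂, hc₂, hc₂'⟩ := h₂ N (le_trans (le_max_right _ _) hN)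
    refine ⟨c₁ + c₂, ?_, ?_⟩
    · have := Submodule.add_mem _ hc₁ hc₂
      rw [Finsupp.single_add]
      convert this using 1
      abel
    · rw [map_add, hc₁', hc₂', add_smul]
  | single n a =>
    refine ⟨n, fun N hN => ?_⟩
    obtain ⟨k, rfl⟩ := Nat.exists_eq_add_of_le hN
    refine ⟨f ^ k * a, single_sub_single_mem_range f n k a, ?_⟩
    rw [π_single]
    clear hN
    induction k with
    | zero => simp
    | succ k ih =>
      rw [ih, ← add_assoc, pow_succ', mul_assoc, smul_inv]

lemma ker_π_le_range_T : LinearMap.ker (π f) ≤ LinearMap.range (T f) := by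
  intro x hx
  obtain ⟨N₀, h⟩ := exists_reduce f x
  obtain ⟨c, hc, hc'⟩ := h N₀ le_rfl
  rw [LinearMap.mem_ker] at hx
  rw [hx] at hc'
  -- `algebraMap c = 0`
  have h0 : algebraMap A (Localization.Away f) c = 0 := by
    have := congrArg (fun z => z * (algebraMap A (Localization.Away f) f) ^ N₀) hc'
    simp only [zero_mul, Algebra.smul_def, mul_assoc] at this
    rw [← mul_pow, mul_comm (inv f), IsLocalization.Away.mul_invSelf, one_pow, mul_one] at this
    exact this.symm
  obtain ⟨⟨_, k, rfl⟩, hk⟩ :=
    (IsLocalization.map_eq_zero_iff (Submonoid.powers f) (Localization.Away f) c).1 h0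
  have h1 := single_sub_single_mem_range f N₀ k c
  have hk' : f ^ k * c = 0 := hk
  rw [hk', Finsupp.single_zero, sub_zero] at h1
  have := Submodule.add_mem _ hc h1
  rwa [sub_add_cancel] at this

end Groth.Agent.Lib.helper2.Telescope
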