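import Mathlib

set_option autoImplicit false
set_option linter.unusedSectionVars false

namespace Groth.Agent.Lib.helper2.TwoTermQI

open CategoryTheory CategoryTheory.Limits HomologicalComplex

universe u

variable {R : Type u} [Ring R]

section Elements

variable (K : CochainComplex (ModuleCat.{u} R) ℤ) (i j : ℤ) (hij : i + 1 = j)

lemma iCycles_injective : Function.Injective (K.iCycles i) :=
  (ModuleCat.mono_iff_injective _).1 inferInstance

lemma pOpcycles_surjective : Function.Surjective (K.pOpcycles i) :=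
  (ModuleCat.epi_iff_surjective _).1 inferInstance

include hij in
lemma exists_cycle (y : K.X i) (hy : K.d i j y = 0) : ∃ x : K.cycles i, K.iCycles i x = y := by
  have hS : (ShortComplex.mk (K.iCycles i) (K.d i j) (K.iCycles_d i j)).Exact :=
    ShortComplex.exact_of_f_is_kernel _ (K.cyclesIsKernel i j (by simp [← hij]))
  exact (ShortComplex.moduleCat_exact_iff _).1 hS y hy

include hij in
lemma exists_boundary (y : K.X j) (hy : K.pOpcycles j y = 0) : ∃ x : K.X i, K.d i j x = y := by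
  have hS : (ShortComplex.mk (K.d i j) (K.pOpcycles j) (K.d_pOpcycles i j)).Exact :=
    ShortComplex.exact_of_g_is_cokernel _ (K.opcyclesIsCokernel i j (by simp [← hij]))
  exact (ShortComplex.moduleCat_exact_iff _).1 hS y hy

end Elements

variable {E' E : CochainComplex (ModuleCat.{u} R) ℤ} (φ : E' ⟶ E)

lemma iCycles_cyclesMap (i : ℤ) (x : E'.cycles i) :
    E.iCycles i (cyclesMap φ i x) = φ.f i (E'.iCycles i x) := by
  exact ConcreteCategory.congr_hom (cyclesMap_i φ i) x

lemma opcyclesMap_pOpcycles (i : ℤ) (x : E'.X i) :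
    opcyclesMap φ i (E'.pOpcycles i x) = E.pOpcycles i (φ.f i x) := by
  exact ConcreteCategory.congr_hom (p_opcyclesMap φ i) x

/-- quasi-isomorphism in the lower degree `i` (where the incoming differentials vanish) -/
lemma quasiIsoAt_lower (p i j : ℤ) (hpi : p + 1 = i) (hij : i + 1 = j)
    (hE'2 : IsZero (E'.X p)) (hE2 : IsZero (E.X p))
    (ha : ∀ x : E'.X i, E'.d i j x = 0 → φ.f i x = 0 → x = 0)
    (hb : ∀ y : E.X i, E.d i j y = 0 → ∃ x : E'.X i, E'.d i j x = 0 ∧ φ.f i x = y) :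
    QuasiIsoAt φ i := by
  rw [quasiIsoAt_iff_isIso_homologyMap]
  have h1 := E'.isIso_homologyπ p i (by simp [← hpi]) (hE'2.eq_of_src _ _)
  have h2 := E.isIso_homologyπ p i (by simp [← hpi]) (hE2.eq_of_src _ _)
  have hc : IsIso (cyclesMap φ i) := by
    have hm : Mono (cyclesMap φ i) := by
      rw [ModuleCat.mono_iff_injective]
      rw [injective_iff_map_eq_zero]
      intro x hx
      apply iCycles_injective E' i
      rw [map_zero]
      apply ha
      · exact ConcreteCategory.congr_hom (E'.iCycles_d i j) x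
      · rw [← iCycles_cyclesMap, hx, map_zero]
    have he : Epi (cyclesMap φ i) := by
      rw [ModuleCat.epi_iff_surjective]
      intro y
      have hy : E.d i j (E.iCycles i y) = 0 := by
        exact ConcreteCategory.congr_hom (E.iCycles_d i j) y
      obtain ⟨x, hx1, hx2⟩ := hb _ hy
      obtain ⟨z, hz⟩ := exists_cycle E' i j hij x hx1
      refine ⟨z, ?_⟩
      apply iCycles_injective E i
      rw [iCycles_cyclesMap, hz, hx2]
    exact isIso_of_mono_of_epi _
  have : homologyMap φ i = inv (E'.homologyπ i) ≫ cyclesMap φ i ≫ E.homologyπ i := by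
    rw [IsIso.eq_inv_comp, homologyπ_naturality]
  rw [this]
  infer_instance

/-- quasi-isomorphism in the upper degree `j` (where the outgoing differentials vanish) -/
lemma quasiIsoAt_upper (i j k : ℤ) (hij : i + 1 = j) (hjk : j + 1 = k)
    (hE'1 : IsZero (E'.X k)) (hE1 : IsZero (E.X k))
    (hc : ∀ y : E.X j, ∃ (v : E'.X j) (e : E.X i), y = φ.f j v + E.d i j e)
    (hd : ∀ v : E'.X j, (∃ e : E.X i, φ.f j v = E.d i j e) → ∃ x : E'.X i, E'.d i j x = v) :
    QuasiIsoAt φ j := by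
  rw [quasiIsoAt_iff_isIso_homologyMap]
  have h1 := E'.isIso_homologyι j k (by simp [← hjk]) (hE'1.eq_of_tgt _ _)
  have h2 := E.isIso_homologyι j k (by simp [← hjk]) (hE1.eq_of_tgt _ _)
  have hc : IsIso (opcyclesMap φ j) := by
    have hm : Mono (opcyclesMap φ j) := by
      rw [ModuleCat.mono_iff_injective]
      rw [injective_iff_map_eq_zero]
      intro z hz
      obtain ⟨v, rfl⟩ := pOpcycles_surjective E' j z
      rw [opcyclesMap_pOpcycles] at hz
      obtain ⟨e, he⟩ := exists_boundary E i j hij _ hz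
      obtain ⟨x, hx⟩ := hd v ⟨e, he.symm⟩
      rw [← hx]
      exact ConcreteCategory.congr_hom (E'.d_pOpcycles i j) x
    have he : Epi (opcyclesMap φ j) := by
      rw [ModuleCat.epi_iff_surjective]
      intro z
      obtain ⟨y, rfl⟩ := pOpcycles_surjective E j z
      obtain ⟨v, e, rfl⟩ := hc y
      refine ⟨E'.pOpcycles j v, ?_⟩
      rw [opcyclesMap_pOpcycles, map_add]
      have : E.pOpcycles j (E.d i j e) = 0 := ConcreteCategory.congr_hom (E.d_pOpcycles i j) e
      rw [this, add_zero]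
    exact isIso_of_mono_of_epi _
  have : homologyMap φ j = E'.homologyι j ≫ opcyclesMap φ j ≫ inv (E.homologyι j) := by
    rw [← Category.assoc, IsIso.eq_comp_inv, homologyι_naturality]
  rw [this]
  infer_instance

section Double

variable {X₀ X₁ : ModuleCat.{u} R} (d' : X₀ ⟶ X₁) (E : CochainComplex (ModuleCat.{u} R) ℤ)
  (hE : ∀ i : ℤ, i < -1 ∨ 0 < i → IsZero (E.X i))
  (φ₀ : X₀ ⟶ E.X (-1)) (φ₁ : X₁ ⟶ E.X 0) (comm : φ₀ ≫ E.d (-1) 0 = d' ≫ φ₁)

lemma rel_neg_one_zero : (ComplexShape.up ℤ).Rel (-1) 0 := by simp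

/-- the two-term complex `X₀ ⟶ X₁` in degrees `-1, 0` -/
noncomputable abbrev dbl : CochainComplex (ModuleCat.{u} R) ℤ := double d' rel_neg_one_zero

include hE in
lemma hφ_aux (k : ℤ) (hk : (ComplexShape.up ℤ).Rel 0 k) : φ₁ ≫ E.d 0 k = 0 := by
  obtain rfl : k = 1 := by simp at hk; lia
  exact (hE 1 (Or.inr (by lia))).eq_of_tgt _ _

/-- the chain map from the two-term complex -/
noncomputable abbrev dblHom : dbl d' ⟶ E :=
  mkHomFromDouble rel_neg_one_zero (by lia) φ₀ φ₁ comm (hφ_aux E hE φ₁)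

lemma iso_hom_injective {X Y : ModuleCat.{u} R} (e : X ≅ Y) : Function.Injective e.hom := by
  intro a b h
  have h1 := ConcreteCategory.congr_hom e.hom_inv_id a
  have h2 := ConcreteCategory.congr_hom e.hom_inv_id b
  change e.inv (e.hom a) = a at h1
  change e.inv (e.hom b) = b at h2
  rw [← h1, ← h2, h]

lemma iso_inv_hom_apply {X Y : ModuleCat.{u} R} (e : X ≅ Y) (y : Y) : e.hom (e.inv y) = y :=
  ConcreteCategory.congr_hom e.inv_hom_id y

lemma iso_hom_inv_apply {X Y : ModuleCat.{u} R} (e : X ≅ Y) (x : X) : e.inv (e.hom x) = x :=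
  ConcreteCategory.congr_hom e.hom_inv_id x

include hE in
theorem quasiIso_dblHom
    (ha : ∀ x : X₀, d' x = 0 → φ₀ x = 0 → x = 0)
    (hb : ∀ y : E.X (-1), E.d (-1) 0 y = 0 → ∃ x : X₀, d' x = 0 ∧ φ₀ x = y)
    (hc : ∀ y : E.X 0, ∃ (v : X₁) (e : E.X (-1)), y = φ₁ v + E.d (-1) 0 e)
    (hd : ∀ v : X₁, (∃ e : E.X (-1), φ₁ v = E.d (-1) 0 e) → ∃ x : X₀, d' x = v) :
    QuasiIso (dblHom d' E hE φ₀ φ₁ comm) := by
  let e₀ := doubleXIso₀ d' (rel_neg_one_zero)
  let e₁ := doubleXIso₁ d' (rel_neg_one_zero) (by lia)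
  have hd' : (dbl d').d (-1) 0 = e₀.hom ≫ d' ≫ e₁.inv := double_d d' _ (by lia)
  have hf0 : (dblHom d' E hE φ₀ φ₁ comm).f (-1) = e₀.hom ≫ φ₀ := mkHomFromDouble_f₀ _ _ _ _ _ _
  have hf1 : (dblHom d' E hE φ₀ φ₁ comm).f 0 = e₁.hom ≫ φ₁ := mkHomFromDouble_f₁ _ _ _ _ _ _
  have hdx : ∀ x : (dbl d').X (-1), (dbl d').d (-1) 0 x = e₁.inv (d' (e₀.hom x)) := by
    intro x; rw [hd']; rfl
  have hf0x : ∀ x : (dbl d').X (-1), (dblHom d' E hE φ₀ φ₁ comm).f (-1) x = φ₀ (e₀.hom x) := by
    intro x; rw [hf0]; rfl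
  have hf1x : ∀ x : (dbl d').X 0, (dblHom d' E hE φ₀ φ₁ comm).f 0 x = φ₁ (e₁.hom x) := by
    intro x; rw [hf1]; rfl
  rw [quasiIso_iff]
  intro i
  by_cases hi1 : i = -1
  · subst hi1
    apply quasiIsoAt_lower _ (-2) (-1) 0 (by lia) (by lia)
      (isZero_double_X _ _ _ (by lia) (by lia)) (hE _ (Or.inl (by lia)))
    · intro x h1 h2
      rw [hdx] at h1
      rw [hf0x] at h2
      have h1' : d' (e₀.hom x) = 0 := by
        have := congrArg e₁.hom h1
        rwa [iso_inv_hom_apply, map_zero] at this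
      have := ha _ h1' h2
      apply iso_hom_injective e₀
      rw [this, map_zero]
    · intro y hy
      obtain ⟨x, hx1, hx2⟩ := hb y hy
      refine ⟨e₀.inv x, ?_, ?_⟩
      · rw [hdx, iso_inv_hom_apply, hx1, map_zero]
      · rw [hf0x, iso_inv_hom_apply, hx2]
  by_cases hi0 : i = 0
  · subst hi0
    apply quasiIsoAt_upper _ (-1) 0 1 (by lia) (by lia)
      (isZero_double_X _ _ _ (by lia) (by lia)) (hE _ (Or.inr (by lia)))
    · intro y
      obtain ⟨v, e, hve⟩ := hc y
      refine ⟨e₁.inv v, e, ?_⟩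
      rw [hf1x, iso_inv_hom_apply, hve]
    · rintro v ⟨e, he⟩
      rw [hf1x] at he
      obtain ⟨x, hx⟩ := hd _ ⟨e, he⟩
      refine ⟨e₀.inv x, ?_⟩
      rw [hdx, iso_inv_hom_apply, hx, iso_hom_inv_apply]
  · rw [quasiIsoAt_iff_isIso_homologyMap]
    have h1 : IsZero ((dbl d').homology i) :=
      ShortComplex.isZero_homology_of_isZero_X₂ _
        (isZero_double_X d' rel_neg_one_zero i hi1 hi0)
    have h2 : IsZero (E.homology i) :=
      ShortComplex.isZero_homology_of_isZero_X₂ _ (hE i (by lia))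
    exact ⟨0, h1.eq_of_src _ _, h2.eq_of_src _ _⟩

end Double

end Groth.Agent.Lib.helper2.TwoTermQI
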