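import Mathlib
import Groth.Agent.Lib.helper2.Telescope
import Groth.Agent.Lib.helper2.TwoTermQI
import Groth.Agent.Lib.helper2.Pd1

set_option autoImplicit false
set_option linter.unusedSectionVars false

namespace Groth.Agent.Lib.helper2.Telescope

open CategoryTheory CategoryTheory.Limits HomologicalComplex DerivedCategory
open Groth.Agent.Lib.helper2.TwoTermQI

universe u

attribute [local instance] HasDerivedCategory.standard

variable {A : Type u} [CommRing A] (f : A)

/-- the free module `A^(ℕ)` -/
noncomputable abbrev FM (A : Type u) [CommRing A] : ModuleCat.{u} A := ModuleCat.of A (ℕ →₀ A)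

/-- `T` as a morphism of `ModuleCat` -/
noncomputable abbrev Tm : FM A ⟶ FM A := ModuleCat.ofHom (T f)

/-- the telescope complex `A^(ℕ) → A^(ℕ)` in degrees `-1, 0` -/
noncomputable abbrev Tel : CochainComplex (ModuleCat.{u} A) ℤ := dbl (Tm f)

/-- `A_f` in degree `0` -/
noncomputable abbrev Sf : CochainComplex (ModuleCat.{u} A) ℤ :=
  (HomologicalComplex.single (ModuleCat.{u} A) (ComplexShape.up ℤ) 0).obj
    (ModuleCat.of A (Localization.Away f))

lemma isZero_Sf (i : ℤ) (hi : i < -1 ∨ 0 < i) : IsZero ((Sf f).X i) :=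
  HomologicalComplex.isZero_single_obj_X (ComplexShape.up ℤ) 0 _ i (by lia)

noncomputable abbrev SfIso : (Sf f).X 0 ≅ ModuleCat.of A (Localization.Away f) :=
  HomologicalComplex.singleObjXSelf (ComplexShape.up ℤ) 0 _

/-- the augmentation -/
noncomputable abbrev φ1 : FM A ⟶ (Sf f).X 0 := ModuleCat.ofHom (π f) ≫ (SfIso f).inv

lemma comm : (0 : FM A ⟶ (Sf f).X (-1)) ≫ (Sf f).d (-1) 0 = Tm f ≫ φ1 f := by
  rw [zero_comp, ← Category.assoc]
  have : Tm f ≫ ModuleCat.ofHom (π f) = 0 := by
    rw [← ModuleCat.ofHom_comp, π_comp_T]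
    rfl
  rw [this, zero_comp]

/-- the augmentation chain map -/
noncomputable abbrev aug : Tel f ⟶ Sf f := dblHom (Tm f) (Sf f) (isZero_Sf f) 0 (φ1 f) (comm f)

lemma φ1_apply (v : FM A) : (SfIso f).hom (φ1 f v) = π f v :=
  iso_inv_hom_apply (SfIso f) _

lemma quasiIso_aug : QuasiIso (aug f) := by
  apply quasiIso_dblHom
  · intro x hx _
    exact T_injective f (by rw [map_zero]; exact hx)
  · intro y _
    have := ModuleCat.subsingleton_of_isZero
      (HomologicalComplex.isZero_single_obj_X (ComplexShape.up ℤ) 0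
        (ModuleCat.of A (Localization.Away f)) (-1) (by lia))
    exact ⟨0, map_zero _, Subsingleton.elim _ _⟩
  · intro y
    obtain ⟨v, hv⟩ := π_surjective f ((SfIso f).hom y)
    refine ⟨v, 0, ?_⟩
    apply iso_hom_injective (SfIso f)
    rw [map_zero, add_zero, φ1_apply, hv]
  · rintro v ⟨e, he⟩
    have h0 : (Sf f).d (-1) 0 e = 0 := by
      rw [HomologicalComplex.single_obj_d]
      rfl
    rw [h0] at he
    have : π f v = 0 := by rw [← φ1_apply, he, map_zero]
    exact ker_π_le_range_T f this

/-- `A_f[0]` is represented by the telescope complex -/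
noncomputable def telIso : Q.obj (Tel f) ≅
    (DerivedCategory.singleFunctor (ModuleCat.{u} A) 0).obj (ModuleCat.of A (Localization.Away f)) :=
  @asIso _ _ _ _ (Q.map (aug f)) ((isIso_Q_map_iff_quasiIso (φ := aug f)).2 (quasiIso_aug f))

instance : (Tel f).IsStrictlyGE (-1) := by
  rw [CochainComplex.isStrictlyGE_iff]
  intro i hi
  exact isZero_double_X _ _ i (by lia) (by lia)

instance : (Tel f).IsStrictlyLE 0 := by
  rw [CochainComplex.isStrictlyLE_iff]
  intro i hi
  exact isZero_double_X _ _ i (by lia) (by lia)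

lemma projective_Tel_X (i : ℤ) : Projective ((Tel f).X i) := by
  have hF : Projective (FM A) :=
    (IsProjective.iff_projective (R := A) (FM A)).1 (Module.Projective.of_free)
  by_cases h1 : i = -1
  · subst h1
    exact Projective.of_iso (doubleXIso₀ (Tm f) rel_neg_one_zero).symm hF
  by_cases h0 : i = 0
  · subst h0
    exact Projective.of_iso (doubleXIso₁ (Tm f) rel_neg_one_zero (by lia)).symm hF
  · exact (isZero_double_X _ _ i h1 h0).projective

/-- `A_f[0]` has projective amplitude `[-1, 0]` -/
lemma isPd1_away : Pd1.IsPd1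
    ((DerivedCategory.singleFunctor (ModuleCat.{u} A) 0).obj
      (ModuleCat.of A (Localization.Away f))) :=
  Pd1.isPd1_of_iso (telIso f) (Pd1.isPd1_Q (Tel f) (projective_Tel_X f))

end Groth.Agent.Lib.helper2.Telescope
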