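import Mathlib
import Groth.Prelude.Def_DRing3
import Groth.Agent.Lib.helper2.TelD
import Groth.Agent.Lib.helper2.AllShift

set_option autoImplicit false
set_option linter.unusedSectionVars false

namespace Groth.Agent.Lib.helper2.DCompl

open CategoryTheory CategoryTheory.Limits CategoryTheory.Pretriangulated DerivedCategory DRing
open Groth.Agent.Lib.helper2.Pd1

universe u

attribute [local instance] HasDerivedCategory.standard

variable {A : Type u} [CommRing A] (I : Ideal A)

/-- `A_f[0]` -/
noncomputable abbrev Af (f : A) : Dual.D A := Dual.inD A (Localization.Away f)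

lemma isPd1_Af (f : A) : IsPd1 (Af f) := Telescope.isPd1_away f

lemma isDerivedComplete_iff (K : Dual.D A) :
    IsDerivedComplete I K ↔ ∀ f : A, f ∈ I → AllShift (Af f) K := by
  constructor
  · intro h f hf
    exact allShift_iff_subsingleton.2 (h f hf)
  · intro h f hf
    exact allShift_iff_subsingleton.1 (h f hf)

variable {I}

lemma isDerivedComplete_of_iso {K L : Dual.D A} (e : K ≅ L) (h : IsDerivedComplete I K) :
    IsDerivedComplete I L := by
  rw [isDerivedComplete_iff] at h ⊢
  exact fun f hf => (h f hf).of_iso e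

lemma isDerivedComplete_of_isZero {K : Dual.D A} (h : IsZero K) : IsDerivedComplete I K := by
  rw [isDerivedComplete_iff]
  exact fun f _ => allShift_of_isZero h

lemma isDerivedComplete_shift {K : Dual.D A} (h : IsDerivedComplete I K) (n : ℤ) :
    IsDerivedComplete I (K⟦n⟧) := by
  rw [isDerivedComplete_iff] at h ⊢
  exact fun f hf => (h f hf).shift n

lemma isDerivedComplete_mid (T : Triangle (Dual.D A)) (hT : T ∈ distTriang _)
    (h1 : IsDerivedComplete I T.obj₁) (h3 : IsDerivedComplete I T.obj₃) :
    IsDerivedComplete I T.obj₂ := by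
  rw [isDerivedComplete_iff] at h1 h3 ⊢
  exact fun f hf => AllShift.mid T hT (h1 f hf) (h3 f hf)

lemma isDerivedComplete_right (T : Triangle (Dual.D A)) (hT : T ∈ distTriang _)
    (h1 : IsDerivedComplete I T.obj₁) (h2 : IsDerivedComplete I T.obj₂) :
    IsDerivedComplete I T.obj₃ := by
  rw [isDerivedComplete_iff] at h1 h2 ⊢
  exact fun f hf => AllShift.right T hT (h1 f hf) (h2 f hf)

lemma isDerivedComplete_left (T : Triangle (Dual.D A)) (hT : T ∈ distTriang _)
    (h2 : IsDerivedComplete I T.obj₂) (h3 : IsDerivedComplete I T.obj₃) :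
    IsDerivedComplete I T.obj₁ := by
  rw [isDerivedComplete_iff] at h2 h3 ⊢
  exact fun f hf => AllShift.left T hT (h2 f hf) (h3 f hf)

/-- S7050 -/
theorem isDerivedComplete_iff_homology (K : Dual.D A) :
    IsDerivedComplete I K ↔ ∀ i : ℤ, IsDerivedComplete I
      ((DerivedCategory.singleFunctor (ModuleCat.{u} A) 0).obj
        ((DerivedCategory.homologyFunctor (ModuleCat.{u} A) i).obj K)) := by
  simp only [isDerivedComplete_iff]
  constructor
  · intro h i f hf
    exact (allShift_iff_homology K (isPd1_Af f)).1 (h f hf) i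
  · intro h f hf
    exact (allShift_iff_homology K (isPd1_Af f)).2 (fun i => h i f hf)

end Groth.Agent.Lib.helper2.DCompl
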