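import Mathlib
import Groth.Agent.Lib.helper2.TwoTerm

set_option autoImplicit false
set_option linter.unusedSectionVars false

namespace Groth.Agent.Lib.helper2.TwoTerm

open CategoryTheory CategoryTheory.Limits HomologicalComplex CochainComplex
open CochainComplex.HomComplex

universe w v u

variable {C : Type u} [Category.{v} C] [Abelian C]

/-- the complex `N[1]` (i.e. `N` placed in degree `-1`) -/
noncomputable abbrev S1 (N : C) : CochainComplex C ℤ :=
  (HomologicalComplex.single C (ComplexShape.up ℤ) (-1)).obj N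

/-- the canonical isomorphism `(N[1])^{-1} ≅ N` -/
noncomputable abbrev S1Iso (N : C) : (S1 N).X (-1) ≅ N :=
  HomologicalComplex.singleObjXSelf (ComplexShape.up ℤ) (-1) N

/-- the chain map `E ⟶ N[1]` attached to `x : E^{-1} ⟶ N` killing the image of `E^{-2}`. -/
noncomputable def toS1 (E : CochainComplex C ℤ) {N : C} (x : E.X (-1) ⟶ N)
    (hx : E.d (-2) (-1) ≫ x = 0) : E ⟶ S1 N :=
  HomologicalComplex.mkHomToSingle x (by
    intro i hi
    obtain rfl : i = -2 := by simp at hi; lia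
    exact hx)

@[simp]
lemma toS1_f (E : CochainComplex C ℤ) {N : C} (x : E.X (-1) ⟶ N)
    (hx : E.d (-2) (-1) ≫ x = 0) : (toS1 E x hx).f (-1) = x ≫ (S1Iso N).inv :=
  HomologicalComplex.mkHomToSingle_f _ _

lemma homotopy_zero_of_fac (E : CochainComplex C ℤ) {N : C} (f : E ⟶ S1 N)
    (h : E.X 0 ⟶ N) (hh : f.f (-1) ≫ (S1Iso N).hom = E.d (-1) 0 ≫ h) :
    Nonempty (Homotopy f 0) := by
  refine ⟨(Cochain.equivHomotopy f 0).symm
    ⟨Cochain.single (h ≫ (S1Iso N).inv) (-1), ?_⟩⟩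
  rw [Cochain.δ_single _ (-1) 0 (by simp) (-1) 0 (by simp) (by simp)]
  ext p
  simp only [Cochain.ofHom_v, Cochain.add_v, Int.negOnePow_zero, one_smul,
    HomologicalComplex.zero_f, add_zero, HomologicalComplex.single_obj_d, comp_zero,
    Cochain.single_zero, zero_add]
  by_cases hp : p = -1
  · subst hp
    rw [Cochain.single_v, ← Category.assoc, ← hh]
    simp
  · exact (HomologicalComplex.isZero_single_obj_X (ComplexShape.up ℤ) (-1) N p hp).eq_of_tgt _ _

lemma fac_of_homotopy_zero (E : CochainComplex C ℤ) {N : C} (f : E ⟶ S1 N)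
    (H : Homotopy f 0) :
    ∃ h : E.X 0 ⟶ N, f.f (-1) ≫ (S1Iso N).hom = E.d (-1) 0 ≫ h := by
  refine ⟨H.hom 0 (-1) ≫ (S1Iso N).hom, ?_⟩
  have := H.comm (-1)
  rw [dNext_eq _ (show (ComplexShape.up ℤ).Rel (-1) 0 by simp),
    prevD_eq _ (show (ComplexShape.up ℤ).Rel (-2) (-1) by simp)] at this
  rw [this]
  simp

section Derived

variable [HasDerivedCategory.{w} C] [EnoughProjectives C]

open DerivedCategory

lemma isZero_S1_X (N : C) (i : ℤ) (hi : i ≤ -2) : IsZero ((S1 N).X i) :=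
  HomologicalComplex.isZero_single_obj_X (ComplexShape.up ℤ) (-1) N i (by lia)

/-- a chain map `E ⟶ N[1]` that vanishes in the derived category is null-homotopic
(`E` in degrees `≤ 0` with `E^0` projective). -/
lemma exists_fac_of_Q_map_eq_zero (E : CochainComplex C ℤ)
    (hE : ∀ i, 0 < i → IsZero (E.X i)) [Projective (E.X 0)] {N : C} (f : E ⟶ S1 N)
    (hf : Q.map f = 0) :
    ∃ h : E.X 0 ⟶ N, f.f (-1) ≫ (S1Iso N).hom = E.d (-1) 0 ≫ h := by
  have h1 : Hq.map f = 0 := by
    apply (Qh_map_bijective E (S1 N) hE (isZero_S1_X N)).injective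
    dsimp only
    rw [Functor.map_zero]
    exact hf
  exact fac_of_homotopy_zero E f (HomotopyCategory.homotopyOfEq _ _ (by simpa using h1))

/-- every morphism `E ⟶ N[1]` in the derived category comes from a chain map
(`E` in degrees `≤ 0` with `E^0` projective). -/
lemma exists_chain_map (E : CochainComplex C ℤ)
    (hE : ∀ i, 0 < i → IsZero (E.X i)) [Projective (E.X 0)] {N : C}
    (ξ : Q.obj E ⟶ Q.obj (S1 N)) : ∃ f : E ⟶ S1 N, Q.map f = ξ := by
  obtain ⟨φ, hφ⟩ := (Qh_map_bijective E (S1 N) hE (isZero_S1_X N)).surjective ξ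
  obtain ⟨f, rfl⟩ := Hq.map_surjective φ
  exact ⟨f, hφ⟩

/-- `(N[0])[1] ≅ N[1]` in the derived category -/
noncomputable def shiftSingleIso (N : C) :
    ((DerivedCategory.singleFunctor C 0).obj N)⟦(1 : ℤ)⟧ ≅ Q.obj (S1 N) :=
  ((DerivedCategory.singleFunctors C).shiftIso 1 (-1) 0 (by lia)).app N

/-- two-term representatives with projective degree-zero term -/
lemma exists_twoTerm (X : DerivedCategory C) [X.IsGE (-1)] [X.IsLE 0] :
    ∃ E : CochainComplex C ℤ, E.IsStrictlyGE (-1) ∧ E.IsStrictlyLE 0 ∧ Projective (E.X 0) ∧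
      Nonempty (Q.obj E ≅ X) := by
  obtain ⟨K', _, ⟨e'⟩⟩ := exists_iso_Q_obj_of_isLE X 0
  obtain ⟨P, f, hf, hP, hPb⟩ := ProjAmp.exists_quasiIso_projective K' 0
  have : IsIso (Q.map f) := by rw [isIso_Q_map_iff_quasiIso]; exact hf
  let eP : Q.obj P ≅ X := asIso (Q.map f) ≪≫ e'.symm
  have : P.IsGE (-1) := by
    rw [CochainComplex.isGE_iff]
    intro i hi
    rw [HomologicalComplex.exactAt_iff_isZero_homology]
    exact (DerivedCategory.isZero_of_isGE X (-1) i hi).of_iso
      ((DerivedCategory.homologyFunctorFactors C i).symm.app P ≪≫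
        (DerivedCategory.homologyFunctor C i).mapIso eP)
  have : IsIso (Q.map (P.πTruncGE (-1))) := by rw [isIso_Q_map_iff_quasiIso]; infer_instance
  exact ⟨P.truncGE (-1), inferInstance, ProjAmp.isStrictlyLE_truncGE P (-1) 0,
    Projective.of_iso (P.truncGEXIso (-1) 0 (by simp)).symm (hP 0),
    ⟨(asIso (Q.map (P.πTruncGE (-1)))).symm ≪≫ eP⟩⟩

/-- two-term representatives with degree-zero term in a class `P` of objects admitting enough
epimorphisms -/
lemma exists_twoTerm_class (P : C → Prop) (hP0 : ∃ Z : C, Limits.IsZero Z ∧ P Z)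
    (hP : ∀ X : C, ∃ (Y : C) (π : Y ⟶ X), P Y ∧ Epi π)
    (hPiso : ∀ {X Y : C} (_ : X ≅ Y), P X → P Y)
    (X : DerivedCategory C) [X.IsGE (-1)] [X.IsLE 0] :
    ∃ E : CochainComplex C ℤ, E.IsStrictlyGE (-1) ∧ E.IsStrictlyLE 0 ∧ P (E.X 0) ∧
      Nonempty (Q.obj E ≅ X) := by
  obtain ⟨K', _, ⟨e'⟩⟩ := exists_iso_Q_obj_of_isLE X 0
  obtain ⟨F, f, hFb, hF, _, hf⟩ := ClassResOp.exists_res_op P hP0 hP K' 0
  have : IsIso (Q.map f) := by rw [isIso_Q_map_iff_quasiIso]; exact hf
  let eP : Q.obj F ≅ X := asIso (Q.map f) ≪≫ e'.symm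
  have : F.IsGE (-1) := by
    rw [CochainComplex.isGE_iff]
    intro i hi
    rw [HomologicalComplex.exactAt_iff_isZero_homology]
    exact (DerivedCategory.isZero_of_isGE X (-1) i hi).of_iso
      ((DerivedCategory.homologyFunctorFactors C i).symm.app F ≪≫
        (DerivedCategory.homologyFunctor C i).mapIso eP)
  have : IsIso (Q.map (F.πTruncGE (-1))) := by rw [isIso_Q_map_iff_quasiIso]; infer_instance
  exact ⟨F.truncGE (-1), inferInstance, ProjAmp.isStrictlyLE_truncGE F (-1) 0,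
    hPiso (F.truncGEXIso (-1) 0 (by simp)).symm (hF 0),
    ⟨(asIso (Q.map (F.πTruncGE (-1)))).symm ≪≫ eP⟩⟩

end Derived

end Groth.Agent.Lib.helper2.TwoTerm
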