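import Mathlib
import Groth.Prelude.Def_DRing3
import Groth.Agent.Lib.helper2.DCompl
import Groth.Agent.Lib.helper2.TwoTermD

set_option autoImplicit false
set_option linter.unusedSectionVars false

namespace Groth.Agent.Lib.helper2.DCompl

open CategoryTheory CategoryTheory.Limits CategoryTheory.Pretriangulated DerivedCategory DRing
open Groth.Agent.Lib.helper2.Pd1 Groth.Agent.Lib.helper2.Telescope
open Groth.Agent.Lib.helper2.TwoTermQI Groth.Agent.Lib.helper2.TwoTerm HomologicalComplex

universe u

attribute [local instance] HasDerivedCategory.standard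

variable {A : Type u} [CommRing A] (f : A) (M : Type u) [AddCommGroup M] [Module A M]

/-- the map `(h_n) ↦ (h_n - f h_{n+1})` on sequences -/
def Dseq : (ℕ → M) →ₗ[A] (ℕ → M) where
  toFun h n := h n - f • h (n + 1)
  map_add' h h' := by
    funext n
    simp only [Pi.add_apply, smul_add]
    abel
  map_smul' a h := by
    funext n
    simp only [Pi.smul_apply, RingHom.id_apply, smul_sub]
    rw [smul_comm]

@[simp] lemma Dseq_apply (h : ℕ → M) (n : ℕ) : Dseq f M h n = h n - f • h (n + 1) := rfl

variable {M}

/-- linear map `(ℕ →₀ A) → M` attached to a sequence -/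
noncomputable def ofSeq (h : ℕ → M) : (ℕ →₀ A) →ₗ[A] M := Finsupp.linearCombination A h

@[simp] lemma ofSeq_single (h : ℕ → M) (n : ℕ) (a : A) :
    ofSeq h (Finsupp.single n a) = a • h n := by
  simp [ofSeq]

lemma ofSeq_comp_T (h : ℕ → M) : (ofSeq h).comp (T f) = ofSeq (Dseq f M h) := by
  apply Finsupp.lhom_ext
  intro n a
  simp only [LinearMap.comp_apply, T_single, map_sub, ofSeq_single, Dseq_apply, smul_sub]
  rw [mul_comm, mul_smul]

lemma eq_ofSeq (g : (ℕ →₀ A) →ₗ[A] M) : g = ofSeq (fun n => g (Finsupp.single n 1)) := by
  apply Finsupp.lhom_ext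
  intro n a
  rw [ofSeq_single, ← map_smul, Finsupp.smul_single, smul_eq_mul, mul_one]

variable (M)

/-- `Hom_A(A_f, M) = 0` iff `Dseq` is injective. -/
lemma linearMap_eq_zero_iff_injective :
    (∀ φ : Localization.Away f →ₗ[A] M, φ = 0) ↔ Function.Injective (Dseq f M) := by
  constructor
  · intro h
    rw [injective_iff_map_eq_zero]
    intro x hx
    have h1 : LinearMap.ker (π (A := A) f) ≤ LinearMap.ker (ofSeq (A := A) x) := by
      refine (ker_π_le_range_T f).trans ?_
      rintro _ ⟨y, rfl⟩
      rw [LinearMap.mem_ker, ← LinearMap.comp_apply, ofSeq_comp_T, hx]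
      simp [ofSeq]
    let φ : Localization.Away f →ₗ[A] M :=
      (Submodule.liftQ _ (ofSeq (A := A) x) h1).comp
        ((π (A := A) f).quotKerEquivOfSurjective (π_surjective f)).symm.toLinearMap
    have hφ : ∀ v : ℕ →₀ A, φ (π f v) = ofSeq x v := by
      intro v
      have : ((π (A := A) f).quotKerEquivOfSurjective (π_surjective f)).symm (π f v) =
          Submodule.Quotient.mk v := by
        rw [LinearEquiv.symm_apply_eq]
        rfl
      simp only [φ, LinearMap.comp_apply, LinearEquiv.coe_coe, this, Submodule.liftQ_apply]
    funext n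
    have := hφ (Finsupp.single n 1)
    rw [h φ, ofSeq_single, one_smul] at this
    exact this.symm
  · intro h φ
    have hx : Dseq f M (fun n => φ ((inv f) ^ n)) = 0 := by
      funext n
      simp only [Dseq_apply, Pi.zero_apply]
      rw [← map_smul]
      have := smul_inv f (1 : A) n
      rw [mul_one, one_smul] at this
      rw [this, sub_self]
    have h0 := h (hx.trans (map_zero _).symm)
    ext v
    obtain ⟨w, rfl⟩ := π_surjective f v
    induction w using Finsupp.induction_linear with
    | zero => simp
    | add a b ha hb => simp only [map_add, ha, hb, LinearMap.zero_apply, add_zero]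
    | single n a =>
      rw [π_single, map_smul, LinearMap.zero_apply]
      have := congrFun h0 n
      simp only [Pi.zero_apply] at this
      rw [this, smul_zero]

end Groth.Agent.Lib.helper2.DCompl
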