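import Mathlib
import Groth.Agent.Lib.helper2.DComplSeq

set_option autoImplicit false
set_option linter.unusedSectionVars false

namespace Groth.Agent.Lib.helper2.DCompl

universe u

variable {A : Type u} [CommRing A] (M : Type u) [AddCommGroup M] [Module A M]

/-- the shift on sequences -/
def Sh : (ℕ → M) →ₗ[A] (ℕ → M) where
  toFun z n := z (n + 1)
  map_add' _ _ := rfl
  map_smul' _ _ := rfl

@[simp] lemma Sh_apply (z : ℕ → M) (n : ℕ) : Sh (A := A) M z n = z (n + 1) := rfl

lemma Dseq_eq (f : A) (z : ℕ → M) : Dseq f M z = z - f • Sh (A := A) M z := rfl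

lemma Dseq_Sh (f : A) (z : ℕ → M) : Dseq f M (Sh (A := A) M z) = Sh (A := A) M (Dseq f M z) := rfl

/-- `M` is "`c`-summable": there is a linear "sum" operator. -/
def Good (c : A) : Prop :=
  ∃ S : (ℕ → M) →ₗ[A] M, ∀ z : ℕ → M, S z - c • S (Sh (A := A) M z) = z 0

variable {M}

lemma bijective_of_good {c : A} (h : Good M c) : Function.Bijective (Dseq c M) := by
  obtain ⟨S, hS⟩ := h
  let shN : ℕ → (ℕ → M) → (ℕ → M) := fun n z k => z (k + n)
  have h1 : ∀ n z, shN (n + 1) z = Sh (A := A) M (shN n z) := by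
    intro n z
    funext k
    simp only [shN, Sh_apply]
    congr 1
    omega
  have h2 : ∀ n z, shN n (Dseq c M z) = shN n z - c • Sh (A := A) M (shN n z) := by
    intro n z
    funext k
    simp only [shN, Dseq_apply, Pi.sub_apply, Pi.smul_apply, Sh_apply]
    congr 3
    omega
  rw [Function.bijective_iff_has_inverse]
  refine ⟨fun z n => S (shN n z), ?_, ?_⟩
  · intro z
    funext n
    show S (shN n (Dseq c M z)) = z n
    rw [h2, map_sub, map_smul, hS]
    simp [shN]
  · intro z
    funext n
    show S (shN n z) - c • S (shN (n + 1) z) = z n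
    rw [h1, hS]
    simp [shN]

lemma good_of_bijective {c : A} (h : Function.Bijective (Dseq c M)) : Good M c := by
  let e := LinearEquiv.ofBijective (Dseq c M) h
  have he : ∀ z, Dseq c M (e.symm z) = z := fun z => e.apply_symm_apply z
  have hcomm : ∀ z, e.symm (Sh (A := A) M z) = Sh (A := A) M (e.symm z) := by
    intro z
    apply e.injective
    rw [e.apply_symm_apply]
    show _ = Dseq c M (Sh (A := A) M (e.symm z))
    rw [Dseq_Sh, he]
  refine ⟨(LinearMap.proj 0).comp e.symm.toLinearMap, fun z => ?_⟩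
  simp only [LinearMap.comp_apply, LinearEquiv.coe_coe, LinearMap.proj_apply]
  rw [hcomm]
  have := congrFun (he z) 0
  simpa using this

lemma good_iff_bijective {c : A} : Good M c ↔ Function.Bijective (Dseq c M) :=
  ⟨bijective_of_good, good_of_bijective⟩

variable (M)

lemma good_zero : Good M (0 : A) :=
  ⟨LinearMap.proj 0, fun z => by simp⟩

variable {M}

lemma good_mul (a : A) {f : A} (h : Good M f) : Good M (a * f) := by
  obtain ⟨S, hS⟩ := h
  let Φ : (ℕ → M) →ₗ[A] (ℕ → M) :=
    { toFun := fun z n => a ^ n • z n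
      map_add' := fun z z' => by funext n; simp
      map_smul' := fun b z => by
        funext n
        simp only [Pi.smul_apply, RingHom.id_apply]
        rw [smul_comm] }
  have hΦ : ∀ z, Sh (A := A) M (Φ z) = a • Φ (Sh (A := A) M z) := by
    intro z
    funext n
    simp only [Φ, Sh_apply, LinearMap.coe_mk, AddHom.coe_mk, Pi.smul_apply, smul_smul, pow_succ']
  refine ⟨S.comp Φ, fun z => ?_⟩
  simp only [LinearMap.comp_apply]
  have := hS (Φ z)
  rw [hΦ, map_smul, smul_smul, mul_comm f a] at this
  rw [this]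
  simp [Φ]

lemma good_of_sq {f : A} (h : Good M (f ^ 2)) : Good M f := by
  obtain ⟨S, hS⟩ := h
  let ev : (ℕ → M) →ₗ[A] (ℕ → M) :=
    { toFun := fun z q => z (2 * q)
      map_add' := fun _ _ => rfl
      map_smul' := fun _ _ => rfl }
  let od : (ℕ → M) →ₗ[A] (ℕ → M) :=
    { toFun := fun z q => z (2 * q + 1)
      map_add' := fun _ _ => rfl
      map_smul' := fun _ _ => rfl }
  have h1 : ∀ z, ev (Sh (A := A) M z) = od z := fun z => rfl
  have h2 : ∀ z, od (Sh (A := A) M z) = Sh (A := A) M (ev z) := fun z => rfl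
  refine ⟨S.comp ev + f • S.comp od, fun z => ?_⟩
  simp only [LinearMap.add_apply, LinearMap.comp_apply, LinearMap.smul_apply]
  rw [h1, h2, smul_add, smul_smul, ← pow_two]
  have := hS (ev z)
  have e0 : ev z 0 = z 0 := rfl
  rw [← e0, ← this]
  abel

lemma good_add {f g : A} (hf : Good M f) (hg : Good M g) : Good M (f + g) := by
  have hbf := bijective_of_good hf
  have hbg := bijective_of_good hg
  let u := LinearEquiv.ofBijective (Dseq f M) hbf
  let v := LinearEquiv.ofBijective (Dseq g M) hbg
  have hu : ∀ z, Dseq f M (u.symm z) = z := fun z => u.apply_symm_apply z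
  have hu' : ∀ z, u.symm (Dseq f M z) = z := fun z => u.symm_apply_apply z
  have hv : ∀ z, Dseq g M (v.symm z) = z := fun z => v.apply_symm_apply z
  have hcu : ∀ z, u.symm (Sh (A := A) M z) = Sh (A := A) M (u.symm z) := by
    intro z
    apply u.injective
    rw [u.apply_symm_apply]
    show _ = Dseq f M (Sh (A := A) M (u.symm z))
    rw [Dseq_Sh, hu]
  have hcv : ∀ z, v.symm (Sh (A := A) M z) = Sh (A := A) M (v.symm z) := by
    intro z
    apply v.injective
    rw [v.apply_symm_apply]
    show _ = Dseq g M (Sh (A := A) M (v.symm z))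
    rw [Dseq_Sh, hv]
  -- iterates of `u⁻¹`
  let U : ℕ → (ℕ → M) →ₗ[A] (ℕ → M) := fun k => (u.symm.toLinearMap) ^ k
  have hU0 : ∀ z, U 0 z = z := fun z => rfl
  have hUs : ∀ k z, U (k + 1) z = U k (u.symm z) := by
    intro k z
    simp only [U, pow_succ]
    rfl
  have hUsh : ∀ k z, U k (Sh (A := A) M z) = Sh (A := A) M (U k z) := by
    intro k
    induction k with
    | zero => intro z; rfl
    | succ k ih =>
      intro z
      rw [hUs, hUs, hcu, ih]
  let Θ : (ℕ → M) →ₗ[A] (ℕ → M) :=
    LinearMap.pi (fun j => (LinearMap.proj j).comp (U (j + 1)))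
  have hΘ : ∀ z j, Θ z j = U (j + 1) z j := fun z j => rfl
  have hB : ∀ z, Sh (A := A) M (Θ z) = Θ (Sh (A := A) M (u.symm z)) := by
    intro z
    funext j
    rw [Sh_apply, hΘ, hΘ, hUsh, Sh_apply, hUs (j + 1)]
  let S' : (ℕ → M) →ₗ[A] M := (LinearMap.proj 0).comp (v.symm.toLinearMap.comp Θ)
  have hS' : ∀ z, S' z = v.symm (Θ z) 0 := fun z => rfl
  have hA : ∀ w : ℕ → M, v.symm w 0 = w 0 + g • v.symm (Sh (A := A) M w) 0 := by
    intro w
    have := congrFun (hv w) 0
    rw [Dseq_apply] at this
    rw [hcv, Sh_apply, ← this]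
    abel
  have hC : ∀ z, S' z = u.symm z 0 + g • S' (Sh (A := A) M (u.symm z)) := by
    intro z
    rw [hS', hS', hA, hB, hΘ, hUs, hU0]
  refine ⟨S', fun y => ?_⟩
  have h1 := hC (Dseq f M y)
  rw [hu'] at h1
  rw [Dseq_eq, map_sub, map_smul] at h1
  rw [add_smul, ← sub_sub, h1]
  abel

variable (M) in
/-- the ideal of all `f` such that `M` is derived `f`-complete -/
def completeIdeal : Ideal A where
  carrier := {f | Function.Bijective (Dseq f M)}
  zero_mem' := bijective_of_good (good_zero M)
  add_mem' := fun hf hg =>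
    bijective_of_good (good_add (good_of_bijective hf) (good_of_bijective hg))
  smul_mem' := fun a f hf => by
    rw [smul_eq_mul]
    exact bijective_of_good (good_mul a (good_of_bijective hf))

lemma mem_completeIdeal {f : A} : f ∈ completeIdeal (A := A) M ↔ Function.Bijective (Dseq f M) :=
  Iff.rfl

lemma completeIdeal_isRadical : (completeIdeal (A := A) M).IsRadical := by
  rw [Ideal.isRadical_iff_pow_one_lt 2 one_lt_two]
  intro r hr
  exact bijective_of_good (good_of_sq (good_of_bijective hr))

end Groth.Agent.Lib.helper2.DCompl
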