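import Mathlib
import Groth.Prelude.Def_DRing3
import Groth.Agent.Lib.helper2.DComplSeq
import Groth.Agent.Lib.helper2.DerCoprod

set_option autoImplicit false
set_option linter.unusedSectionVars false

namespace Groth.Agent.Lib.helper2.DCompl

open CategoryTheory CategoryTheory.Limits CategoryTheory.Pretriangulated DerivedCategory DRing
open Groth.Agent.Lib.helper2.Pd1 Groth.Agent.Lib.helper2.Telescope
open Groth.Agent.Lib.helper2.TwoTermQI Groth.Agent.Lib.helper2.TwoTerm HomologicalComplex

universe u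

attribute [local instance] HasDerivedCategory.standard

variable {A : Type u} [CommRing A] (f : A) (M : Type u) [AddCommGroup M] [Module A M]

lemma hom_eq_zero_iff_injective :
    (∀ φ : Af f ⟶ Dual.inD A M, φ = 0) ↔ Function.Injective (Dseq f M) := by
  rw [← linearMap_eq_zero_iff_injective]
  constructor
  · intro h φ
    have := h ((singleFunctor (ModuleCat.{u} A) 0).map (ModuleCat.ofHom φ))
    rw [← Functor.map_zero] at this
    have h2 := (singleFunctor (ModuleCat.{u} A) 0).map_injective this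
    exact congrArg ModuleCat.Hom.hom h2
  · intro h φ
    obtain ⟨ψ, rfl⟩ := (singleFunctor (ModuleCat.{u} A) 0).map_surjective φ
    have : ψ = 0 := by
      ext x
      exact LinearMap.congr_fun (h ψ.hom) x
    rw [this, Functor.map_zero]

lemma hom_shift_eq_zero_iff_surjective :
    (∀ ξ : Af f ⟶ (Dual.inD A M)⟦(1 : ℤ)⟧, ξ = 0) ↔ Function.Surjective (Dseq f M) := by
  let N : ModuleCat.{u} A := ModuleCat.of A M
  let E := Tel f
  have hE : ∀ i : ℤ, 0 < i → IsZero (E.X i) := fun i hi =>
    isZero_double_X _ _ i (by lia) (by lia)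
  have : Projective (E.X 0) := projective_Tel_X f 0
  let e₀ : E.X (-1) ≅ FM A := doubleXIso₀ (Tm f) rel_neg_one_zero
  let e₁ : E.X 0 ≅ FM A := doubleXIso₁ (Tm f) rel_neg_one_zero (by lia)
  have hd' : E.d (-1) 0 = e₀.hom ≫ Tm f ≫ e₁.inv := double_d (Tm f) _ (by lia)
  constructor
  · intro h x
    have hx0 : E.d (-2) (-1) ≫ (e₀.hom ≫ ModuleCat.ofHom (ofSeq (A := A) x)) = 0 :=
      (isZero_double_X _ _ (-2) (by lia) (by lia) : IsZero (E.X (-2))).eq_of_src _ _
    let c : E ⟶ S1 N := toS1 E (e₀.hom ≫ ModuleCat.ofHom (ofSeq (A := A) x)) hx0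
    have hc : Q.map c = 0 := by
      have h1 := h ((telIso f).inv ≫ Q.map c ≫ (shiftSingleIso N).inv)
      have h2 : Q.map c = (telIso f).hom ≫ ((telIso f).inv ≫ Q.map c ≫ (shiftSingleIso N).inv) ≫
          (shiftSingleIso N).hom := by simp
      rw [h2, h1, zero_comp, comp_zero]
    obtain ⟨h', hh'⟩ := exists_fac_of_Q_map_eq_zero E hE c hc
    rw [toS1_f, Category.assoc, Iso.inv_hom_id, Category.comp_id, hd', Category.assoc,
      cancel_epi] at hh'
    -- hh' : ofHom (ofSeq x) = Tm f ≫ e₁.inv ≫ h'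
    let g : (ℕ →₀ A) →ₗ[A] M := (e₁.inv ≫ h').hom
    have hg : ofSeq (A := A) x = g.comp (T f) := by
      have := congrArg ModuleCat.Hom.hom hh'
      exact this
    rw [eq_ofSeq g, ofSeq_comp_T] at hg
    refine ⟨fun n => g (Finsupp.single n 1), ?_⟩
    funext n
    have := LinearMap.congr_fun hg (Finsupp.single n 1)
    rw [ofSeq_single, ofSeq_single, one_smul, one_smul] at this
    exact this.symm
  · intro h ξ
    obtain ⟨c, hc⟩ := exists_chain_map E hE ((telIso f).hom ≫ ξ ≫ (shiftSingleIso N).hom)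
    let g : (ℕ →₀ A) →ₗ[A] M := (e₀.inv ≫ c.f (-1) ≫ (S1Iso N).hom).hom
    obtain ⟨hs, hhs⟩ := h (fun n => g (Finsupp.single n 1))
    have hfac : c.f (-1) ≫ (S1Iso N).hom = E.d (-1) 0 ≫ (e₁.hom ≫ ModuleCat.ofHom (ofSeq (A := A) hs)) := by
      rw [hd']
      simp only [Category.assoc, Iso.inv_hom_id_assoc]
      rw [← cancel_epi e₀.inv, Iso.inv_hom_id_assoc]
      ext : 1
      change g = (ofSeq (A := A) hs).comp (T f)
      rw [ofSeq_comp_T, hhs]
      exact eq_ofSeq g
    obtain ⟨H⟩ := homotopy_zero_of_fac E c _ hfac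
    have h0 : Q.map c = 0 := Groth.Agent.Lib.helper2.DerCoprod.Q_map_eq_zero_of_homotopy c H
    rw [h0] at hc
    have : ξ = (telIso f).inv ≫ ((telIso f).hom ≫ ξ ≫ (shiftSingleIso N).hom) ≫
        (shiftSingleIso N).inv := by simp
    rw [this, ← hc, zero_comp, comp_zero]

lemma allShift_iff_bijective :
    AllShift (Af f) (Dual.inD A M) ↔ Function.Bijective (Dseq f M) := by
  rw [allShift_single_iff (isPd1_Af f), hom_eq_zero_iff_injective, hom_shift_eq_zero_iff_surjective]
  rfl

/-- concrete characterisation of derived completeness of a module -/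
theorem isDerivedComplete_iff_seq (I : Ideal A) :
    IsDerivedComplete I (Dual.inD A M) ↔ ∀ f : A, f ∈ I → Function.Bijective (Dseq f M) := by
  rw [isDerivedComplete_iff]
  exact forall₂_congr (fun f _ => allShift_iff_bijective f M)

end Groth.Agent.Lib.helper2.DCompl
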