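import Mathlib
import Groth.Prelude.Def_DRing3
import Groth.Agent.Lib.helper2.DComplSeq2
import Groth.Agent.Lib.helper2.DComplIdeal

set_option autoImplicit false
set_option linter.unusedSectionVars false

namespace Groth.Agent.Lib.helper2.DCompl

open CategoryTheory DerivedCategory DRing Groth.Agent.Lib.helper2.Pd1

universe u

attribute [local instance] HasDerivedCategory.standard

variable {A : Type u} [CommRing A]

/-- the ideal of all `f` such that `K` is derived `f`-complete -/
noncomputable def completeIdealD (K : Dual.D A) : Ideal A :=
  ⨅ i : ℤ, completeIdeal (A := A) (Dual.HD A K i)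

lemma completeIdealD_isRadical (K : Dual.D A) : (completeIdealD K).IsRadical :=
  Ideal.isRadical_iInf _ (fun _ => completeIdeal_isRadical)

lemma mem_completeIdealD (K : Dual.D A) (f : A) :
    f ∈ completeIdealD K ↔ AllShift (Af f) K := by
  rw [completeIdealD, Ideal.mem_iInf, allShift_iff_homology K (isPd1_Af f)]
  refine forall_congr' (fun i => ?_)
  rw [mem_completeIdeal]
  exact (allShift_iff_bijective f (Dual.HD A K i)).symm

lemma isDerivedComplete_iff_le (I : Ideal A) (K : Dual.D A) :
    IsDerivedComplete I K ↔ I ≤ completeIdealD K := by
  rw [isDerivedComplete_iff]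
  exact forall₂_congr (fun f _ => (mem_completeIdealD K f).symm)

/-- derived completeness can be checked on generators -/
lemma isDerivedComplete_span_iff (s : Set A) (K : Dual.D A) :
    IsDerivedComplete (Ideal.span s) K ↔ ∀ f ∈ s, AllShift (Af f) K := by
  rw [isDerivedComplete_iff_le, Ideal.span_le]
  exact forall₂_congr (fun f _ => mem_completeIdealD K f)

/-- derived completeness only depends on the radical -/
lemma isDerivedComplete_radical_iff (I : Ideal A) (K : Dual.D A) :
    IsDerivedComplete I.radical K ↔ IsDerivedComplete I K := by
  rw [isDerivedComplete_iff_le, isDerivedComplete_iff_le,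
    (completeIdealD_isRadical K).radical_le_iff]

lemma isDerivedComplete_mono {I J : Ideal A} (h : I ≤ J) {K : Dual.D A}
    (hJ : IsDerivedComplete J K) : IsDerivedComplete I K := by
  rw [isDerivedComplete_iff_le] at hJ ⊢
  exact h.trans hJ

lemma isDerivedComplete_span_iff_seq (s : Set A) (M : Type u) [AddCommGroup M] [Module A M] :
    IsDerivedComplete (Ideal.span s) (Dual.inD A M) ↔
      ∀ f ∈ s, Function.Bijective (Dseq f M) := by
  rw [isDerivedComplete_span_iff]
  exact forall₂_congr (fun f _ => allShift_iff_bijective f M)

end Groth.Agent.Lib.helper2.DCompl
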