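import Mathlib
import Groth.Agent.Lib.helper2.AllShift

set_option autoImplicit false
set_option linter.unusedSectionVars false

namespace Groth.Agent.Lib.helper2.Pd1

open CategoryTheory CategoryTheory.Limits CategoryTheory.Pretriangulated DerivedCategory

universe w v u

variable {C : Type u} [Category.{v} C] [Abelian C] [HasDerivedCategory.{w} C]

variable {P : DerivedCategory C} (hP : IsPd1 P)

/-- notation: `M[0]` -/
noncomputable abbrev sg (M : C) : DerivedCategory C := (singleFunctor C 0).obj M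

lemma isGE_sg_shift_neg (M : C) : ((sg M)⟦(-1 : ℤ)⟧).IsGE 1 :=
  (tS C).isGE_shift _ 0 (-1) 1 (by lia)

lemma isLE_sg_shift_two (M : C) : (((sg M)⟦(1 : ℤ)⟧)⟦(1 : ℤ)⟧).IsLE (-2) := by
  have h1 : (tS C).IsLE ((sg M)⟦(1 : ℤ)⟧) (-1) := (tS C).isLE_shift _ 0 1 (-1) (by lia)
  exact (tS C).isLE_shift _ (-1) 1 (-2) (by lia)

include hP

/-- consequences of a short exact sequence `0 → X₁ → X₂ → X₃ → 0` when `X₂` is "complete". -/
lemma ses_consequences (S : ShortComplex C) (hS : S.ShortExact)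
    (h2 : AllShift P (sg S.X₂)) :
    (∀ φ : P ⟶ sg S.X₁, φ = 0) ∧
    ((∀ φ : P ⟶ sg S.X₃, φ = 0) → ∀ φ : P ⟶ (sg S.X₁)⟦(1 : ℤ)⟧, φ = 0) ∧
    (∀ φ : P ⟶ (sg S.X₃)⟦(1 : ℤ)⟧, φ = 0) ∧
    ((∀ φ : P ⟶ (sg S.X₁)⟦(1 : ℤ)⟧, φ = 0) → ∀ φ : P ⟶ sg S.X₃, φ = 0) := by
  have hT := hS.singleTriangle_distinguished
  have h20 : ∀ φ : P ⟶ sg S.X₂, φ = 0 :=
    hom_eq_zero_of_iso ((shiftFunctorZero (DerivedCategory C) ℤ).app _) (h2 0)
  have h21 : ∀ φ : P ⟶ (sg S.X₂)⟦(1 : ℤ)⟧, φ = 0 := h2 1
  refine ⟨?_, ?_, ?_, ?_⟩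
  · exact van_left P _ hT h20 (hP.le _ (isGE_sg_shift_neg S.X₃))
  · intro h3
    exact van_mid P _ (rot_of_distTriang _ (rot_of_distTriang _ hT)) h3 h21
  · exact van_right P _ (rot_of_distTriang _ (rot_of_distTriang _ (rot_of_distTriang _ hT))) h21
      (hP.ge _ (isLE_sg_shift_two S.X₁))
  · intro h1
    exact van_right P _ hT h20 h1

/-- kernels and cokernels of maps between "complete" objects are "complete". -/
theorem allShift_kernel_cokernel {M N : C} (u : M ⟶ N) (hM : AllShift P (sg M))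
    (hN : AllShift P (sg N)) :
    AllShift P (sg (kernel u)) ∧ AllShift P (sg (cokernel u)) := by
  let S1 : ShortComplex C := ShortComplex.mk (kernel.ι u) (Abelian.factorThruImage u) (by
    rw [← cancel_mono (Abelian.image.ι u), Category.assoc, Abelian.image.fac, kernel.condition,
      zero_comp])
  have hS1 : S1.ShortExact :=
    { exact := by
        apply ShortComplex.exact_of_f_is_kernel
        exact KernelFork.IsLimit.ofι _ _
          (fun {W} g hg => kernel.lift u g (by
            have : g ≫ u = (g ≫ Abelian.factorThruImage u) ≫ Abelian.image.ι u := by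
              rw [Category.assoc, Abelian.image.fac]
            rw [this, hg, zero_comp]))
          (fun g hg => kernel.lift_ι _ _ _)
          (fun g hg m hm => by
            rw [← cancel_mono (kernel.ι u), hm, kernel.lift_ι])
      mono_f := by dsimp [S1]; infer_instance
      epi_g := by dsimp [S1]; infer_instance }
  let S2 : ShortComplex C := ShortComplex.mk (Abelian.image.ι u) (cokernel.π u) (by
    exact kernel.condition _)
  have hS2 : S2.ShortExact :=
    { exact := ShortComplex.exact_of_f_is_kernel _ (kernelIsKernel _)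
      mono_f := by dsimp [S2]; infer_instance
      epi_g := by dsimp [S2]; infer_instance }
  obtain ⟨a1, a2, a3, _⟩ := ses_consequences hP S1 hS1 hM
  obtain ⟨b1, b2, b3, b4⟩ := ses_consequences hP S2 hS2 hN
  -- a1 : V(K), a2 : V(I) → V(K[1]), a3 : V(I[1]); b1 : V(I), b3 : V(C[1]), b4 : V(I[1]) → V(C)
  exact ⟨(allShift_single_iff hP _).2 ⟨a1, a2 b1⟩, (allShift_single_iff hP _).2 ⟨b4 a3, b3⟩⟩

end Groth.Agent.Lib.helper2.Pd1
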