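import Mathlib
import Groth.Prelude.Def_DRing3
import Groth.Agent.Lib.helper2.DComplIdeal2
import Groth.Agent.S7051

set_option autoImplicit false
set_option linter.unusedSectionVars false

namespace Groth.Agent.Lib.helper2.DCompl

open CategoryTheory DerivedCategory DRing

universe u

attribute [local instance] HasDerivedCategory.standard

/-- transport of the sequence criterion along an additive equivalence (possibly changing the
ring). -/
lemma Dseq_bijective_of_addEquiv {A B : Type u} [CommRing A] [CommRing B]
    {M N : Type u} [AddCommGroup M] [Module A M] [AddCommGroup N] [Module B N]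
    (e : M ≃+ N) (f : A) (g : B) (he : ∀ m, e (f • m) = g • e m)
    (h : Function.Bijective (Dseq f M)) : Function.Bijective (Dseq g N) := by
  let E : (ℕ → M) ≃ (ℕ → N) :=
    { toFun := fun z n => e (z n)
      invFun := fun z n => e.symm (z n)
      left_inv := fun z => by funext n; simp
      right_inv := fun z => by funext n; simp }
  have hE : ∀ z, Dseq g N (E z) = E (Dseq f M z) := by
    intro z
    funext n
    simp only [E, Equiv.coe_fn_mk, Dseq_apply, map_sub, he]
  have : (Dseq g N : (ℕ → N) → (ℕ → N)) = E ∘ (Dseq f M) ∘ E.symm := by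
    funext z
    simp only [Function.comp_apply]
    rw [← hE, E.apply_symm_apply]
  rw [this]
  exact E.bijective.comp (h.comp E.symm.bijective)

variable {A : Type u} [CommRing A]

lemma Dseq_bijective_pi {ι : Type u} (f : A) (M : Type u) [AddCommGroup M] [Module A M]
    (h : Function.Bijective (Dseq f M)) : Function.Bijective (Dseq f (ι → M)) := by
  let e := Equiv.ofBijective _ h
  have he : ∀ z, Dseq f M (e.symm z) = z := fun z => e.apply_symm_apply z
  have he' : ∀ z, e.symm (Dseq f M z) = z := fun z => e.symm_apply_apply z
  rw [Function.bijective_iff_has_inverse]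
  refine ⟨fun z n i => e.symm (fun k => z k i) n, ?_, ?_⟩
  · intro z
    funext n i
    have : (fun k => Dseq f (ι → M) z k i) = Dseq f M (fun k => z k i) := rfl
    simp only [this, he']
  · intro z
    funext n i
    show e.symm (fun k => z k i) n - f • e.symm (fun k => z k i) (n + 1) = z n i
    have := congrFun (he (fun k => z k i)) n
    exact this

lemma isDerivedComplete_singleton_iff (f : A) (M : Type u) [AddCommGroup M] [Module A M] :
    IsDerivedComplete (Ideal.span {f}) (Dual.inD A M) ↔ Function.Bijective (Dseq f M) := by
  rw [isDerivedComplete_span_iff_seq]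
  simp

/-- sequence form of S7051 -/
lemma Dseq_bijective_ker_coker (f : A) {M N : Type u} [AddCommGroup M] [Module A M]
    [AddCommGroup N] [Module A N] (u : M →ₗ[A] N) (hM : Function.Bijective (Dseq f M))
    (hN : Function.Bijective (Dseq f N)) :
    Function.Bijective (Dseq f (LinearMap.ker u)) ∧
      Function.Bijective (Dseq f (N ⧸ LinearMap.range u)) := by
  rw [← isDerivedComplete_singleton_iff] at hM hN ⊢
  rw [← isDerivedComplete_singleton_iff]
  exact Groth.Agent.S7051.result _ M N u hM hN

variable (I : Ideal A)

lemma isDerivedComplete_of_linearEquiv {M N : Type u} [AddCommGroup M] [Module A M]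
    [AddCommGroup N] [Module A N] (e : M ≃ₗ[A] N) (h : IsDerivedComplete I (Dual.inD A M)) :
    IsDerivedComplete I (Dual.inD A N) :=
  isDerivedComplete_of_iso ((singleFunctor (ModuleCat.{u} A) 0).mapIso e.toModuleIso) h

lemma isDerivedComplete_pi {ι : Type u} (M : Type u) [AddCommGroup M] [Module A M]
    (h : IsDerivedComplete I (Dual.inD A M)) : IsDerivedComplete I (Dual.inD A (ι → M)) := by
  rw [isDerivedComplete_iff_seq] at h ⊢
  exact fun f hf => Dseq_bijective_pi f M (h f hf)

lemma isDerivedComplete_of_finite_free (hA : IsDerivedComplete I (Dual.inD A A))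
    (P : Type u) [AddCommGroup P] [Module A P] [Module.Finite A P] [Module.Free A P] :
    IsDerivedComplete I (Dual.inD A P) :=
  isDerivedComplete_of_linearEquiv I (Module.Free.chooseBasis A P).equivFun.symm
    (isDerivedComplete_pi I A hA)

/-- a complex whose terms are derived complete is derived complete -/
theorem isDerivedComplete_toD (E : Cx A)
    (hE : ∀ i : ℤ, IsDerivedComplete I (Dual.inD A (E.X i))) : IsDerivedComplete I (toD E) := by
  rw [isDerivedComplete_iff_homology]
  intro i
  let S := E.sc i
  have h1 := (Groth.Agent.S7051.result I _ _ S.g.hom (hE i) (hE _)).1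
  have h2 := (Groth.Agent.S7051.result I _ _ S.moduleCatToCycles (hE _) h1).2
  refine isDerivedComplete_of_iso ((singleFunctor (ModuleCat.{u} A) 0).mapIso ?_) h2
  exact S.moduleCatHomologyIso.symm ≪≫ ((homologyFunctorFactors (ModuleCat.{u} A) i).app E).symm

end Groth.Agent.Lib.helper2.DCompl
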