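import Mathlib
import Groth.Prelude.Def_DRing3
import Groth.Agent.Lib.helper2.DComplRing

set_option autoImplicit false
set_option linter.unusedSectionVars false

namespace Groth.Agent.Lib.helper2.DCompl

open DRing

universe u

/-- elementwise form of S7043 -/
lemma smul_eq_zero_of_divisible {A : Type u} [CommRing A] {f : A} {M : Type u} [AddCommGroup M]
    [Module A M] (hinj : Function.Injective (Dseq f M)) {a : A} {m : M}
    (ha : ∀ n : ℕ, ∃ b : A, a = b * f ^ n) (hm : ∀ n : ℕ, ∃ z : M, f ^ n • z = m) :
    a • m = 0 := by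
  choose b hb using ha
  choose z hz using hm
  have h0 : Dseq f M (fun n => a • z n) = 0 := by
    funext n
    rw [Dseq_apply, Pi.zero_apply, smul_comm f a, ← smul_sub]
    rw [hb n, mul_smul, smul_sub, hz n, smul_smul, ← pow_succ, hz (n + 1), sub_self, smul_zero]
  have h1 := hinj (h0.trans (map_zero _).symm)
  have h2 := congrFun h1 0
  have h3 : z 0 = m := by simpa using hz 0
  simpa [h3] using h2

open Classical in
theorem iInf_pow_pow_eq_bot : ∀ (r : ℕ) (A : Type u) [CommRing A] (s : Finset A), s.card ≤ r →
    (∀ f ∈ s, Function.Bijective (Dseq f A)) →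
    (⨅ n : ℕ, (Ideal.span (s : Set A)) ^ n) ^ (2 ^ r) = ⊥ := by
  intro r
  have hempty : ∀ (A : Type u) [CommRing A] (k : ℕ), k ≠ 0 →
      (⨅ n : ℕ, (Ideal.span ((∅ : Finset A) : Set A)) ^ n) ^ k = ⊥ := by
    intro A _ k hk
    have : (⨅ n : ℕ, (Ideal.span ((∅ : Finset A) : Set A)) ^ n) = ⊥ := by
      rw [eq_bot_iff]
      refine (iInf_le _ 1).trans ?_
      rw [pow_one, Finset.coe_empty, Ideal.span_empty]
    rw [this, Ideal.bot_pow hk]
  induction r with
  | zero =>
    intro A _ s hs _
    have : s = ∅ := Finset.card_eq_zero.1 (Nat.le_zero.1 hs)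
    subst this
    exact hempty A _ (by simp)
  | succ r ih =>
    intro A _ s hs hbij
    by_cases hse : s = ∅
    · subst hse
      exact hempty A _ (by positivity)
    obtain ⟨f, hf⟩ := Finset.nonempty_iff_ne_empty.2 hse
    set s' := s.erase f with hs'
    have hcard : s'.card ≤ r := by
      rw [hs', Finset.card_erase_of_mem hf]; omega
    have hins : (s : Set A) = insert f (s' : Set A) := by
      rw [hs', Finset.coe_erase]
      ext x
      simp only [Set.mem_insert_iff, Set.mem_sdiff, Set.mem_singleton_iff, Finset.mem_coe]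
      constructor
      · intro hx
        by_cases hxf : x = f
        · exact Or.inl hxf
        · exact Or.inr ⟨hx, hxf⟩
      · rintro (rfl | ⟨hx, _⟩)
        · exact hf
        · exact hx
    set J := ⨅ n : ℕ, (Ideal.span (s : Set A)) ^ n with hJ
    have hfbij := hbij f hf
    -- key claim
    have key : J ^ (2 ^ r) ≤ ⨅ n : ℕ, Ideal.span {f ^ n} := by
      refine le_iInf (fun n => ?_)
      let q := Ideal.Quotient.mk (Ideal.span {f ^ n})
      let t : Finset (A ⧸ Ideal.span {f ^ n}) := s'.image q
      have htcard : t.card ≤ r := Finset.card_image_le.trans hcard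
      have htbij : ∀ g ∈ t, Function.Bijective (Dseq g (A ⧸ Ideal.span {f ^ n})) := by
        intro g hg
        obtain ⟨g₀, hg₀, rfl⟩ := Finset.mem_image.1 hg
        have hg₀s : g₀ ∈ s := Finset.mem_of_mem_erase hg₀
        have hb := hbij g₀ hg₀s
        let u : A →ₗ[A] A := LinearMap.lsmul A A (f ^ n)
        have h1 := (Dseq_bijective_ker_coker g₀ u hb hb).2
        have heq : LinearMap.range u = (Ideal.span {f ^ n} : Submodule A A) := by
          ext x
          rw [LinearMap.mem_range, Ideal.mem_span_singleton']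
          constructor
          · rintro ⟨y, rfl⟩
            exact ⟨y, by simp [u, mul_comm]⟩
          · rintro ⟨y, rfl⟩
            exact ⟨y, by simp [u, mul_comm]⟩
        let e := (Submodule.quotEquivOfEq _ _ heq)
        refine Dseq_bijective_of_addEquiv (A := A) (B := A ⧸ Ideal.span {f ^ n})
          (M := A ⧸ LinearMap.range u) (N := A ⧸ Ideal.span {f ^ n}) e.toAddEquiv g₀ (q g₀) ?_ h1
        intro m
        show e (g₀ • m) = q g₀ • e m
        rw [map_smul, Algebra.smul_def, smul_eq_mul]
        rfl
      have hIH := ih (A ⧸ Ideal.span {f ^ n}) t htcard htbij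
      have hspan : Ideal.span (t : Set (A ⧸ Ideal.span {f ^ n})) =
          Ideal.map q (Ideal.span (s' : Set A)) := by
        rw [Ideal.map_span, Finset.coe_image]
      have hmapJ : Ideal.map q J ≤
          ⨅ m : ℕ, (Ideal.span (t : Set (A ⧸ Ideal.span {f ^ n}))) ^ m := by
        refine le_iInf (fun m => ?_)
        have h1 : J ≤ (Ideal.span (s : Set A)) ^ (n + m) := iInf_le _ _
        refine (Ideal.map_mono h1).trans ?_
        rw [Ideal.map_pow, hins, Ideal.span_insert, Ideal.map_sup, ← hspan]
        refine Ideal.sup_pow_add_le_pow_sup_pow.trans ?_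
        rw [Ideal.map_span, Set.image_singleton, Ideal.span_singleton_pow, ← map_pow]
        have : q (f ^ n) = 0 :=
          Ideal.Quotient.eq_zero_iff_mem.2 (Ideal.mem_span_singleton_self _)
        rw [this, Ideal.span_singleton_eq_bot.2 rfl, bot_sup_eq]
      intro x hx
      have h2 : q x ∈ Ideal.map q (J ^ (2 ^ r)) := Ideal.mem_map_of_mem q hx
      rw [Ideal.map_pow] at h2
      have h3 := Ideal.pow_right_mono hmapJ (2 ^ r) h2
      rw [hIH, Ideal.mem_bot] at h3
      exact Ideal.Quotient.eq_zero_iff_mem.1 h3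
    rw [pow_succ, pow_mul, pow_two, eq_bot_iff, Ideal.mul_le]
    intro a ha b hb
    rw [Ideal.mem_bot, ← smul_eq_mul]
    apply smul_eq_zero_of_divisible hfbij.1
    · intro n
      have := (Ideal.mem_iInf.1 (key ha)) n
      rw [Ideal.mem_span_singleton'] at this
      obtain ⟨c, hc⟩ := this
      exact ⟨c, hc.symm⟩
    · intro n
      have := (Ideal.mem_iInf.1 (key hb)) n
      rw [Ideal.mem_span_singleton'] at this
      obtain ⟨c, hc⟩ := this
      exact ⟨c, by rw [smul_eq_mul, mul_comm, hc]⟩

end Groth.Agent.Lib.helper2.DCompl
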