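import Mathlib
import Groth.Prelude.Def_DRing3
import Groth.Agent.Lib.helper2.DComplSeq2
import Groth.Agent.S7051

set_option autoImplicit false
set_option linter.unusedSectionVars false

namespace Groth.Agent.Lib.helper2.DCompl

open DRing

universe u

attribute [local instance] HasDerivedCategory.standard

variable {A : Type u} [CommRing A]

/-- a module on which `f` acts surjectively and with `Hom(A_f, M) = 0` is zero -/
lemma subsingleton_of_smul_surjective (f : A) (M : Type u) [AddCommGroup M] [Module A M]
    (hinj : Function.Injective (Dseq f M)) (hsurj : ∀ m : M, ∃ m' : M, f • m' = m) :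
    Subsingleton M := by
  choose g hg using hsurj
  refine ⟨fun x y => ?_⟩
  suffices h : ∀ x : M, x = 0 by rw [h x, h y]
  intro x
  let h : ℕ → M := fun n => g^[n] x
  have h0 : Dseq f M h = 0 := by
    funext n
    simp only [Dseq_apply, Pi.zero_apply, h]
    rw [Function.iterate_succ_apply', hg, sub_self]
  have := congrFun (hinj (h0.trans (map_zero _).symm)) 0
  simpa [h] using this

variable (I : Ideal A)

lemma isDerivedComplete_quotient_smul (f : A) (M : Type u) [AddCommGroup M] [Module A M]
    (hc : IsDerivedComplete I (Dual.inD A M)) :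
    IsDerivedComplete I (Dual.inD A (M ⧸ LinearMap.range (LinearMap.lsmul A M f))) :=
  (Groth.Agent.S7051.result I M M (LinearMap.lsmul A M f) hc hc).2

open Classical in
/-- derived Nakayama, generator by generator -/
theorem subsingleton_of_span_smul_top_eq_top (s : Finset A) :
    ∀ (_ : (s : Set A) ⊆ I) (M : Type u) [AddCommGroup M] [Module A M]
      (_ : IsDerivedComplete I (Dual.inD A M))
      (_ : Ideal.span (s : Set A) • (⊤ : Submodule A M) = ⊤), Subsingleton M := by
  induction s using Finset.induction_on with
  | empty =>
    intro _ M _ _ _ h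
    rw [Finset.coe_empty, Ideal.span_empty, Submodule.bot_smul] at h
    exact (Submodule.subsingleton_iff A).1 (subsingleton_of_bot_eq_top h)
  | insert a s ha ih =>
    intro hs M _ _ hc h
    have haI : a ∈ I := hs (by simp)
    have hsI : (s : Set A) ⊆ I := fun x hx => hs (by simp [hx])
    let u := LinearMap.lsmul A M a
    have hN := isDerivedComplete_quotient_smul I a M hc
    have hN2 : Ideal.span (s : Set A) • (⊤ : Submodule A (M ⧸ LinearMap.range u)) = ⊤ := by
      rw [eq_top_iff]
      rintro n -
      obtain ⟨m, rfl⟩ := (LinearMap.range u).mkQ_surjective n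
      have hm : m ∈ Ideal.span ((insert a s : Finset A) : Set A) • (⊤ : Submodule A M) := by
        rw [h]; trivial
      rw [Finset.coe_insert, Ideal.span_insert, Submodule.sup_smul,
        Submodule.ideal_span_singleton_smul] at hm
      obtain ⟨m1, hm1, m2, hm2, rfl⟩ := Submodule.mem_sup.1 hm
      rw [map_add]
      have h1 : (LinearMap.range u).mkQ m1 = 0 := by
        rw [Submodule.mkQ_apply, Submodule.Quotient.mk_eq_zero]
        rw [Submodule.mem_smul_pointwise_iff_exists] at hm1
        obtain ⟨z, _, hz⟩ := hm1
        exact ⟨z, hz⟩
      rw [h1, zero_add]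
      have : (LinearMap.range u).mkQ m2 ∈
          (Ideal.span (s : Set A) • (⊤ : Submodule A M)).map (LinearMap.range u).mkQ :=
        Submodule.mem_map_of_mem hm2
      rw [Submodule.map_smul''] at this
      exact Submodule.smul_mono le_rfl le_top this
    have hsub := ih hsI (M ⧸ LinearMap.range u) hN hN2
    have hsurj : ∀ m : M, ∃ m' : M, a • m' = m := by
      intro m
      have : (LinearMap.range u).mkQ m = 0 := Subsingleton.elim _ _
      rw [Submodule.mkQ_apply, Submodule.Quotient.mk_eq_zero] at this
      exact this
    rw [isDerivedComplete_iff_seq] at hc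
    exact subsingleton_of_smul_surjective a M (hc a haI).1 hsurj

/-- derived Nakayama -/
theorem subsingleton_of_smul_top_eq_top (hI : I.FG) (M : Type u) [AddCommGroup M] [Module A M]
    (hc : IsDerivedComplete I (Dual.inD A M)) (h : I • (⊤ : Submodule A M) = ⊤) :
    Subsingleton M := by
  obtain ⟨s, rfl⟩ := hI
  exact subsingleton_of_span_smul_top_eq_top _ s Ideal.subset_span M hc h

end Groth.Agent.Lib.helper2.DCompl
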