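import Mathlib
import Groth.Prelude.Def_DRing3
import Groth.Agent.Lib.helper2.DComplNil
import Groth.Agent.S7049

set_option autoImplicit false
set_option linter.unusedSectionVars false

namespace Groth.Agent.Lib.helper2.DCompl

open DRing Polynomial

universe u

variable {A : Type u} [CommRing A]

lemma isUnit_one_add_of_bijective (c : A) (h : Function.Bijective (Dseq (-c) A)) :
    IsUnit (1 + c) := by
  obtain ⟨z, hz⟩ := h.2 (fun _ => (1 : A))
  have h1 : Dseq (-c) A (fun n => z (n + 1)) = fun _ => (1 : A) := by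
    funext n
    have := congrFun hz (n + 1)
    simpa using this
  have h2 : (fun n => z (n + 1)) = z := h.1 (h1.trans hz.symm)
  have h3 := congrFun hz 0
  have h4 := congrFun h2 0
  simp only [Dseq_apply, zero_add, smul_eq_mul] at h3
  simp only [zero_add] at h4
  rw [h4] at h3
  exact IsUnit.of_mul_eq_one (z 0) (by linear_combination h3)

lemma isAdicComplete_of_pow_eq_bot (J : Ideal A) (N : ℕ) (h : J ^ N = ⊥) :
    IsAdicComplete J A := by
  have hJ : ∀ n, (J ^ n • ⊤ : Ideal A) = J ^ n := fun n => by rw [smul_eq_mul, Ideal.mul_top]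
  refine { haus' := ?_, prec' := ?_ }
  · intro x hx
    have := hx N
    rw [SModEq.zero, hJ, h, Ideal.mem_bot] at this
    exact this
  · intro f hf
    refine ⟨f N, fun n => ?_⟩
    by_cases hn : n ≤ N
    · exact hf hn
    · have h1 := hf (le_of_lt (not_le.1 hn))
      rw [SModEq.sub_mem, hJ, h, Ideal.mem_bot, sub_eq_zero] at h1
      rw [h1]

lemma isAdicComplete_quotient_iInf (I₀ : Ideal A) (hprec : IsPrecomplete I₀ A) :
    IsAdicComplete (I₀.map (Ideal.Quotient.mk (⨅ n : ℕ, I₀ ^ n)))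
      (A ⧸ (⨅ n : ℕ, I₀ ^ n)) := by
  set J₀ := ⨅ n : ℕ, I₀ ^ n with hJ₀
  let q := Ideal.Quotient.mk J₀
  have hq : Function.Surjective q := Ideal.Quotient.mk_surjective
  have hJ : ∀ n, ((I₀.map q) ^ n • ⊤ : Ideal (A ⧸ J₀)) = (I₀ ^ n).map q := fun n => by
    rw [smul_eq_mul, Ideal.mul_top, Ideal.map_pow]
  have hJ' : ∀ n, (I₀ ^ n • ⊤ : Ideal A) = I₀ ^ n := fun n => by rw [smul_eq_mul, Ideal.mul_top]
  have hmem : ∀ (n : ℕ) (x : A), q x ∈ (I₀ ^ n).map q → x ∈ I₀ ^ n := by
    intro n x hx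
    rw [← Ideal.mem_comap, Ideal.comap_map_of_surjective q hq] at hx
    obtain ⟨y, hy, z, hz, rfl⟩ := Submodule.mem_sup.1 hx
    refine Ideal.add_mem _ hy ?_
    have hz' : q z = 0 := by
      rw [Ideal.mem_comap, Ideal.mem_bot] at hz
      exact hz
    have : z ∈ J₀ := Ideal.Quotient.eq_zero_iff_mem.1 hz'
    exact (Ideal.mem_iInf.1 this) n
  refine { haus' := ?_, prec' := ?_ }
  · intro x hx
    obtain ⟨a, rfl⟩ := hq x
    refine Ideal.Quotient.eq_zero_iff_mem.2 (Ideal.mem_iInf.2 (fun n => ?_))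
    have := hx n
    rw [SModEq.zero, hJ] at this
    exact hmem n a this
  · intro f hf
    choose g hg using fun n => hq (f n)
    have hcauchy : ∀ {m n : ℕ}, m ≤ n → g m ≡ g n [SMOD (I₀ ^ m • ⊤ : Ideal A)] := by
      intro m n hmn
      have := hf hmn
      rw [SModEq.sub_mem, hJ, ← hg, ← hg, ← map_sub] at this
      rw [SModEq.sub_mem, hJ']
      exact hmem m _ this
    obtain ⟨L, hL⟩ := hprec.prec hcauchy
    refine ⟨q L, fun n => ?_⟩
    have := hL n
    rw [SModEq.sub_mem, hJ'] at this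
    rw [SModEq.sub_mem, hJ, ← hg, ← map_sub]
    exact Ideal.mem_map_of_mem q this

open Classical in
theorem henselianRing_of_seq (I : Ideal A) (hc : ∀ f ∈ I, Function.Bijective (Dseq f A))
    (hsurj : ∀ I₀ : Ideal A, I₀.FG → I₀ ≤ I → IsPrecomplete I₀ A) : HenselianRing A I := by
  have hunitI : ∀ x ∈ I, IsUnit (1 + x) := fun x hx =>
    isUnit_one_add_of_bijective x (hc (-x) (neg_mem hx))
  refine { jac := ?_, is_henselian := ?_ }
  · intro x hx
    rw [Ideal.mem_jacobson_bot]
    intro y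
    rw [add_comm]
    exact hunitI _ (I.mul_mem_right y hx)
  · intro F hF a₀ h₁ h₂
    obtain ⟨v, hv⟩ := h₂.exists_right_inv
    obtain ⟨u, rfl⟩ := Ideal.Quotient.mk_surjective v
    set c := F.eval a₀ with hc_def
    set d := F.derivative.eval a₀ * u - 1 with hd_def
    have hdI : d ∈ I := by
      rw [← Ideal.Quotient.eq_zero_iff_mem, hd_def, map_sub, map_mul, hv, map_one, sub_self]
    let s : Finset A := {c, d}
    have hscard : s.card ≤ 2 := Finset.card_le_two
    set I₀ := Ideal.span (s : Set A) with hI₀_def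
    have hcI₀ : c ∈ I₀ := Ideal.subset_span (by simp [s])
    have hdI₀ : d ∈ I₀ := Ideal.subset_span (by simp [s])
    have hI₀ : I₀ ≤ I := by
      rw [hI₀_def, Ideal.span_le]
      intro x hx
      simp only [s, Finset.coe_insert, Finset.coe_singleton, Set.mem_insert_iff,
        Set.mem_singleton_iff] at hx
      rcases hx with rfl | rfl
      · exact h₁
      · exact hdI
    have hprec : IsPrecomplete I₀ A := hsurj I₀ ⟨s, rfl⟩ hI₀
    set J₀ := ⨅ n : ℕ, I₀ ^ n with hJ₀_def
    have hnil : J₀ ^ (2 ^ 2) = ⊥ :=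
      iInf_pow_pow_eq_bot 2 A s hscard (fun f hf => hc f (hI₀ (Ideal.subset_span hf)))
    have hJ₀I₀ : J₀ ≤ I₀ := (iInf_le _ 1).trans (by rw [pow_one])
    -- Step A
    let q := Ideal.Quotient.mk J₀
    have hq : Function.Surjective q := Ideal.Quotient.mk_surjective
    have hcompl : IsAdicComplete (I₀.map q) (A ⧸ J₀) := isAdicComplete_quotient_iInf I₀ hprec
    have hens : HenselianRing (A ⧸ J₀) (I₀.map q) := inferInstance
    have hA1 : (F.map q).eval (q a₀) ∈ I₀.map q := by
      rw [Polynomial.eval_map_apply]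
      exact Ideal.mem_map_of_mem q hcI₀
    have hA2 : IsUnit (Ideal.Quotient.mk (I₀.map q) ((F.map q).derivative.eval (q a₀))) := by
      rw [Polynomial.derivative_map, Polynomial.eval_map_apply]
      apply IsUnit.of_mul_eq_one (Ideal.Quotient.mk (I₀.map q) (q u))
      rw [← map_mul, ← map_mul, ← map_one (Ideal.Quotient.mk (I₀.map q)), ← sub_eq_zero,
        ← map_sub, Ideal.Quotient.eq_zero_iff_mem, ← map_one q, ← map_sub]
      exact Ideal.mem_map_of_mem q hdI₀
    obtain ⟨abar, habar, habar'⟩ := hens.is_henselian (F.map q) (hF.map q) (q a₀) hA1 hA2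
    obtain ⟨i, hi, hi'⟩ := (Ideal.mem_map_iff_of_surjective q hq).1 habar'
    set a₁ := a₀ + i with ha₁
    have hqa₁ : q a₁ = abar := by rw [ha₁, map_add, hi']; ring
    have hFa₁ : F.eval a₁ ∈ J₀ := by
      rw [← Ideal.Quotient.eq_zero_iff_mem, ← Polynomial.eval_map_apply, hqa₁]
      exact habar
    -- Step B
    have hcompl' : IsAdicComplete J₀ A := isAdicComplete_of_pow_eq_bot J₀ (2 ^ 2) hnil
    have hens' : HenselianRing A J₀ := inferInstance
    have hunit : IsUnit (F.derivative.eval a₁) := by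
      have h1 : F.derivative.eval a₁ - F.derivative.eval a₀ ∈ I₀ := by
        obtain ⟨w, hw⟩ := Polynomial.sub_dvd_eval_sub a₁ a₀ F.derivative
        rw [hw]
        have : a₁ - a₀ = i := by rw [ha₁]; ring
        rw [this]
        exact I₀.mul_mem_right w hi
      have h2 : F.derivative.eval a₁ * u =
          1 + (d + (F.derivative.eval a₁ - F.derivative.eval a₀) * u) := by
        rw [hd_def]; ring
      have h3 : IsUnit (F.derivative.eval a₁ * u) := by
        rw [h2]
        exact hunitI _ (hI₀ (I₀.add_mem hdI₀ (I₀.mul_mem_right u h1)))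
      exact isUnit_of_mul_isUnit_left h3
    obtain ⟨a, ha, ha'⟩ := hens'.is_henselian F hF a₁ hFa₁ (hunit.map _)
    refine ⟨a, ha, ?_⟩
    have : a - a₀ = (a - a₁) + i := by rw [ha₁]; ring
    rw [this]
    exact I.add_mem (hI₀ (hJ₀I₀ ha')) (hI₀ hi)

end Groth.Agent.Lib.helper2.DCompl
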