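import Mathlib
import Groth.Prelude.Def_DRing3
import Groth.Agent.Lib.helper2.DComplSeq2

set_option autoImplicit false
set_option linter.unusedSectionVars false

namespace Groth.Agent.Lib.helper2.DCompl

open DRing

universe u

variable {A : Type u} [CommRing A]

section principal

variable (f : A) (M : Type u) [AddCommGroup M] [Module A M]

/-- if `Hom(A_f, M) = 0` and `f^a M ≠ 0` then `f^{a+1} M ≠ f^a M`. -/
lemma exists_not_mem_of_injective (hinj : Function.Injective (Dseq f M)) (a : ℕ)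
    (ha : ∃ m : M, f ^ a • m ≠ 0) : ∃ m : M, ¬ ∃ m' : M, f ^ a • m = f ^ (a + 1) • m' := by
  by_contra hcon
  push Not at hcon
  choose g hg using hcon
  obtain ⟨m0, hm0⟩ := ha
  let x : ℕ → M := fun k => f ^ a • g^[k] m0
  have h0 : Dseq f M x = 0 := by
    funext k
    simp only [Dseq_apply, Pi.zero_apply, x]
    rw [Function.iterate_succ_apply', smul_smul, ← pow_succ', ← hg, sub_self]
  have := congrFun (hinj (h0.trans (map_zero _).symm)) 0
  exact hm0 (by simpa [x] using this)

/-- a derived `f`-complete, `f`-power torsion module is killed by a power of `f`. -/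
theorem exists_pow_smul_eq_zero (hbij : Function.Bijective (Dseq f M))
    (ht : ∀ m : M, ∃ n : ℕ, f ^ n • m = 0) : ∃ n : ℕ, ∀ m : M, f ^ n • m = 0 := by
  by_contra hcon
  push Not at hcon
  -- hcon : ∀ n, ∃ m, f ^ n • m ≠ 0
  have step1 : ∀ a : ℕ, ∃ m : M, ¬ ∃ m' : M, f ^ a • m = f ^ (a + 1) • m' :=
    fun a => exists_not_mem_of_injective f M hbij.1 a (hcon a)
  have hc : ∀ (j : ℕ) (y : M), ∃ c : M,
      ¬ ∃ m' : M, f ^ j • (y + f ^ j • c) = f ^ (2 * j + 1) • m' := by
    intro j y
    by_cases h : ∃ v : M, f ^ j • y = f ^ (2 * j + 1) • v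
    · obtain ⟨v, hv⟩ := h
      obtain ⟨m, hm⟩ := step1 (2 * j)
      refine ⟨m, ?_⟩
      rintro ⟨m', hm'⟩
      apply hm
      refine ⟨m' - v, ?_⟩
      rw [smul_sub, ← hm', ← hv, smul_add, smul_smul, ← pow_add, ← two_mul]
      abel
    · exact ⟨0, by simpa using h⟩
  choose c hcc using hc
  let y : ℕ → M := fun n => Nat.rec (motive := fun _ => M) 0 (fun j yj => yj + f ^ j • c j yj) n
  have hy : ∀ j, y (j + 1) = y j + f ^ j • c j (y j) := fun j => rfl
  obtain ⟨h, hh⟩ := hbij.2 (fun j => c j (y j))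
  have hh' : ∀ n, h n = c n (y n) + f • h (n + 1) := by
    intro n
    have := congrFun hh n
    simp only [Dseq_apply] at this
    rw [← this]; abel
  have key : ∀ n, h 0 = y n + f ^ n • h n := by
    intro n
    induction n with
    | zero => simp [y]
    | succ n ih =>
      rw [ih, hy, hh' n, smul_add, smul_smul, ← pow_succ]
      abel
  obtain ⟨j, hj⟩ := ht (h 0)
  apply hcc j (y j)
  refine ⟨- h (j + 1), ?_⟩
  rw [← hy]
  have := key (j + 1)
  rw [this, smul_add, smul_smul, ← pow_add] at hj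
  rw [smul_neg, eq_neg_iff_add_eq_zero, ← hj]
  congr 3
  ring

end principal

open Classical in
lemma exists_pow_smul_eq_zero_of_finset (M : Type u) [AddCommGroup M] [Module A M] (s : Finset A) :
    (∀ a ∈ s, ∃ n : ℕ, ∀ m : M, a ^ n • m = 0) →
      ∃ N : ℕ, ∀ x ∈ (Ideal.span (s : Set A)) ^ N, ∀ m : M, x • m = 0 := by
  induction s using Finset.induction_on with
  | empty =>
    intro _
    refine ⟨1, fun x hx m => ?_⟩
    rw [Finset.coe_empty, Ideal.span_empty, pow_one, Ideal.mem_bot] at hx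
    rw [hx, zero_smul]
  | insert a s ha ih =>
    intro h
    obtain ⟨n, hn⟩ := h a (Finset.mem_insert_self a s)
    obtain ⟨N, hN⟩ := ih (fun b hb => h b (Finset.mem_insert_of_mem hb))
    refine ⟨n + N, fun x hx m => ?_⟩
    rw [Finset.coe_insert, Ideal.span_insert] at hx
    have hx' := Ideal.sup_pow_add_le_pow_sup_pow hx
    obtain ⟨x1, hx1, x2, hx2, rfl⟩ := Submodule.mem_sup.1 hx'
    rw [Ideal.span_singleton_pow, Ideal.mem_span_singleton] at hx1
    obtain ⟨b, rfl⟩ := hx1
    rw [add_smul, hN x2 hx2 m, add_zero, mul_comm, mul_smul, hn, smul_zero]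

end Groth.Agent.Lib.helper2.DCompl
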