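import Mathlib
import Groth.Agent.Lib.helper2.BrownW
import Groth.Agent.Lib.helper2.KPc
import Groth.Agent.Lib.helper2.DerCoprod

set_option autoImplicit false
set_option linter.unusedSectionVars false

namespace Groth.Agent.Lib.helper2.DGen

open CategoryTheory CategoryTheory.Limits DerivedCategory HomologicalComplex
open Groth.Agent.Lib.helper2
open scoped ZeroObject

universe u

attribute [local instance] HasDerivedCategory.standard

variable (A : Type u) [CommRing A]

/-- the complex `A[-n]` -/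
noncomputable abbrev Sg (n : ℤ) : CochainComplex (ModuleCat.{u} A) ℤ :=
  (HomologicalComplex.single (ModuleCat.{u} A) (ComplexShape.up ℤ) n).obj (ModuleCat.of A A)

instance projective_Sg_X (n i : ℤ) : Projective ((Sg A n).X i) := by
  by_cases h : i = n
  · subst h
    exact Projective.of_iso (HomologicalComplex.singleObjXSelf (ComplexShape.up ℤ) i (ModuleCat.of A A)).symm
      (ModuleCat.projective_of_free (Module.Free.chooseBasis A A))
  · exact (HomologicalComplex.isZero_single_obj_X (ComplexShape.up ℤ) n (ModuleCat.of A A) i h).projective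

instance isKProjective_Sg (n : ℤ) : (Sg A n).IsKProjective :=
  CochainComplex.isKProjective_of_projective _ n

instance hasCoproductsOfShape_nat :
    HasCoproductsOfShape ℕ (DerivedCategory (ModuleCat.{u} A)) :=
  hasColimitsOfShape_of_equivalence (Discrete.equivalence (Equiv.ulift.{u} (α := ℕ)))

/-- the generating family -/
noncomputable def E' (n : ULift.{u} ℤ) : DerivedCategory (ModuleCat.{u} A) := Q.obj (Sg A n.down)

instance small_E' (n : ULift.{u} ℤ) (X : DerivedCategory (ModuleCat.{u} A)) :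
    Small.{u} (E' A n ⟶ X) :=
  KPc.small_hom (Sg A n.down) X

lemma hY (X : DerivedCategory (ModuleCat.{u} A)) (κ : Type u) :
    PreservesLimitsOfShape (Discrete κ) (preadditiveYoneda.obj X) := by
  have : PreservesLimitsOfSize.{u, u} (preadditiveYoneda.obj X) :=
    preservesLimitsOfSize_shrink.{u, u + 1, u, u + 1} _
  infer_instance

/-- the shift of a generator is a generator -/
noncomputable def shiftIso (n : ℤ) :
    (shiftFunctor (DerivedCategory (ModuleCat.{u} A)) (-1 : ℤ)).obj (Q.obj (Sg A n)) ≅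
      Q.obj (Sg A (n + 1)) :=
  ((Q.commShiftIso (-1 : ℤ)).app (Sg A n)).symm ≪≫
    Q.mapIso (((CochainComplex.singleFunctors (ModuleCat.{u} A)).shiftIso (-1) (n + 1) n
      (by omega)).app (ModuleCat.of A A))

lemma hshift (Q' : DerivedCategory (ModuleCat.{u} A)) (h : BrownW.PEW (E' A) Q') :
    BrownW.PEW (E' A) ((shiftFunctor _ (-1 : ℤ)).obj Q') := by
  obtain ⟨⟨n⟩, ⟨e⟩⟩ := h
  exact ⟨⟨n + 1⟩, ⟨(shiftFunctor _ (-1 : ℤ)).mapIso e ≪≫ shiftIso A n⟩⟩

variable {A}

lemma isZero_of_homology {X : DerivedCategory (ModuleCat.{u} A)}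
    (h : ∀ n : ℤ, IsZero ((homologyFunctor (ModuleCat.{u} A) n).obj X)) : IsZero X := by
  have : IsIso (0 : X ⟶ 0) := by
    rw [DerivedCategory.isIso_iff]
    intro n
    refine ⟨0, (h n).eq_of_src _ _, ?_⟩
    apply IsZero.eq_of_src
    exact Functor.map_isZero _ (isZero_zero _)
  exact IsZero.of_iso (isZero_zero _) (asIso (0 : X ⟶ 0))

/-- the chain map `A[-n] ⟶ Z` attached to a cycle -/
noncomputable def cycleMap (Z : CochainComplex (ModuleCat.{u} A) ℤ) (n : ℤ) (z : Z.X n)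
    (hz : Z.d n (n + 1) z = 0) : Sg A n ⟶ Z :=
  HomologicalComplex.mkHomFromSingle (ModuleCat.ofHom (LinearMap.toSpanSingleton A _ z))
    (fun k hk => by
      obtain rfl : n + 1 = k := hk
      ext
      simp [hz])

lemma cycleMap_f (Z : CochainComplex (ModuleCat.{u} A) ℤ) (n : ℤ) (z : Z.X n)
    (hz : Z.d n (n + 1) z = 0) :
    (cycleMap Z n z hz).f n = (HomologicalComplex.singleObjXSelf (ComplexShape.up ℤ) n
      (ModuleCat.of A A)).hom ≫ ModuleCat.ofHom (LinearMap.toSpanSingleton A _ z) :=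
  HomologicalComplex.mkHomFromSingle_f _ _

lemma homotopy_zero_of_Q_map_eq_zero {E Z : CochainComplex (ModuleCat.{u} A) ℤ} [E.IsKProjective]
    (a : E ⟶ Z) (h : Q.map a = 0) : Nonempty (Homotopy a 0) := by
  rw [← HomotopyCategory.quotient_map_eq_zero_iff]
  apply (CochainComplex.IsKProjective.Qh_map_bijective E _).injective
  rw [Functor.map_zero]
  exact h

lemma boundary_of_homotopy (Z : CochainComplex (ModuleCat.{u} A) ℤ) (n : ℤ) (z : Z.X n)
    (hz : Z.d n (n + 1) z = 0) (H : Homotopy (cycleMap Z n z hz) 0) :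
    ∃ y : Z.X (n - 1), Z.d (n - 1) n y = z := by
  have h1 := H.comm n
  rw [dNext_eq H.hom (show (ComplexShape.up ℤ).Rel n (n + 1) from rfl),
    prevD_eq H.hom (show (ComplexShape.up ℤ).Rel (n - 1) n by simp)] at h1
  have h2 : (Sg A n).d n (n + 1) = 0 := by simp
  rw [h2, zero_comp, zero_add, HomologicalComplex.zero_f, add_zero, cycleMap_f] at h1
  refine ⟨H.hom n (n - 1) ((HomologicalComplex.singleObjXSelf (ComplexShape.up ℤ) n
      (ModuleCat.of A A)).inv (1 : A)), ?_⟩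
  have h3 := congrArg (fun g => (HomologicalComplex.singleObjXSelf (ComplexShape.up ℤ) n
      (ModuleCat.of A A)).inv ≫ g) h1
  simp only [Iso.inv_hom_id_assoc] at h3
  have h4 := congrArg (fun g => g.hom (1 : A)) h3
  simp only [ModuleCat.hom_ofHom, LinearMap.toSpanSingleton_apply, one_smul] at h4
  exact h4.symm

lemma hgen (X : DerivedCategory (ModuleCat.{u} A))
    (h : ∀ Q', BrownW.PEW (E' A) Q' → ∀ f : Q' ⟶ X, f = 0) : IsZero X := by
  let Z := Q.objPreimage X
  let e : Q.obj Z ≅ X := Q.objObjPreimageIso X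
  apply isZero_of_homology
  intro n
  refine IsZero.of_iso ?_ ((homologyFunctor _ n).mapIso e.symm ≪≫
    (homologyFunctorFactors (ModuleCat.{u} A) n).app Z)
  show IsZero (Z.homology n)
  rw [← HomologicalComplex.exactAt_iff_isZero_homology,
    HomologicalComplex.exactAt_iff' Z (n - 1) n (n + 1) (by simp) (by simp),
    ShortComplex.moduleCat_exact_iff]
  intro z hz
  have h0 : Q.map (cycleMap Z n z hz) = 0 := by
    have := h (Q.obj (Sg A n)) ⟨⟨n⟩, ⟨Iso.refl _⟩⟩ (Q.map (cycleMap Z n z hz) ≫ e.hom)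
    rw [← cancel_mono e.hom, this, zero_comp]
  obtain ⟨H⟩ := homotopy_zero_of_Q_map_eq_zero _ h0
  exact boundary_of_homotopy Z n z hz H

lemma exists_finset_mod (M : ℕ → ModuleCat.{u} A) (p : ∀ n, ∐ M ⟶ M n)
    (h1 : ∀ n, Sigma.ι M n ≫ p n = 𝟙 _) (h2 : ∀ k n, k ≠ n → Sigma.ι M k ≫ p n = 0)
    (x : (∐ M : ModuleCat.{u} A)) :
    ∃ S : Finset ℕ, ∀ T, S ⊆ T → x = ∑ n ∈ T, (Sigma.ι M n).hom ((p n).hom x) := by
  classical
  let D := ModuleCat.coprodIsoDirectSum M
  obtain ⟨ξ, rfl⟩ : ∃ ξ, D.inv.hom ξ = x := ⟨D.hom.hom x, by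
    have := congrArg (fun g => g.hom x) D.hom_inv_id
    simp⟩
  induction ξ using DirectSum.induction_on with
  | zero => exact ⟨∅, fun T _ => by simp⟩
  | of k y =>
    refine ⟨{k}, fun T hT => ?_⟩
    have hk : k ∈ T := hT (Finset.mem_singleton_self k)
    have e1 : D.inv.hom (DirectSum.of _ k y) = (Sigma.ι M k).hom y := by
      exact congrArg (fun g => g.hom y) (ModuleCat.lof_coprodIsoDirectSum_inv M k)
    rw [e1, Finset.sum_eq_single k]
    · have := congrArg (fun g => g.hom y) (h1 k)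
      simp only [ModuleCat.hom_comp, LinearMap.comp_apply, ModuleCat.hom_id, LinearMap.id_apply] at this
      rw [this]
    · intro n _ hnk
      have := congrArg (fun g => g.hom y) (h2 k n (Ne.symm hnk))
      simp only [ModuleCat.hom_comp, LinearMap.comp_apply, ModuleCat.hom_zero, LinearMap.zero_apply] at this
      rw [this, map_zero]
    · intro h
      exact absurd hk h
  | add ξ1 ξ2 ih1 ih2 =>
    obtain ⟨S1, hS1⟩ := ih1
    obtain ⟨S2, hS2⟩ := ih2
    refine ⟨S1 ∪ S2, fun T hT => ?_⟩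
    simp only [map_add, Finset.sum_add_distrib]
    rw [← hS1 T (Finset.union_subset_left hT), ← hS2 T (Finset.union_subset_right hT)]

/-- projections from the termwise coproduct -/
noncomputable def sigπ (Z : ℕ → CochainComplex (ModuleCat.{u} A) ℤ) (n : ℕ) :
    DerCoprod.sig Z ⟶ Z n :=
  DerCoprod.sigDesc (fun k => if h : k = n then eqToHom (by rw [h]) else 0)

lemma sigι_sigπ_self (Z : ℕ → CochainComplex (ModuleCat.{u} A) ℤ) (n : ℕ) :
    DerCoprod.sigι Z n ≫ sigπ Z n = 𝟙 _ := by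
  simp [sigπ, DerCoprod.sigι_sigDesc]

lemma sigι_sigπ_of_ne (Z : ℕ → CochainComplex (ModuleCat.{u} A) ℤ) (k n : ℕ) (h : k ≠ n) :
    DerCoprod.sigι Z k ≫ sigπ Z n = 0 := by
  simp [sigπ, DerCoprod.sigι_sigDesc, h]

lemma exists_finset_chain (Z : ℕ → CochainComplex (ModuleCat.{u} A) ℤ) (m : ℤ)
    (a : (HomologicalComplex.single (ModuleCat.{u} A) (ComplexShape.up ℤ) m).obj (ModuleCat.of A A) ⟶
      DerCoprod.sig Z) :
    ∃ S : Finset ℕ, a = ∑ n ∈ S, (a ≫ sigπ Z n) ≫ DerCoprod.sigι Z n := by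
  let e := HomologicalComplex.singleObjXSelf (ComplexShape.up ℤ) m (ModuleCat.of A A)
  obtain ⟨S, hS⟩ := exists_finset_mod (fun n => (Z n).X m) (fun n => (sigπ Z n).f m)
    (fun n => by
      have := congrArg (fun g => g.f m) (sigι_sigπ_self Z n)
      simpa [DerCoprod.sigι_f] using this)
    (fun k n h => by
      have := congrArg (fun g => g.f m) (sigι_sigπ_of_ne Z k n h)
      simpa [DerCoprod.sigι_f] using this)
    ((a.f m).hom (e.inv.hom (1 : A)))
  refine ⟨S, ?_⟩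
  apply HomologicalComplex.from_single_hom_ext
  rw [← cancel_epi e.inv]
  ext
  have h3 : (∑ n ∈ S, (a ≫ sigπ Z n) ≫ DerCoprod.sigι Z n).f m =
      ∑ n ∈ S, ((a ≫ sigπ Z n) ≫ DerCoprod.sigι Z n).f m :=
    map_sum (HomologicalComplex.Hom.fAddMonoidHom m) _ _
  rw [h3]
  simp only [ModuleCat.hom_comp, LinearMap.comp_apply, Preadditive.comp_sum, ModuleCat.hom_sum,
    LinearMap.sum_apply, HomologicalComplex.comp_f, DerCoprod.sigι_f]
  exact hS S (Finset.Subset.refl S)

lemma exists_finset_Q (Z : ℕ → CochainComplex (ModuleCat.{u} A) ℤ) (m : ℤ)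
    (α : Q.obj (Sg A m) ⟶ Q.obj (DerCoprod.sig Z)) :
    ∃ (S : Finset ℕ) (a : ∀ n, Sg A m ⟶ Z n),
      α = ∑ n ∈ S, Q.map (a n) ≫ Q.map (DerCoprod.sigι Z n) := by
  obtain ⟨g, hg⟩ := (CochainComplex.IsKProjective.Qh_map_bijective (Sg A m)
    ((HomotopyCategory.quotient _ _).obj (DerCoprod.sig Z))).surjective α
  obtain ⟨a, rfl⟩ := (HomotopyCategory.quotient _ _).map_surjective g
  obtain ⟨S, hS⟩ := exists_finset_chain Z m a
  refine ⟨S, fun n => a ≫ sigπ Z n, ?_⟩
  rw [← hg]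
  change Q.map a = _
  conv_lhs => rw [hS]
  rw [Functor.map_sum]
  simp only [Functor.map_comp]

variable (A) in
theorem perfect : Brown.Perfect (BrownW.PEW (E' A)) := by
  intro Q' hQ' Y α
  obtain ⟨⟨m⟩, ⟨e⟩⟩ := hQ'
  let Z : ℕ → CochainComplex (ModuleCat.{u} A) ℤ := fun n => Q.objPreimage (Y n)
  let ε : ∀ n, Q.obj (Z n) ≅ Y n := fun n => Q.objObjPreimageIso (Y n)
  let hc := DerCoprod.isColimitCofanQ Z
  let θ' : ∐ Y ⟶ Q.obj (DerCoprod.sig Z) :=
    Sigma.desc (fun n => (ε n).inv ≫ Q.map (DerCoprod.sigι Z n))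
  let θ : Q.obj (DerCoprod.sig Z) ⟶ ∐ Y :=
    Cofan.IsColimit.desc hc (fun n => (ε n).hom ≫ Sigma.ι Y n)
  have hθ : ∀ n, Q.map (DerCoprod.sigι Z n) ≫ θ = (ε n).hom ≫ Sigma.ι Y n :=
    fun n => Cofan.IsColimit.fac hc _ n
  have hθθ : θ' ≫ θ = 𝟙 _ := by
    apply Sigma.hom_ext
    intro n
    simp [θ', hθ]
  have e' : Q' ≅ Q.obj (Sg A m) := e
  obtain ⟨S, a, ha⟩ := exists_finset_Q Z m (e'.inv ≫ α ≫ θ')
  classical
  refine ⟨fun _ => Q.obj (Sg A m), fun _ => ⟨⟨m⟩, ⟨Iso.refl _⟩⟩,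
    fun n => if n ∈ S then Q.map (a n) ≫ (ε n).hom else 0,
    e'.hom ≫ ∑ n ∈ S, Sigma.ι (fun _ => Q.obj (Sg A m)) n, ?_⟩
  have h1 : α = e'.hom ≫ (∑ n ∈ S, Q.map (a n) ≫ Q.map (DerCoprod.sigι Z n)) ≫ θ := by
    rw [← ha]
    simp [hθθ]
  rw [h1]
  simp only [Preadditive.sum_comp, Preadditive.comp_sum, Category.assoc, Sigma.ι_map]
  apply Finset.sum_congr rfl
  intro n hn
  rw [hθ]
  simp [hn]

variable (A) in
/-- a localizing class of `D(A)` containing the shifts of `A` is everything -/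
theorem generation (P : DerivedCategory (ModuleCat.{u} A) → Prop)
    (hiso : ∀ {X Y : DerivedCategory (ModuleCat.{u} A)}, (X ≅ Y) → P X → P Y)
    (hcop : ∀ (κ : Type u) (Y : κ → DerivedCategory (ModuleCat.{u} A)), (∀ k, P (Y k)) → P (∐ Y))
    (hcone : ∀ T ∈ distTriang (DerivedCategory (ModuleCat.{u} A)), P T.obj₁ → P T.obj₂ → P T.obj₃)
    (hE : ∀ n : ℤ, P (Q.obj (Sg A n))) (X : DerivedCategory (ModuleCat.{u} A)) : P X :=
  BrownW.generation (E' A) (perfect A) (hshift A) hgen (hY A) P hiso hcop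
    (fun Y hYP => hiso (Sigma.reindex (Equiv.ulift.{u} (α := ℕ)) Y)
      (hcop (ULift.{u} ℕ) (Y ∘ Equiv.ulift) (fun k => hYP _)))
    hcone (fun j => hE j.down) X

end Groth.Agent.Lib.helper2.DGen
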