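import Mathlib

/-!
# Vanishing of shifted Hom groups in pretriangulated categories (helper2)
-/

set_option autoImplicit false
set_option linter.unusedSectionVars false

namespace Groth.Agent.Lib.helper2.ShiftHom

open CategoryTheory CategoryTheory.Limits CategoryTheory.Pretriangulated

universe v u

variable {D : Type u} [Category.{v} D] [Preadditive D] [HasShift D ℤ]
  [∀ n : ℤ, (shiftFunctor D n).Additive]

/-- all maps `M⟦u⟧ ⟶ N` vanish -/
def HS (M N : D) (u : ℤ) : Prop := ∀ ψ : (shiftFunctor D u).obj M ⟶ N, ψ = 0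

/-- all maps `M ⟶ N⟦t⟧` vanish -/
def HT (M N : D) (t : ℤ) : Prop := ∀ ψ : M ⟶ (shiftFunctor D t).obj N, ψ = 0

lemma hs_of_eq {M N : D} {u u' : ℤ} (h : u = u') (hs : HS M N u) : HS M N u' := by
  subst h; exact hs

lemma ht_of_eq {M N : D} {t t' : ℤ} (h : t = t') (hs : HT M N t) : HT M N t' := by
  subst h; exact hs

lemma hs_of_iso_left {M M' N : D} (e : M ≅ M') {u : ℤ} (h : HS M N u) : HS M' N u := by
  intro ψ
  have := h ((shiftFunctor D u).map e.hom ≫ ψ)
  rw [← cancel_epi ((shiftFunctor D u).map e.hom), this, comp_zero]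

lemma hs_of_iso_right {M N N' : D} (e : N ≅ N') {u : ℤ} (h : HS M N u) : HS M N' u := by
  intro ψ
  have := h (ψ ≫ e.inv)
  rw [← cancel_mono e.inv, this, zero_comp]

lemma ht_of_iso_left {M M' N : D} (e : M ≅ M') {t : ℤ} (h : HT M N t) : HT M' N t := by
  intro ψ
  have := h (e.hom ≫ ψ)
  rw [← cancel_epi e.hom, this, comp_zero]

lemma ht_of_iso_right {M N N' : D} (e : N ≅ N') {t : ℤ} (h : HT M N t) : HT M N' t := by
  intro ψ
  have := h (ψ ≫ (shiftFunctor D t).map e.inv)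
  rw [← cancel_mono ((shiftFunctor D t).map e.inv), this, zero_comp]

lemma hs_zero_iff {M N : D} : HS M N 0 ↔ ∀ ψ : M ⟶ N, ψ = 0 := by
  constructor
  · intro h ψ
    have := h (((shiftFunctorZero D ℤ).app M).hom ≫ ψ)
    rw [← cancel_epi ((shiftFunctorZero D ℤ).app M).hom, this, comp_zero]
  · intro h ψ
    have := h (((shiftFunctorZero D ℤ).app M).inv ≫ ψ)
    rw [← cancel_epi ((shiftFunctorZero D ℤ).app M).inv, this, comp_zero]

lemma ht_zero_iff {M N : D} : HT M N 0 ↔ ∀ ψ : M ⟶ N, ψ = 0 := by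
  constructor
  · intro h ψ
    have := h (ψ ≫ ((shiftFunctorZero D ℤ).app N).inv)
    rw [← cancel_mono ((shiftFunctorZero D ℤ).app N).inv, this, zero_comp]
  · intro h ψ
    have := h (ψ ≫ ((shiftFunctorZero D ℤ).app N).hom)
    rw [← cancel_mono ((shiftFunctorZero D ℤ).app N).hom, this, zero_comp]

lemma hs_shift_iff {M N : D} (u v w : ℤ) (h : u + v = w) :
    HS ((shiftFunctor D u).obj M) N v ↔ HS M N w := by
  constructor
  · intro hs ψ
    have := hs (((shiftFunctorAdd' D u v w h).app M).inv ≫ ψ)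
    rw [← cancel_epi ((shiftFunctorAdd' D u v w h).app M).inv, this, comp_zero]
  · intro hs ψ
    have := hs (((shiftFunctorAdd' D u v w h).app M).hom ≫ ψ)
    rw [← cancel_epi ((shiftFunctorAdd' D u v w h).app M).hom, this, comp_zero]

lemma ht_shift_iff {M N : D} (t s w : ℤ) (h : t + s = w) :
    HT M ((shiftFunctor D t).obj N) s ↔ HT M N w := by
  constructor
  · intro hs ψ
    have := hs (ψ ≫ ((shiftFunctorAdd' D t s w h).app N).hom)
    rw [← cancel_mono ((shiftFunctorAdd' D t s w h).app N).hom, this, zero_comp]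
  · intro hs ψ
    have := hs (ψ ≫ ((shiftFunctorAdd' D t s w h).app N).inv)
    rw [← cancel_mono ((shiftFunctorAdd' D t s w h).app N).inv, this, zero_comp]

lemma hs_iff_ht {M N : D} (u t : ℤ) (h : u + t = 0) : HS M N u ↔ HT M N t := by
  constructor
  · intro hs ψ
    have h1 := hs ((shiftFunctor D u).map ψ ≫
      (shiftFunctorCompIsoId D t u (by omega)).hom.app N)
    have h2 : (shiftFunctor D u).map ψ = 0 := by
      rw [← cancel_mono ((shiftFunctorCompIsoId D t u (by omega)).hom.app N), h1, zero_comp]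
    exact (shiftFunctor D u).map_injective (by rw [h2, Functor.map_zero])
  · intro ht ψ
    have h1 := ht ((shiftFunctorCompIsoId D u t h).inv.app M ≫ (shiftFunctor D t).map ψ)
    have h2 : (shiftFunctor D t).map ψ = 0 := by
      rw [← cancel_epi ((shiftFunctorCompIsoId D u t h).inv.app M), h1, comp_zero]
    exact (shiftFunctor D t).map_injective (by rw [h2, Functor.map_zero])

lemma ht_shift_left_iff {M N : D} (s t w : ℤ) (h : w + s = t) :
    HT ((shiftFunctor D s).obj M) N t ↔ HT M N w := by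
  rw [← hs_iff_ht (-t) t (by omega), hs_shift_iff s (-t) (-w) (by omega),
    hs_iff_ht (-w) w (by omega)]

lemma ht_of_isZero_right {M N : D} (hN : Limits.IsZero N) (t : ℤ) : HT M N t := by
  intro ψ
  exact (Functor.map_isZero (shiftFunctor D t) hN).eq_of_tgt _ _

variable [HasZeroObject D] [Pretriangulated D]

/-- covariant factorization: a map into `Y'` killed by `a` vanishes if `Hom(M⟦1⟧, Y) = 0` -/
lemma eq_zero_of_comp_eq_zero {Y' X' Y : D} (a : Y' ⟶ X') (b : X' ⟶ Y)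
    (c : Y ⟶ (shiftFunctor D (1 : ℤ)).obj Y') (hT : Triangle.mk a b c ∈ distTriang D) (M : D)
    (hM : HS M Y 1) (φ : M ⟶ Y') (hφ : φ ≫ a = 0) : φ = 0 := by
  have h1 : (shiftFunctor D (1 : ℤ)).map φ ≫ (shiftFunctor D (1 : ℤ)).map a = 0 := by
    rw [← Functor.map_comp, hφ, Functor.map_zero]
  obtain ⟨ψ, hψ⟩ := Triangle.coyoneda_exact₁ _ hT ((shiftFunctor D (1 : ℤ)).map φ) h1
  have hψ' : (shiftFunctor D (1 : ℤ)).map φ = 0 := by
    refine hψ.trans ?_
    rw [hM ψ]
    exact zero_comp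
  apply (shiftFunctor D (1 : ℤ)).map_injective
  rw [hψ', Functor.map_zero]

/-- contravariant factorization: a map `φ : Y' ⟶ N` with `c ≫ φ⟦1⟧ = 0` factors through `a`. -/
lemma exists_factor_of_comp_shift_eq_zero {Y' X' Y : D} (a : Y' ⟶ X') (b : X' ⟶ Y)
    (c : Y ⟶ (shiftFunctor D (1 : ℤ)).obj Y') (hT : Triangle.mk a b c ∈ distTriang D) {N : D}
    (φ : Y' ⟶ N) (hφ : c ≫ (shiftFunctor D (1 : ℤ)).map φ = 0) : ∃ g : X' ⟶ N, φ = a ≫ g := by
  have hT' := rot_of_distTriang _ (rot_of_distTriang _ hT)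
  obtain ⟨g, hg⟩ : ∃ g : (shiftFunctor D (1 : ℤ)).obj X' ⟶ (shiftFunctor D (1 : ℤ)).obj N,
      (shiftFunctor D (1 : ℤ)).map φ = (-(shiftFunctor D (1 : ℤ)).map a) ≫ g :=
    Triangle.yoneda_exact₂ _ hT' ((shiftFunctor D (1 : ℤ)).map φ) hφ
  obtain ⟨g₀, rfl⟩ := (shiftFunctor D (1 : ℤ)).map_surjective g
  refine ⟨-g₀, (shiftFunctor D (1 : ℤ)).map_injective ?_⟩
  rw [hg, Functor.map_comp, Functor.map_neg, Preadditive.neg_comp, Preadditive.comp_neg]

/-- `HT M - 1` is closed under extensions -/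
lemma ht_ext₂ (T : Triangle D) (hT : T ∈ distTriang D) (M : D) (t : ℤ)
    (h₁ : HT M T.obj₁ t) (h₃ : HT M T.obj₃ t) : HT M T.obj₂ t := by
  intro φ
  have hT' := Triangle.shift_distinguished T hT t
  have h0 : φ ≫ (shiftFunctor D t).map T.mor₂ = 0 := h₃ _
  have h0' : φ ≫ ((Triangle.shiftFunctor D t).obj T).mor₂ = 0 := by
    change φ ≫ ((t.negOnePow : ℤ) • (shiftFunctor D t).map T.mor₂) = 0
    rw [Preadditive.comp_zsmul, h0, smul_zero]
  obtain ⟨g, hg⟩ := Triangle.coyoneda_exact₂ _ hT' φ h0'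
  have : g = 0 := h₁ g
  rw [hg, this, zero_comp]
  rfl

end Groth.Agent.Lib.helper2.ShiftHom
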