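import Mathlib
import Groth.Agent.Lib.helper2.DGen
import Groth.Agent.Lib.helper2.ShiftHom

set_option autoImplicit false
set_option linter.unusedSectionVars false

namespace Groth.Agent.Lib.helper2.DGenRes

open CategoryTheory CategoryTheory.Limits DerivedCategory HomologicalComplex
open Groth.Agent.Lib.helper2 Groth.Agent.Lib.helper2.DerCoprod

section General

universe w₁ w₂ v₁ v₂ u₁ u₂ t

variable {C₁ : Type u₁} [Category.{v₁} C₁] [Abelian C₁] [HasDerivedCategory.{w₁} C₁]
  {C₂ : Type u₂} [Category.{v₂} C₂] [Abelian C₂] [HasDerivedCategory.{w₂} C₂]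
  (F : C₁ ⥤ C₂) [F.Additive] [PreservesFiniteLimits F] [PreservesFiniteColimits F]
  {J : Type t} [HasColimitsOfShape (Discrete J) C₁] [HasExactColimitsOfShape (Discrete J) C₁]
  [HasColimitsOfShape (Discrete J) C₂] [HasExactColimitsOfShape (Discrete J) C₂]
  [PreservesColimitsOfShape (Discrete J) F]

/-- comparison chain map -/
noncomputable def sigComp (Z : J → CochainComplex C₁ ℤ) :
    sig (fun k => (F.mapHomologicalComplex (ComplexShape.up ℤ)).obj (Z k)) ⟶
      (F.mapHomologicalComplex (ComplexShape.up ℤ)).obj (sig Z) :=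
  sigDesc (fun k => (F.mapHomologicalComplex (ComplexShape.up ℤ)).map (sigι Z k))

lemma sigι_sigComp (Z : J → CochainComplex C₁ ℤ) (k : J) :
    sigι (fun k => (F.mapHomologicalComplex (ComplexShape.up ℤ)).obj (Z k)) k ≫ sigComp F Z =
      (F.mapHomologicalComplex (ComplexShape.up ℤ)).map (sigι Z k) :=
  sigι_sigDesc _ _

instance isIso_sigComp (Z : J → CochainComplex C₁ ℤ) : IsIso (sigComp F Z) := by
  have : ∀ i, IsIso ((sigComp F Z).f i) := by
    intro i
    have h : (sigComp F Z).f i = sigmaComparison F (fun k => (Z k).X i) := by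
      simp only [sigComp, sigDesc_f, sigmaComparison, sigι_f, Functor.mapHomologicalComplex_map_f]
      rfl
    rw [h]
    exact inferInstanceAs (IsIso (sigmaComparison F (fun k => (Z k).X i)))
  exact HomologicalComplex.Hom.isIso_of_components _

lemma eq_zero_of_comp_map (Z : J → CochainComplex C₁ ℤ) {L : DerivedCategory C₂}
    (ψ : F.mapDerivedCategory.obj (Q.obj (sig Z)) ⟶ L)
    (h : ∀ k, F.mapDerivedCategory.map (Q.map (sigι Z k)) ≫ ψ = 0) : ψ = 0 := by
  have h2 : Q.map (sigComp F Z) ≫ (F.mapDerivedCategoryFactors.app (sig Z)).inv ≫ ψ = 0 := by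
    apply DerCoprod.eq_zero_of_comp
    intro k
    rw [← Q.map_comp_assoc, sigι_sigComp]
    have nat := F.mapDerivedCategoryFactors.inv.naturality (sigι Z k)
    dsimp at nat
    dsimp
    rw [reassoc_of% nat, h k, comp_zero]
  have h3 : (F.mapDerivedCategoryFactors.app (sig Z)).inv ≫ ψ = 0 := by
    rw [← cancel_epi (Q.map (sigComp F Z)), h2, comp_zero]
  rw [← cancel_epi (F.mapDerivedCategoryFactors.app (sig Z)).inv, h3, comp_zero]

lemma eq_zero_of_comp_map' (Y : J → DerivedCategory C₁) [HasCoproduct Y] {L : DerivedCategory C₂}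
    (ψ : F.mapDerivedCategory.obj (∐ Y) ⟶ L)
    (h : ∀ k, F.mapDerivedCategory.map (Sigma.ι Y k) ≫ ψ = 0) : ψ = 0 := by
  let Z : J → CochainComplex C₁ ℤ := fun n => Q.objPreimage (Y n)
  let ε : ∀ n, Q.obj (Z n) ≅ Y n := fun n => Q.objObjPreimageIso (Y n)
  let hc := DerCoprod.isColimitCofanQ Z
  let θ' : ∐ Y ⟶ Q.obj (DerCoprod.sig Z) :=
    Sigma.desc (fun n => (ε n).inv ≫ Q.map (DerCoprod.sigι Z n))
  let θ : Q.obj (DerCoprod.sig Z) ⟶ ∐ Y :=
    Cofan.IsColimit.desc hc (fun n => (ε n).hom ≫ Sigma.ι Y n)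
  have hθ : ∀ n, Q.map (DerCoprod.sigι Z n) ≫ θ = (ε n).hom ≫ Sigma.ι Y n :=
    fun n => Cofan.IsColimit.fac hc _ n
  have hθθ : θ' ≫ θ = 𝟙 _ := by
    apply Sigma.hom_ext
    intro n
    simp [θ', hθ]
  have h1 : F.mapDerivedCategory.map θ ≫ ψ = 0 := by
    apply eq_zero_of_comp_map
    intro k
    rw [← Functor.map_comp_assoc, hθ, Functor.map_comp, Category.assoc, h k, comp_zero]
  have h2 : ψ = F.mapDerivedCategory.map θ' ≫ F.mapDerivedCategory.map θ ≫ ψ := by
    rw [← Functor.map_comp_assoc, hθθ, CategoryTheory.Functor.map_id, Category.id_comp]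
  rw [h2, h1, comp_zero]

end General

section Ring

universe u

attribute [local instance] HasDerivedCategory.standard

open ShiftHom Pretriangulated

variable {A B : Type u} [CommRing A] [CommRing B] (φ : A →+* B)

/-- restriction of scalars on derived categories -/
noncomputable abbrev res :
    DerivedCategory (ModuleCat.{u} B) ⥤ DerivedCategory (ModuleCat.{u} A) :=
  (ModuleCat.restrictScalars.{u} φ).mapDerivedCategory

/-- if all shifts of `B` (restricted to `A`) are left orthogonal to `K`, so is every restricted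
object of `D(B)` -/
theorem res_orth (K : DerivedCategory (ModuleCat.{u} A))
    (h : ∀ n t : ℤ, HT ((res φ).obj ((DerivedCategory.singleFunctor _ n).obj (ModuleCat.of B B))) K t)
    (E : DerivedCategory (ModuleCat.{u} B)) : ∀ t : ℤ, HT ((res φ).obj E) K t := by
  apply DGen.generation B (fun E => ∀ t, HT ((res φ).obj E) K t)
  · intro X Y e hX t
    exact ht_of_iso_left ((res φ).mapIso e) (hX t)
  · intro κ Y hY t ψ
    apply eq_zero_of_comp_map' (ModuleCat.restrictScalars.{u} φ) Y ψ
    intro k
    exact hY k t _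
  · intro T hT h1 h2 t ψ
    have hT' := (res φ).map_distinguished T hT
    have h0 : ((res φ).mapTriangle.obj T).mor₂ ≫ ψ = 0 := h2 t _
    obtain ⟨g, hg⟩ := Triangle.yoneda_exact₃ _ hT' ψ h0
    have : g = 0 := (ht_shift_left_iff 1 t (t - 1) (by omega)).2 (h1 (t - 1)) g
    rw [hg, this, comp_zero]
    rfl
  · intro n
    exact h n

end Ring

section Alg

universe u

attribute [local instance] HasDerivedCategory.standard

open ShiftHom Pretriangulated

variable (A B : Type u) [CommRing A] [CommRing B] [Algebra A B]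

/-- `B` restricted along `A → B` is `B` as an `A`-module -/
noncomputable def resLinEquiv :
    ((ModuleCat.restrictScalars.{u} (algebraMap A B)).obj (ModuleCat.of B B)) ≃ₗ[A] B where
  toFun := fun x => x
  invFun := fun x => x
  map_add' := fun _ _ => rfl
  map_smul' := fun a x => algebraMap_smul B a (show B from x)
  left_inv := fun _ => rfl
  right_inv := fun _ => rfl

/-- `B` restricted along `A → B` is `B` as an `A`-module -/
noncomputable def resIso :
    (ModuleCat.restrictScalars.{u} (algebraMap A B)).obj (ModuleCat.of B B) ≅ ModuleCat.of A B :=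
  (resLinEquiv A B).toModuleIso

/-- `B[-n]` restricted is a shift of `B[0]` -/
noncomputable def resSingleIso (n m : ℤ) (h : m + n = 0) :
    (res (algebraMap A B)).obj ((DerivedCategory.singleFunctor _ n).obj (ModuleCat.of B B)) ≅
      (shiftFunctor _ m).obj
        ((DerivedCategory.singleFunctor (ModuleCat.{u} A) 0).obj (ModuleCat.of A B)) :=
  ((ModuleCat.restrictScalars.{u} (algebraMap A B)).mapDerivedCategorySingleFunctor n).app
      (ModuleCat.of B B) ≪≫
    (DerivedCategory.singleFunctor (ModuleCat.{u} A) n).mapIso (resIso A B) ≪≫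
    (((DerivedCategory.singleFunctors (ModuleCat.{u} A)).shiftIso m n 0 h).app
      (ModuleCat.of A B)).symm

theorem res_orth_iff (K : DerivedCategory (ModuleCat.{u} A)) :
    (∀ n : ℤ, HT ((DerivedCategory.singleFunctor (ModuleCat.{u} A) 0).obj (ModuleCat.of A B)) K n) ↔
      ∀ (E : DerivedCategory (ModuleCat.{u} B)) (t : ℤ), HT ((res (algebraMap A B)).obj E) K t := by
  constructor
  · intro h E
    apply res_orth
    intro n t
    apply ht_of_iso_left (resSingleIso A B n (-n) (by omega)).symm
    exact (ht_shift_left_iff (-n) t (t + n) (by omega)).2 (h _)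
  · intro h n
    have h1 := ht_of_iso_left (resSingleIso A B n (-n) (by omega)) (h _ 0)
    exact (ht_shift_left_iff (-n) 0 n (by omega)).1 h1

theorem res_orth_iff' (K : DerivedCategory (ModuleCat.{u} A)) :
    (∀ n : ℤ, HT ((DerivedCategory.singleFunctor (ModuleCat.{u} A) 0).obj (ModuleCat.of A B)) K n) ↔
      ∀ (E : DerivedCategory (ModuleCat.{u} B)) (ψ : (res (algebraMap A B)).obj E ⟶ K), ψ = 0 := by
  rw [res_orth_iff A B K]
  constructor
  · intro h E
    exact ht_zero_iff.1 (h E 0)
  · intro h E t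
    rw [← hs_iff_ht (-t) t (by omega)]
    intro ψ
    have := h _ (((res (algebraMap A B)).commShiftIso (-t)).hom.app E ≫ ψ)
    rw [← cancel_epi (((res (algebraMap A B)).commShiftIso (-t)).hom.app E), this, comp_zero]

end Alg

end Groth.Agent.Lib.helper2.DGenRes
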