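import Mathlib
import Groth.Agent.Lib.helper2.DGenRes

set_option autoImplicit false
set_option linter.unusedSectionVars false

namespace Groth.Agent.Lib.helper2.DGenLoc

open CategoryTheory CategoryTheory.Limits DerivedCategory HomologicalComplex
open Groth.Agent.Lib.helper2

universe u

attribute [local instance] HasDerivedCategory.standard

variable {A : Type u} [CommRing A] (S : Submonoid A)

/-- the unit `M ⟶ res (S⁻¹ M)` -/
noncomputable def unitHom (M : ModuleCat.{u} A) :
    M ⟶ (ModuleCat.restrictScalars.{u} (algebraMap A (Localization S))).obj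
      ((ModuleCat.localizedModuleFunctor.{u} S).obj M) :=
  ModuleCat.ofHom (Y := (ModuleCat.restrictScalars.{u} (algebraMap A (Localization S))).obj
      ((ModuleCat.localizedModuleFunctor.{u} S).obj M))
    { toFun := fun x => M.localizedModuleMkLinearMap S x
      map_add' := fun x y => map_add _ x y
      map_smul' := fun a x => by
        rw [map_smul]
        exact (algebraMap_smul (Localization S) a (M.localizedModuleMkLinearMap S x)).symm }

lemma unitHom_apply (M : ModuleCat.{u} A) (x : M) :
    (unitHom S M).hom x = M.localizedModuleMkLinearMap S x := rfl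

lemma unitHom_naturality {M N : ModuleCat.{u} A} (g : M ⟶ N) :
    unitHom S M ≫ (ModuleCat.restrictScalars.{u} (algebraMap A (Localization S))).map
      ((ModuleCat.localizedModuleFunctor.{u} S).map g) = g ≫ unitHom S N := by
  ext x
  exact IsLocalizedModule.map_apply S (M.localizedModuleMkLinearMap S)
    (N.localizedModuleMkLinearMap S) g.hom x

lemma isIso_unitHom (M : ModuleCat.{u} A)
    (h : ∀ s : S, Function.Bijective (fun x : M => (s : A) • x)) : IsIso (unitHom S M) := by
  have hid : IsLocalizedModule S (LinearMap.id : M →ₗ[A] M) :=
    { map_units := fun s => (Module.End.isUnit_iff _).2 (h s)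
      surj := fun m => ⟨(m, 1), one_smul _ _⟩
      exists_of_eq := fun h => ⟨1, congrArg _ h⟩ }
  rw [ConcreteCategory.isIso_iff_bijective]
  have hb : Function.Bijective (M.localizedModuleMkLinearMap S) := by
    have h2 : ⇑(M.localizedModuleMkLinearMap S) =
        ⇑(IsLocalizedModule.linearEquiv S (LinearMap.id : M →ₗ[A] M)
          (M.localizedModuleMkLinearMap S)) := by
      funext x
      exact (IsLocalizedModule.linearEquiv_apply S (LinearMap.id : M →ₗ[A] M)
        (M.localizedModuleMkLinearMap S) x).symm
    rw [h2]
    exact (IsLocalizedModule.linearEquiv S _ _).bijective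
  exact hb

variable (K : CochainComplex (ModuleCat.{u} A) ℤ)

/-- the localized complex -/
noncomputable def locCx : CochainComplex (ModuleCat.{u} (Localization S)) ℤ :=
  ((ModuleCat.localizedModuleFunctor.{u} S).mapHomologicalComplex (ComplexShape.up ℤ)).obj K

/-- the unit on complexes -/
noncomputable def unitCx :
    K ⟶ ((ModuleCat.restrictScalars.{u} (algebraMap A (Localization S))).mapHomologicalComplex
      (ComplexShape.up ℤ)).obj (locCx S K) where
  f i := unitHom S (K.X i)
  comm' i j _ := unitHom_naturality S (K.d i j)

lemma isIso_unitCx (h : ∀ (i : ℤ) (s : S), Function.Bijective (fun x : K.X i => (s : A) • x)) :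
    IsIso (unitCx S K) := by
  have : ∀ i, IsIso ((unitCx S K).f i) := fun i => isIso_unitHom S _ (h i)
  exact HomologicalComplex.Hom.isIso_of_components _

lemma bijective_pow_smul {M : Type*} [AddCommGroup M] [Module A M] (f : A)
    (h : Function.Bijective (fun x : M => f • x)) (n : ℕ) :
    Function.Bijective (fun x : M => f ^ n • x) := by
  induction n with
  | zero =>
    simp only [pow_zero, one_smul]
    exact Function.bijective_id
  | succ n ih =>
    have : (fun x : M => f ^ (n + 1) • x) = (fun x : M => f ^ n • x) ∘ (fun x : M => f • x) := by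
      funext x
      simp [pow_succ, mul_smul]
    rw [this]
    exact ih.comp h

open ShiftHom in
/-- a complex on whose terms `f` acts bijectively is left orthogonal to `f`-derived-complete
objects -/
theorem hom_eq_zero (f : A) (hK : ∀ i : ℤ, Function.Bijective (fun x : K.X i => f • x))
    (L : DerivedCategory (ModuleCat.{u} A))
    (hL : ∀ n : ℤ, HT ((DerivedCategory.singleFunctor (ModuleCat.{u} A) 0).obj
      (ModuleCat.of A (Localization.Away f))) L n)
    (ψ : Q.obj K ⟶ L) : ψ = 0 := by
  have hiso : IsIso (unitCx (Submonoid.powers f) K) := by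
    apply isIso_unitCx
    rintro i ⟨_, n, rfl⟩
    exact bijective_pow_smul f (hK i) n
  let e : Q.obj K ≅ (DGenRes.res (algebraMap A (Localization.Away f))).obj
      (Q.obj (locCx (Submonoid.powers f) K)) :=
    Q.mapIso (asIso (unitCx (Submonoid.powers f) K)) ≪≫
      ((ModuleCat.restrictScalars.{u} (algebraMap A (Localization.Away f))).mapDerivedCategoryFactors.app
        (locCx (Submonoid.powers f) K)).symm
  have h0 := (DGenRes.res_orth_iff' A (Localization.Away f) L).1 hL _ (e.inv ≫ ψ)
  rw [← cancel_epi e.inv, h0, comp_zero]

end Groth.Agent.Lib.helper2.DGenLoc
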