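import Mathlib

/-!
# An adjunction of additive functors induces an adjunction on homotopy categories (helper2)
-/

set_option autoImplicit false
set_option linter.unusedSectionVars false

namespace Groth.Agent.Lib.helper2.HAdj

open CategoryTheory CategoryTheory.Limits

universe v₁ v₂ u₁ u₂

variable {C₁ : Type u₁} [Category.{v₁} C₁] [Preadditive C₁]
  {C₂ : Type u₂} [Category.{v₂} C₂] [Preadditive C₂]
  {G : C₁ ⥤ C₂} {F : C₂ ⥤ C₁} [G.Additive] [F.Additive] (adj : G ⊣ F)
  {ι : Type*} (c : ComplexShape ι)

/-- unit on complexes -/
@[simps]
def unitCx (K : HomologicalComplex C₁ c) :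
    K ⟶ (F.mapHomologicalComplex c).obj ((G.mapHomologicalComplex c).obj K) where
  f i := adj.unit.app (K.X i)
  comm' i j _ := by
    have := adj.unit.naturality (K.d i j)
    dsimp at this ⊢
    exact this.symm

/-- counit on complexes -/
@[simps]
def counitCx (K : HomologicalComplex C₂ c) :
    (G.mapHomologicalComplex c).obj ((F.mapHomologicalComplex c).obj K) ⟶ K where
  f i := adj.counit.app (K.X i)
  comm' i j _ := by
    have := adj.counit.naturality (K.d i j)
    dsimp at this ⊢
    exact this.symm

lemma unitCx_naturality {K K' : HomologicalComplex C₁ c} (f : K ⟶ K') :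
    f ≫ unitCx adj c K' = unitCx adj c K ≫
      (F.mapHomologicalComplex c).map ((G.mapHomologicalComplex c).map f) := by
  ext i
  exact adj.unit.naturality (f.f i)

lemma counitCx_naturality {K K' : HomologicalComplex C₂ c} (f : K ⟶ K') :
    (G.mapHomologicalComplex c).map ((F.mapHomologicalComplex c).map f) ≫ counitCx adj c K' =
      counitCx adj c K ≫ f := by
  ext i
  exact adj.counit.naturality (f.f i)

lemma left_triangle_cx (K : HomologicalComplex C₁ c) :
    (G.mapHomologicalComplex c).map (unitCx adj c K) ≫
      counitCx adj c ((G.mapHomologicalComplex c).obj K) = 𝟙 _ := by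
  ext i
  exact adj.left_triangle_components (K.X i)

lemma right_triangle_cx (K : HomologicalComplex C₂ c) :
    unitCx adj c ((F.mapHomologicalComplex c).obj K) ≫
      (F.mapHomologicalComplex c).map (counitCx adj c K) = 𝟙 _ := by
  ext i
  exact adj.right_triangle_components (K.X i)

/-- unit on homotopy categories -/
def unitH : 𝟭 (HomotopyCategory C₁ c) ⟶ G.mapHomotopyCategory c ⋙ F.mapHomotopyCategory c :=
  Quotient.natTransLift _
    { app := fun K => (HomotopyCategory.quotient C₁ c).map (unitCx adj c K)
      naturality := fun K K' f => by
        change (HomotopyCategory.quotient C₁ c).map f ≫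
            (HomotopyCategory.quotient C₁ c).map (unitCx adj c K') =
          (HomotopyCategory.quotient C₁ c).map (unitCx adj c K) ≫
            (HomotopyCategory.quotient C₁ c).map
              ((F.mapHomologicalComplex c).map ((G.mapHomologicalComplex c).map f))
        rw [← Functor.map_comp, ← Functor.map_comp, unitCx_naturality] }

/-- counit on homotopy categories -/
def counitH : F.mapHomotopyCategory c ⋙ G.mapHomotopyCategory c ⟶ 𝟭 (HomotopyCategory C₂ c) :=
  Quotient.natTransLift _
    { app := fun K => (HomotopyCategory.quotient C₂ c).map (counitCx adj c K)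
      naturality := fun K K' f => by
        change (HomotopyCategory.quotient C₂ c).map
              ((G.mapHomologicalComplex c).map ((F.mapHomologicalComplex c).map f)) ≫
            (HomotopyCategory.quotient C₂ c).map (counitCx adj c K') =
          (HomotopyCategory.quotient C₂ c).map (counitCx adj c K) ≫
            (HomotopyCategory.quotient C₂ c).map f
        rw [← Functor.map_comp, ← Functor.map_comp, counitCx_naturality] }

lemma unitH_app (K : HomologicalComplex C₁ c) :
    (unitH adj c).app ((HomotopyCategory.quotient C₁ c).obj K) =
      (HomotopyCategory.quotient C₁ c).map (unitCx adj c K) := rfl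

lemma counitH_app (K : HomologicalComplex C₂ c) :
    (counitH adj c).app ((HomotopyCategory.quotient C₂ c).obj K) =
      (HomotopyCategory.quotient C₂ c).map (counitCx adj c K) := rfl

/-- the adjunction on homotopy categories -/
def adjH : G.mapHomotopyCategory c ⊣ F.mapHomotopyCategory c where
  unit := unitH adj c
  counit := counitH adj c
  left_triangle_components X := by
    obtain ⟨K, rfl⟩ := HomotopyCategory.quotient_obj_surjective X
    change (HomotopyCategory.quotient C₂ c).map ((G.mapHomologicalComplex c).map (unitCx adj c K)) ≫
      (HomotopyCategory.quotient C₂ c).map (counitCx adj c ((G.mapHomologicalComplex c).obj K)) = _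
    rw [← Functor.map_comp, left_triangle_cx]
    exact (HomotopyCategory.quotient C₂ c).map_id _
  right_triangle_components X := by
    obtain ⟨K, rfl⟩ := HomotopyCategory.quotient_obj_surjective X
    change (HomotopyCategory.quotient C₁ c).map (unitCx adj c ((F.mapHomologicalComplex c).obj K)) ≫
      (HomotopyCategory.quotient C₁ c).map ((F.mapHomologicalComplex c).map (counitCx adj c K)) = _
    rw [← Functor.map_comp, right_triangle_cx]
    exact (HomotopyCategory.quotient C₁ c).map_id _

lemma adjH_unit_app (K : HomologicalComplex C₁ c) :
    (adjH adj c).unit.app ((HomotopyCategory.quotient C₁ c).obj K) =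
      (HomotopyCategory.quotient C₁ c).map (unitCx adj c K) := rfl

lemma adjH_counit_app (K : HomologicalComplex C₂ c) :
    (adjH adj c).counit.app ((HomotopyCategory.quotient C₂ c).obj K) =
      (HomotopyCategory.quotient C₂ c).map (counitCx adj c K) := rfl

end Groth.Agent.Lib.helper2.HAdj
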