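import Mathlib
import Groth.Agent.Lib.helper2.DGen
import Groth.Agent.Lib.helper2.ConeRep

/-!
# Every object of `D(A)` is represented by a K-projective complex (helper2)
-/

set_option autoImplicit false
set_option linter.unusedSectionVars false

namespace Groth.Agent.Lib.helper2.KProjRes

open CategoryTheory CategoryTheory.Limits DerivedCategory HomologicalComplex
open Groth.Agent.Lib.helper2

section General

universe w v u t

variable {C : Type u} [Category.{v} C] [Abelian C]

lemma isKProjective_mappingCone {P₁ P₂ : CochainComplex C ℤ} [P₁.IsKProjective]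
    [P₂.IsKProjective] (p : P₁ ⟶ P₂) : (CochainComplex.mappingCone p).IsKProjective := by
  rw [CochainComplex.isKProjective_iff_leftOrthogonal]
  exact (HomotopyCategory.subcategoryAcyclic C).leftOrthogonal.ext_of_isTriangulatedClosed₃ _
    (HomotopyCategory.mappingCone_triangleh_distinguished p)
    (CochainComplex.IsKProjective.leftOrthogonal P₁)
    (CochainComplex.IsKProjective.leftOrthogonal P₂)

variable {J : Type t} [HasColimitsOfShape (Discrete J) C]

lemma isKProjective_sig (P : J → CochainComplex C ℤ) [∀ j, (P j).IsKProjective] :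
    (DerCoprod.sig P).IsKProjective where
  nonempty_homotopy_zero {L} f hL := by
    have hf : f = DerCoprod.sigDesc (fun j => DerCoprod.sigι P j ≫ f) :=
      DerCoprod.sig_hom_ext _ _ (fun j => by rw [DerCoprod.sigι_sigDesc])
    rw [hf]
    exact ⟨DerCoprod.sigHomotopy _
      (fun j => CochainComplex.IsKProjective.homotopyZero (DerCoprod.sigι P j ≫ f) hL)⟩

end General

universe u

attribute [local instance] HasDerivedCategory.standard

variable (A : Type u) [CommRing A]

/-- K-projective resolutions exist for all objects of `D(A)` -/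
theorem exists_kprojective (X : DerivedCategory (ModuleCat.{u} A)) :
    ∃ P : CochainComplex (ModuleCat.{u} A) ℤ, P.IsKProjective ∧ Nonempty (Q.obj P ≅ X) := by
  apply DGen.generation A (fun X => ∃ P : CochainComplex (ModuleCat.{u} A) ℤ,
    P.IsKProjective ∧ Nonempty (Q.obj P ≅ X))
  · rintro X Y e ⟨P, hP, ⟨e'⟩⟩
    exact ⟨P, hP, ⟨e' ≪≫ e⟩⟩
  · intro κ Y hY
    choose P hP e using hY
    have : ∀ k, (P k).IsKProjective := hP
    refine ⟨DerCoprod.sig P, isKProjective_sig P, ⟨?_⟩⟩
    exact (IsColimit.coconePointUniqueUpToIso (DerCoprod.isColimitCofanQ P)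
      (coproductIsCoproduct (fun k => Q.obj (P k)))) ≪≫ Sigma.mapIso (fun k => (e k).some)
  · rintro T hT ⟨P₁, hP₁, ⟨e₁⟩⟩ ⟨P₂, hP₂, ⟨e₂⟩⟩
    obtain ⟨f, ⟨e⟩⟩ := ConeRep.exists_iso_mappingCone T hT P₁ P₂ e₁ e₂
    exact ⟨_, isKProjective_mappingCone f, ⟨e⟩⟩
  · intro n
    exact ⟨DGen.Sg A n, inferInstance, ⟨Iso.refl _⟩⟩

/-- K-projective resolutions with projective terms exist for all objects of `D(A)` -/
theorem exists_kprojective_proj (X : DerivedCategory (ModuleCat.{u} A)) :
    ∃ P : CochainComplex (ModuleCat.{u} A) ℤ, P.IsKProjective ∧ (∀ i, Projective (P.X i)) ∧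
      Nonempty (Q.obj P ≅ X) := by
  apply DGen.generation A (fun X => ∃ P : CochainComplex (ModuleCat.{u} A) ℤ,
    P.IsKProjective ∧ (∀ i, Projective (P.X i)) ∧ Nonempty (Q.obj P ≅ X))
  · rintro X Y e ⟨P, hP, hP', ⟨e'⟩⟩
    exact ⟨P, hP, hP', ⟨e' ≪≫ e⟩⟩
  · intro κ Y hY
    choose P hP hP' e using hY
    have : ∀ k, (P k).IsKProjective := hP
    have : ∀ k i, Projective ((P k).X i) := hP'
    refine ⟨DerCoprod.sig P, isKProjective_sig P, fun i => ?_, ⟨?_⟩⟩
    · exact inferInstanceAs (Projective (∐ fun k => (P k).X i))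
    · exact (IsColimit.coconePointUniqueUpToIso (DerCoprod.isColimitCofanQ P)
        (coproductIsCoproduct (fun k => Q.obj (P k)))) ≪≫ Sigma.mapIso (fun k => (e k).some)
  · rintro T hT ⟨P₁, hP₁, hP₁', ⟨e₁⟩⟩ ⟨P₂, hP₂, hP₂', ⟨e₂⟩⟩
    obtain ⟨f, ⟨e⟩⟩ := ConeRep.exists_iso_mappingCone T hT P₁ P₂ e₁ e₂
    refine ⟨_, isKProjective_mappingCone f, fun i => ?_, ⟨e⟩⟩
    have := hP₁' (i + 1)
    have := hP₂' i
    exact Projective.of_iso (ConeRep.mappingConeXIso f i (i + 1) rfl).symm inferInstance
  · intro n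
    exact ⟨DGen.Sg A n, inferInstance, fun i => inferInstance, ⟨Iso.refl _⟩⟩

/-- K-projective resolutions with flat terms -/
theorem exists_kprojective_flat (X : DerivedCategory (ModuleCat.{u} A)) :
    ∃ P : CochainComplex (ModuleCat.{u} A) ℤ, P.IsKProjective ∧ (∀ i, Module.Flat A (P.X i)) ∧
      Nonempty (Q.obj P ≅ X) := by
  obtain ⟨P, hP, hP', e⟩ := exists_kprojective_proj A X
  refine ⟨P, hP, fun i => ?_, e⟩
  have := hP' i
  have : Module.Projective A (P.X i) := (IsProjective.iff_projective (R := A) (P.X i)).2 inferInstance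
  infer_instance

end Groth.Agent.Lib.helper2.KProjRes
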