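import Mathlib
import Groth.Prelude.Def_DRing2
import Groth.Prelude.Def_DDual2
import Groth.Agent.Lib.helper2.KPc

/-!
# Derived tensor product with a module, computed on K-projective complexes (helper2)
-/

set_option autoImplicit false

namespace Groth.Agent.Lib.helper2.LTensorK

open CategoryTheory CategoryTheory.Limits DerivedCategory MonoidalCategory

attribute [local instance] HasDerivedCategory.standard

universe u

variable {A : Type u} [CommRing A]

/-- termwise tensor product of a complex with a module -/
noncomputable abbrev tenCx (M : ModuleCat.{u} A) : DRing.Cx A ⥤ DRing.Cx A :=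
  (tensorRight M).mapHomologicalComplex (ComplexShape.up ℤ)

/-- the derived tensor product is computed termwise on K-projective complexes -/
noncomputable def LTensorIso (M : ModuleCat.{u} A) [DRing.HasLTensor A M] (E : DRing.Cx A)
    [E.IsKProjective] :
    (DRing.LTensor A M).obj (Q.obj E) ≅ Q.obj ((tenCx M).obj E) := by
  let ε := (DRing.tensorKh A M).totalLeftDerivedCounit Qh
    (HomotopyCategory.quasiIso (ModuleCat.{u} A) (ComplexShape.up ℤ))
  have : (DRing.LTensor A M).IsRightKanExtension ε :=
    Functor.IsLeftDerivedFunctor.isRightKanExtension _ ε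
      (HomotopyCategory.quasiIso (ModuleCat.{u} A) (ComplexShape.up ℤ))
  have h := KPc.isIso_counit_Qh (DRing.tensorKh A M) (DRing.LTensor A M) ε E
  exact @asIso _ _ _ _ (ε.app ((HomotopyCategory.quotient _ _).obj E)) h ≪≫
    Qh.mapIso (((tensorRight M).mapHomotopyCategoryFactors (ComplexShape.up ℤ)).app E)

end Groth.Agent.Lib.helper2.LTensorK
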