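import Mathlib
import Groth.Prelude.Def_ega3
import Groth.Agent.Lib.helper2.LTensorK
import Groth.Agent.Lib.helper2.KPc2

/-!
# Cohomology of derived tensor products / base change via the functors `T_i(P, M) = H^i(P ⊗ M)`
(helper2)
-/

set_option autoImplicit false

namespace Groth.Agent.Lib.helper2.LTensorT

open CategoryTheory CategoryTheory.Limits DerivedCategory MonoidalCategory CohIII

attribute [local instance] HasDerivedCategory.standard

universe u

variable {R : Type u} [CommRing R]

/-- the cohomology of the derived tensor product, computed on a K-projective representative -/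
noncomputable def homIso (M : ModuleCat.{u} R) [DRing.HasLTensor R M] {K : Dual.D R}
    (E : DRing.Cx R) [E.IsKProjective] (e : Q.obj E ≅ K) (i : ℤ) :
    (DerivedCategory.homologyFunctor _ i).obj ((DRing.LTensor R M).obj K) ≅ (TFun E i).obj M :=
  (DerivedCategory.homologyFunctor _ i).mapIso
      ((DRing.LTensor R M).mapIso e.symm ≪≫ LTensorK.LTensorIso M E) ≪≫
    (DerivedCategory.homologyFunctorFactors _ i).app _

variable (B : Type u) [CommRing B] [Algebra R B]

/-- `P ⊗_R B` as a complex of `R`-modules is the restriction of the base change of `P` -/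
noncomputable def resBcIso (E : DRing.Cx R) :
    ((ModuleCat.restrictScalars (algebraMap R B)).mapHomologicalComplex (ComplexShape.up ℤ)).obj
      ((KPc.bcCx (algebraMap R B)).obj E) ≅ tensorObj E (ModuleCat.of R B) :=
  (NatIso.mapHomologicalComplex (KPc.extResIso R B) (ComplexShape.up ℤ)).app E

/-- vanishing of the cohomology of the derived base change gives vanishing of `T_i(P, B)` -/
lemma isZero_T_of_LBaseChange [DRing.HasLBaseChange (algebraMap R B)] {K : Dual.D R}
    (E : DRing.Cx R) [E.IsKProjective] (e : Q.obj E ≅ K) (i : ℤ)
    (h : IsZero ((DerivedCategory.homologyFunctor (ModuleCat.{u} B) i).obj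
      ((DRing.LBaseChange (algebraMap R B)).obj K))) :
    IsZero ((TFun E i).obj (ModuleCat.of R B)) := by
  have h1 : IsZero (((KPc.bcCx (algebraMap R B)).obj E).homology i) :=
    h.of_iso (((DerivedCategory.homologyFunctorFactors _ i).app _).symm ≪≫
      (DerivedCategory.homologyFunctor _ i).mapIso
        ((KPc.LBaseChangeIso (algebraMap R B) E).symm ≪≫
          (DRing.LBaseChange (algebraMap R B)).mapIso e))
  have h2 : IsZero ((((ModuleCat.restrictScalars (algebraMap R B)).mapHomologicalComplex
      (ComplexShape.up ℤ)).obj ((KPc.bcCx (algebraMap R B)).obj E)).homology i) :=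
    ((ModuleCat.restrictScalars (algebraMap R B)).map_isZero h1).of_iso
      ((((KPc.bcCx (algebraMap R B)).obj E).sc i).mapHomologyIso
        (ModuleCat.restrictScalars (algebraMap R B)))
  exact h2.of_iso ((HomologicalComplex.homologyFunctor _ _ i).mapIso (resBcIso B E)).symm

end Groth.Agent.Lib.helper2.LTensorT
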