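import Mathlib
import Groth.Agent.Lib.helper17.DRingBC

/-!
# The projection formula `X ⊗_R res(M) ≅ res((S ⊗_R X) ⊗_S M)` as a natural isomorphism (helper2)
-/

set_option autoImplicit false

namespace Groth.Agent.Lib.helper2.ProjFormula

open CategoryTheory MonoidalCategory TensorProduct
open Groth.Agent.Lib.helper17.DRingBC
open scoped ChangeOfRings

universe u

variable {R S : Type u} [CommRing R] [CommRing S] [Algebra R S] (M : ModuleCat.{u} S)

/-- the left hand side functor -/
noncomputable abbrev F1 : ModuleCat.{u} R ⥤ ModuleCat.{u} R :=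
  tensorRight ((ModuleCat.restrictScalars (algebraMap R S)).obj M)

/-- the right hand side functor -/
noncomputable abbrev F2 : ModuleCat.{u} R ⥤ ModuleCat.{u} R :=
  ModuleCat.extendScalars.{u, u, u} (algebraMap R S) ⋙ tensorRight M ⋙
    ModuleCat.restrictScalars (algebraMap R S)

section comp

variable (X : ModuleCat.{u} R)

noncomputable instance instModR : Module R M :=
  ((ModuleCat.restrictScalars (algebraMap R S)).obj M).isModule

instance instTower : IsScalarTower R S M :=
  IsScalarTower.of_algebraMap_smul fun _ _ => rfl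

/-- the `S`-linear part -/
noncomputable def eS : (((ModuleCat.extendScalars.{u, u, u} (algebraMap R S)).obj X) ⊗[S] M) ≃ₗ[S]
    (M ⊗[R] X) :=
  TensorProduct.congr (extendScalarsObjEquiv (A := R) (B := S) X) (LinearEquiv.refl S M) ≪≫ₗ
    TensorProduct.comm S (S ⊗[R] X) M ≪≫ₗ
    TensorProduct.AlgebraTensorModule.cancelBaseChange R S S M X

variable {X} in
/-- the element `1 ⊗ x` of the extension of scalars -/
noncomputable def oneTmul (x : X) : (ModuleCat.extendScalars.{u, u, u} (algebraMap R S)).obj X :=
  (1 : S) ⊗ₜ[R,algebraMap R S] x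

lemma eS_symm_tmul (m : M) (x : X) :
    (eS M X).symm (m ⊗ₜ[R] x) =
      (oneTmul (S := S) x) ⊗ₜ[S] m := by
  simp only [eS, LinearEquiv.trans_symm, LinearEquiv.trans_apply,
    TensorProduct.AlgebraTensorModule.cancelBaseChange_symm_tmul, TensorProduct.comm_symm_tmul,
    TensorProduct.congr_symm_tmul]
  rfl

/-- the component of the projection formula -/
noncomputable def projEquiv : ((F2 M).obj X) ≃ₗ[R] ((F1 M).obj X) :=
  { ((eS M X).toAddEquiv.trans (TensorProduct.comm R M X).toAddEquiv) with
    map_smul' := fun r y => by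
      have h1 : r • y = (algebraMap R S r) • (show ((ModuleCat.extendScalars.{u, u, u}
          (algebraMap R S)).obj X) ⊗[S] M from y) := rfl
      change (TensorProduct.comm R M X) ((eS M X) (r • y)) =
        r • (TensorProduct.comm R M X) ((eS M X) y)
      rw [h1, map_smul, algebraMap_smul, map_smul] }

lemma projEquiv_symm_tmul (x : X) (m : M) :
    (projEquiv M X).symm (x ⊗ₜ[R] (m : (ModuleCat.restrictScalars (algebraMap R S)).obj M)) =
      (oneTmul (S := S) x) ⊗ₜ[S] m := by
  change (eS M X).symm ((TensorProduct.comm R M X).symm (x ⊗ₜ m)) = _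
  rw [TensorProduct.comm_symm_tmul, eS_symm_tmul]

end comp

/-- the projection formula, as a natural isomorphism -/
noncomputable def natIso : F1 (R := R) M ≅ F2 (R := R) M :=
  NatIso.ofComponents (fun X => (projEquiv M X).symm.toModuleIso) (by
    intro X Y g
    apply ModuleCat.MonoidalCategory.tensor_ext
    intro x m
    have h1 := projEquiv_symm_tmul M Y (g x) m
    have h2 := projEquiv_symm_tmul M X x m
    rw [ModuleCat.comp_apply, ModuleCat.comp_apply]
    refine Eq.trans (b := _) ?_ ((congrArg (fun z => (F2 (R := R) M).map g z) h2).symm)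
    exact h1)

end Groth.Agent.Lib.helper2.ProjFormula
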