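import Mathlib
import Groth.Prelude.Def_ega3
import Groth.Agent.Lib.helper2.HAdj
import Groth.Agent.Lib.helper2.KPc2
import Groth.Agent.Lib.helper2.ProjFormula
import Groth.Agent.Lib.helper2.LTensorT
import Groth.Agent.Lib.helper2.KProjRes
import Groth.Agent.Lib.helper2.ConeRep
import Groth.Agent.Lib.helper4.FlatCx11
import Groth.Agent.Lib.helper4.QisTensor
import Groth.Agent.Lib.helper17.DRingTA

/-!
# Dévissage for `T_i(P, M) = H^i(P ⊗ M)` along ring maps and nilpotent ideals (helper2)
-/

set_option autoImplicit false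
set_option linter.unusedSectionVars false

namespace Groth.Agent.Lib.helper2.NilDev

open CategoryTheory CategoryTheory.Limits DerivedCategory MonoidalCategory CohIII
open Groth.Agent.H4FlatCx
open Groth.Agent.Lib.helper17.DRingTA Groth.Agent.Lib.helper17.DRingTor

attribute [local instance] HasDerivedCategory.standard

universe u

section BaseChange

variable {R S : Type u} [CommRing R] [CommRing S] (φ : R →+* S)

/-- restriction of scalars of complexes -/
noncomputable abbrev resCx : DRing.Cx S ⥤ DRing.Cx R :=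
  (ModuleCat.restrictScalars φ).mapHomologicalComplex (ComplexShape.up ℤ)

lemma acyclic_resCx (L : DRing.Cx S) (hL : L.Acyclic) : ((resCx φ).obj L).Acyclic := by
  intro i
  rw [HomologicalComplex.exactAt_iff_isZero_homology]
  exact ((ModuleCat.restrictScalars φ).map_isZero (hL i).isZero_homology).of_iso
    ((L.sc i).mapHomologyIso (ModuleCat.restrictScalars φ))

/-- base change preserves K-projective complexes -/
lemma isKProjective_bcCx (E : DRing.Cx R) [E.IsKProjective] :
    ((KPc.bcCx φ).obj E).IsKProjective := by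
  refine ⟨fun {L} f hL => ?_⟩
  let adj := ModuleCat.extendRestrictScalarsAdj.{u, u, u} φ
  let f' : E ⟶ (resCx φ).obj L := HAdj.unitCx adj (ComplexShape.up ℤ) E ≫ (resCx φ).map f
  obtain ⟨h'⟩ := CochainComplex.IsKProjective.nonempty_homotopy_zero f' (acyclic_resCx φ L hL)
  have hf : f = (KPc.bcCx φ).map f' ≫ HAdj.counitCx adj (ComplexShape.up ℤ) L := by
    dsimp only [f']
    rw [Functor.map_comp, Category.assoc]
    erw [HAdj.counitCx_naturality adj (ComplexShape.up ℤ) f]
    rw [← Category.assoc]
    erw [HAdj.left_triangle_cx adj (ComplexShape.up ℤ) E]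
    rw [Category.id_comp]
  rw [hf]
  have h1 : Homotopy ((KPc.bcCx φ).map f') ((KPc.bcCx φ).map 0) :=
    (ModuleCat.extendScalars.{u, u, u} φ).mapHomotopy h'
  have h2 : Homotopy ((KPc.bcCx φ).map f') 0 :=
    h1.trans (Homotopy.ofEq (Functor.map_zero _ _ _))
  exact ⟨(h2.compRight _).trans (Homotopy.ofEq zero_comp)⟩

end BaseChange

section Transfer

variable {R : Type u} [CommRing R]

/-- a quasi-isomorphism between K-projective complexes induces isomorphisms on all `T_i(-, M)` -/
lemma isZero_T_iff_of_quasiIso {E' E : DRing.Cx R} [E'.IsKProjective] [E.IsKProjective]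
    (f : E' ⟶ E) [QuasiIso f] (M : ModuleCat.{u} R) (i : ℤ) :
    IsZero ((TFun E' i).obj M) ↔ IsZero ((TFun E i).obj M) := by
  obtain ⟨e, he⟩ := (CochainComplex.IsKProjective.quasiIso_iff f).1 inferInstance
  let e' := (tensorRight M).mapHomotopyEquiv e
  exact ⟨fun h => h.of_iso (e'.toHomologyIso i).symm, fun h => h.of_iso (e'.toHomologyIso i)⟩

lemma isZero_T_iff_of_iso {E' E : DRing.Cx R} [E'.IsKProjective] [E.IsKProjective]
    (e : Q.obj E' ≅ Q.obj E) (M : ModuleCat.{u} R) (i : ℤ) :
    IsZero ((TFun E' i).obj M) ↔ IsZero ((TFun E i).obj M) := by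
  obtain ⟨g, hg⟩ := ConeRep.exists_chain_map E' E e.hom
  have : QuasiIso g := by
    rw [← isIso_Q_map_iff_quasiIso, hg]
    infer_instance
  exact isZero_T_iff_of_quasiIso g M i

/-- free K-projective resolutions vanishing where the cohomology vanishes -/
lemma exists_res_vanishing (K : Dual.D R) (m : ℤ)
    (hm : ∀ i : ℤ, m ≤ i → IsZero ((DerivedCategory.homologyFunctor _ i).obj K)) :
    ∃ E : DRing.Cx R, (∀ i, m ≤ i → IsZero (E.X i)) ∧ (∀ i, Module.Free R (E.X i)) ∧
      E.IsKProjective ∧ Nonempty (Q.obj E ≅ K) := by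
  obtain ⟨E, hfree, hz, ⟨e⟩⟩ := Groth.Agent.Lib.helper17.PCohAll.exists_strictPCAll_vanishing
    (Fr R) (Fr_prod R) (Fr_hqs R) (Fr_hql R) m K
    (isPC_Fr R K (m - 1) (fun i hi => hm i (by omega))) hm
  have hfree' : ∀ i, Module.Free R (E.X i) := hfree
  refine ⟨E, hz, hfree', ?_, ⟨e⟩⟩
  have : E.IsStrictlyLE m := by
    rw [CochainComplex.isStrictlyLE_iff]
    intro i hi
    exact hz i (by omega)
  have : ∀ n, Projective (E.X n) := fun n => by
    have := hfree' n
    exact (IsProjective.iff_projective (R := R) (E.X n)).1 inferInstance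
  exact CochainComplex.isKProjective_of_projective E m

/-- (RT) a K-projective complex with no cohomology in degrees `≥ m` has `T_i(E, M) = 0` for `i ≥ m` -/
lemma isZero_T_of_homology_vanishing (E : DRing.Cx R) [E.IsKProjective] (m : ℤ)
    (hm : ∀ i, m ≤ i → IsZero (E.homology i)) (M : ModuleCat.{u} R) (i : ℤ) (hi : m ≤ i) :
    IsZero ((TFun E i).obj M) := by
  obtain ⟨E', hz, hfree, hK, ⟨e⟩⟩ := exists_res_vanishing (Q.obj E) m
    (fun j hj => (hm j hj).of_iso ((DerivedCategory.homologyFunctorFactors _ j).app E))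
  rw [← isZero_T_iff_of_iso e M i]
  apply isZero_homology_of_isZero_X
  exact (tensorRight M).map_isZero (hz i hi)

/-- (TA) tor amplitude gives vanishing of `T_i` -/
lemma isZero_T_of_torAmp (E : DRing.Cx R) [E.IsKProjective] (a b : ℤ)
    (h : DRing.HasTorAmplitudeIn R a b (Q.obj E)) (M : ModuleCat.{u} R) (i : ℤ)
    (hi : i < a ∨ b < i) : IsZero ((TFun E i).obj M) := by
  have hK : ∀ j : ℤ, b + 1 ≤ j →
      IsZero ((DerivedCategory.homologyFunctor _ j).obj (Q.obj E)) := fun j hj =>
    isZero_homology_of_torAmp h j (Or.inr (by omega))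
  obtain ⟨F, hFz, hFfl, ⟨eF⟩⟩ := h
  obtain ⟨E', hz, hfree, hK', ⟨e⟩⟩ := exists_res_vanishing (Q.obj E) (b + 1) hK
  rw [← isZero_T_iff_of_iso e M i]
  have hEfl : ∀ j, Module.Flat R (E'.X j) := fun j => by
    have := hfree j
    infer_instance
  obtain ⟨g, hg⟩ := ConeRep.exists_chain_map E' F (e.hom ≫ eF.inv)
  have hgq : QuasiIso g := by
    rw [← isIso_Q_map_iff_quasiIso, hg]
    infer_instance
  have hq := Groth.Agent.H4Qis.quasiIso_tensor (φ := g) hEfl hFfl
    ⟨b, fun j hj => hz j (by omega)⟩ ⟨b, fun j hj => hFz j (Or.inr hj)⟩ M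
  have h1 : IsZero ((tensorObj F M).homology i) := by
    apply isZero_homology_of_isZero_X
    exact (tensorRight M).map_isZero (hFz i hi)
  have hiso : IsIso (HomologicalComplex.homologyMap
      (((tensorRight M).mapHomologicalComplex (ComplexShape.up ℤ)).map g) i) :=
    (quasiIsoAt_iff_isIso_homologyMap _ i).1 (hq.quasiIsoAt i)
  exact h1.of_iso (@asIso _ _ _ _ (HomologicalComplex.homologyMap
    (((tensorRight M).mapHomologicalComplex (ComplexShape.up ℤ)).map g) i) hiso)

/-- (TAconv) vanishing of `T_i` outside `[a, b]` gives tor amplitude -/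
lemma torAmp_of_isZero_T (E : DRing.Cx R) [E.IsKProjective] (a b : ℤ)
    (h : ∀ (M : ModuleCat.{u} R) (i : ℤ), (i < a ∨ b < i) → IsZero ((TFun E i).obj M)) :
    DRing.HasTorAmplitudeIn R a b (Q.obj E) := by
  have hK : ∀ i : ℤ, i < a ∨ b < i →
      IsZero ((DerivedCategory.homologyFunctor _ i).obj (Q.obj E)) := by
    intro i hi
    exact ((h (ModuleCat.of R R) i hi).of_iso (TUnitIso E i).symm).of_iso
      ((DerivedCategory.homologyFunctorFactors _ i).app E)
  obtain ⟨E', hz, hfree, hK', ⟨e⟩⟩ := exists_res_vanishing (Q.obj E) (b + 1)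
    (fun i hi => hK i (Or.inr (by omega)))
  have hEfl : ∀ j, Module.Flat R (E'.X j) := fun j => by
    have := hfree j
    infer_instance
  have hT : ∀ (M : ModuleCat.{u} R) (i : ℤ), i < a ∨ b < i → IsZero ((TFun E' i).obj M) :=
    fun M i hi => (isZero_T_iff_of_iso e M i).2 (h M i hi)
  have hepi : (TFun E' (a - 1)).PreservesEpimorphisms :=
    ⟨fun {X Y} f _ => ⟨fun g g' _ => (hT Y (a - 1) (Or.inl (by omega))).eq_of_src _ _⟩⟩
  have hmono : (TFun E' a).PreservesMonomorphisms :=
    (preservesEpi_iff_preservesMono E' hEfl (a - 1) a (by simp)).1 hepi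
  have hop : Module.Flat R (E'.opcycles a) :=
    (preservesMono_iff_flat_opcycles E' (a - 1) a (by simp) (a + 1) (by simp) (hEfl (a + 1))).1 hmono
  have hEh : ∀ i, i < a ∨ b < i → IsZero (E'.homology i) := fun i hi =>
    (hK i hi).of_iso (((DerivedCategory.homologyFunctorFactors _ i).app E').symm ≪≫
      (DerivedCategory.homologyFunctor _ i).mapIso e)
  exact torAmp_of_iso ((torAmp_iff E' b (fun j hj => hz j (by omega)) hEfl a b).2 ⟨hEh, hop⟩) e

variable {S : Type u} [CommRing S] [Algebra R S]

/-- `P ⊗_R res(M) ≅ res((S ⊗_R P) ⊗_S M)` -/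
noncomputable def tensorBcIso (M : ModuleCat.{u} S) (E : DRing.Cx R) :
    tensorObj E ((ModuleCat.restrictScalars (algebraMap R S)).obj M) ≅
      (resCx (algebraMap R S)).obj (tensorObj ((KPc.bcCx (algebraMap R S)).obj E) M) :=
  (NatIso.mapHomologicalComplex (ProjFormula.natIso (R := R) M) (ComplexShape.up ℤ)).app E

lemma isZero_T_res (M : ModuleCat.{u} S) (E : DRing.Cx R) (i : ℤ)
    (h : IsZero ((TFun ((KPc.bcCx (algebraMap R S)).obj E) i).obj M)) :
    IsZero ((TFun E i).obj ((ModuleCat.restrictScalars (algebraMap R S)).obj M)) := by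
  have h2 : IsZero (((resCx (algebraMap R S)).obj
      (tensorObj ((KPc.bcCx (algebraMap R S)).obj E) M)).homology i) :=
    ((ModuleCat.restrictScalars (algebraMap R S)).map_isZero h).of_iso
      (((tensorObj ((KPc.bcCx (algebraMap R S)).obj E) M).sc i).mapHomologyIso
        (ModuleCat.restrictScalars (algebraMap R S)))
  exact h2.of_iso ((HomologicalComplex.homologyFunctor _ _ i).mapIso (tensorBcIso M E))

end Transfer

section Devissage

variable {R : Type u} [CommRing R]

lemma isZero_T_of_subsingleton (E : DRing.Cx R) (i : ℤ) (N : Type u) [AddCommGroup N] [Module R N]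
    [Subsingleton N] : IsZero ((TFun E i).obj (ModuleCat.of R N)) := by
  change IsZero ((tensorObj E (ModuleCat.of R N)).homology i)
  rw [← HomologicalComplex.exactAt_iff_isZero_homology]
  apply ShortComplex.exact_of_isZero_X₂
  have : Subsingleton (TensorProduct R (E.X i) N) := inferInstance
  exact ModuleCat.isZero_of_subsingleton (ModuleCat.of R (TensorProduct R (E.X i) N))

lemma shortExact_sub {M : Type u} [AddCommGroup M] [Module R M] (N' : Submodule R M) :
    (ShortComplex.mk (ModuleCat.ofHom N'.subtype) (ModuleCat.ofHom N'.mkQ) (by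
      ext x
      simp)).ShortExact := by
  refine { exact := ?_, mono_f := ?_, epi_g := ?_ }
  · rw [ShortComplex.ShortExact.moduleCat_exact_iff_function_exact]
    intro x
    simp only [ModuleCat.hom_ofHom]
    constructor
    · intro hx
      exact ⟨⟨x, by simpa using hx⟩, rfl⟩
    · rintro ⟨y, rfl⟩
      simp
  · rw [ModuleCat.mono_iff_injective]
    exact N'.injective_subtype
  · rw [ModuleCat.epi_iff_surjective]
    exact N'.mkQ_surjective

/-- (D1) dévissage along powers of an ideal -/
lemma isZero_T_of_pow (I : Ideal R) (E : DRing.Cx R) (hE : ∀ j, Module.Flat R (E.X j)) (i : ℤ)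
    (h : ∀ (M : Type u) [AddCommGroup M] [Module R M], (∀ r ∈ I, ∀ x : M, r • x = 0) →
      IsZero ((TFun E i).obj (ModuleCat.of R M)))
    (n : ℕ) : ∀ (N : Type u) [AddCommGroup N] [Module R N], (∀ r ∈ I ^ n, ∀ x : N, r • x = 0) →
      IsZero ((TFun E i).obj (ModuleCat.of R N)) := by
  induction n with
  | zero =>
    intro N _ _ hN
    have : Subsingleton N := ⟨fun x y => by
      have hx := hN 1 (by simp) x
      have hy := hN 1 (by simp) y
      rw [one_smul] at hx hy
      rw [hx, hy]⟩
    exact isZero_T_of_subsingleton E i N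
  | succ n ih =>
    intro N _ _ hN
    let N' : Submodule R N := I ^ n • (⊤ : Submodule R N)
    have h1 : ∀ r ∈ I, ∀ x : N', r • x = 0 := by
      intro r hr ⟨x, hx⟩
      apply Subtype.ext
      change r • x = 0
      refine Submodule.smul_induction_on hx ?_ ?_
      · intro s hs y _
        rw [← mul_smul]
        exact hN _ (by rw [pow_succ']; exact Ideal.mul_mem_mul hr hs) y
      · intro x y hx hy
        rw [smul_add, hx, hy, add_zero]
    have h2 : ∀ r ∈ I ^ n, ∀ x : N ⧸ N', r • x = 0 := by
      intro r hr x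
      obtain ⟨y, rfl⟩ := N'.mkQ_surjective x
      rw [← map_smul]
      exact (Submodule.Quotient.mk_eq_zero N').2 (Submodule.smul_mem_smul hr Submodule.mem_top)
    have hex := exact₂ E hE _ (shortExact_sub N') i
    exact hex.isZero_X₂ ((h N' h1).eq_of_src _ _) ((ih (N ⧸ N') h2).eq_of_tgt _ _)

end Devissage

section Killed

variable {R S : Type u} [CommRing R] [CommRing S] [Algebra R S]

lemma smul_eq_of_killed (M : Type u) [AddCommGroup M]
    [Module R M] (hM : ∀ r ∈ RingHom.ker (algebraMap R S), ∀ x : M, r • x = 0)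
    (r r' : R) (h : algebraMap R S r = algebraMap R S r') (x : M) : r • x = r' • x := by
  have : (r - r') • x = 0 := hM _ (by rw [RingHom.mem_ker, map_sub, h, sub_self]) x
  rwa [sub_smul, sub_eq_zero] at this

/-- the `S`-module structure on an `R`-module killed by the kernel of `R → S` surjective -/
@[instance_reducible]
noncomputable def moduleOfSurj (hφ : Function.Surjective (algebraMap R S)) (M : Type u)
    [AddCommGroup M] [Module R M]
    (hM : ∀ r ∈ RingHom.ker (algebraMap R S), ∀ x : M, r • x = 0) : Module S M where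
  smul := fun s x => Classical.choose (hφ s) • x
  one_smul := fun x => by
    change Classical.choose (hφ 1) • x = x
    rw [smul_eq_of_killed M hM (Classical.choose (hφ 1)) 1
      (by rw [Classical.choose_spec (hφ 1), map_one]), one_smul]
  mul_smul := fun s t x => by
    change Classical.choose (hφ (s * t)) • x = Classical.choose (hφ s) • Classical.choose (hφ t) • x
    rw [← mul_smul]
    exact smul_eq_of_killed M hM _ _ (by
      rw [Classical.choose_spec (hφ (s * t)), map_mul, Classical.choose_spec (hφ s),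
        Classical.choose_spec (hφ t)]) x
  smul_zero := fun s => smul_zero (Classical.choose (hφ s))
  smul_add := fun s x y => smul_add (Classical.choose (hφ s)) x y
  add_smul := fun s t x => by
    change Classical.choose (hφ (s + t)) • x = Classical.choose (hφ s) • x + Classical.choose (hφ t) • x
    rw [← add_smul]
    exact smul_eq_of_killed M hM _ _ (by
      rw [Classical.choose_spec (hφ (s + t)), map_add, Classical.choose_spec (hφ s),
        Classical.choose_spec (hφ t)]) x
  zero_smul := fun x => by
    change Classical.choose (hφ 0) • x = 0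
    rw [smul_eq_of_killed M hM (Classical.choose (hφ 0)) 0
      (by rw [Classical.choose_spec (hφ 0), map_zero]), zero_smul]

/-- (KI) a module killed by the kernel of a surjective ring map is a restriction of scalars -/
lemma exists_res_iso (hφ : Function.Surjective (algebraMap R S)) (M : Type u) [AddCommGroup M]
    [Module R M] (hM : ∀ r ∈ RingHom.ker (algebraMap R S), ∀ x : M, r • x = 0) :
    ∃ M' : ModuleCat.{u} S,
      Nonempty ((ModuleCat.restrictScalars (algebraMap R S)).obj M' ≅ ModuleCat.of R M) := by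
  let M' : ModuleCat.{u} S := @ModuleCat.of S _ M _ (moduleOfSurj hφ M hM)
  let e0 : ((ModuleCat.restrictScalars (algebraMap R S)).obj M') ≃+ (ModuleCat.of R M) :=
    AddEquiv.refl M
  refine ⟨M', ⟨LinearEquiv.toModuleIso (@AddEquiv.toLinearEquiv R
    ((ModuleCat.restrictScalars (algebraMap R S)).obj M') (ModuleCat.of R M) _ _ _
    ((ModuleCat.restrictScalars (algebraMap R S)).obj M').isModule (ModuleCat.of R M).isModule
    e0 ?_)⟩⟩
  intro r x
  change Classical.choose (hφ (algebraMap R S r)) • (show M from x) = r • (show M from x)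
  exact smul_eq_of_killed M hM _ _ (Classical.choose_spec (hφ _)) _

/-- vanishing over `S` gives vanishing over `R` for modules killed by the kernel -/
lemma isZero_T_of_killed (hφ : Function.Surjective (algebraMap R S)) (P : DRing.Cx R) (i : ℤ)
    (h : ∀ M' : ModuleCat.{u} S, IsZero ((TFun ((KPc.bcCx (algebraMap R S)).obj P) i).obj M'))
    (M : Type u) [AddCommGroup M] [Module R M]
    (hM : ∀ r ∈ RingHom.ker (algebraMap R S), ∀ x : M, r • x = 0) :
    IsZero ((TFun P i).obj (ModuleCat.of R M)) := by
  obtain ⟨M', ⟨e⟩⟩ := exists_res_iso hφ M hM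
  exact (isZero_T_res M' P i (h M')).of_iso ((TFun P i).mapIso e.symm)

/-- tor amplitude descends along a surjection with nilpotent kernel -/
theorem torAmp_of_bc (hφ : Function.Surjective (algebraMap R S))
    (hnil : IsNilpotent (RingHom.ker (algebraMap R S))) (P : DRing.Cx R) [P.IsKProjective]
    (hP : ∀ j, Module.Flat R (P.X j)) (a b : ℤ)
    (h : DRing.HasTorAmplitudeIn S a b (Q.obj ((KPc.bcCx (algebraMap R S)).obj P))) :
    DRing.HasTorAmplitudeIn R a b (Q.obj P) := by
  have := isKProjective_bcCx (algebraMap R S) P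
  apply torAmp_of_isZero_T
  intro M i hi
  obtain ⟨n, hn⟩ := hnil
  have h1 := isZero_T_of_pow (RingHom.ker (algebraMap R S)) P hP i
    (fun M' _ _ hM' => isZero_T_of_killed hφ P i
      (fun M'' => isZero_T_of_torAmp _ a b h M'' i hi) M' hM') n M
    (fun r hr x => by
      rw [hn] at hr
      have : r = 0 := hr
      rw [this, zero_smul])
  exact h1

end Killed

end Groth.Agent.Lib.helper2.NilDev
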