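import Mathlib
import Groth.Prelude.Def_ega3
import Groth.Prelude.Def_DRing3
import Groth.Agent.Lib.helper2.NilDev
import Groth.Agent.Lib.helper2.DCompl
import Groth.Agent.Lib.helper2.DComplMod
import Groth.Agent.Lib.helper2.DComplIdeal2
import Groth.Agent.Lib.helper2.DGen
import Groth.Agent.Lib.helper17.DRingRes
import Groth.Agent.Lib.helper17.PCohCore

/-!
# Derived Nakayama for derived complete objects (helper2)
-/

set_option autoImplicit false
set_option linter.unusedSectionVars false

namespace Groth.Agent.Lib.helper2.DNak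

open CategoryTheory CategoryTheory.Limits DerivedCategory MonoidalCategory CohIII DRing
open Groth.Agent.H4FlatCx Groth.Agent.Lib.helper2.DCompl

attribute [local instance] HasDerivedCategory.standard

universe u

section Linear

variable {A : Type u} [CommRing A]

lemma homologyMap_smul_id (K : DRing.Cx A) (a : A) (n : ℤ) :
    HomologicalComplex.homologyMap (a • 𝟙 K) n = a • 𝟙 (K.homology n) := by
  have h1 : HomologicalComplex.cyclesMap (a • 𝟙 K) n = a • 𝟙 (K.cycles n) := by
    rw [← cancel_mono (K.iCycles n), HomologicalComplex.cyclesMap_i,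
      HomologicalComplex.smul_f_apply, Linear.comp_smul, Linear.smul_comp]
    simp
  rw [← cancel_epi (K.homologyπ n), HomologicalComplex.homologyπ_naturality, h1,
    Linear.smul_comp, Linear.comp_smul, Category.id_comp, Category.comp_id]

lemma tensorMap_smul_id (P : DRing.Cx A) (N : ModuleCat.{u} A) (a : A) :
    tensorMap P (a • 𝟙 N) = a • 𝟙 (tensorObj P N) := by
  apply HomologicalComplex.hom_ext
  intro n
  change P.X n ◁ (a • 𝟙 N) = (a • 𝟙 (tensorObj P N)).f n
  rw [HomologicalComplex.smul_f_apply, MonoidalLinear.whiskerLeft_smul]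
  simp
  rfl

lemma mapTensorRight_smul_id (P : DRing.Cx A) (N : ModuleCat.{u} A) (a : A) :
    ((tensorRight N).mapHomologicalComplex (ComplexShape.up ℤ)).map (a • 𝟙 P) =
      a • 𝟙 (tensorObj P N) := by
  apply HomologicalComplex.hom_ext
  intro n
  change (a • 𝟙 P).f n ▷ N = (a • 𝟙 (tensorObj P N)).f n
  rw [HomologicalComplex.smul_f_apply, HomologicalComplex.smul_f_apply,
    MonoidalLinear.smul_whiskerRight]
  simp
  rfl

end Linear

section Main

variable {A : Type u} [CommRing A]

open Groth.Agent.Lib.helper17.DRingTor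

lemma shortExact_ker {M M' : Type u} [AddCommGroup M] [Module A M] [AddCommGroup M'] [Module A M']
    (p : M →ₗ[A] M') (hp : Function.Surjective p) :
    (ShortComplex.mk (ModuleCat.ofHom (LinearMap.ker p).subtype) (ModuleCat.ofHom p) (by
      ext x
      exact x.2)).ShortExact := by
  refine { exact := ?_, mono_f := ?_, epi_g := ?_ }
  · rw [ShortComplex.ShortExact.moduleCat_exact_iff_function_exact]
    intro x
    simp only [ModuleCat.hom_ofHom]
    constructor
    · intro hx
      exact ⟨⟨x, hx⟩, rfl⟩
    · rintro ⟨y, rfl⟩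
      exact y.2
  · rw [ModuleCat.mono_iff_injective]
    exact (LinearMap.ker p).injective_subtype
  · rw [ModuleCat.epi_iff_surjective]
    exact hp

/-- vanishing of `T_i(P, A/I)` for all `i` gives vanishing on all modules killed by `I` -/
lemma isZero_T_of_killed_quot (I : Ideal A) (P : DRing.Cx A) [P.IsKProjective]
    (h0 : ∀ j : ℤ, IsZero ((TFun P j).obj (ModuleCat.of A (A ⧸ I))))
    (N : Type u) [AddCommGroup N] [Module A N] (hN : ∀ r ∈ I, ∀ x : N, r • x = 0) (i : ℤ) :
    IsZero ((TFun P i).obj (ModuleCat.of A N)) := by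
  have hker : RingHom.ker (algebraMap A (A ⧸ I)) = I := Ideal.mk_ker
  have hsurj : Function.Surjective (algebraMap A (A ⧸ I)) := Ideal.Quotient.mk_surjective
  have hKP := NilDev.isKProjective_bcCx (algebraMap A (A ⧸ I)) P
  have h1 : ∀ j : ℤ, i ≤ j →
      IsZero (((KPc.bcCx (algebraMap A (A ⧸ I))).obj P).homology j) := by
    intro j _
    apply Groth.Agent.Lib.helper17.DRingRes.isZero_of_isZero_resF (algebraMap A (A ⧸ I))
    refine IsZero.of_iso ?_ (Groth.Agent.Lib.helper17.DRingRes.resC_homologyIso
      (algebraMap A (A ⧸ I)) _ j).symm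
    exact (h0 j).of_iso ((HomologicalComplex.homologyFunctor _ _ j).mapIso
      (LTensorT.resBcIso (A ⧸ I) P))
  have h2 : ∀ M' : ModuleCat.{u} (A ⧸ I), IsZero ((TFun
      ((KPc.bcCx (algebraMap A (A ⧸ I))).obj P) i).obj M') := fun M' =>
    NilDev.isZero_T_of_homology_vanishing _ i h1 M' i le_rfl
  exact NilDev.isZero_T_of_killed hsurj P i h2 N (fun r hr x => hN r (by rwa [hker] at hr) x)

set_option maxHeartbeats 1600000 in
open Classical in
/-- derived Nakayama at the level of K-projective complexes -/
theorem acyclic_of_complete (s : Finset A) : ∀ (P : DRing.Cx A), P.IsKProjective →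
    (∀ j, Module.Flat A (P.X j)) →
    IsDerivedComplete (Ideal.span (s : Set A)) (Q.obj P) →
    (∀ i : ℤ, IsZero ((TFun P i).obj (ModuleCat.of A (A ⧸ Ideal.span (s : Set A))))) →
    ∀ n : ℤ, IsZero (P.homology n) := by
  induction s using Finset.induction_on with
  | empty =>
    intro P hK hP hc h0 n
    have e : ModuleCat.of A (A ⧸ Ideal.span ((∅ : Finset A) : Set A)) ≅ ModuleCat.of A A := by
      refine LinearEquiv.toModuleIso ?_
      exact Submodule.quotEquivOfEqBot _ (by simp)
    exact ((h0 n).of_iso ((TFun P n).mapIso e.symm)).of_iso (TUnitIso P n).symm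
  | insert f s hfs ih =>
    intro P hK hP hc h0 n
    have hfI : f ∈ Ideal.span ((insert f s : Finset A) : Set A) := Ideal.subset_span (by simp)
    have hJI : Ideal.span (s : Set A) ≤ Ideal.span ((insert f s : Finset A) : Set A) :=
      Ideal.span_mono (by simp)
    have hI'eq : ∀ r ∈ Ideal.span ((insert f s : Finset A) : Set A),
        ∃ a : A, ∃ j ∈ Ideal.span (s : Set A), r = a * f + j := by
      intro r hr
      rw [Finset.coe_insert, Ideal.span_insert] at hr
      obtain ⟨x, hx, j, hj, rfl⟩ := Submodule.mem_sup.1 hr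
      obtain ⟨a, rfl⟩ := Ideal.mem_span_singleton'.1 hx
      exact ⟨a, j, hj, rfl⟩
    have hkill : ∀ (N : Type u) [AddCommGroup N] [Module A N], (∀ x : N, f • x = 0) →
        (∀ j ∈ Ideal.span (s : Set A), ∀ x : N, j • x = 0) →
        ∀ i, IsZero ((TFun P i).obj (ModuleCat.of A N)) := by
      intro N _ _ h1 h2 i
      refine isZero_T_of_killed_quot _ P h0 N ?_ i
      intro r hr x
      obtain ⟨a, j, hj, rfl⟩ := hI'eq r hr
      rw [add_smul, mul_smul, h1, smul_zero, h2 j hj, add_zero]
    -- the module `A/J`
    have hN0 : ∀ j ∈ Ideal.span (s : Set A), ∀ x : A ⧸ Ideal.span (s : Set A), j • x = 0 := by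
      intro j hj x
      obtain ⟨y, rfl⟩ := Submodule.mkQ_surjective (Ideal.span (s : Set A)) x
      rw [← map_smul]
      exact (Submodule.Quotient.mk_eq_zero _).2
        (Ideal.mul_mem_right y (Ideal.span (s : Set A)) hj)
    let u : (A ⧸ Ideal.span (s : Set A)) →ₗ[A] (A ⧸ Ideal.span (s : Set A)) :=
      LinearMap.lsmul A (A ⧸ Ideal.span (s : Set A)) f
    let p := u.rangeRestrict
    have hS1 := shortExact_ker p u.surjective_rangeRestrict
    have hS2 := NilDev.shortExact_sub (LinearMap.range u)
    have hT1 : ∀ i, IsZero ((TFun P i).obj (ModuleCat.of A (LinearMap.ker p))) := by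
      refine hkill _ ?_ ?_
      · intro x
        apply Subtype.ext
        have hx : p x.1 = 0 := x.2
        have hx' : u x.1 = 0 := congrArg Subtype.val hx
        exact hx'
      · intro j hj x
        exact Subtype.ext (hN0 j hj x.1)
    have hT2 : ∀ i, IsZero ((TFun P i).obj
        (ModuleCat.of A ((A ⧸ Ideal.span (s : Set A)) ⧸ LinearMap.range u))) := by
      refine hkill _ ?_ ?_
      · intro x
        obtain ⟨y, rfl⟩ := (LinearMap.range u).mkQ_surjective x
        rw [← map_smul]
        exact (Submodule.Quotient.mk_eq_zero _).2 ⟨y, rfl⟩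
      · intro j hj x
        obtain ⟨y, rfl⟩ := (LinearMap.range u).mkQ_surjective x
        rw [← map_smul, hN0 j hj y, map_zero]
    -- `f` acts invertibly on `T_i(P, A/J)`
    have hiso : ∀ i : ℤ, IsIso ((TFun P i).map
        (f • 𝟙 (ModuleCat.of A (A ⧸ Ideal.span (s : Set A))))) := by
      intro i
      have hα_mono : Mono ((TFun P i).map (ModuleCat.ofHom p)) :=
        (exact₂ P hP _ hS1 i).mono_g ((hT1 i).eq_of_src _ _)
      have hα_epi : Epi ((TFun P i).map (ModuleCat.ofHom p)) :=
        (exact₃ P hP _ hS1 i (i + 1) rfl).epi_f ((hT1 (i + 1)).eq_of_tgt _ _)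
      have hβ_epi : Epi ((TFun P i).map (ModuleCat.ofHom (LinearMap.range u).subtype)) :=
        (exact₂ P hP _ hS2 i).epi_f ((hT2 i).eq_of_tgt _ _)
      have hβ_mono : Mono ((TFun P i).map (ModuleCat.ofHom (LinearMap.range u).subtype)) :=
        (exact₁ P hP _ hS2 (i - 1) i (by simp)).mono_g ((hT2 (i - 1)).eq_of_src _ _)
      have hα : IsIso ((TFun P i).map (ModuleCat.ofHom p)) := isIso_of_mono_of_epi _
      have hβ : IsIso ((TFun P i).map (ModuleCat.ofHom (LinearMap.range u).subtype)) :=
        isIso_of_mono_of_epi _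
      have hfac : ModuleCat.ofHom p ≫ ModuleCat.ofHom (LinearMap.range u).subtype =
          f • 𝟙 (ModuleCat.of A (A ⧸ Ideal.span (s : Set A))) := by
        ext x
        rfl
      rw [← hfac, Functor.map_comp]
      infer_instance
    -- the cone of `f` on `P`
    let g : P ⟶ P := f • 𝟙 P
    have hCK : (CochainComplex.mappingCone g).IsKProjective := KProjRes.isKProjective_mappingCone g
    have hCfl : ∀ j, Module.Flat A ((CochainComplex.mappingCone g).X j) := fun j =>
      (Fl A).prop_of_iso (ConeRep.mappingConeXIso g j (j + 1) rfl).symm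
        (Fl_biprod A (hP (j + 1)) (hP j))
    have hCc : IsDerivedComplete (Ideal.span (s : Set A))
        (Q.obj (CochainComplex.mappingCone g)) :=
      isDerivedComplete_mono hJI
        (isDerivedComplete_right _ (ConeRep.mapTriangle_distinguished g) hc hc)
    have hC0 : ∀ i : ℤ, IsZero ((TFun (CochainComplex.mappingCone g) i).obj
        (ModuleCat.of A (A ⧸ Ideal.span (s : Set A)))) := by
      intro i
      let N0 : ModuleCat.{u} A := ModuleCat.of A (A ⧸ Ideal.span (s : Set A))
      let w := ((tensorRight N0).mapHomologicalComplex (ComplexShape.up ℤ)).map g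
      have hw : ∀ k, IsIso (HomologicalComplex.homologyMap w k) := by
        intro k
        have h1 := hiso k
        rw [TFun_map, tensorMap_smul_id, ← mapTensorRight_smul_id] at h1
        exact h1
      have hz : IsZero ((CochainComplex.mappingCone w).homology i) := by
        have := hw i
        have := hw (i + 1)
        exact Groth.Agent.Lib.helper17.PCohCore.isZero_homology_mappingCone w i
          inferInstance inferInstance
      exact hz.of_iso ((HomologicalComplex.homologyFunctor _ _ i).mapIso
        (CochainComplex.mappingCone.mapHomologicalComplexIso g (tensorRight N0)))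
    have hCac := ih (CochainComplex.mappingCone g) hCK hCfl hCc hC0
    -- `f` is surjective on `H^n(P)`
    have hepi : Epi (HomologicalComplex.homologyMap g n) :=
      (Groth.Agent.Lib.helper17.PCohCore.epi_mono_of_isZero_homology_mappingCone g n
        (hCac n)).1
    rw [homologyMap_smul_id] at hepi
    have hsurj : ∀ m : P.homology n, ∃ m' : P.homology n, f • m' = m := by
      rw [ModuleCat.epi_iff_surjective] at hepi
      intro m
      obtain ⟨m', hm'⟩ := hepi m
      exact ⟨m', hm'⟩
    have hcM : IsDerivedComplete (Ideal.span ((insert f s : Finset A) : Set A))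
        (Dual.inD A (P.homology n)) := by
      have h1 := (isDerivedComplete_iff_homology (Q.obj P)).1 hc n
      exact isDerivedComplete_of_iso ((DerivedCategory.singleFunctor (ModuleCat.{u} A) 0).mapIso
        ((DerivedCategory.homologyFunctorFactors (ModuleCat.{u} A) n).app P)) h1
    have hbij := (isDerivedComplete_iff_seq (M := P.homology n)
      (Ideal.span ((insert f s : Finset A) : Set A))).1 hcM f hfI
    have := subsingleton_of_smul_surjective f (P.homology n) hbij.1 hsurj
    exact ModuleCat.isZero_of_subsingleton _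

/-- threshold version -/
lemma isZero_T_of_killed_quot_ge (m : ℤ) (I : Ideal A) (P : DRing.Cx A) [P.IsKProjective]
    (h0 : ∀ j : ℤ, m ≤ j → IsZero ((TFun P j).obj (ModuleCat.of A (A ⧸ I))))
    (N : Type u) [AddCommGroup N] [Module A N] (hN : ∀ r ∈ I, ∀ x : N, r • x = 0) (i : ℤ)
    (hi : m ≤ i) :
    IsZero ((TFun P i).obj (ModuleCat.of A N)) := by
  have hker : RingHom.ker (algebraMap A (A ⧸ I)) = I := Ideal.mk_ker
  have hsurj : Function.Surjective (algebraMap A (A ⧸ I)) := Ideal.Quotient.mk_surjective
  have hKP := NilDev.isKProjective_bcCx (algebraMap A (A ⧸ I)) P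
  have h1 : ∀ j : ℤ, i ≤ j →
      IsZero (((KPc.bcCx (algebraMap A (A ⧸ I))).obj P).homology j) := by
    intro j hj
    apply Groth.Agent.Lib.helper17.DRingRes.isZero_of_isZero_resF (algebraMap A (A ⧸ I))
    refine IsZero.of_iso ?_ (Groth.Agent.Lib.helper17.DRingRes.resC_homologyIso
      (algebraMap A (A ⧸ I)) _ j).symm
    exact (h0 j (by omega)).of_iso ((HomologicalComplex.homologyFunctor _ _ j).mapIso
      (LTensorT.resBcIso (A ⧸ I) P))
  have h2 : ∀ M' : ModuleCat.{u} (A ⧸ I), IsZero ((TFun
      ((KPc.bcCx (algebraMap A (A ⧸ I))).obj P) i).obj M') := fun M' =>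
    NilDev.isZero_T_of_homology_vanishing _ i h1 M' i le_rfl
  exact NilDev.isZero_T_of_killed hsurj P i h2 N (fun r hr x => hN r (by rwa [hker] at hr) x)

set_option maxHeartbeats 1600000 in
open Classical in
/-- derived Nakayama with a degree threshold -/
theorem acyclic_ge_of_complete (m : ℤ) (s : Finset A) : ∀ (P : DRing.Cx A), P.IsKProjective →
    (∀ j, Module.Flat A (P.X j)) →
    IsDerivedComplete (Ideal.span (s : Set A)) (Q.obj P) →
    (∀ i : ℤ, m ≤ i → IsZero ((TFun P i).obj (ModuleCat.of A (A ⧸ Ideal.span (s : Set A))))) →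
    ∀ n : ℤ, m ≤ n → IsZero (P.homology n) := by
  induction s using Finset.induction_on with
  | empty =>
    intro P hK hP hc h0 n hn
    have e : ModuleCat.of A (A ⧸ Ideal.span ((∅ : Finset A) : Set A)) ≅ ModuleCat.of A A := by
      refine LinearEquiv.toModuleIso ?_
      exact Submodule.quotEquivOfEqBot _ (by simp)
    exact ((h0 n hn).of_iso ((TFun P n).mapIso e.symm)).of_iso (TUnitIso P n).symm
  | insert f s hfs ih =>
    intro P hK hP hc h0 n hn
    have hfI : f ∈ Ideal.span ((insert f s : Finset A) : Set A) := Ideal.subset_span (by simp)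
    have hJI : Ideal.span (s : Set A) ≤ Ideal.span ((insert f s : Finset A) : Set A) :=
      Ideal.span_mono (by simp)
    have hI'eq : ∀ r ∈ Ideal.span ((insert f s : Finset A) : Set A),
        ∃ a : A, ∃ j ∈ Ideal.span (s : Set A), r = a * f + j := by
      intro r hr
      rw [Finset.coe_insert, Ideal.span_insert] at hr
      obtain ⟨x, hx, j, hj, rfl⟩ := Submodule.mem_sup.1 hr
      obtain ⟨a, rfl⟩ := Ideal.mem_span_singleton'.1 hx
      exact ⟨a, j, hj, rfl⟩
    have hkill : ∀ (N : Type u) [AddCommGroup N] [Module A N], (∀ x : N, f • x = 0) →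
        (∀ j ∈ Ideal.span (s : Set A), ∀ x : N, j • x = 0) →
        ∀ i, m ≤ i → IsZero ((TFun P i).obj (ModuleCat.of A N)) := by
      intro N _ _ h1 h2 i hi
      refine isZero_T_of_killed_quot_ge m _ P h0 N ?_ i hi
      intro r hr x
      obtain ⟨a, j, hj, rfl⟩ := hI'eq r hr
      rw [add_smul, mul_smul, h1, smul_zero, h2 j hj, add_zero]
    -- the module `A/J`
    have hN0 : ∀ j ∈ Ideal.span (s : Set A), ∀ x : A ⧸ Ideal.span (s : Set A), j • x = 0 := by
      intro j hj x
      obtain ⟨y, rfl⟩ := Submodule.mkQ_surjective (Ideal.span (s : Set A)) x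
      rw [← map_smul]
      exact (Submodule.Quotient.mk_eq_zero _).2
        (Ideal.mul_mem_right y (Ideal.span (s : Set A)) hj)
    let u : (A ⧸ Ideal.span (s : Set A)) →ₗ[A] (A ⧸ Ideal.span (s : Set A)) :=
      LinearMap.lsmul A (A ⧸ Ideal.span (s : Set A)) f
    let p := u.rangeRestrict
    have hS1 := shortExact_ker p u.surjective_rangeRestrict
    have hS2 := NilDev.shortExact_sub (LinearMap.range u)
    have hT1 : ∀ i, m ≤ i → IsZero ((TFun P i).obj (ModuleCat.of A (LinearMap.ker p))) := by
      refine hkill _ ?_ ?_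
      · intro x
        apply Subtype.ext
        have hx : p x.1 = 0 := x.2
        have hx' : u x.1 = 0 := congrArg Subtype.val hx
        exact hx'
      · intro j hj x
        exact Subtype.ext (hN0 j hj x.1)
    have hT2 : ∀ i, m ≤ i → IsZero ((TFun P i).obj
        (ModuleCat.of A ((A ⧸ Ideal.span (s : Set A)) ⧸ LinearMap.range u))) := by
      refine hkill _ ?_ ?_
      · intro x
        obtain ⟨y, rfl⟩ := (LinearMap.range u).mkQ_surjective x
        rw [← map_smul]
        exact (Submodule.Quotient.mk_eq_zero _).2 ⟨y, rfl⟩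
      · intro j hj x
        obtain ⟨y, rfl⟩ := (LinearMap.range u).mkQ_surjective x
        rw [← map_smul, hN0 j hj y, map_zero]
    -- `f` acts on `T_i(P, A/J)`: epi for `i ≥ m`, mono for `i ≥ m + 1`
    have hfac : ModuleCat.ofHom p ≫ ModuleCat.ofHom (LinearMap.range u).subtype =
        f • 𝟙 (ModuleCat.of A (A ⧸ Ideal.span (s : Set A))) := by
      ext x
      rfl
    have hepiT : ∀ i : ℤ, m ≤ i → Epi ((TFun P i).map
        (f • 𝟙 (ModuleCat.of A (A ⧸ Ideal.span (s : Set A))))) := by
      intro i hi
      have hα_epi : Epi ((TFun P i).map (ModuleCat.ofHom p)) :=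
        (exact₃ P hP _ hS1 i (i + 1) rfl).epi_f ((hT1 (i + 1) (by omega)).eq_of_tgt _ _)
      have hβ_epi : Epi ((TFun P i).map (ModuleCat.ofHom (LinearMap.range u).subtype)) :=
        (exact₂ P hP _ hS2 i).epi_f ((hT2 i hi).eq_of_tgt _ _)
      rw [← hfac, Functor.map_comp]
      exact epi_comp _ _
    have hmonoT : ∀ i : ℤ, m + 1 ≤ i → Mono ((TFun P i).map
        (f • 𝟙 (ModuleCat.of A (A ⧸ Ideal.span (s : Set A))))) := by
      intro i hi
      have hα_mono : Mono ((TFun P i).map (ModuleCat.ofHom p)) :=
        (exact₂ P hP _ hS1 i).mono_g ((hT1 i (by omega)).eq_of_src _ _)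
      have hβ_mono : Mono ((TFun P i).map (ModuleCat.ofHom (LinearMap.range u).subtype)) :=
        (exact₁ P hP _ hS2 (i - 1) i (by simp)).mono_g ((hT2 (i - 1) (by omega)).eq_of_src _ _)
      rw [← hfac, Functor.map_comp]
      exact mono_comp _ _
    -- the cone of `f` on `P`
    let g : P ⟶ P := f • 𝟙 P
    have hCK : (CochainComplex.mappingCone g).IsKProjective := KProjRes.isKProjective_mappingCone g
    have hCfl : ∀ j, Module.Flat A ((CochainComplex.mappingCone g).X j) := fun j =>
      (Fl A).prop_of_iso (ConeRep.mappingConeXIso g j (j + 1) rfl).symm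
        (Fl_biprod A (hP (j + 1)) (hP j))
    have hCc : IsDerivedComplete (Ideal.span (s : Set A))
        (Q.obj (CochainComplex.mappingCone g)) :=
      isDerivedComplete_mono hJI
        (isDerivedComplete_right _ (ConeRep.mapTriangle_distinguished g) hc hc)
    have hC0 : ∀ i : ℤ, m ≤ i → IsZero ((TFun (CochainComplex.mappingCone g) i).obj
        (ModuleCat.of A (A ⧸ Ideal.span (s : Set A)))) := by
      intro i hi
      let N0 : ModuleCat.{u} A := ModuleCat.of A (A ⧸ Ideal.span (s : Set A))
      let w := ((tensorRight N0).mapHomologicalComplex (ComplexShape.up ℤ)).map g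
      have hw1 : Epi (HomologicalComplex.homologyMap w i) := by
        have h1 := hepiT i hi
        rw [TFun_map, tensorMap_smul_id, ← mapTensorRight_smul_id] at h1
        exact h1
      have hw2 : Mono (HomologicalComplex.homologyMap w (i + 1)) := by
        have h1 := hmonoT (i + 1) (by omega)
        rw [TFun_map, tensorMap_smul_id, ← mapTensorRight_smul_id] at h1
        exact h1
      have hz : IsZero ((CochainComplex.mappingCone w).homology i) :=
        Groth.Agent.Lib.helper17.PCohCore.isZero_homology_mappingCone w i hw1 hw2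
      exact hz.of_iso ((HomologicalComplex.homologyFunctor _ _ i).mapIso
        (CochainComplex.mappingCone.mapHomologicalComplexIso g (tensorRight N0)))
    have hCac := ih (CochainComplex.mappingCone g) hCK hCfl hCc hC0
    -- `f` is surjective on `H^n(P)`
    have hepi : Epi (HomologicalComplex.homologyMap g n) :=
      (Groth.Agent.Lib.helper17.PCohCore.epi_mono_of_isZero_homology_mappingCone g n
        (hCac n hn)).1
    rw [homologyMap_smul_id] at hepi
    have hsurj : ∀ m : P.homology n, ∃ m' : P.homology n, f • m' = m := by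
      rw [ModuleCat.epi_iff_surjective] at hepi
      intro m
      obtain ⟨m', hm'⟩ := hepi m
      exact ⟨m', hm'⟩
    have hcM : IsDerivedComplete (Ideal.span ((insert f s : Finset A) : Set A))
        (Dual.inD A (P.homology n)) := by
      have h1 := (isDerivedComplete_iff_homology (Q.obj P)).1 hc n
      exact isDerivedComplete_of_iso ((DerivedCategory.singleFunctor (ModuleCat.{u} A) 0).mapIso
        ((DerivedCategory.homologyFunctorFactors (ModuleCat.{u} A) n).app P)) h1
    have hbij := (isDerivedComplete_iff_seq (M := P.homology n)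
      (Ideal.span ((insert f s : Finset A) : Set A))).1 hcM f hfI
    have := subsingleton_of_smul_surjective f (P.homology n) hbij.1 hsurj
    exact ModuleCat.isZero_of_subsingleton _

end Main

end Groth.Agent.Lib.helper2.DNak
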