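import Mathlib
import Groth.Prelude.Def_EtAcyc
import Groth.Agent.Lib.lead.EtCons4
universe u
open CategoryTheory CategoryTheory.Limits AlgebraicGeometry Opposite Abelian

namespace Groth.Agent.Lib.helper2.EtAcycChase

variable {X : Scheme.{u}}

theorem isLTorsion_of_epi (L : Set ℕ) {G Q : EtCoh.Ab X} (p : G ⟶ Q) [Epi p]
    (hG : EtAcyc.IsLTorsion L G) : EtAcyc.IsLTorsion L Q := by
  rw [Groth.Agent.Lib.lead.EtCons.main8525] at hG ⊢
  intro Ω _ _ ξ t
  have hepi : Epi ((EtCoh.stalk ξ).map p) := inferInstance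
  rw [AddCommGrpCat.epi_iff_surjective] at hepi
  obtain ⟨t', rfl⟩ := hepi t
  obtain ⟨m, hm, hmt⟩ := hG Ω ξ t'
  refine ⟨m, hm, ?_⟩
  rw [← map_nsmul, hmt, map_zero]

variable {Y : Scheme.{u}} (h : Y ⟶ X) [PreservesFiniteLimits (EtCoh.pull h)]

theorem Hpull_apply (G : EtCoh.Ab X) (n : ℕ) (e : EtCoh.H X G n) :
    EtCore.Hpull h G n e = (Ext.mk₀ (EtCore.pullConst h ℤ).inv).comp
      (e.mapExactFunctor (EtCoh.pull h)) (zero_add n) := rfl

/-- `Hpull` commutes with post-composition by a morphism of sheaves. -/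
theorem Hpull_comp_mk₀ {G G' : EtCoh.Ab X} (φ : G ⟶ G') (n : ℕ) (e : EtCoh.H X G n) :
    EtCore.Hpull h G' n (e.comp (Ext.mk₀ φ) (add_zero n)) =
      (EtCore.Hpull h G n e).comp (Ext.mk₀ ((EtCoh.pull h).map φ)) (add_zero n) := by
  rw [Hpull_apply, Hpull_apply, Ext.mapExactFunctor_comp, Ext.mapExactFunctor_mk₀,
    Ext.comp_assoc_of_third_deg_zero]

/-- `Hpull` commutes with the connecting maps. -/
theorem Hpull_comp_extClass {S : ShortComplex (EtCoh.Ab X)} (hS : S.ShortExact) (n : ℕ)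
    (e : EtCoh.H X S.X₃ n) :
    EtCore.Hpull h S.X₁ (n + 1) (e.comp hS.extClass rfl) =
      (EtCore.Hpull h S.X₃ n e).comp (hS.map_of_exact (EtCoh.pull h)).extClass rfl := by
  rw [Hpull_apply, Hpull_apply, Ext.mapExactFunctor_comp]
  have h1 : hS.extClass.mapExactFunctor (EtCoh.pull h) =
      (hS.map_of_exact (EtCoh.pull h)).extClass := Ext.mapExactFunctor_extClass _ hS
  rw [h1]
  exact (Ext.comp_assoc _ _ _ (zero_add n) rfl (by omega)).symm

theorem main (L : Set ℕ) (n : ℕ) (hc : EtAcyc.CompN h L n)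
    {F G : EtCoh.Ab X} (u : F ⟶ G) [Mono u]
    (hF : EtAcyc.IsLTorsion L F) (hG : EtAcyc.IsLTorsion L G)
    (ξ : EtCoh.H Y ((EtCoh.pull h).obj F) (n + 1))
    (hξ : (EtCoh.HF Y (n + 1)).map ((EtCoh.pull h).map u) ξ ∈
      Set.range (EtCore.Hpull h G (n + 1))) :
    ξ ∈ Set.range (EtCore.Hpull h F (n + 1)) := by
  let S : ShortComplex (EtCoh.Ab X) := ShortComplex.mk u (cokernel.π u) (cokernel.condition u)
  have hS : S.ShortExact :=
    { exact := ShortComplex.exact_cokernel u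
      mono_f := inferInstanceAs (Mono u)
      epi_g := inferInstanceAs (Epi (cokernel.π u)) }
  have hQ : EtAcyc.IsLTorsion L S.X₃ := isLTorsion_of_epi L (cokernel.π u) hG
  have hS' := hS.map_of_exact (EtCoh.pull h)
  obtain ⟨γ, hγ⟩ := hξ
  have hγ' : EtCore.Hpull h G (n + 1) γ =
      ξ.comp (Ext.mk₀ ((EtCoh.pull h).map u)) (add_zero (n + 1)) := by
    rw [hγ]
    exact Sheaf.H.map_apply _ _
  -- step 2: γ ≫ π = 0
  have h2 : γ.comp (Ext.mk₀ S.g) (add_zero (n + 1)) = 0 := by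
    apply (hc S.X₃ hQ).2
    rw [map_zero, Hpull_comp_mk₀]
    erw [hγ']
    rw [Ext.comp_assoc_of_third_deg_zero, Ext.mk₀_comp_mk₀, ← Functor.map_comp]
    have : u ≫ S.g = 0 := S.zero
    rw [this, Functor.map_zero, Ext.mk₀_zero, Ext.comp_zero]
  obtain ⟨φ, hφ⟩ := Ext.covariant_sequence_exact₂ _ hS γ h2
  -- step 4
  have h4 : (ξ - EtCore.Hpull h F (n + 1) φ).comp (Ext.mk₀ (S.map (EtCoh.pull h)).f)
      (add_zero (n + 1)) = 0 := by
    have e1 : (EtCore.Hpull h F (n + 1) φ).comp (Ext.mk₀ ((EtCoh.pull h).map u))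
        (add_zero (n + 1)) = EtCore.Hpull h G (n + 1) γ := by
      rw [← hφ]
      exact (Hpull_comp_mk₀ h u (n + 1) φ).symm
    rw [sub_eq_add_neg, Ext.add_comp, Ext.neg_comp]
    erw [e1, hγ']
    exact add_neg_cancel _
  obtain ⟨q', hq'⟩ := Ext.covariant_sequence_exact₁ _ hS' _ h4 (n₀ := n) rfl
  obtain ⟨q, hq⟩ := ((hc S.X₃ hQ).1 n le_rfl).2 q'
  refine ⟨q.comp hS.extClass rfl + φ, ?_⟩
  rw [map_add, Hpull_comp_extClass h hS n q]
  erw [hq, hq']
  exact sub_add_cancel _ _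

end Groth.Agent.Lib.helper2.EtAcycChase
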