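import Mathlib

/-!
# Maps from finite free modules into filtered colimits of modules (helper2)
-/

set_option autoImplicit false
set_option linter.unusedSectionVars false

namespace Groth.Agent.Lib.helper2.FiltColimMod

open CategoryTheory CategoryTheory.Limits

universe u

variable {R : Type u} [CommRing R] {J : Type u} [SmallCategory J] [IsFiltered J]
  (F : J ⥤ ModuleCat.{u} R) (c : Cocone F) (hc : IsColimit c)

include hc

lemma exists_rep (x : c.pt) : ∃ (j : J) (y : F.obj j), c.ι.app j y = x :=
  Concrete.isColimit_exists_rep F hc x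

lemma exists_kill {j : J} (x : F.obj j) (hx : c.ι.app j x = 0) :
    ∃ (j' : J) (f : j ⟶ j'), F.map f x = 0 := by
  have h : c.ι.app j x = c.ι.app j (0 : F.obj j) := by rw [hx, map_zero]
  obtain ⟨k, f, g, hfg⟩ := Concrete.isColimit_exists_of_rep_eq F hc x (0 : F.obj j) h
  exact ⟨k, f, by rw [hfg, map_zero]⟩

lemma ι_map {j j' : J} (f : j ⟶ j') (x : F.obj j) : c.ι.app j' (F.map f x) = c.ι.app j x := by
  have := ConcreteCategory.congr_hom (c.w f) x
  exact this

lemma exists_lift_finset (s : Finset c.pt) :
    ∃ j : J, ∀ x ∈ s, ∃ y : F.obj j, c.ι.app j y = x := by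
  classical
  induction s using Finset.induction_on with
  | empty => exact ⟨IsFiltered.nonempty.some, by simp⟩
  | insert a s _ ih =>
    obtain ⟨j, hj⟩ := ih
    obtain ⟨ja, ya, hya⟩ := exists_rep F c hc a
    refine ⟨IsFiltered.max j ja, ?_⟩
    intro x hx
    rw [Finset.mem_insert] at hx
    rcases hx with rfl | hx
    · exact ⟨F.map (IsFiltered.rightToMax j ja) ya, by rw [ι_map F c hc, hya]⟩
    · obtain ⟨y, hy⟩ := hj x hx
      exact ⟨F.map (IsFiltered.leftToMax j ja) y, by rw [ι_map F c hc, hy]⟩

lemma exists_kill_finset {j : J} (s : Finset (F.obj j)) (hs : ∀ x ∈ s, c.ι.app j x = 0) :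
    ∃ (j' : J) (f : j ⟶ j'), ∀ x ∈ s, F.map f x = 0 := by
  classical
  induction s using Finset.induction_on with
  | empty => exact ⟨j, 𝟙 j, by simp⟩
  | insert a s _ ih =>
    obtain ⟨j', f, hf⟩ := ih (fun x hx => hs x (Finset.mem_insert_of_mem hx))
    have ha : c.ι.app j' (F.map f a) = 0 := by
      rw [ι_map F c hc]
      exact hs a (Finset.mem_insert_self a s)
    obtain ⟨j'', g, hg⟩ := exists_kill F c hc (F.map f a) ha
    refine ⟨j'', f ≫ g, ?_⟩
    intro x hx
    rw [Finset.mem_insert] at hx
    have hcomp : ∀ z : F.obj j, F.map (f ≫ g) z = F.map g (F.map f z) := by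
      intro z
      rw [F.map_comp]
      rfl
    rcases hx with rfl | hx
    · rw [hcomp, hg]
    · rw [hcomp, hf x hx, map_zero]

/-- a map from a finite free module to a filtered colimit factors through some stage. -/
lemma exists_lift_hom (P : ModuleCat.{u} R) [Module.Finite R P] [Module.Free R P]
    (φ : P ⟶ c.pt) : ∃ (j : J) (φj : P ⟶ F.obj j), φj ≫ c.ι.app j = φ := by
  classical
  let b := Module.Free.chooseBasis R P
  have : Fintype (Module.Free.ChooseBasisIndex R P) := inferInstance
  obtain ⟨j, hj⟩ := exists_lift_finset F c hc (Finset.image (fun k => φ (b k)) Finset.univ)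
  have hj' : ∀ k, ∃ y : F.obj j, c.ι.app j y = φ (b k) := fun k =>
    hj _ (Finset.mem_image_of_mem _ (Finset.mem_univ k))
  choose y hy using hj'
  refine ⟨j, ModuleCat.ofHom (b.constr R y), ?_⟩
  apply ModuleCat.hom_ext
  apply b.ext
  intro k
  rw [ModuleCat.hom_comp, LinearMap.comp_apply, ModuleCat.hom_ofHom, Module.Basis.constr_basis]
  exact hy k

/-- a map from a finite module to a stage of a filtered colimit that vanishes in the colimit
vanishes at some later stage. -/
lemma exists_kill_hom (P : ModuleCat.{u} R) [Module.Finite R P] {j : J}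
    (φj : P ⟶ F.obj j) (h : φj ≫ c.ι.app j = 0) :
    ∃ (j' : J) (f : j ⟶ j'), φj ≫ F.map f = 0 := by
  classical
  obtain ⟨s, hs⟩ := (Module.finite_def.1 (inferInstance : Module.Finite R P))
  obtain ⟨j', f, hf⟩ := exists_kill_finset F c hc (Finset.image (fun x => φj x) s) (by
    intro x hx
    rw [Finset.mem_image] at hx
    obtain ⟨z, _, rfl⟩ := hx
    exact ConcreteCategory.congr_hom h z)
  refine ⟨j', f, ?_⟩
  apply ModuleCat.hom_ext
  apply LinearMap.ext_on_range (v := fun x : s => (x : P))
  · rw [Subtype.range_coe_subtype]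
    exact hs
  · intro x
    rw [ModuleCat.hom_comp, LinearMap.comp_apply, ModuleCat.hom_zero, LinearMap.zero_apply]
    exact hf _ (Finset.mem_image_of_mem _ x.2)

end Groth.Agent.Lib.helper2.FiltColimMod
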