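import Mathlib

/-!
# Chain maps to a complex concentrated in one degree, and null-homotopies (helper2)
-/

set_option autoImplicit false
set_option linter.unusedSectionVars false

namespace Groth.Agent.Lib.helper2.SingleHom

open CategoryTheory CategoryTheory.Limits HomologicalComplex CochainComplex
open CochainComplex.HomComplex

universe w v u

variable {C : Type u} [Category.{v} C] [Abelian C]

/-- the complex with `N` placed in degree `p` -/
noncomputable abbrev Sg (p : ℤ) (N : C) : CochainComplex C ℤ :=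
  (HomologicalComplex.single C (ComplexShape.up ℤ) p).obj N

/-- the canonical isomorphism -/
noncomputable abbrev SgIso (p : ℤ) (N : C) : (Sg p N).X p ≅ N :=
  HomologicalComplex.singleObjXSelf (ComplexShape.up ℤ) p N

/-- the chain map `E ⟶ N[-p]` attached to `x : E^p ⟶ N` killing the image of `E^{p-1}`. -/
noncomputable def toSg (E : CochainComplex C ℤ) (p' p : ℤ) (hp : p' + 1 = p) {N : C}
    (x : E.X p ⟶ N) (hx : E.d p' p ≫ x = 0) : E ⟶ Sg p N :=
  HomologicalComplex.mkHomToSingle x (by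
    intro i hi
    obtain rfl : i = p' := by simp at hi; lia
    exact hx)

@[simp]
lemma toSg_f (E : CochainComplex C ℤ) (p' p : ℤ) (hp : p' + 1 = p) {N : C}
    (x : E.X p ⟶ N) (hx : E.d p' p ≫ x = 0) :
    (toSg E p' p hp x hx).f p = x ≫ (SgIso p N).inv :=
  HomologicalComplex.mkHomToSingle_f _ _

lemma d_comp_f (E : CochainComplex C ℤ) (p' p : ℤ) {N : C} (f : E ⟶ Sg p N) :
    E.d p' p ≫ f.f p ≫ (SgIso p N).hom = 0 := by
  rw [← Category.assoc, ← f.comm]
  simp

lemma toSg_comp_map (E : CochainComplex C ℤ) (p' p : ℤ) (hp : p' + 1 = p) {N N' : C}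
    (x : E.X p ⟶ N) (hx : E.d p' p ≫ x = 0) (g : N ⟶ N') :
    toSg E p' p hp x hx ≫ (HomologicalComplex.single C (ComplexShape.up ℤ) p).map g =
      toSg E p' p hp (x ≫ g) (by rw [← Category.assoc, hx, zero_comp]) := by
  apply HomologicalComplex.to_single_hom_ext
  rw [HomologicalComplex.comp_f, toSg_f, toSg_f, HomologicalComplex.single_map_f_self]
  simp

lemma eq_toSg (E : CochainComplex C ℤ) (p' p : ℤ) (hp : p' + 1 = p) {N : C} (f : E ⟶ Sg p N) :
    f = toSg E p' p hp (f.f p ≫ (SgIso p N).hom) (d_comp_f E p' p f) := by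
  apply HomologicalComplex.to_single_hom_ext
  rw [toSg_f]
  simp

lemma homotopy_zero_of_fac (E : CochainComplex C ℤ) (p q : ℤ) (hpq : p + 1 = q) {N : C}
    (f : E ⟶ Sg p N)
    (h : E.X q ⟶ N) (hh : f.f p ≫ (SgIso p N).hom = E.d p q ≫ h) :
    Nonempty (Homotopy f 0) := by
  refine ⟨(Cochain.equivHomotopy f 0).symm
    ⟨Cochain.single (h ≫ (SgIso p N).inv) (-1), ?_⟩⟩
  rw [Cochain.δ_single _ (-1) 0 (by simp) p q (by lia) (by lia)]
  ext r
  simp only [Cochain.ofHom_v, Cochain.add_v, Int.negOnePow_zero, one_smul,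
    HomologicalComplex.zero_f, add_zero, HomologicalComplex.single_obj_d, comp_zero,
    Cochain.single_zero, zero_add]
  by_cases hr : r = p
  · subst hr
    rw [Cochain.single_v, ← Category.assoc, ← hh]
    simp
  · exact (HomologicalComplex.isZero_single_obj_X (ComplexShape.up ℤ) p N r hr).eq_of_tgt _ _

lemma fac_of_homotopy_zero (E : CochainComplex C ℤ) (p q : ℤ) (hpq : p + 1 = q) {N : C}
    (f : E ⟶ Sg p N) (H : Homotopy f 0) :
    ∃ h : E.X q ⟶ N, f.f p ≫ (SgIso p N).hom = E.d p q ≫ h := by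
  refine ⟨H.hom q p ≫ (SgIso p N).hom, ?_⟩
  have := H.comm p
  rw [dNext_eq _ (show (ComplexShape.up ℤ).Rel p q by simp; lia),
    prevD_eq _ (show (ComplexShape.up ℤ).Rel (p - 1) p by simp)] at this
  rw [this]
  simp

end Groth.Agent.Lib.helper2.SingleHom
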