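import Mathlib
import Groth.Agent.Lib.helper2.FiltColimMod
import Groth.Agent.Lib.helper2.SingleHom
import Groth.Agent.Lib.helper2.ConeRep
import Groth.Agent.Lib.helper2.ProjAmp
import Groth.Agent.Lib.helper2.DerCoprod

/-!
# Bounded-above complexes of finite free modules are "compact" against filtered colimits
of modules placed in a single degree (helper2)
-/

set_option autoImplicit false
set_option linter.unusedSectionVars false

namespace Groth.Agent.Lib.helper2.PerfCompact

open CategoryTheory CategoryTheory.Limits DerivedCategory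
open Groth.Agent.Lib.helper2.SingleHom Groth.Agent.Lib.helper2.FiltColimMod

universe u

attribute [local instance] HasDerivedCategory.standard

variable {R : Type u} [CommRing R] {J : Type u} [SmallCategory J] [IsFiltered J]
  (F : J ⥤ ModuleCat.{u} R) (c : Cocone F) (hc : IsColimit c)
  (E : CochainComplex (ModuleCat.{u} R) ℤ) [E.IsKProjective]
  (hfin : ∀ i, Module.Finite R (E.X i)) (hfree : ∀ i, Module.Free R (E.X i))

include hc hfin hfree

lemma exists_lift_Q (p : ℤ) (z : Q.obj E ⟶ Q.obj (Sg p c.pt)) :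
    ∃ (j : J) (y : Q.obj E ⟶ Q.obj (Sg p (F.obj j))),
      y ≫ Q.map ((HomologicalComplex.single _ (ComplexShape.up ℤ) p).map (c.ι.app j)) = z := by
  obtain ⟨c₀, rfl⟩ := ConeRep.exists_chain_map E _ z
  have := hfin p
  have := hfree p
  have := hfin (p - 1)
  obtain ⟨j, φj, hφj⟩ := exists_lift_hom F c hc (E.X p) (c₀.f p ≫ (SgIso p c.pt).hom)
  have h0 : (E.d (p - 1) p ≫ φj) ≫ c.ι.app j = 0 := by
    rw [Category.assoc, hφj]
    exact d_comp_f E (p - 1) p c₀
  obtain ⟨j', f, hf⟩ := exists_kill_hom F c hc (E.X (p - 1)) (E.d (p - 1) p ≫ φj) h0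
  refine ⟨j', Q.map (toSg E (p - 1) p (by lia) (φj ≫ F.map f) (by
    rw [← Category.assoc]; exact hf)), ?_⟩
  rw [← Q.map_comp, toSg_comp_map, eq_toSg E (p - 1) p (by lia) c₀]
  congr 2
  rw [Category.assoc, c.w f, hφj]

lemma exists_kill_Q (p : ℤ) (j : J) (y : Q.obj E ⟶ Q.obj (Sg p (F.obj j)))
    (h : y ≫ Q.map ((HomologicalComplex.single _ (ComplexShape.up ℤ) p).map (c.ι.app j)) = 0) :
    ∃ (j' : J) (f : j ⟶ j'),
      y ≫ Q.map ((HomologicalComplex.single _ (ComplexShape.up ℤ) p).map (F.map f)) = 0 := by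
  obtain ⟨cj, rfl⟩ := ConeRep.exists_chain_map E _ y
  have := hfin p
  have := hfin (p + 1)
  have := hfree (p + 1)
  rw [← Q.map_comp] at h
  obtain ⟨H⟩ := ProjAmp.nonempty_homotopy_zero_of_Q_map_eq_zero _ h
  obtain ⟨hh, hhh⟩ := fac_of_homotopy_zero E p (p + 1) rfl _ H
  obtain ⟨j1, h1, hh1⟩ := exists_lift_hom F c hc (E.X (p + 1)) hh
  let j2 := IsFiltered.max j j1
  let φj : E.X p ⟶ F.obj j := cj.f p ≫ (SgIso p (F.obj j)).hom
  let ψ : E.X p ⟶ F.obj j2 := φj ≫ F.map (IsFiltered.leftToMax j j1) -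
    E.d p (p + 1) ≫ h1 ≫ F.map (IsFiltered.rightToMax j j1)
  have hψ : ψ ≫ c.ι.app j2 = 0 := by
    have e1 : F.map (IsFiltered.leftToMax j j1) ≫ c.ι.app j2 = c.ι.app j := c.w _
    have e2 : F.map (IsFiltered.rightToMax j j1) ≫ c.ι.app j2 = c.ι.app j1 := c.w _
    dsimp only [ψ]
    rw [Preadditive.sub_comp]
    simp only [Category.assoc]
    rw [e1, e2, hh1, ← hhh, sub_eq_zero]
    dsimp only [φj]
    rw [HomologicalComplex.comp_f, HomologicalComplex.single_map_f_self]
    simp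
  obtain ⟨j', g, hg⟩ := exists_kill_hom F c hc (E.X p) ψ hψ
  refine ⟨j', IsFiltered.leftToMax j j1 ≫ g, ?_⟩
  rw [← Q.map_comp]
  obtain ⟨H'⟩ := homotopy_zero_of_fac E p (p + 1) rfl
    (cj ≫ (HomologicalComplex.single _ (ComplexShape.up ℤ) p).map
      (F.map (IsFiltered.leftToMax j j1 ≫ g)))
    (h1 ≫ F.map (IsFiltered.rightToMax j j1) ≫ F.map g) (by
      rw [HomologicalComplex.comp_f, HomologicalComplex.single_map_f_self]
      dsimp only [ψ] at hg
      rw [Preadditive.sub_comp, sub_eq_zero] at hg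
      simp only [Category.assoc, Iso.inv_hom_id, Category.comp_id]
      rw [F.map_comp]
      simpa [φj] using hg)
  exact DerCoprod.Q_map_eq_zero_of_homotopy _ H'

omit hc hfin hfree [IsFiltered J] [E.IsKProjective] in
/-- `(N[0])[n] ≅ Q (N in degree p)` for `n + p = 0` -/
noncomputable def θ (n p : ℤ) (h : n + p = 0) (N : ModuleCat.{u} R) :
    (shiftFunctor (DerivedCategory (ModuleCat.{u} R)) n).obj
      ((DerivedCategory.singleFunctor (ModuleCat.{u} R) 0).obj N) ≅ Q.obj (Sg p N) :=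
  ((DerivedCategory.singleFunctors (ModuleCat.{u} R)).shiftIso n p 0 (by lia)).app N ≪≫
    (DerivedCategory.singleFunctorIsoCompQ (ModuleCat.{u} R) p).app N

omit hc hfin hfree [IsFiltered J] [E.IsKProjective] in
lemma θ_naturality (n p : ℤ) (h : n + p = 0) {N N' : ModuleCat.{u} R} (g : N ⟶ N') :
    (shiftFunctor (DerivedCategory (ModuleCat.{u} R)) n).map
      ((DerivedCategory.singleFunctor (ModuleCat.{u} R) 0).map g) ≫ (θ n p h N').hom =
    (θ n p h N).hom ≫ Q.map ((HomologicalComplex.single _ (ComplexShape.up ℤ) p).map g) := by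
  have h1 := ((DerivedCategory.singleFunctors (ModuleCat.{u} R)).shiftIso n p 0
    (by lia)).hom.naturality g
  have h2 := (DerivedCategory.singleFunctorIsoCompQ (ModuleCat.{u} R) p).hom.naturality g
  dsimp at h1 h2
  dsimp [θ]
  rw [← Category.assoc]
  erw [h1]
  rw [Category.assoc]
  erw [h2]
  rw [Category.assoc]
  rfl

lemma exists_lift (X : DerivedCategory (ModuleCat.{u} R)) (e : Q.obj E ≅ X) (n : ℤ)
    (x : X ⟶ (shiftFunctor (DerivedCategory (ModuleCat.{u} R)) n).obj
      ((DerivedCategory.singleFunctor (ModuleCat.{u} R) 0).obj c.pt)) :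
    ∃ (j : J) (y : X ⟶ (shiftFunctor (DerivedCategory (ModuleCat.{u} R)) n).obj
      ((DerivedCategory.singleFunctor (ModuleCat.{u} R) 0).obj (F.obj j))),
      y ≫ (shiftFunctor (DerivedCategory (ModuleCat.{u} R)) n).map
        ((DerivedCategory.singleFunctor (ModuleCat.{u} R) 0).map (c.ι.app j)) = x := by
  obtain ⟨j, y, hy⟩ := exists_lift_Q F c hc E hfin hfree (-n)
    (e.hom ≫ x ≫ (θ n (-n) (by lia) c.pt).hom)
  refine ⟨j, e.inv ≫ y ≫ (θ n (-n) (by lia) (F.obj j)).inv, ?_⟩
  rw [← cancel_mono (θ n (-n) (by lia) c.pt).hom, ← cancel_epi e.hom]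
  simp only [Category.assoc, Iso.hom_inv_id_assoc]
  have hn := θ_naturality n (-n) (by lia) (N := F.obj j) (N' := c.pt) (c.ι.app j)
  rw [hn, Iso.inv_hom_id_assoc, hy]

lemma exists_kill (X : DerivedCategory (ModuleCat.{u} R)) (e : Q.obj E ≅ X) (n : ℤ) (j : J)
    (y : X ⟶ (shiftFunctor (DerivedCategory (ModuleCat.{u} R)) n).obj
      ((DerivedCategory.singleFunctor (ModuleCat.{u} R) 0).obj (F.obj j)))
    (h : y ≫ (shiftFunctor (DerivedCategory (ModuleCat.{u} R)) n).map
        ((DerivedCategory.singleFunctor (ModuleCat.{u} R) 0).map (c.ι.app j)) = 0) :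
    ∃ (j' : J) (f : j ⟶ j'), y ≫ (shiftFunctor (DerivedCategory (ModuleCat.{u} R)) n).map
        ((DerivedCategory.singleFunctor (ModuleCat.{u} R) 0).map (F.map f)) = 0 := by
  obtain ⟨j', f, hf⟩ := exists_kill_Q F c hc E hfin hfree (-n) j
    (e.hom ≫ y ≫ (θ n (-n) (by lia) (F.obj j)).hom) (by
      have hn := θ_naturality n (-n) (by lia) (N := F.obj j) (N' := c.pt) (c.ι.app j)
      simp only [Category.assoc]
      rw [← hn, reassoc_of% h, zero_comp, comp_zero])
  refine ⟨j', f, ?_⟩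
  rw [← cancel_mono (θ n (-n) (by lia) (F.obj j')).hom, ← cancel_epi e.hom]
  simp only [Category.assoc]
  rw [θ_naturality, zero_comp, comp_zero]
  simpa only [Category.assoc] using hf

end Groth.Agent.Lib.helper2.PerfCompact
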