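import Mathlib
import Groth.Agent.Lib.helper2.PerfCompact

/-!
# `Hom(K, M[p])` for `K` represented by a K-projective complex `F`: cocycle description (helper2)
-/

set_option autoImplicit false
set_option linter.unusedSectionVars false

namespace Groth.Agent.Lib.helper2.ExtPC

open CategoryTheory CategoryTheory.Limits DerivedCategory
open Groth.Agent.Lib.helper2.SingleHom Groth.Agent.Lib.helper2.PerfCompact

universe u

attribute [local instance] HasDerivedCategory.standard

variable {A : Type u} [CommRing A]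

section

variable (F : CochainComplex (ModuleCat.{u} A) ℤ) (M : ModuleCat.{u} A) (q : ℤ)

/-- cocycles of `Hom(F, M)` in degree `-q` -/
def Zc : Submodule A (F.X q →ₗ[A] M) :=
  LinearMap.ker (LinearMap.lcomp A M (F.d (q - 1) q).hom)

lemma mem_Zc (ψ : F.X q →ₗ[A] M) : ψ ∈ Zc F M q ↔ F.d (q - 1) q ≫ ModuleCat.ofHom ψ = 0 := by
  change ψ ∘ₗ (F.d (q - 1) q).hom = 0 ↔ _
  constructor
  · intro h
    apply ModuleCat.hom_ext
    exact h
  · intro h
    exact congrArg ModuleCat.Hom.hom h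

/-- the chain map attached to a cocycle -/
noncomputable def chain (ψ : Zc F M q) : F ⟶ Sg q M :=
  toSg F (q - 1) q (by lia) (ModuleCat.ofHom ψ.1) ((mem_Zc F M q ψ.1).1 ψ.2)

lemma chain_f (ψ : Zc F M q) : (chain F M q ψ).f q = ModuleCat.ofHom ψ.1 ≫ (SgIso q M).inv :=
  toSg_f _ _ _ _ _ _

lemma chain_add (ψ₁ ψ₂ : Zc F M q) : chain F M q (ψ₁ + ψ₂) = chain F M q ψ₁ + chain F M q ψ₂ := by
  apply HomologicalComplex.to_single_hom_ext
  rw [HomologicalComplex.add_f_apply, chain_f, chain_f, chain_f, ← Preadditive.add_comp]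
  rfl

lemma chain_smul (a : A) (ψ : Zc F M q) : chain F M q (a • ψ) = a • chain F M q ψ := by
  apply HomologicalComplex.to_single_hom_ext
  rw [HomologicalComplex.smul_f_apply, chain_f, chain_f, ← Linear.smul_comp]
  rfl

/-- every chain map comes from a cocycle -/
lemma exists_chain (c : F ⟶ Sg q M) : ∃ ψ : Zc F M q, chain F M q ψ = c := by
  refine ⟨⟨(c.f q ≫ (SgIso q M).hom).hom, ?_⟩, ?_⟩
  · rw [mem_Zc]
    exact d_comp_f F (q - 1) q c
  · exact (eq_toSg F (q - 1) q (by lia) c).symm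

lemma chain_comp_map {M' : ModuleCat.{u} A} (g : M ⟶ M') (ψ : Zc F M q) (ψ' : Zc F M' q)
    (h : ψ'.1 = g.hom ∘ₗ ψ.1) :
    chain F M q ψ ≫ (HomologicalComplex.single _ (ComplexShape.up ℤ) q).map g = chain F M' q ψ' := by
  dsimp only [chain]
  rw [toSg_comp_map]
  congr 1
  rw [h]
  rfl

end

section

variable (F : CochainComplex (ModuleCat.{u} A) ℤ) {K : DerivedCategory (ModuleCat.{u} A)}
  (e₀ : Q.obj F ≅ K) (M : ModuleCat.{u} A) (p q : ℤ) (hpq : p + q = 0)

/-- the class of a cocycle in `Hom(K, M[p])` -/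
noncomputable def cls : Zc F M q →ₗ[A]
    (K ⟶ (shiftFunctor (DerivedCategory (ModuleCat.{u} A)) p).obj
      ((singleFunctor (ModuleCat.{u} A) 0).obj M)) where
  toFun ψ := e₀.inv ≫ Q.map (chain F M q ψ) ≫ (θ p q hpq M).inv
  map_add' ψ₁ ψ₂ := by
    rw [chain_add, Functor.map_add, Preadditive.add_comp, Preadditive.comp_add]
  map_smul' a ψ := by
    rw [chain_smul, CategoryTheory.Functor.map_smul, Linear.smul_comp, Linear.comp_smul]
    rfl

lemma cls_apply (ψ : Zc F M q) :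
    cls F e₀ M p q hpq ψ = e₀.inv ≫ Q.map (chain F M q ψ) ≫ (θ p q hpq M).inv := rfl

lemma cls_surjective [F.IsKProjective] : Function.Surjective (cls F e₀ M p q hpq) := by
  intro x
  obtain ⟨c, hc⟩ := ConeRep.exists_chain_map F _ (e₀.hom ≫ x ≫ (θ p q hpq M).hom)
  obtain ⟨ψ, rfl⟩ := exists_chain F M q c
  refine ⟨ψ, ?_⟩
  rw [cls_apply, hc]
  simp

lemma cls_comp {M' : ModuleCat.{u} A} (g : M ⟶ M') (ψ : Zc F M q) (ψ' : Zc F M' q)
    (h : ψ'.1 = g.hom ∘ₗ ψ.1) :
    cls F e₀ M p q hpq ψ ≫ (shiftFunctor (DerivedCategory (ModuleCat.{u} A)) p).map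
      ((singleFunctor (ModuleCat.{u} A) 0).map g) = cls F e₀ M' p q hpq ψ' := by
  rw [cls_apply, cls_apply, ← chain_comp_map F M q g ψ ψ' h, Q.map_comp]
  simp only [Category.assoc]
  congr 2
  rw [← cancel_mono (θ p q hpq M').hom]
  simp only [Category.assoc, Iso.inv_hom_id, Category.comp_id]
  rw [θ_naturality, Iso.inv_hom_id_assoc]

end

end Groth.Agent.Lib.helper2.ExtPC
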