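import Mathlib
import Groth.Agent.Lib.helper2.ExtPC

/-!
# Artin–Rees for `Ext(K, -)` with `K` pseudo-coherent (helper2)
-/

set_option autoImplicit false
set_option linter.unusedSectionVars false

namespace Groth.Agent.Lib.helper2.ExtAR

open CategoryTheory CategoryTheory.Limits DerivedCategory
open Groth.Agent.Lib.helper2.SingleHom Groth.Agent.Lib.helper2.PerfCompact
open Groth.Agent.Lib.helper2.ExtPC

universe u

attribute [local instance] HasDerivedCategory.standard

variable {A : Type u} [CommRing A]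

lemma mem_smul_top_of_forall (P M : Type u) [AddCommGroup P] [Module A P] [AddCommGroup M]
    [Module A M] [Module.Finite A P] [Module.Free A P] (J : Ideal A) (φ : P →ₗ[A] M)
    (h : ∀ x, φ x ∈ (J • ⊤ : Submodule A M)) : φ ∈ (J • ⊤ : Submodule A (P →ₗ[A] M)) := by
  classical
  let b := Module.Free.chooseBasis A P
  have hφ : φ = ∑ k, LinearMap.smulRightₗ (b.coord k) (φ (b k)) := by
    apply b.ext
    intro j
    rw [LinearMap.sum_apply]
    simp only [LinearMap.smulRightₗ_apply]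
    rw [Finset.sum_eq_single j]
    · simp
    · intro k _ hk
      rw [LinearMap.smulRight_apply, Module.Basis.coord_apply, Module.Basis.repr_self,
        Finsupp.single_eq_of_ne hk, zero_smul]
    · intro hj
      exact absurd (Finset.mem_univ j) hj
  rw [hφ]
  refine Submodule.sum_mem _ (fun k _ => ?_)
  have h1 : Submodule.map (LinearMap.smulRightₗ (b.coord k) : M →ₗ[A] (P →ₗ[A] M)) (J • ⊤) ≤
      J • ⊤ := by
    rw [Submodule.map_smul'']
    exact Submodule.smul_mono le_rfl le_top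
  exact h1 (Submodule.mem_map_of_mem (h (b k)))

theorem ext_artin_rees [IsNoetherianRing A] (I : Ideal A)
    (F : CochainComplex (ModuleCat.{u} A) ℤ) [F.IsKProjective]
    (hfin : ∀ i, Module.Finite A (F.X i)) (hfree : ∀ i, Module.Free A (F.X i))
    {K : DerivedCategory (ModuleCat.{u} A)} (e₀ : Q.obj F ≅ K)
    (M : Type u) [AddCommGroup M] [Module A M] [Module.Finite A M] (p : ℤ) :
    ∃ c : ℕ, ∀ n : ℕ, c ≤ n →
      ∀ e : K ⟶ (shiftFunctor (DerivedCategory (ModuleCat.{u} A)) p).obj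
        ((singleFunctor (ModuleCat.{u} A) 0).obj (ModuleCat.of A ↥(I ^ n • ⊤ : Submodule A M))),
        e ≫ (shiftFunctor (DerivedCategory (ModuleCat.{u} A)) p).map
          ((singleFunctor (ModuleCat.{u} A) 0).map
            (ModuleCat.ofHom (I ^ n • ⊤ : Submodule A M).subtype)) ∈
          (I ^ (n - c) • ⊤ : Submodule A (K ⟶
            (shiftFunctor (DerivedCategory (ModuleCat.{u} A)) p).obj
              ((singleFunctor (ModuleCat.{u} A) 0).obj (ModuleCat.of A M)))) := by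
  have := hfin (-p)
  have := hfree (-p)
  let Z : Submodule A (F.X (-p) →ₗ[A] M) := Zc F (ModuleCat.of A M) (-p)
  obtain ⟨c, hc⟩ := Ideal.exists_pow_inf_eq_pow_smul I Z
  refine ⟨c, fun n hn e => ?_⟩
  obtain ⟨ψn, rfl⟩ := cls_surjective F e₀ (ModuleCat.of A ↥(I ^ n • ⊤ : Submodule A M)) p (-p)
    (by lia) e
  let ψ : F.X (-p) →ₗ[A] M := (I ^ n • ⊤ : Submodule A M).subtype ∘ₗ ψn.1
  have hψZ : ψ ∈ Z := by
    change ψ ∘ₗ (F.d (-p - 1) (-p)).hom = 0
    have h0 : ψn.1 ∘ₗ (F.d (-p - 1) (-p)).hom = 0 := ψn.2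
    dsimp only [ψ]
    rw [LinearMap.comp_assoc, h0, LinearMap.comp_zero]
  have hψI : ψ ∈ (I ^ n • ⊤ : Submodule A (F.X (-p) →ₗ[A] M)) :=
    mem_smul_top_of_forall _ _ _ ψ (fun x => (ψn.1 x).2)
  have h1 : ψ ∈ I ^ (n - c) • (I ^ c • ⊤ ⊓ Z) := by
    rw [← hc n hn]
    exact ⟨hψI, hψZ⟩
  have h2 : ψ ∈ I ^ (n - c) • Z := Submodule.smul_mono le_rfl inf_le_right h1
  have h3 : (⟨ψ, hψZ⟩ : Z) ∈ (I ^ (n - c) • ⊤ : Submodule A Z) := by
    have h4 : Submodule.map Z.subtype (I ^ (n - c) • ⊤ : Submodule A Z) = I ^ (n - c) • Z := by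
      rw [Submodule.map_smul'', Submodule.map_subtype_top]
    rw [← h4] at h2
    obtain ⟨z, hz, hzψ⟩ := h2
    have : z = ⟨ψ, hψZ⟩ := Subtype.ext hzψ
    rw [← this]
    exact hz
  have h5 := cls_comp F e₀ (ModuleCat.of A ↥(I ^ n • ⊤ : Submodule A M)) p (-p) (by lia)
    (ModuleCat.ofHom (I ^ n • ⊤ : Submodule A M).subtype) ψn ⟨ψ, hψZ⟩ rfl
  rw [h5]
  have h6 : Submodule.map (cls F e₀ (ModuleCat.of A M) p (-p) (by lia))
      (I ^ (n - c) • ⊤ : Submodule A Z) ≤ I ^ (n - c) • ⊤ := by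
    rw [Submodule.map_smul'']
    exact Submodule.smul_mono le_rfl le_top
  exact h6 (Submodule.mem_map_of_mem h3)

end Groth.Agent.Lib.helper2.ExtAR
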