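import Mathlib

/-!
# Exactness of `Hom(K, -)` on shifted distinguished triangles (helper2)
-/

set_option autoImplicit false
set_option linter.unusedSectionVars false

namespace Groth.Agent.Lib.helper2.ShiftExact

open CategoryTheory CategoryTheory.Limits CategoryTheory.Pretriangulated

variable {D : Type*} [Category D] [Preadditive D] [HasZeroObject D] [HasShift D ℤ]
  [∀ n : ℤ, (shiftFunctor D n).Additive] [Pretriangulated D]

lemma coyoneda_exact₂_shift (T : Triangle D) (hT : T ∈ distTriang D) (n : ℤ) {K : D}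
    (e : K ⟶ (shiftFunctor D n).obj T.obj₂) (h : e ≫ (shiftFunctor D n).map T.mor₂ = 0) :
    ∃ e₁ : K ⟶ (shiftFunctor D n).obj T.obj₁, e = e₁ ≫ (shiftFunctor D n).map T.mor₁ := by
  have hT' := Triangle.shift_distinguished T hT n
  obtain ⟨g, hg⟩ := Triangle.coyoneda_exact₂ _ hT' e (by
    change e ≫ ((n.negOnePow : ℤ) • (shiftFunctor D n).map T.mor₂) = 0
    rw [Preadditive.comp_zsmul, h, smul_zero])
  let g' : K ⟶ (shiftFunctor D n).obj T.obj₁ := g
  have hg' : e = g' ≫ ((n.negOnePow : ℤ) • (shiftFunctor D n).map T.mor₁) := hg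
  refine ⟨(n.negOnePow : ℤ) • g', ?_⟩
  rw [hg', Preadditive.comp_zsmul, Preadditive.zsmul_comp]

lemma coyoneda_exact₃_shift (T : Triangle D) (hT : T ∈ distTriang D) (n : ℤ) {K : D}
    (e : K ⟶ (shiftFunctor D n).obj T.obj₃) (h : e ≫ (shiftFunctor D n).map T.mor₃ = 0) :
    ∃ e₂ : K ⟶ (shiftFunctor D n).obj T.obj₂, e = e₂ ≫ (shiftFunctor D n).map T.mor₂ := by
  have hT' := Triangle.shift_distinguished T hT n
  obtain ⟨g, hg⟩ := Triangle.coyoneda_exact₃ _ hT' e (by
    change e ≫ ((n.negOnePow : ℤ) • ((shiftFunctor D n).map T.mor₃ ≫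
      (shiftFunctorComm D 1 n).hom.app T.obj₁)) = 0
    rw [Preadditive.comp_zsmul, reassoc_of% h, zero_comp, smul_zero])
  let g' : K ⟶ (shiftFunctor D n).obj T.obj₂ := g
  have hg' : e = g' ≫ ((n.negOnePow : ℤ) • (shiftFunctor D n).map T.mor₂) := hg
  refine ⟨(n.negOnePow : ℤ) • g', ?_⟩
  rw [hg', Preadditive.comp_zsmul, Preadditive.zsmul_comp]

end Groth.Agent.Lib.helper2.ShiftExact
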