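import Mathlib
import Groth.Agent.Lib.helper2.ExtAR
import Groth.Agent.Lib.helper2.ShiftExact

/-!
# `Ext(K, M/N)` for submodules `N ≤ M`: long exact sequence consequences (helper2)
-/

set_option autoImplicit false
set_option linter.unusedSectionVars false

namespace Groth.Agent.Lib.helper2.ExtSys

open CategoryTheory CategoryTheory.Limits DerivedCategory
open Groth.Agent.Lib.helper2.ExtPC

universe u

attribute [local instance] HasDerivedCategory.standard

variable {A : Type u} [CommRing A]

/-- uniform torsion exponent for a finite module all of whose elements are `I`-power torsion -/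
lemma exists_pow_kill (I : Ideal A) (E : Type*) [AddCommGroup E] [Module A E] [Module.Finite A E]
    (h : ∀ e : E, ∃ n : ℕ, ∀ x ∈ I ^ n, x • e = 0) :
    ∃ N : ℕ, ∀ x ∈ I ^ N, ∀ e : E, x • e = 0 := by
  classical
  obtain ⟨s, hs⟩ := (Module.finite_def.1 (inferInstance : Module.Finite A E))
  choose n hn using h
  refine ⟨s.sup n, fun x hx e => ?_⟩
  have he : e ∈ Submodule.span A (s : Set E) := by rw [hs]; exact Submodule.mem_top
  induction he using Submodule.span_induction with
  | mem y hy =>
    exact hn y x (Ideal.pow_le_pow_right (Finset.le_sup (f := n) hy) hx)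
  | zero => exact smul_zero x
  | add y z _ _ hy hz => rw [smul_add, hy, hz, add_zero]
  | smul a y _ hy => rw [smul_comm, hy, smul_zero]

/-- `Hom(K, M[p])` is a finite module when `K` is pseudo-coherent and `M` finite (Noetherian) -/
lemma finite_hom [IsNoetherianRing A] (F : CochainComplex (ModuleCat.{u} A) ℤ) [F.IsKProjective]
    (hfin : ∀ i, Module.Finite A (F.X i)) (hfree : ∀ i, Module.Free A (F.X i))
    {K : DerivedCategory (ModuleCat.{u} A)} (e₀ : Q.obj F ≅ K)
    (M : Type u) [AddCommGroup M] [Module A M] [Module.Finite A M] (p : ℤ) :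
    Module.Finite A (K ⟶ (shiftFunctor (DerivedCategory (ModuleCat.{u} A)) p).obj
      ((singleFunctor (ModuleCat.{u} A) 0).obj (ModuleCat.of A M))) := by
  have := hfin (-p)
  have := hfree (-p)
  have : Module.Finite A (F.X (-p) →ₗ[A] M) := inferInstance
  have : IsNoetherian A (F.X (-p) →ₗ[A] M) := inferInstance
  have : Module.Finite A (Zc F (ModuleCat.of A M) (-p)) := inferInstance
  exact Module.Finite.of_surjective (cls F e₀ (ModuleCat.of A M) p (-p) (by lia))
    (cls_surjective F e₀ (ModuleCat.of A M) p (-p) (by lia))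

section Sub

variable {M : Type u} [AddCommGroup M] [Module A M]

/-- the short exact sequence `0 → N → M → M/N → 0` -/
noncomputable abbrev ses (N : Submodule A M) : ShortComplex (ModuleCat.{u} A) :=
  ShortComplex.mk (ModuleCat.ofHom (X := N) (Y := M) N.subtype)
    (ModuleCat.ofHom (X := M) (Y := M ⧸ N) N.mkQ) (by
      apply ModuleCat.hom_ext
      apply LinearMap.ext
      intro x
      change N.mkQ (N.subtype x) = 0
      rw [Submodule.mkQ_apply, Submodule.Quotient.mk_eq_zero]
      exact x.2)

lemma ses_shortExact (N : Submodule A M) : (ses N).ShortExact := by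
  have hex : (ses N).Exact := by
    rw [ShortComplex.moduleCat_exact_iff]
    intro x hx
    have hx' : N.mkQ x = 0 := hx
    rw [Submodule.mkQ_apply, Submodule.Quotient.mk_eq_zero] at hx'
    exact ⟨⟨x, hx'⟩, rfl⟩
  have : Mono (ses N).f := by
    rw [ModuleCat.mono_iff_injective]
    exact Subtype.val_injective
  have : Epi (ses N).g := by
    rw [ModuleCat.epi_iff_surjective]
    exact N.mkQ_surjective
  exact ShortComplex.ShortExact.mk hex

/-- the morphism of short exact sequences for `N' ≤ N` -/
noncomputable abbrev sesMap {N' N : Submodule A M} (h : N' ≤ N) : ses N' ⟶ ses N where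
  τ₁ := ModuleCat.ofHom (Submodule.inclusion h)
  τ₂ := 𝟙 _
  τ₃ := ModuleCat.ofHom (Submodule.mapQ N' N LinearMap.id h)
  comm₁₂ := by
    apply ModuleCat.hom_ext
    apply LinearMap.ext
    intro x
    rfl
  comm₂₃ := by
    apply ModuleCat.hom_ext
    apply LinearMap.ext
    intro x
    rfl

end Sub

section LES

variable {M : Type u} [AddCommGroup M] [Module A M] (K : DerivedCategory (ModuleCat.{u} A)) (i : ℤ)

/-- the comparison map `Hom(K, M[i]) → Hom(K, (M/N)[i])` -/
noncomputable def cmp (N : Submodule A M)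
    (e : K ⟶ (shiftFunctor (DerivedCategory (ModuleCat.{u} A)) i).obj
      ((singleFunctor (ModuleCat.{u} A) 0).obj (ModuleCat.of A M))) :
    K ⟶ (shiftFunctor (DerivedCategory (ModuleCat.{u} A)) i).obj
      ((singleFunctor (ModuleCat.{u} A) 0).obj (ModuleCat.of A (M ⧸ N))) :=
  e ≫ (shiftFunctor (DerivedCategory (ModuleCat.{u} A)) i).map
    ((singleFunctor (ModuleCat.{u} A) 0).map (ModuleCat.ofHom N.mkQ))

/-- the transition map `Hom(K, (M/N')[i]) → Hom(K, (M/N)[i])` for `N' ≤ N` -/
noncomputable def trans {N' N : Submodule A M} (h : N' ≤ N)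
    (e : K ⟶ (shiftFunctor (DerivedCategory (ModuleCat.{u} A)) i).obj
      ((singleFunctor (ModuleCat.{u} A) 0).obj (ModuleCat.of A (M ⧸ N')))) :
    K ⟶ (shiftFunctor (DerivedCategory (ModuleCat.{u} A)) i).obj
      ((singleFunctor (ModuleCat.{u} A) 0).obj (ModuleCat.of A (M ⧸ N))) :=
  e ≫ (shiftFunctor (DerivedCategory (ModuleCat.{u} A)) i).map
    ((singleFunctor (ModuleCat.{u} A) 0).map (ModuleCat.ofHom (Submodule.mapQ N' N LinearMap.id h)))

/-- if `Hom(K, N[i]) → Hom(K, M[i])` is zero, then `Hom(K, M[i]) → Hom(K, (M/N)[i])` is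
injective. -/
lemma cmp_injective (N : Submodule A M)
    (h : ∀ e₁ : K ⟶ (shiftFunctor (DerivedCategory (ModuleCat.{u} A)) i).obj
      ((singleFunctor (ModuleCat.{u} A) 0).obj (ModuleCat.of A N)),
      e₁ ≫ (shiftFunctor (DerivedCategory (ModuleCat.{u} A)) i).map
        ((singleFunctor (ModuleCat.{u} A) 0).map (ModuleCat.ofHom N.subtype)) = 0) :
    Function.Injective (cmp K i N) := by
  intro e e' hee'
  have h0 : (e - e') ≫ (shiftFunctor (DerivedCategory (ModuleCat.{u} A)) i).map
      ((singleFunctor (ModuleCat.{u} A) 0).map (ModuleCat.ofHom N.mkQ)) = 0 := by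
    rw [Preadditive.sub_comp, sub_eq_zero]
    exact hee'
  obtain ⟨e₁, he₁⟩ := ShiftExact.coyoneda_exact₂_shift _
    (ses_shortExact N).singleTriangle_distinguished i (e - e') h0
  have h1 : e - e' = 0 := by
    rw [he₁]
    exact h e₁
  exact sub_eq_zero.1 h1

/-- if `Hom(K, N'[i+1]) → Hom(K, N[i+1])` is zero, the image of
`Hom(K, (M/N')[i]) → Hom(K, (M/N)[i])` is contained in the image of `Hom(K, M[i])`. -/
lemma range_trans_subset {N' N : Submodule A M} (hN : N' ≤ N)
    (h : ∀ e₁ : K ⟶ (shiftFunctor (DerivedCategory (ModuleCat.{u} A)) (i + 1)).obj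
      ((singleFunctor (ModuleCat.{u} A) 0).obj (ModuleCat.of A N')),
      e₁ ≫ (shiftFunctor (DerivedCategory (ModuleCat.{u} A)) (i + 1)).map
        ((singleFunctor (ModuleCat.{u} A) 0).map (ModuleCat.ofHom (Submodule.inclusion hN))) = 0) :
    Set.range (trans K i hN) ⊆ Set.range (cmp K i N) := by
  rintro _ ⟨x, rfl⟩
  let D := DerivedCategory (ModuleCat.{u} A)
  let φ := ShortComplex.ShortExact.singleTriangle.map (ses_shortExact N') (ses_shortExact N)
    (sesMap hN)
  have hcomm : (ses_shortExact N').singleδ ≫ (shiftFunctor D (1 : ℤ)).map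
      ((singleFunctor (ModuleCat.{u} A) 0).map (ModuleCat.ofHom (Submodule.inclusion hN))) =
      (singleFunctor (ModuleCat.{u} A) 0).map
        (ModuleCat.ofHom (Submodule.mapQ N' N LinearMap.id hN)) ≫ (ses_shortExact N).singleδ :=
    φ.comm₃
  let α := shiftFunctorAdd' D 1 i (i + 1) (by lia)
  let f := (singleFunctor (ModuleCat.{u} A) 0).map (ModuleCat.ofHom (Submodule.inclusion hN))
  have hnat : (shiftFunctor D i).map ((shiftFunctor D (1 : ℤ)).map f) =
      α.inv.app _ ≫ (shiftFunctor D (i + 1)).map f ≫ α.hom.app _ := by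
    have := α.hom.naturality f
    dsimp at this
    rw [this, Iso.inv_hom_id_app_assoc]
  have e1 : (shiftFunctor D i).map ((singleFunctor (ModuleCat.{u} A) 0).map
        (ModuleCat.ofHom (Submodule.mapQ N' N LinearMap.id hN))) ≫
      (shiftFunctor D i).map (ses_shortExact N).singleδ =
      (shiftFunctor D i).map (ses_shortExact N').singleδ ≫
        (shiftFunctor D i).map ((shiftFunctor D (1 : ℤ)).map f) :=
    ((shiftFunctor D i).map_comp _ _).symm.trans
      ((congrArg (shiftFunctor D i).map hcomm.symm).trans ((shiftFunctor D i).map_comp _ _))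
  have e2 := h ((x ≫ (shiftFunctor D i).map (ses_shortExact N').singleδ) ≫ α.inv.app _)
  have h0 : trans K i hN x ≫ (shiftFunctor D i).map (ses_shortExact N).singleδ = 0 := by
    calc trans K i hN x ≫ (shiftFunctor D i).map (ses_shortExact N).singleδ
        = x ≫ ((shiftFunctor D i).map ((singleFunctor (ModuleCat.{u} A) 0).map
            (ModuleCat.ofHom (Submodule.mapQ N' N LinearMap.id hN))) ≫
            (shiftFunctor D i).map (ses_shortExact N).singleδ) := Category.assoc _ _ _
      _ = x ≫ ((shiftFunctor D i).map (ses_shortExact N').singleδ ≫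
            (shiftFunctor D i).map ((shiftFunctor D (1 : ℤ)).map f)) := by rw [e1]
      _ = (((x ≫ (shiftFunctor D i).map (ses_shortExact N').singleδ) ≫ α.inv.app _) ≫
            (shiftFunctor D (i + 1)).map f) ≫ α.hom.app _ := by
          rw [hnat]
          simp only [Category.assoc]
      _ = 0 := by rw [e2, zero_comp]
  obtain ⟨e₂, he₂⟩ := ShiftExact.coyoneda_exact₃_shift _
    (ses_shortExact N).singleTriangle_distinguished i (trans K i hN x) h0
  exact ⟨e₂, he₂.symm⟩

end LES

end Groth.Agent.Lib.helper2.ExtSys
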