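import Mathlib
import Groth.Agent.Lib.helper2.ProjAmp
import Groth.Agent.Lib.helper2.ShiftHom
import Groth.Agent.Lib.helper2.DerTrunc

/-!
# Vanishing of Hom in `D(R)` for rings of finite global dimension (helper2)
-/

set_option autoImplicit false
set_option linter.unusedSectionVars false

namespace Groth.Agent.Lib.helper2.GlDimHom

open CategoryTheory CategoryTheory.Limits CategoryTheory.Pretriangulated DerivedCategory

universe u

attribute [local instance] HasDerivedCategory.standard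

variable {R : Type u} [CommRing R] (d : ℕ)

lemma ht_single_of_pd (Y F : ModuleCat.{u} R) [HasProjectiveDimensionLT Y (d + 1)] (t : ℤ)
    (ht : (d : ℤ) < t) :
    ShiftHom.HT ((singleFunctor (ModuleCat.{u} R) 0).obj Y)
      ((singleFunctor (ModuleCat.{u} R) 0).obj F) t := by
  obtain ⟨m, rfl⟩ : ∃ m : ℕ, t = (m : ℤ) := ⟨t.toNat, by lia⟩
  intro ψ
  have hs : Subsingleton (Abelian.Ext Y F m) :=
    HasProjectiveDimensionLT.subsingleton Y (d + 1) m (by lia) F
  have h1 : (Abelian.Ext.homAddEquiv (X := Y) (Y := F) (n := m)).symm ψ = 0 :=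
    Subsingleton.elim _ _
  have h2 := congrArg (Abelian.Ext.homAddEquiv (X := Y) (Y := F) (n := m)) h1
  rw [AddEquiv.apply_symm_apply, map_zero] at h2
  exact h2

lemma hom_single_eq_zero_of_pd (Y F : ModuleCat.{u} R) [HasProjectiveDimensionLT Y (d + 1)]
    (n i : ℤ) (h : i + d < n)
    (ψ : (singleFunctor (ModuleCat.{u} R) n).obj Y ⟶ (singleFunctor (ModuleCat.{u} R) i).obj F) :
    ψ = 0 := by
  have h0 := ht_single_of_pd d Y F (n - i) (by lia)
  rw [← ShiftHom.ht_shift_left_iff (-n) (-i) (n - i) (by lia),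
    ← ShiftHom.ht_shift_iff (-i) 0 (-i) (by lia)] at h0
  have h1 := ShiftHom.ht_of_iso_left
    (((singleFunctors (ModuleCat.{u} R)).shiftIso (-n) n 0 (by lia)).app Y) h0
  have h2 := ShiftHom.ht_of_iso_right
    (((singleFunctors (ModuleCat.{u} R)).shiftIso (-i) i 0 (by lia)).app F) h1
  exact ShiftHom.ht_zero_iff.1 h2 ψ

variable (hgl : ∀ M : ModuleCat.{u} R, HasProjectiveDimensionLT M (d + 1))

include hgl

lemma ht_single (Y F : ModuleCat.{u} R) (t : ℤ) (ht : (d : ℤ) < t) :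
    ShiftHom.HT ((singleFunctor (ModuleCat.{u} R) 0).obj Y)
      ((singleFunctor (ModuleCat.{u} R) 0).obj F) t := by
  obtain ⟨m, rfl⟩ : ∃ m : ℕ, t = (m : ℤ) := ⟨t.toNat, by lia⟩
  intro ψ
  have := hgl Y
  have hs : Subsingleton (Abelian.Ext Y F m) :=
    HasProjectiveDimensionLT.subsingleton Y (d + 1) m (by lia) F
  have h1 : (Abelian.Ext.homAddEquiv (X := Y) (Y := F) (n := m)).symm ψ = 0 :=
    Subsingleton.elim _ _
  have h2 := congrArg (Abelian.Ext.homAddEquiv (X := Y) (Y := F) (n := m)) h1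
  rw [AddEquiv.apply_symm_apply, map_zero] at h2
  exact h2

lemma hom_single_eq_zero (Y F : ModuleCat.{u} R) (n i : ℤ) (h : i + d < n)
    (ψ : (singleFunctor (ModuleCat.{u} R) n).obj Y ⟶ (singleFunctor (ModuleCat.{u} R) i).obj F) :
    ψ = 0 := by
  have h0 := ht_single d hgl Y F (n - i) (by lia)
  rw [← ShiftHom.ht_shift_left_iff (-n) (-i) (n - i) (by lia),
    ← ShiftHom.ht_shift_iff (-i) 0 (-i) (by lia)] at h0
  have h1 := ShiftHom.ht_of_iso_left
    (((singleFunctors (ModuleCat.{u} R)).shiftIso (-n) n 0 (by lia)).app Y) h0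
  have h2 := ShiftHom.ht_of_iso_right
    (((singleFunctors (ModuleCat.{u} R)).shiftIso (-i) i 0 (by lia)).app F) h1
  exact ShiftHom.ht_zero_iff.1 h2 ψ

lemma exists_projective_single (Y : ModuleCat.{u} R) (n : ℤ) :
    ∃ P : CochainComplex (ModuleCat.{u} R) ℤ, (∀ i, Projective (P.X i)) ∧
      P.IsStrictlyGE (n - d) ∧ P.IsStrictlyLE n ∧
      Nonempty (Q.obj P ≅ (singleFunctor (ModuleCat.{u} R) n).obj Y) := by
  apply ProjAmp.forward
  intro F i hi ψ
  rcases hi with hi | hi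
  · exact hom_single_eq_zero d hgl Y F n i (by lia) ψ
  · exact TStructure.t.zero ψ n i hi

theorem hom_eq_zero (K L : DerivedCategory (ModuleCat.{u} R)) (k b : ℤ) [K.IsGE (k + 1)]
    [K.IsLE b] [L.IsLE (k - d)] (φ : K ⟶ L) : φ = 0 := by
  let PP : ObjectProperty (DerivedCategory (ModuleCat.{u} R)) :=
    fun X => ∀ φ : X ⟶ L, φ = 0
  have : PP.IsClosedUnderIsomorphisms := ⟨fun {X Y} e h φ => by
    have := h (e.hom ≫ φ)
    rw [← cancel_epi e.hom, this, comp_zero]⟩
  let P : ℤ → ObjectProperty (ModuleCat.{u} R) := fun n _ => k + 1 ≤ n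
  have : ∀ n, (P n).IsClosedUnderIsomorphisms := fun n => ⟨fun {X Y} _ h => h⟩
  have key : PP K := by
    apply DerTrunc.bounded_induction P PP ?_ ?_ ?_ K (k + 1) b ?_
    · intro X hX φ
      exact hX.eq_of_src _ _
    · intro T hT h1 h3 φ
      obtain ⟨ψ, hψ⟩ := Triangle.yoneda_exact₂ _ hT φ (h1 _)
      rw [hψ, h3 ψ, comp_zero]
    · intro n Y hn φ
      obtain ⟨Pc, hP, hge, hle, ⟨e⟩⟩ := exists_projective_single d hgl Y n
      have := ProjAmp.hom_eq_zero_of_isLE Pc (n - d) n (k - d) (by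
        have : k + 1 ≤ n := hn
        lia) hP L (e.hom ≫ φ)
      rw [← cancel_epi e.hom, this, comp_zero]
    · intro i hi _
      exact hi
  exact key φ

end Groth.Agent.Lib.helper2.GlDimHom
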