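import Mathlib
import Groth.Agent.Lib.helper2.GlDimHom
import Groth.Agent.Lib.helper2.ExtSys

/-!
# Artin–Rees for `Ext^p(M, N)` in the first variable (helper2)
-/

set_option autoImplicit false
set_option linter.unusedSectionVars false

namespace Groth.Agent.Lib.helper2.ExtARM

open CategoryTheory CategoryTheory.Limits DerivedCategory

universe u

attribute [local instance] HasDerivedCategory.standard


section Abstract

variable {D : Type*} [Category D] [HasShift D ℤ]

lemma shift_calc {Z₁ Z₃ Y₁ Y₃ V₁ W W' : D} (p q : ℤ)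
    (β : shiftFunctor D q ≅ shiftFunctor D p ⋙ shiftFunctor D (1 : ℤ))
    (δn : Z₃ ⟶ (shiftFunctor D (1 : ℤ)).obj Z₁) (δ : Y₃ ⟶ (shiftFunctor D (1 : ℤ)).obj Y₁)
    (a₁ : Z₁ ⟶ Y₁) (a₃ : Z₃ ⟶ Y₃)
    (hcomm : δn ≫ (shiftFunctor D (1 : ℤ)).map a₁ = a₃ ≫ δ)
    (e : Y₃ ⟶ (shiftFunctor D q).obj W) (g : (shiftFunctor D (1 : ℤ)).obj Y₁ ⟶ (shiftFunctor D q).obj W)
    (hg : e = δ ≫ g) (e₁ : Y₁ ⟶ (shiftFunctor D p).obj W)
    (hge : g = (shiftFunctor D (1 : ℤ)).map e₁ ≫ β.inv.app W)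
    (jj : Z₁ ⟶ V₁) (e₁' : V₁ ⟶ (shiftFunctor D p).obj W') (w : W' ⟶ W)
    (h5 : (jj ≫ e₁') ≫ (shiftFunctor D p).map w = a₁ ≫ e₁) :
    (δn ≫ (shiftFunctor D (1 : ℤ)).map (jj ≫ e₁') ≫ β.inv.app W') ≫ (shiftFunctor D q).map w =
      a₃ ≫ e := by
  have hnat : β.inv.app W' ≫ (shiftFunctor D q).map w =
      (shiftFunctor D (1 : ℤ)).map ((shiftFunctor D p).map w) ≫ β.inv.app W :=
    (β.inv.naturality w).symm
  rw [hg, hge]
  simp only [Category.assoc]
  rw [hnat, ← Category.assoc ((shiftFunctor D (1 : ℤ)).map (jj ≫ e₁')), ← Functor.map_comp, h5,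
    Functor.map_comp, Category.assoc, ← Category.assoc δn, hcomm, Category.assoc]

end Abstract

variable {A : Type u} [CommRing A] (I : Ideal A)

/-- `I^n X` -/
abbrev pw (X : Type u) [AddCommGroup X] [Module A X] (n : ℕ) : Submodule A X := I ^ n • ⊤

/-- the inclusion `I^n X → X` in `ModuleCat` -/
noncomputable abbrev ι (X : Type u) [AddCommGroup X] [Module A X] (n : ℕ) :
    ModuleCat.of A ↥(pw I X n) ⟶ ModuleCat.of A X := ModuleCat.ofHom (pw I X n).subtype

/-- a linear map restricted to `I^n`-multiples -/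
noncomputable def restr {X Y : Type u} [AddCommGroup X] [Module A X] [AddCommGroup Y] [Module A Y]
    (f : X →ₗ[A] Y) (n : ℕ) : ↥(pw I X n) →ₗ[A] ↥(pw I Y n) :=
  (f ∘ₗ (pw I X n).subtype).codRestrict (pw I Y n) (by
    intro x
    have h1 : Submodule.map f (pw I X n) ≤ pw I Y n := by
      rw [Submodule.map_smul'']
      exact Submodule.smul_mono le_rfl le_top
    exact h1 (Submodule.mem_map_of_mem x.2))

lemma subtype_comp_restr {X Y : Type u} [AddCommGroup X] [Module A X] [AddCommGroup Y]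
    [Module A Y] (f : X →ₗ[A] Y) (n : ℕ) :
    (pw I Y n).subtype ∘ₗ restr I f n = f ∘ₗ (pw I X n).subtype :=
  LinearMap.subtype_comp_codRestrict _ _ _

variable (N : Type u) [AddCommGroup N] [Module A N]

/-- the Artin–Rees property for `Ext^p(M, N)` -/
def QP (p : ℕ) (M : Type u) [AddCommGroup M] [Module A M] : Prop :=
  ∃ c : ℕ, ∀ n : ℕ, c ≤ n →
    ∀ e : (singleFunctor (ModuleCat.{u} A) 0).obj (ModuleCat.of A M) ⟶
      (shiftFunctor (DerivedCategory (ModuleCat.{u} A)) (p : ℤ)).obj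
        ((singleFunctor (ModuleCat.{u} A) 0).obj (ModuleCat.of A N)),
      ∃ k : ℕ, n - c ≤ k ∧
        ∃ e' : (singleFunctor (ModuleCat.{u} A) 0).obj (ModuleCat.of A ↥(pw I M n)) ⟶
          (shiftFunctor (DerivedCategory (ModuleCat.{u} A)) (p : ℤ)).obj
            ((singleFunctor (ModuleCat.{u} A) 0).obj (ModuleCat.of A ↥(pw I N k))),
          e' ≫ (shiftFunctor (DerivedCategory (ModuleCat.{u} A)) (p : ℤ)).map
              ((singleFunctor (ModuleCat.{u} A) 0).map (ι I N k)) =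
            (singleFunctor (ModuleCat.{u} A) 0).map (ι I M n) ≫ e

lemma qp_zero (M : Type u) [AddCommGroup M] [Module A M] : QP I N 0 M := by
  refine ⟨0, fun n _ e => ⟨n, by lia, ?_⟩⟩
  let D := DerivedCategory (ModuleCat.{u} A)
  let z := shiftFunctorZero D ℤ
  let XN : D := (singleFunctor (ModuleCat.{u} A) 0).obj (ModuleCat.of A N)
  let XNn : D := (singleFunctor (ModuleCat.{u} A) 0).obj (ModuleCat.of A ↥(pw I N n))
  obtain ⟨e₀, he₀⟩ := (singleFunctor (ModuleCat.{u} A) 0).map_surjective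
    (e ≫ z.hom.app XN)
  refine ⟨(singleFunctor (ModuleCat.{u} A) 0).map (ModuleCat.ofHom (restr I e₀.hom n)) ≫
    z.inv.app XNn, ?_⟩
  have hnat : (singleFunctor (ModuleCat.{u} A) 0).map (ι I N n) ≫ z.inv.app XN =
      z.inv.app XNn ≫ (shiftFunctor D (0 : ℤ)).map
        ((singleFunctor (ModuleCat.{u} A) 0).map (ι I N n)) :=
    z.inv.naturality ((singleFunctor (ModuleCat.{u} A) 0).map (ι I N n))
  have he : e = (singleFunctor (ModuleCat.{u} A) 0).map e₀ ≫ z.inv.app XN := by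
    rw [he₀, Category.assoc]
    have : z.hom.app XN ≫ z.inv.app XN = 𝟙 _ := Iso.hom_inv_id_app z XN
    rw [this]
    exact (Category.comp_id e).symm
  have hres : (singleFunctor (ModuleCat.{u} A) 0).map (ModuleCat.ofHom (restr I e₀.hom n)) ≫
      (singleFunctor (ModuleCat.{u} A) 0).map (ι I N n) =
      (singleFunctor (ModuleCat.{u} A) 0).map (ι I M n) ≫
        (singleFunctor (ModuleCat.{u} A) 0).map e₀ := by
    rw [← Functor.map_comp, ← Functor.map_comp]
    congr 1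
  calc ((singleFunctor (ModuleCat.{u} A) 0).map (ModuleCat.ofHom (restr I e₀.hom n)) ≫
        z.inv.app XNn) ≫ (shiftFunctor D (0 : ℤ)).map
          ((singleFunctor (ModuleCat.{u} A) 0).map (ι I N n))
      = (singleFunctor (ModuleCat.{u} A) 0).map (ModuleCat.ofHom (restr I e₀.hom n)) ≫
        (z.inv.app XNn ≫ (shiftFunctor D (0 : ℤ)).map
          ((singleFunctor (ModuleCat.{u} A) 0).map (ι I N n))) := Category.assoc _ _ _
    _ = (singleFunctor (ModuleCat.{u} A) 0).map (ModuleCat.ofHom (restr I e₀.hom n)) ≫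
        ((singleFunctor (ModuleCat.{u} A) 0).map (ι I N n) ≫ z.inv.app XN) := by rw [hnat]
    _ = ((singleFunctor (ModuleCat.{u} A) 0).map (ι I M n) ≫
        (singleFunctor (ModuleCat.{u} A) 0).map e₀) ≫ z.inv.app XN := by
      rw [← Category.assoc, hres]
    _ = (singleFunctor (ModuleCat.{u} A) 0).map (ι I M n) ≫ e := by
      rw [he, Category.assoc]

lemma qp_succ [IsNoetherianRing A] (p : ℕ)
    (hp : ∀ (M : Type u) [AddCommGroup M] [Module A M] [Module.Finite A M], QP I N p M)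
    (M : Type u) [AddCommGroup M] [Module A M] [Module.Finite A M] : QP I N (p + 1) M := by
  let D := DerivedCategory (ModuleCat.{u} A)
  let s0 := singleFunctor (ModuleCat.{u} A) 0
  obtain ⟨t, π, hπ⟩ := Module.Finite.exists_fin' A M
  let Kr : Submodule A (Fin t → A) := LinearMap.ker π
  let S : ShortComplex (ModuleCat.{u} A) :=
    ShortComplex.mk (ModuleCat.ofHom (X := Kr) (Y := Fin t → A) Kr.subtype)
      (ModuleCat.ofHom (X := Fin t → A) (Y := M) π) (by
        apply ModuleCat.hom_ext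
        apply LinearMap.ext
        intro x
        exact x.2)
  have hS : S.ShortExact := by
    have hex : S.Exact := by
      rw [ShortComplex.moduleCat_exact_iff]
      intro x hx
      exact ⟨⟨x, hx⟩, rfl⟩
    have : Mono S.f := by
      rw [ModuleCat.mono_iff_injective]
      exact Subtype.val_injective
    have : Epi S.g := by
      rw [ModuleCat.epi_iff_surjective]
      exact hπ
    exact ShortComplex.ShortExact.mk hex
  obtain ⟨c', hc'⟩ := hp ↥Kr
  obtain ⟨c, hc⟩ := Ideal.exists_pow_inf_eq_pow_smul I Kr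
  refine ⟨c + c', fun n hn e => ?_⟩
  -- the restricted sequence
  let πn : ↥(pw I (Fin t → A) n) →ₗ[A] ↥(pw I M n) := restr I π n
  have hπn : Function.Surjective πn := by
    intro y
    have h1 : (y : M) ∈ Submodule.map π (pw I (Fin t → A) n) := by
      rw [Submodule.map_smul'', Submodule.map_top, LinearMap.range_eq_top.2 hπ]
      exact y.2
    obtain ⟨x, hx, hxy⟩ := h1
    exact ⟨⟨x, hx⟩, Subtype.ext hxy⟩
  let Kn : Submodule A ↥(pw I (Fin t → A) n) := LinearMap.ker πn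
  let Sn : ShortComplex (ModuleCat.{u} A) :=
    ShortComplex.mk (ModuleCat.ofHom (X := Kn) (Y := ↥(pw I (Fin t → A) n)) Kn.subtype)
      (ModuleCat.ofHom (X := ↥(pw I (Fin t → A) n)) (Y := ↥(pw I M n)) πn) (by
        apply ModuleCat.hom_ext
        apply LinearMap.ext
        intro x
        exact x.2)
  have hSn : Sn.ShortExact := by
    have hex : Sn.Exact := by
      rw [ShortComplex.moduleCat_exact_iff]
      intro x hx
      exact ⟨⟨x, hx⟩, rfl⟩
    have : Mono Sn.f := by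
      rw [ModuleCat.mono_iff_injective]
      exact Subtype.val_injective
    have : Epi Sn.g := by
      rw [ModuleCat.epi_iff_surjective]
      exact hπn
    exact ShortComplex.ShortExact.mk hex
  have hτ : ∀ x : ↥Kn, ((pw I (Fin t → A) n).subtype ∘ₗ Kn.subtype) x ∈ Kr := by
    intro x
    have h1 : πn x.1 = 0 := x.2
    have h2 := congrArg Subtype.val h1
    exact h2
  let τ₁ : ↥Kn →ₗ[A] ↥Kr := ((pw I (Fin t → A) n).subtype ∘ₗ Kn.subtype).codRestrict Kr hτ
  let τ₁c : ModuleCat.of A ↥Kn ⟶ ModuleCat.of A ↥Kr := ModuleCat.ofHom τ₁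
  let φ : Sn ⟶ S :=
    { τ₁ := τ₁c
      τ₂ := ModuleCat.ofHom (pw I (Fin t → A) n).subtype
      τ₃ := ι I M n
      comm₁₂ := by
        apply ModuleCat.hom_ext
        apply LinearMap.ext
        intro x
        rfl
      comm₂₃ := by
        apply ModuleCat.hom_ext
        apply LinearMap.ext
        intro x
        rfl }
  have hcomm : hSn.singleδ ≫ (shiftFunctor D (1 : ℤ)).map (s0.map τ₁c) =
      s0.map (ι I M n) ≫ hS.singleδ :=
    (ShortComplex.ShortExact.singleTriangle.map hSn hS φ).comm₃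
  -- Artin–Rees: `Kn` maps into `I^(n-c) Kr`
  have hj : ∀ x : ↥Kn, τ₁ x ∈ pw I ↥Kr (n - c) := by
    intro x
    have h1 : ((τ₁ x : ↥Kr) : Fin t → A) ∈ I ^ n • ⊤ ⊓ Kr := ⟨x.1.2, (τ₁ x).2⟩
    rw [hc n (by lia)] at h1
    have h2 : ((τ₁ x : ↥Kr) : Fin t → A) ∈ I ^ (n - c) • Kr :=
      Submodule.smul_mono le_rfl inf_le_right h1
    have h3 : Submodule.map Kr.subtype (pw I ↥Kr (n - c)) = I ^ (n - c) • Kr := by
      rw [Submodule.map_smul'', Submodule.map_subtype_top]
    rw [← h3] at h2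
    obtain ⟨y, hy, hyx⟩ := h2
    have : y = τ₁ x := Subtype.ext hyx
    rw [← this]
    exact hy
  let j : ↥Kn →ₗ[A] ↥(pw I ↥Kr (n - c)) := τ₁.codRestrict _ hj
  have hjτ : (pw I ↥Kr (n - c)).subtype ∘ₗ j = τ₁ := LinearMap.subtype_comp_codRestrict _ _ _
  -- step 1 : `e` comes from `Ext^p(Kr, N)`
  have hproj : Projective (ModuleCat.of A (Fin t → A)) := by
    rw [← IsProjective.iff_projective]
    infer_instance
  have hpd : HasProjectiveDimensionLT (ModuleCat.of A (Fin t → A)) (0 + 1) :=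
    projective_iff_hasProjectiveDimensionLT_one.1 hproj
  have h0 : s0.map S.g ≫ e = 0 :=
    GlDimHom.ht_single_of_pd 0 (ModuleCat.of A (Fin t → A)) (ModuleCat.of A N)
      ((p + 1 : ℕ) : ℤ) (by positivity) _
  let XN : D := s0.obj (ModuleCat.of A N)
  obtain ⟨g, hg'⟩ : ∃ g : (shiftFunctor D (1 : ℤ)).obj (s0.obj (ModuleCat.of A ↥Kr)) ⟶
      (shiftFunctor D ((p + 1 : ℕ) : ℤ)).obj XN, e = hS.singleδ ≫ g :=
    Pretriangulated.Triangle.yoneda_exact₃ _ hS.singleTriangle_distinguished e h0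
  let β := shiftFunctorAdd' D (p : ℤ) 1 ((p + 1 : ℕ) : ℤ) (by push_cast; ring)
  obtain ⟨e₁, he₁⟩ : ∃ e₁ : s0.obj (ModuleCat.of A ↥Kr) ⟶ (shiftFunctor D (p : ℤ)).obj XN,
      (shiftFunctor D (1 : ℤ)).map e₁ = g ≫ β.hom.app XN :=
    (shiftFunctor D (1 : ℤ)).map_surjective (g ≫ β.hom.app XN)
  have hge : g = (shiftFunctor D (1 : ℤ)).map e₁ ≫ β.inv.app XN := by
    rw [he₁, Category.assoc]
    have : β.hom.app XN ≫ β.inv.app XN = 𝟙 _ := Iso.hom_inv_id_app β XN
    rw [this]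
    exact (Category.comp_id g).symm
  -- step 3 : induction hypothesis for `Kr`
  obtain ⟨k, hk, e₁', he₁'⟩ := hc' (n - c) (by lia) e₁
  refine ⟨k, by lia, ?_⟩
  let XNk : D := s0.obj (ModuleCat.of A ↥(pw I N k))
  refine ⟨hSn.singleδ ≫ (shiftFunctor D (1 : ℤ)).map (s0.map (ModuleCat.ofHom j) ≫ e₁') ≫
    β.inv.app XNk, ?_⟩
  refine shift_calc (D := DerivedCategory (ModuleCat.{u} A)) (W := XN) (W' := XNk) (V₁ := s0.obj (ModuleCat.of A ↥(pw I ↥Kr (n - c)))) (p : ℤ) ((p + 1 : ℕ) : ℤ) β hSn.singleδ hS.singleδ (s0.map τ₁c)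
    (s0.map (ι I M n)) hcomm e g hg' e₁ hge (s0.map (ModuleCat.ofHom j)) e₁' (s0.map (ι I N k)) ?_
  rw [Category.assoc, he₁', ← Category.assoc, ← Functor.map_comp, ← ModuleCat.ofHom_comp, hjτ]

theorem qp [IsNoetherianRing A] (p : ℕ) :
    ∀ (M : Type u) [AddCommGroup M] [Module A M] [Module.Finite A M], QP I N p M := by
  induction p with
  | zero => intro M _ _ _; exact qp_zero I N M
  | succ p ih => intro M _ _ _; exact qp_succ I N p ih M

end Groth.Agent.Lib.helper2.ExtARM
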