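import Mathlib

namespace Groth.Agent.Lib.helper2.ExtNat

open CategoryTheory CategoryTheory.Limits Abelian

universe w w' v v' u u'

variable {C : Type u} [Category.{v} C] [Abelian C] {D : Type u'} [Category.{v'} D] [Abelian D]
  [HasExt.{w} C] [HasExt.{w'} D]

theorem aux (G G' : C ⥤ D) [G.Additive] [G'.Additive]
    [PreservesFiniteLimits G] [PreservesFiniteColimits G]
    [PreservesFiniteLimits G'] [PreservesFiniteColimits G'] (τ : G ⟶ G')
    {S : ShortComplex C} (hS : S.ShortExact) {X : C} {n : ℕ} (y : Ext.{w} X S.X₃ n)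
    (ih : (y.mapExactFunctor G).comp (Ext.mk₀ (τ.app S.X₃)) (add_zero n) =
        (Ext.mk₀ (τ.app X)).comp (y.mapExactFunctor G') (zero_add n)) :
    ((y.comp hS.extClass rfl).mapExactFunctor G).comp (Ext.mk₀ (τ.app S.X₁)) (add_zero (n + 1)) =
        (Ext.mk₀ (τ.app X)).comp ((y.comp hS.extClass rfl).mapExactFunctor G') (zero_add (n + 1)) := by
  have hG := hS.map_of_exact G
  have hG' := hS.map_of_exact G'
  have hnat := ShortComplex.ShortExact.extClass_naturality hG hG' (S.mapNatTrans τ)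
  obtain ⟨EG, hEG⟩ : ∃ e : Ext.{w'} (G.obj S.X₃) (G.obj S.X₁) 1, e = hG.extClass := ⟨_, rfl⟩
  obtain ⟨EG', hEG'⟩ : ∃ e : Ext.{w'} (G'.obj S.X₃) (G'.obj S.X₁) 1, e = hG'.extClass := ⟨_, rfl⟩
  have h1 : hS.extClass.mapExactFunctor G = EG := by
    rw [hEG]; exact Ext.mapExactFunctor_extClass G hS
  have h1' : hS.extClass.mapExactFunctor G' = EG' := by
    rw [hEG']; exact Ext.mapExactFunctor_extClass G' hS
  have hnat' : EG.comp (Ext.mk₀ (τ.app S.X₁)) (add_zero 1) =
      (Ext.mk₀ (τ.app S.X₃)).comp EG' (zero_add 1) := by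
    rw [hEG, hEG']; exact hnat
  rw [Ext.mapExactFunctor_comp, Ext.mapExactFunctor_comp, h1, h1']
  rw [Ext.comp_assoc_of_third_deg_zero, hnat', ← Ext.comp_assoc_of_second_deg_zero, ih,
    Ext.comp_assoc _ _ _ (zero_add n) rfl (by omega)]

/-- Naturality of `Ext.mapExactFunctor` with respect to a natural transformation of exact functors. -/
theorem mapExactFunctor_naturality [EnoughInjectives C] (G G' : C ⥤ D) [G.Additive] [G'.Additive]
    [PreservesFiniteLimits G] [PreservesFiniteColimits G]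
    [PreservesFiniteLimits G'] [PreservesFiniteColimits G'] (τ : G ⟶ G') :
    ∀ (n : ℕ) {X Y : C} (x : Ext.{w} X Y n),
      (x.mapExactFunctor G).comp (Ext.mk₀ (τ.app Y)) (add_zero n) =
        (Ext.mk₀ (τ.app X)).comp (x.mapExactFunctor G') (zero_add n) := by
  intro n
  induction n with
  | zero =>
    intro X Y x
    obtain ⟨f, rfl⟩ := (Ext.mk₀_bijective X Y).2 x
    rw [Ext.mapExactFunctor_mk₀, Ext.mapExactFunctor_mk₀, Ext.mk₀_comp_mk₀, Ext.mk₀_comp_mk₀,
      τ.naturality]
  | succ n ih =>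
    intro X Y x
    -- embed Y into an injective
    let I := Injective.under Y
    let ι : Y ⟶ I := Injective.ι Y
    let S : ShortComplex C := ShortComplex.mk ι (cokernel.π ι) (cokernel.condition ι)
    have hS : S.ShortExact :=
      { exact := ShortComplex.exact_cokernel ι
        mono_f := inferInstanceAs (Mono ι)
        epi_g := inferInstanceAs (Epi (cokernel.π ι)) }
    have h0 : x.comp (Ext.mk₀ S.f) (add_zero (n + 1)) = 0 :=
      Ext.eq_zero_of_injective (I := I) _
    obtain ⟨y, rfl⟩ := Ext.covariant_sequence_exact₁ X hS x h0 (n₀ := n) rfl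
    exact aux G G' τ hS y (ih y)

theorem mapExactFunctor_id [EnoughInjectives C] :
    ∀ (n : ℕ) {X Y : C} (x : Ext.{w} X Y n), x.mapExactFunctor (𝟭 C) = x := by
  intro n
  induction n with
  | zero =>
    intro X Y x
    obtain ⟨f, rfl⟩ := (Ext.mk₀_bijective X Y).2 x
    rw [Ext.mapExactFunctor_mk₀]
    rfl
  | succ n ih =>
    intro X Y x
    let I := Injective.under Y
    let ι : Y ⟶ I := Injective.ι Y
    let S : ShortComplex C := ShortComplex.mk ι (cokernel.π ι) (cokernel.condition ι)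
    have hS : S.ShortExact :=
      { exact := ShortComplex.exact_cokernel ι
        mono_f := inferInstanceAs (Mono ι)
        epi_g := inferInstanceAs (Epi (cokernel.π ι)) }
    have h0 : x.comp (Ext.mk₀ S.f) (add_zero (n + 1)) = 0 :=
      Ext.eq_zero_of_injective (I := I) _
    obtain ⟨y, rfl⟩ := Ext.covariant_sequence_exact₁ X hS x h0 (n₀ := n) rfl
    rw [Ext.mapExactFunctor_comp, ih y]
    congr 1
    exact Ext.mapExactFunctor_extClass (𝟭 C) hS

section comp

universe w'' v'' u''

variable {E : Type u''} [Category.{v''} E] [Abelian E] [HasExt.{w''} E]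

theorem mapExactFunctor_comp_functor [EnoughInjectives C] (G₁ : C ⥤ D) (G₂ : D ⥤ E)
    [G₁.Additive] [G₂.Additive]
    [PreservesFiniteLimits G₁] [PreservesFiniteColimits G₁]
    [PreservesFiniteLimits G₂] [PreservesFiniteColimits G₂] :
    ∀ (n : ℕ) {X Y : C} (x : Ext.{w} X Y n),
      (x.mapExactFunctor G₁).mapExactFunctor G₂ = x.mapExactFunctor (G₁ ⋙ G₂) := by
  intro n
  induction n with
  | zero =>
    intro X Y x
    obtain ⟨f, rfl⟩ := (Ext.mk₀_bijective X Y).2 x
    rw [Ext.mapExactFunctor_mk₀, Ext.mapExactFunctor_mk₀, Ext.mapExactFunctor_mk₀]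
    rfl
  | succ n ih =>
    intro X Y x
    let I := Injective.under Y
    let ι : Y ⟶ I := Injective.ι Y
    let S : ShortComplex C := ShortComplex.mk ι (cokernel.π ι) (cokernel.condition ι)
    have hS : S.ShortExact :=
      { exact := ShortComplex.exact_cokernel ι
        mono_f := inferInstanceAs (Mono ι)
        epi_g := inferInstanceAs (Epi (cokernel.π ι)) }
    have h0 : x.comp (Ext.mk₀ S.f) (add_zero (n + 1)) = 0 :=
      Ext.eq_zero_of_injective (I := I) _
    obtain ⟨y, rfl⟩ := Ext.covariant_sequence_exact₁ X hS x h0 (n₀ := n) rfl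
    rw [Ext.mapExactFunctor_comp, Ext.mapExactFunctor_comp, Ext.mapExactFunctor_comp, ih y]
    congr 1
    have h1 : hS.extClass.mapExactFunctor G₁ = (hS.map_of_exact G₁).extClass :=
      Ext.mapExactFunctor_extClass G₁ hS
    have h2 : (hS.map_of_exact G₁).extClass.mapExactFunctor G₂ =
        ((hS.map_of_exact G₁).map_of_exact G₂).extClass :=
      Ext.mapExactFunctor_extClass G₂ (hS.map_of_exact G₁)
    have h3 : hS.extClass.mapExactFunctor (G₁ ⋙ G₂) = (hS.map_of_exact (G₁ ⋙ G₂)).extClass :=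
      Ext.mapExactFunctor_extClass (G₁ ⋙ G₂) hS
    rw [h3]
    refine Eq.trans ?_ h2
    exact congrArg (fun e => Ext.mapExactFunctor G₂ e) h1

end comp

end Groth.Agent.Lib.helper2.ExtNat
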