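import Mathlib
import Groth.Prelude.Def_FilD

set_option autoImplicit false
set_option linter.unusedSectionVars false
universe v u
open CategoryTheory Limits Opposite FilD

namespace Groth.Agent.Lib.helper2.FilDLib

variable {A : Type u} [Category.{v} A] [Abelian A]

/-- transition map `F q ⟶ F p` for `p ≤ q` -/
noncomputable def tr (F : ℤᵒᵖ ⥤ A) {p q : ℤ} (h : p ≤ q) : F.obj (op q) ⟶ F.obj (op p) := F.map (homOfLE h).op

lemma tr_refl (F : ℤᵒᵖ ⥤ A) (p : ℤ) : tr F (le_refl p) = 𝟙 _ := by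
  unfold tr
  have : (homOfLE (le_refl p)).op = 𝟙 (op p) := rfl
  rw [this, F.map_id]

lemma tr_comp (F : ℤᵒᵖ ⥤ A) {p q r : ℤ} (h : p ≤ q) (h' : q ≤ r) :
    tr F h' ≫ tr F h = tr F (h.trans h') := by
  unfold tr
  rw [← F.map_comp]
  rfl

lemma tr_naturality {F G : ℤᵒᵖ ⥤ A} (φ : F ⟶ G) {p q : ℤ} (h : p ≤ q) :
    φ.app (op q) ≫ tr G h = tr F h ≫ φ.app (op p) :=
  (φ.naturality _).symm

lemma step_eq (F : ℤᵒᵖ ⥤ A) (p : ℤ) :
    F.map (stepHom p) = tr F (Int.le_add_one le_rfl : p ≤ p + 1) := rfl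

lemma mono_tr {F : ℤᵒᵖ ⥤ A} (hF : IsFinFil A F) {p q : ℤ} (h : p ≤ q) : Mono (tr F h) := hF.1 _

/-- projection to the graded piece -/
noncomputable def grπ (F : ℤᵒᵖ ⥤ A) (p : ℤ) : F.obj (op p) ⟶ (gr A p).obj F := cokernel.π _

instance (F : ℤᵒᵖ ⥤ A) (p : ℤ) : Epi (grπ F p) := by unfold grπ; exact coequalizer.π_epi

lemma step_grπ (F : ℤᵒᵖ ⥤ A) (p : ℤ) : F.map (stepHom p) ≫ grπ F p = 0 := cokernel.condition _

lemma tr_grπ (F : ℤᵒᵖ ⥤ A) (p : ℤ) :
    tr F (Int.le_add_one le_rfl : p ≤ p + 1) ≫ grπ F p = 0 := step_grπ F p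

lemma grπ_naturality {F G : ℤᵒᵖ ⥤ A} (φ : F ⟶ G) (p : ℤ) :
    φ.app (op p) ≫ grπ G p = grπ F p ≫ (gr A p).map φ := by
  unfold grπ gr
  simp

lemma gr_exact (F : ℤᵒᵖ ⥤ A) (p : ℤ) :
    (ShortComplex.mk (F.map (stepHom p)) (grπ F p) (step_grπ F p)).Exact :=
  ShortComplex.exact_cokernel _

/-- an element of `F p` dying in `gr^p` comes from `F (p+1)` -/
lemma exists_lift_of_grπ_eq_zero (F : ℤᵒᵖ ⥤ A) (p : ℤ) {T : A} (x : T ⟶ F.obj (op p))
    (hx : x ≫ grπ F p = 0) :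
    ∃ (T' : A) (π : T' ⟶ T) (_ : Epi π) (x' : T' ⟶ F.obj (op (p + 1))),
      π ≫ x = x' ≫ tr F (Int.le_add_one le_rfl : p ≤ p + 1) :=
  (gr_exact F p).exact_up_to_refinements x hx

/-- elements of `gr^p` lift to `F p` -/
lemma exists_lift_grπ (F : ℤᵒᵖ ⥤ A) (p : ℤ) {T : A} (y : T ⟶ (gr A p).obj F) :
    ∃ (T' : A) (π : T' ⟶ T) (_ : Epi π) (x : T' ⟶ F.obj (op p)), π ≫ y = x ≫ grπ F p :=
  surjective_up_to_refinements_of_epi (grπ F p) y

section Sub

/-- a subobject all of whose "elements" lift along `f` is contained in the image of `f` -/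
lemma le_imageSubobject_of_refinement {X B : A} (f : X ⟶ B) (I : Subobject B)
    {T' : A} (π : T' ⟶ (I : A)) [Epi π] (y : T' ⟶ X) (h : π ≫ I.arrow = y ≫ f) :
    I ≤ imageSubobject f := by
  have sq : CommSq (y ≫ factorThruImageSubobject f) π (imageSubobject f).arrow I.arrow :=
    ⟨by rw [Category.assoc, imageSubobject_arrow_comp, h]⟩
  have : StrongEpi π := strongEpi_of_epi π
  exact Subobject.le_of_comm sq.lift sq.fac_right

/-- elements of the image lift up to refinement -/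
lemma exists_lift_of_factors_image {X B : A} (f : X ⟶ B) {T : A} (x : T ⟶ B)
    (hx : (imageSubobject f).Factors x) :
    ∃ (T' : A) (π : T' ⟶ T) (_ : Epi π) (y : T' ⟶ X), π ≫ x = y ≫ f := by
  obtain ⟨T', π, hπ, y, hy⟩ := surjective_up_to_refinements_of_epi (factorThruImageSubobject f)
    ((imageSubobject f).factorThru x hx)
  refine ⟨T', π, hπ, y, ?_⟩
  have := hy =≫ (imageSubobject f).arrow
  simpa only [Category.assoc, Subobject.factorThru_arrow, imageSubobject_arrow_comp] using this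

end Sub

/-- element form of strictness -/
lemma isStrict_iff {F G : FilF A} (φ : F ⟶ G) :
    IsStrict φ ↔ ∀ (p q : ℤ) (h : p ≤ q) (T : A) (x : T ⟶ F.obj.obj (op p))
      (z : T ⟶ G.obj.obj (op q)), x ≫ φ.hom.app (op p) = z ≫ tr G.obj h →
      ∃ (T' : A) (π : T' ⟶ T) (_ : Epi π) (x' : T' ⟶ F.obj.obj (op q)),
        π ≫ z = x' ≫ φ.hom.app (op q) := by
  constructor
  · intro hs p q h T x z hxz
    have hm : Mono (G.obj.map (homOfLE h).op) := G.property.1 _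
    have key := hs p q h
    -- the element x ≫ φ_p lies in both subobjects
    have h1 : (imageSubobject (φ.hom.app (op p))).Factors (x ≫ φ.hom.app (op p)) :=
      imageSubobject_factors_comp_self _ _
    have h2 : (@Subobject.mk _ _ _ _ (G.obj.map (homOfLE h).op) hm).Factors
        (x ≫ φ.hom.app (op p)) := by
      rw [hxz]
      exact Subobject.factors_of_factors_right _ (Subobject.mk_factors_self _)
    have h3 : (imageSubobject (φ.hom.app (op q) ≫ G.obj.map (homOfLE h).op)).Factors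
        (x ≫ φ.hom.app (op p)) := by
      rw [key]
      exact (Subobject.inf_factors _).mpr ⟨h1, h2⟩
    obtain ⟨T', π, hπ, y, hy⟩ := exists_lift_of_factors_image _ _ h3
    refine ⟨T', π, hπ, y, ?_⟩
    rw [← cancel_mono (G.obj.map (homOfLE h).op), Category.assoc, Category.assoc, ← hy, hxz]
    rfl
  · intro hs p q h
    have hm : Mono (G.obj.map (homOfLE h).op) := G.property.1 _
    apply le_antisymm
    · apply le_inf
      · refine imageSubobject_le _ (F.obj.map (homOfLE h).op ≫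
          factorThruImageSubobject (φ.hom.app (op p))) ?_
        rw [Category.assoc, imageSubobject_arrow_comp]
        exact φ.hom.naturality _
      · exact imageSubobject_le _ (φ.hom.app (op q) ≫ (Subobject.underlyingIso _).inv) (by simp)
    · set I := imageSubobject (φ.hom.app (op p)) ⊓
        @Subobject.mk _ _ _ _ (G.obj.map (homOfLE h).op) hm with hI
      let a₁ : (I : A) ⟶ (imageSubobject (φ.hom.app (op p)) : A) := Subobject.ofLE _ _ inf_le_left
      let a₂ : (I : A) ⟶ G.obj.obj (op q) :=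
        Subobject.ofLE _ _ inf_le_right ≫ (Subobject.underlyingIso _).hom
      have ha₁ : a₁ ≫ (imageSubobject (φ.hom.app (op p))).arrow = I.arrow := Subobject.ofLE_arrow _
      have ha₂ : a₂ ≫ G.obj.map (homOfLE h).op = I.arrow := by
        simp only [a₂, Category.assoc, Subobject.underlyingIso_hom_comp_eq_mk, Subobject.ofLE_arrow]
      obtain ⟨T, π₀, hπ₀, x, hx⟩ :=
        surjective_up_to_refinements_of_epi (factorThruImageSubobject (φ.hom.app (op p))) a₁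
      have hx' : x ≫ φ.hom.app (op p) = (π₀ ≫ a₂) ≫ tr G.obj h := by
        have := hx =≫ (imageSubobject (φ.hom.app (op p))).arrow
        simp only [Category.assoc, imageSubobject_arrow_comp, ha₁] at this
        rw [← this, Category.assoc]
        unfold tr
        rw [ha₂]
      obtain ⟨T', π, hπ, x', hx''⟩ := hs p q h T x (π₀ ≫ a₂) hx'
      have : Epi (π ≫ π₀) := epi_comp _ _
      refine le_imageSubobject_of_refinement _ I (π ≫ π₀) x' ?_
      calc (π ≫ π₀) ≫ I.arrow = (π ≫ π₀ ≫ a₂) ≫ G.obj.map (homOfLE h).op := by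
            rw [← ha₂]; simp only [Category.assoc]
        _ = x' ≫ φ.hom.app (op q) ≫ G.obj.map (homOfLE h).op := by
            rw [hx'', Category.assoc]


section S1085

variable (S : ShortComplex (FilF A))

lemma comp_app_eq_zero (p : ℤ) : S.f.hom.app (op p) ≫ S.g.hom.app (op p) = 0 := by
  have h := S.zero
  have h2 : (S.f ≫ S.g).hom = (0 : S.X₁ ⟶ S.X₃).hom := by rw [h]
  rw [ObjectProperty.FullSubcategory.comp_hom] at h2
  have h3 := congrArg (fun φ => φ.app (op p)) h2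
  dsimp at h3
  rw [h3]

variable (hS : ∀ p : ℤ, (S.map (grF A p)).Exact)

include hS in
/-- one step of the descending induction for levelwise exactness -/
lemma levelwise_step (p : ℤ)
    (hp : ∀ ⦃T : A⦄ (y : T ⟶ S.X₂.obj.obj (op (p + 1))), y ≫ S.g.hom.app (op (p + 1)) = 0 →
      ∃ (T' : A) (π : T' ⟶ T) (_ : Epi π) (x : T' ⟶ S.X₁.obj.obj (op (p + 1))),
        π ≫ y = x ≫ S.f.hom.app (op (p + 1)))
    ⦃T : A⦄ (y : T ⟶ S.X₂.obj.obj (op p)) (hy : y ≫ S.g.hom.app (op p) = 0) :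
    ∃ (T' : A) (π : T' ⟶ T) (_ : Epi π) (x : T' ⟶ S.X₁.obj.obj (op p)),
      π ≫ y = x ≫ S.f.hom.app (op p) := by
  have hle : p ≤ p + 1 := Int.le_add_one le_rfl
  -- class of y in gr^p Y is killed by gr g
  have h1 : (y ≫ grπ S.X₂.obj p) ≫ (S.map (grF A p)).g = 0 := by
    change (y ≫ grπ S.X₂.obj p) ≫ (gr A p).map S.g.hom = 0
    rw [Category.assoc, ← grπ_naturality, ← Category.assoc, hy, zero_comp]
  obtain ⟨T₁, π₁, hπ₁, ξ, hξ⟩ : ∃ (T₁ : A) (π₁ : T₁ ⟶ T) (_ : Epi π₁)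
      (ξ : T₁ ⟶ (gr A p).obj S.X₁.obj), π₁ ≫ y ≫ grπ S.X₂.obj p = ξ ≫ (gr A p).map S.f.hom :=
    (hS p).exact_up_to_refinements _ h1
  obtain ⟨T₂, π₂, hπ₂, x, hx⟩ := exists_lift_grπ S.X₁.obj p ξ
  -- y - f x lies in Y_{p+1}
  have h2 : (π₂ ≫ π₁ ≫ y - x ≫ S.f.hom.app (op p)) ≫ grπ S.X₂.obj p = 0 := by
    rw [Preadditive.sub_comp, Category.assoc, Category.assoc, hξ, Category.assoc, grπ_naturality,
      ← Category.assoc x, ← hx, Category.assoc]
    exact sub_self _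
  obtain ⟨T₃, π₃, hπ₃, y', hy'⟩ := exists_lift_of_grπ_eq_zero S.X₂.obj p _ h2
  -- y' is killed by g_{p+1}
  have hm : Mono (tr S.X₃.obj hle) := mono_tr S.X₃.property hle
  have h3 : y' ≫ S.g.hom.app (op (p + 1)) = 0 := by
    rw [← cancel_mono (tr S.X₃.obj hle), Category.assoc, tr_naturality, ← Category.assoc, ← hy',
      zero_comp, Category.assoc, Preadditive.sub_comp, Category.assoc, Category.assoc, hy,
      Category.assoc, comp_app_eq_zero, comp_zero, comp_zero, comp_zero, sub_self, comp_zero]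
  obtain ⟨T₄, π₄, hπ₄, x', hx'⟩ := hp y' h3
  refine ⟨T₄, π₄ ≫ π₃ ≫ π₂ ≫ π₁, epi_comp' hπ₄ (epi_comp' hπ₃ (epi_comp' hπ₂ hπ₁)),
    π₄ ≫ π₃ ≫ x + x' ≫ tr S.X₁.obj hle, ?_⟩
  have e1 : π₄ ≫ π₃ ≫ (π₂ ≫ π₁ ≫ y - x ≫ S.f.hom.app (op p)) =
      x' ≫ S.f.hom.app (op (p + 1)) ≫ tr S.X₂.obj hle := by
    rw [hy', ← Category.assoc π₄, hx', Category.assoc]
  rw [tr_naturality] at e1
  rw [Preadditive.add_comp, Category.assoc x', ← e1]
  simp only [Preadditive.comp_sub, Category.assoc]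
  abel

include hS in
lemma levelwise (p : ℤ) ⦃T : A⦄ (y : T ⟶ S.X₂.obj.obj (op p)) (hy : y ≫ S.g.hom.app (op p) = 0) :
    ∃ (T' : A) (π : T' ⟶ T) (_ : Epi π) (x : T' ⟶ S.X₁.obj.obj (op p)),
      π ≫ y = x ≫ S.f.hom.app (op p) := by
  obtain ⟨b, hb⟩ := S.X₂.property.2.1
  -- statement for p = b - n
  have key : ∀ (n : ℕ) ⦃T : A⦄ (y : T ⟶ S.X₂.obj.obj (op (b - n)))
      (_ : y ≫ S.g.hom.app (op (b - n)) = 0),
      ∃ (T' : A) (π : T' ⟶ T) (_ : Epi π) (x : T' ⟶ S.X₁.obj.obj (op (b - n))),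
        π ≫ y = x ≫ S.f.hom.app (op (b - n)) := by
    intro n
    induction n with
    | zero =>
      intro T y _
      have hz : IsZero (S.X₂.obj.obj (op (b - (0 : ℕ)))) := hb _ (by simp)
      exact ⟨T, 𝟙 T, inferInstance, 0, hz.eq_of_tgt _ _⟩
    | succ n ih =>
      intro T y hy
      have e : b - (n : ℤ) = (b - ((n + 1 : ℕ) : ℤ)) + 1 := by push_cast; ring
      have ih' : ∀ ⦃T : A⦄ (y : T ⟶ S.X₂.obj.obj (op ((b - ((n + 1 : ℕ) : ℤ)) + 1))),
          y ≫ S.g.hom.app (op ((b - ((n + 1 : ℕ) : ℤ)) + 1)) = 0 →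
          ∃ (T' : A) (π : T' ⟶ T) (_ : Epi π)
            (x : T' ⟶ S.X₁.obj.obj (op ((b - ((n + 1 : ℕ) : ℤ)) + 1))),
            π ≫ y = x ≫ S.f.hom.app (op ((b - ((n + 1 : ℕ) : ℤ)) + 1)) := by
        rw [← e]
        exact ih
      exact levelwise_step S hS _ ih' y hy
  by_cases hpb : b ≤ p
  · have hz : IsZero (S.X₂.obj.obj (op p)) := hb _ hpb
    exact ⟨T, 𝟙 T, inferInstance, 0, hz.eq_of_tgt _ _⟩
  · have e : p = b - ((b - p).toNat : ℤ) := by
      rw [Int.toNat_of_nonneg (by omega)]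
      ring
    revert y
    rw [e]
    intro y hy
    exact key _ y hy

include hS in
theorem levelwise_exact (p : ℤ) :
    (S.map ((IsFinFil A).ι ⋙ (evaluation ℤᵒᵖ A).obj (op p))).Exact := by
  rw [ShortComplex.exact_iff_exact_up_to_refinements]
  intro T y hy
  exact levelwise S hS p y hy

include hS in
theorem isStrict_f : IsStrict S.f := by
  rw [isStrict_iff]
  intro p q h T x z hxz
  have hm : Mono (tr S.X₃.obj h) := mono_tr S.X₃.property h
  have hz : z ≫ S.g.hom.app (op q) = 0 := by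
    rw [← cancel_mono (tr S.X₃.obj h), Category.assoc, tr_naturality, ← Category.assoc, ← hxz,
      Category.assoc, comp_app_eq_zero, comp_zero, zero_comp]
  exact levelwise S hS q z hz

include hS in
lemma isStrict_g_step (p : ℤ) ⦃T : A⦄ (y : T ⟶ S.X₂.obj.obj (op p))
    (z : T ⟶ S.X₃.obj.obj (op (p + 1)))
    (hyz : y ≫ S.g.hom.app (op p) = z ≫ tr S.X₃.obj (Int.le_add_one le_rfl : p ≤ p + 1)) :
    ∃ (T' : A) (π : T' ⟶ T) (_ : Epi π) (y' : T' ⟶ S.X₂.obj.obj (op (p + 1))),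
      π ≫ z = y' ≫ S.g.hom.app (op (p + 1)) := by
  have hle : p ≤ p + 1 := Int.le_add_one le_rfl
  have h1 : (y ≫ grπ S.X₂.obj p) ≫ (S.map (grF A p)).g = 0 := by
    change (y ≫ grπ S.X₂.obj p) ≫ (gr A p).map S.g.hom = 0
    rw [Category.assoc, ← grπ_naturality, ← Category.assoc, hyz, Category.assoc, tr_grπ, comp_zero]
  obtain ⟨T₁, π₁, hπ₁, ξ, hξ⟩ : ∃ (T₁ : A) (π₁ : T₁ ⟶ T) (_ : Epi π₁)
      (ξ : T₁ ⟶ (gr A p).obj S.X₁.obj), π₁ ≫ y ≫ grπ S.X₂.obj p = ξ ≫ (gr A p).map S.f.hom :=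
    (hS p).exact_up_to_refinements _ h1
  obtain ⟨T₂, π₂, hπ₂, x, hx⟩ := exists_lift_grπ S.X₁.obj p ξ
  have h2 : (π₂ ≫ π₁ ≫ y - x ≫ S.f.hom.app (op p)) ≫ grπ S.X₂.obj p = 0 := by
    rw [Preadditive.sub_comp, Category.assoc, Category.assoc, hξ, Category.assoc, grπ_naturality,
      ← Category.assoc x, ← hx, Category.assoc]
    exact sub_self _
  obtain ⟨T₃, π₃, hπ₃, y', hy'⟩ := exists_lift_of_grπ_eq_zero S.X₂.obj p _ h2
  have hm : Mono (tr S.X₃.obj hle) := mono_tr S.X₃.property hle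
  refine ⟨T₃, π₃ ≫ π₂ ≫ π₁, epi_comp' hπ₃ (epi_comp' hπ₂ hπ₁), y', ?_⟩
  rw [← cancel_mono (tr S.X₃.obj hle), Category.assoc y', tr_naturality, ← Category.assoc y', ← hy']
  simp only [Category.assoc, Preadditive.sub_comp, Preadditive.comp_sub, comp_app_eq_zero,
    comp_zero, sub_zero, hyz]

include hS in
theorem isStrict_g : IsStrict S.g := by
  rw [isStrict_iff]
  intro p q h
  -- induction on q - p
  have key : ∀ (n : ℕ) (q : ℤ) (_ : q = p + n) (h : p ≤ q) (T : A)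
      (y : T ⟶ S.X₂.obj.obj (op p)) (z : T ⟶ S.X₃.obj.obj (op q))
      (_ : y ≫ S.g.hom.app (op p) = z ≫ tr S.X₃.obj h),
      ∃ (T' : A) (π : T' ⟶ T) (_ : Epi π) (y' : T' ⟶ S.X₂.obj.obj (op q)),
        π ≫ z = y' ≫ S.g.hom.app (op q) := by
    intro n
    induction n with
    | zero =>
      intro q hq h T y z hyz
      obtain rfl : q = p := by simpa using hq
      rw [tr_refl, Category.comp_id] at hyz
      exact ⟨T, 𝟙 T, inferInstance, y, by rw [Category.id_comp, hyz]⟩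
    | succ n ih =>
      intro q hq h T y z hyz
      obtain rfl : q = (p + n) + 1 := by push_cast at hq; omega
      have hle : p + (n : ℤ) ≤ p + n + 1 := Int.le_add_one le_rfl
      have hpn : p ≤ p + (n : ℤ) := by omega
      have h1 : y ≫ S.g.hom.app (op p) = (z ≫ tr S.X₃.obj hle) ≫ tr S.X₃.obj hpn := by
        rw [Category.assoc, tr_comp]
        exact hyz
      obtain ⟨T₁, π₁, hπ₁, y₁, hy₁⟩ := ih (p + n) rfl hpn T y (z ≫ tr S.X₃.obj hle) h1
      have h2 : y₁ ≫ S.g.hom.app (op (p + n)) = (π₁ ≫ z) ≫ tr S.X₃.obj hle := by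
        rw [← hy₁, Category.assoc]
      obtain ⟨T₂, π₂, hπ₂, y₂, hy₂⟩ := isStrict_g_step S hS (p + n) y₁ (π₁ ≫ z) h2
      exact ⟨T₂, π₂ ≫ π₁, epi_comp' hπ₂ hπ₁, y₂, by rw [Category.assoc, hy₂]⟩
  intro T y z hyz
  have e : q = p + ((q - p).toNat : ℤ) := by
    rw [Int.toNat_of_nonneg (by omega)]
    ring
  exact key (q - p).toNat q e h T y z hyz

end S1085

end Groth.Agent.Lib.helper2.FilDLib
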