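import Mathlib
import Groth.Agent.Lib.helper2.FilDLib

set_option autoImplicit false
set_option linter.unusedSectionVars false
universe v u
open CategoryTheory Limits Opposite FilD
open Groth.Agent.Lib.helper2.FilDLib

namespace Groth.Agent.Lib.helper2.FilDBiprod

variable {A : Type u} [Category.{v} A] [Abelian A]

lemma mono_biprod_map {X Y X' Y' : A} (f : X ⟶ X') (g : Y ⟶ Y') [Mono f] [Mono g] :
    Mono (biprod.map f g) := by
  apply Preadditive.mono_of_cancel_zero
  intro P h hh
  apply biprod.hom_ext
  · have := hh =≫ biprod.fst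
    rw [Category.assoc, biprod.map_fst, zero_comp, ← Category.assoc] at this
    rw [zero_comp]
    exact zero_of_comp_mono f this
  · have := hh =≫ biprod.snd
    rw [Category.assoc, biprod.map_snd, zero_comp, ← Category.assoc] at this
    rw [zero_comp]
    exact zero_of_comp_mono g this

lemma isZero_biprod {X Y : A} (hX : IsZero X) (hY : IsZero Y) : IsZero (X ⊞ Y) := by
  rw [IsZero.iff_id_eq_zero]
  apply biprod.hom_ext
  · exact hX.eq_of_tgt _ _
  · exact hY.eq_of_tgt _ _

lemma isIso_biprod_map {X Y X' Y' : A} (f : X ⟶ X') (g : Y ⟶ Y') [IsIso f] [IsIso g] :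
    IsIso (biprod.map f g) :=
  inferInstanceAs (IsIso (biprod.mapIso (asIso f) (asIso g)).hom)

/-- pointwise biproduct of functors -/
noncomputable def biprodFun (F G : ℤᵒᵖ ⥤ A) : ℤᵒᵖ ⥤ A where
  obj k := F.obj k ⊞ G.obj k
  map f := biprod.map (F.map f) (G.map f)
  map_id k := by
    apply biprod.hom_ext <;> simp
  map_comp f g := by
    apply biprod.hom_ext <;> simp

lemma isFinFil_biprodFun {F G : ℤᵒᵖ ⥤ A} (hF : IsFinFil A F) (hG : IsFinFil A G) :
    IsFinFil A (biprodFun F G) := by
  obtain ⟨hF1, ⟨b₁, hb₁⟩, ⟨a₁, ha₁⟩⟩ := hF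
  obtain ⟨hG1, ⟨b₂, hb₂⟩, ⟨a₂, ha₂⟩⟩ := hG
  refine ⟨?_, ⟨max b₁ b₂, ?_⟩, ⟨min a₁ a₂, ?_⟩⟩
  · intro p q f
    have := hF1 f
    have := hG1 f
    exact mono_biprod_map _ _
  · intro p hp
    exact isZero_biprod (hb₁ p (le_trans (le_max_left _ _) hp)) (hb₂ p (le_trans (le_max_right _ _) hp))
  · intro p q f hp
    have := ha₁ f (le_trans hp (min_le_left _ _))
    have := ha₂ f (le_trans hp (min_le_right _ _))
    exact isIso_biprod_map _ _

/-- the biproduct object in `FilF A` -/
noncomputable def biprodObj (X Y : FilF A) : FilF A :=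
  ⟨biprodFun X.obj Y.obj, isFinFil_biprodFun X.property Y.property⟩

noncomputable def bicone (X Y : FilF A) : BinaryBicone X Y where
  pt := biprodObj X Y
  fst := ObjectProperty.homMk
    { app := fun _ => biprod.fst
      naturality := by intro p q f; exact biprod.map_fst _ _ }
  snd := ObjectProperty.homMk
    { app := fun _ => biprod.snd
      naturality := by intro p q f; exact biprod.map_snd _ _ }
  inl := ObjectProperty.homMk
    { app := fun _ => biprod.inl
      naturality := by intro p q f; exact (biprod.inl_map _ _).symm }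
  inr := ObjectProperty.homMk
    { app := fun _ => biprod.inr
      naturality := by intro p q f; exact (biprod.inr_map _ _).symm }
  inl_fst := by
    apply ObjectProperty.hom_ext
    ext k
    exact biprod.inl_fst
  inl_snd := by
    apply ObjectProperty.hom_ext
    ext k
    exact biprod.inl_snd
  inr_fst := by
    apply ObjectProperty.hom_ext
    ext k
    exact biprod.inr_fst
  inr_snd := by
    apply ObjectProperty.hom_ext
    ext k
    exact biprod.inr_snd

instance hasBinaryBiproducts : HasBinaryBiproducts (FilF A) :=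
  HasBinaryBiproducts.mk fun X Y => HasBinaryBiproduct.mk
    ⟨bicone X Y, isBinaryBilimitOfTotal _ (by
      apply ObjectProperty.hom_ext
      ext k
      exact biprod.total)⟩

end Groth.Agent.Lib.helper2.FilDBiprod
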