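import Mathlib
import Groth.Agent.Lib.helper2.FilDLib

set_option autoImplicit false
set_option linter.unusedSectionVars false
universe w v u
open CategoryTheory Limits Opposite FilD
open Groth.Agent.Lib.helper2.FilDLib

namespace Groth.Agent.Lib.helper2.FilDCoker

variable {A : Type u} [Category.{v} A] [Abelian A]

variable {X Y : FilF A} (f : X ⟶ Y)

/-- levelwise cokernel -/
noncomputable def cokerFun : ℤᵒᵖ ⥤ A where
  obj q := cokernel (f.hom.app q)
  map {q p} g := cokernel.map _ _ (X.obj.map g) (Y.obj.map g) (f.hom.naturality g).symm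
  map_id q := by
    apply coequalizer.hom_ext
    simp
  map_comp g h := by
    apply coequalizer.hom_ext
    simp

/-- projection to the levelwise cokernel -/
noncomputable def cokerπ : Y.obj ⟶ cokerFun f where
  app q := cokernel.π (f.hom.app q)
  naturality q p g := by
    dsimp [cokerFun]
    simp

lemma cokerπ_app (q : ℤᵒᵖ) : (cokerπ f).app q = cokernel.π (f.hom.app q) := rfl

lemma comp_cokerπ (q : ℤ) : f.hom.app (op q) ≫ (cokerπ f).app (op q) = 0 :=
  cokernel.condition _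

instance (q : ℤᵒᵖ) : Epi ((cokerπ f).app q) := by
  rw [cokerπ_app]; exact coequalizer.π_epi

lemma tr_cokerFun_π {p q : ℤ} (h : p ≤ q) :
    (cokerπ f).app (op q) ≫ tr (cokerFun f) h = tr Y.obj h ≫ (cokerπ f).app (op p) :=
  tr_naturality (cokerπ f) h

/-- exactness at the middle, elementwise -/
lemma exists_lift_of_comp_cokerπ_eq_zero (q : ℤ) {T : A} (y : T ⟶ Y.obj.obj (op q))
    (hy : y ≫ (cokerπ f).app (op q) = 0) :
    ∃ (T' : A) (π : T' ⟶ T) (_ : Epi π) (x : T' ⟶ X.obj.obj (op q)),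
      π ≫ y = x ≫ f.hom.app (op q) :=
  (ShortComplex.exact_cokernel (f.hom.app (op q))).exact_up_to_refinements y hy

lemma isFinFil_cokerFun (hf : IsStrict f) : IsFinFil A (cokerFun f) := by
  obtain ⟨-, ⟨b₁, hb₁⟩, ⟨a₁, ha₁⟩⟩ := X.property
  obtain ⟨-, ⟨b₂, hb₂⟩, ⟨a₂, ha₂⟩⟩ := Y.property
  refine ⟨?_, ⟨b₂, ?_⟩, ⟨min a₁ a₂, ?_⟩⟩
  · intro q' p' g
    obtain ⟨q⟩ := q'
    obtain ⟨p⟩ := p'
    have h : p ≤ q := leOfHom g.unop
    have hg : g = (homOfLE h).op := Subsingleton.elim _ _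
    rw [hg]
    change Mono (tr (cokerFun f) h)
    apply Preadditive.mono_of_cancel_zero
    intro T c hc
    obtain ⟨T₁, π₁, hπ₁, y, hy⟩ := surjective_up_to_refinements_of_epi ((cokerπ f).app (op q)) c
    have h1 : (y ≫ tr Y.obj h) ≫ (cokerπ f).app (op p) = 0 := by
      rw [Category.assoc, ← tr_cokerFun_π, ← Category.assoc, ← hy, Category.assoc, hc, comp_zero]
    obtain ⟨T₂, π₂, hπ₂, x, hx⟩ := exists_lift_of_comp_cokerπ_eq_zero f p _ h1
    obtain ⟨T₃, π₃, hπ₃, x', hx'⟩ := (isStrict_iff f).mp hf p q h T₂ x (π₂ ≫ y)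
      (by rw [← hx, Category.assoc])
    have h2 : (π₃ ≫ π₂ ≫ π₁) ≫ c = 0 := by
      have e : (π₃ ≫ π₂ ≫ π₁) ≫ c = (π₃ ≫ π₂ ≫ y) ≫ (cokerπ f).app (op q) := by
        simp only [Category.assoc, hy]
      rw [e, hx', Category.assoc, comp_cokerπ, comp_zero]
    have : Epi (π₃ ≫ π₂ ≫ π₁) := epi_comp' hπ₃ (epi_comp' hπ₂ hπ₁)
    rw [← cancel_epi (π₃ ≫ π₂ ≫ π₁), h2, comp_zero]
  · intro p hp
    rw [IsZero.iff_id_eq_zero, ← cancel_epi ((cokerπ f).app (op p)), comp_zero, Category.comp_id]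
    exact (hb₂ p hp).eq_of_src _ _
  · intro q p g hq
    have h1 : IsIso (X.obj.map g) := ha₁ g (le_trans hq (min_le_left _ _))
    have h2 : IsIso (Y.obj.map g) := ha₂ g (le_trans hq (min_le_right _ _))
    refine ⟨cokernel.map _ _ (inv (X.obj.map g)) (inv (Y.obj.map g)) ?_, ?_, ?_⟩
    · rw [IsIso.comp_inv_eq, Category.assoc, ← f.hom.naturality g, IsIso.inv_hom_id_assoc]
    · apply coequalizer.hom_ext
      simp [cokerFun]
    · apply coequalizer.hom_ext
      simp [cokerFun]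

/-- the cokernel object of a strict morphism -/
noncomputable def cokerObj (hf : IsStrict f) : FilF A := ⟨cokerFun f, isFinFil_cokerFun f hf⟩

/-- the projection -/
noncomputable def cokerProj (hf : IsStrict f) : Y ⟶ cokerObj f hf := ObjectProperty.homMk (cokerπ f)

lemma comp_cokerProj (hf : IsStrict f) : f ≫ cokerProj f hf = 0 := by
  apply ObjectProperty.hom_ext
  ext q
  exact cokernel.condition _

section Gr

variable (hf : IsStrict f) (hm : ∀ q : ℤ, Mono (f.hom.app (op q)))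

include hf hm in
lemma mono_gr_of_strict_mono (p : ℤ) : Mono ((grF A p).map f) := by
  have hle : p ≤ p + 1 := Int.le_add_one le_rfl
  apply Preadditive.mono_of_cancel_zero
  intro T ξ hξ
  change ξ ≫ (gr A p).map f.hom = 0 at hξ
  obtain ⟨T₁, π₁, hπ₁, x, hx⟩ := exists_lift_grπ X.obj p ξ
  have h1 : (x ≫ f.hom.app (op p)) ≫ grπ Y.obj p = 0 := by
    rw [Category.assoc, grπ_naturality, ← Category.assoc, ← hx, Category.assoc, hξ, comp_zero]
  obtain ⟨T₂, π₂, hπ₂, y, hy⟩ := exists_lift_of_grπ_eq_zero Y.obj p _ h1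
  obtain ⟨T₃, π₃, hπ₃, x', hx'⟩ := (isStrict_iff f).mp hf p (p + 1) hle T₂ (π₂ ≫ x) y
    (by rw [Category.assoc, hy])
  have := hm p
  have h2 : π₃ ≫ π₂ ≫ x = x' ≫ tr X.obj hle := by
    rw [← cancel_mono (f.hom.app (op p)), Category.assoc, Category.assoc, Category.assoc,
      ← tr_naturality, ← Category.assoc x', ← hx', Category.assoc, hy]
  have h3 : (π₃ ≫ π₂ ≫ π₁) ≫ ξ = 0 := by
    have e : (π₃ ≫ π₂ ≫ π₁) ≫ ξ = (π₃ ≫ π₂ ≫ x) ≫ grπ X.obj p := by
      simp only [Category.assoc, hx]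
    rw [e, h2, Category.assoc, tr_grπ, comp_zero]
  have : Epi (π₃ ≫ π₂ ≫ π₁) := epi_comp' hπ₃ (epi_comp' hπ₂ hπ₁)
  rw [← cancel_epi (π₃ ≫ π₂ ≫ π₁), h3, comp_zero]

include hf in
lemma epi_gr_cokerProj (p : ℤ) : Epi ((grF A p).map (cokerProj f hf)) := by
  change Epi ((gr A p).map (cokerπ f))
  have h := grπ_naturality (cokerπ f) p
  have : Epi ((cokerπ f).app (op p) ≫ grπ (cokerFun f) p) := epi_comp _ _
  rw [h] at this
  exact epi_of_epi (grπ Y.obj p) _

include hf in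
lemma exact_gr_coker (p : ℤ) :
    (ShortComplex.mk ((grF A p).map f) ((grF A p).map (cokerProj f hf))
      (by rw [← Functor.map_comp, comp_cokerProj, Functor.map_zero])).Exact := by
  have hle : p ≤ p + 1 := Int.le_add_one le_rfl
  rw [ShortComplex.exact_iff_exact_up_to_refinements]
  intro T η hη
  change η ≫ (gr A p).map (cokerπ f) = 0 at hη
  change ∃ (T' : A) (π : T' ⟶ T) (_ : Epi π) (ξ : T' ⟶ (gr A p).obj X.obj),
    π ≫ η = ξ ≫ (gr A p).map f.hom
  obtain ⟨T₁, π₁, hπ₁, y, hy⟩ := exists_lift_grπ Y.obj p η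
  have h1 : (y ≫ (cokerπ f).app (op p)) ≫ grπ (cokerFun f) p = 0 := by
    rw [Category.assoc, grπ_naturality, ← Category.assoc, ← hy, Category.assoc, hη, comp_zero]
  obtain ⟨T₂, π₂, hπ₂, c, hc⟩ := exists_lift_of_grπ_eq_zero (cokerFun f) p _ h1
  obtain ⟨T₃, π₃, hπ₃, y', hy'⟩ :=
    surjective_up_to_refinements_of_epi ((cokerπ f).app (op (p + 1))) c
  have h2 : (π₃ ≫ π₂ ≫ y - y' ≫ tr Y.obj hle) ≫ (cokerπ f).app (op p) = 0 := by
    have e : (y' ≫ tr Y.obj hle) ≫ (cokerπ f).app (op p) = π₃ ≫ π₂ ≫ y ≫ (cokerπ f).app (op p) := by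
      rw [Category.assoc, ← tr_cokerFun_π, ← Category.assoc y', ← hy', Category.assoc, ← hc]
    rw [Preadditive.sub_comp, e]
    simp only [Category.assoc, sub_self]
  obtain ⟨T₄, π₄, hπ₄, x, hx⟩ := exists_lift_of_comp_cokerπ_eq_zero f p _ h2
  refine ⟨T₄, π₄ ≫ π₃ ≫ π₂ ≫ π₁, epi_comp' hπ₄ (epi_comp' hπ₃ (epi_comp' hπ₂ hπ₁)),
    x ≫ grπ X.obj p, ?_⟩
  rw [Category.assoc x, ← grπ_naturality, ← Category.assoc x, ← hx]
  simp only [Category.assoc, Preadditive.sub_comp, Preadditive.comp_sub, tr_grπ, comp_zero,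
    sub_zero, hy]

end Gr

end Groth.Agent.Lib.helper2.FilDCoker
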