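import Mathlib
import Groth.Agent.Lib.helper2.ClassRes

set_option autoImplicit false
set_option linter.unusedSectionVars false

namespace Groth.Agent.Lib.helper2.Horseshoe

open CategoryTheory CategoryTheory.Limits HomologicalComplex CochainComplex Abelian ZeroObject

universe v u

variable {A : Type u} [Category.{v} A] [Abelian A]

/-- two-out-of-three: the first component of a morphism of short exact sequences of complexes -/
lemma quasiIso_τ₁ {S₁ S₂ : ShortComplex (CochainComplex A ℤ)} (φ : S₁ ⟶ S₂)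
    (hS₁ : S₁.ShortExact) (hS₂ : S₂.ShortExact) (h₂ : QuasiIso φ.τ₂) (h₃ : QuasiIso φ.τ₃) :
    QuasiIso φ.τ₁ := by
  rw [quasiIso_iff]
  intro j
  rw [quasiIsoAt_iff_isIso_homologyMap]
  have hij : (ComplexShape.up ℤ).Rel (j - 1) j := by simp
  exact Abelian.isIso_of_epi_of_isIso_of_isIso_of_mono
    (HomologySequence.composableArrows₅_exact hS₁ (j - 1) j hij).δ₀
    (HomologySequence.composableArrows₅_exact hS₂ (j - 1) j hij).δ₀
    (ComposableArrows.δ₀Functor.map (HomologySequence.mapComposableArrows₅ φ hS₁ hS₂ (j - 1) j hij))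
    (by change Epi (homologyMap φ.τ₂ (j - 1)); infer_instance)
    (by change IsIso (homologyMap φ.τ₃ (j - 1)); infer_instance)
    (by change IsIso (homologyMap φ.τ₂ j); infer_instance)
    (by change Mono (homologyMap φ.τ₃ j); infer_instance)

lemma injective_of_splitting {S : ShortComplex A} (σ : S.Splitting) [Injective S.X₁]
    [Injective S.X₃] : Injective S.X₂ where
  factors {U V} g i _ := by
    refine ⟨Injective.factorThru (g ≫ σ.r) i ≫ S.f + Injective.factorThru (g ≫ S.g) i ≫ σ.s, ?_⟩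
    rw [Preadditive.comp_add, Injective.comp_factorThru_assoc, Injective.comp_factorThru_assoc,
      Category.assoc, Category.assoc, ← Preadditive.comp_add, σ.id, Category.comp_id]

lemma injective_of_epiWithInjectiveKernel {X Y : A} (g : X ⟶ Y) (hg : epiWithInjectiveKernel g)
    [Injective Y] : Injective X := by
  rw [epiWithInjectiveKernel_iff] at hg
  obtain ⟨I, _, f, w, ⟨σ⟩⟩ := hg
  exact injective_of_splitting (S := ShortComplex.mk f g w) σ

lemma isZero_biprod_X (K L : CochainComplex A ℤ) (k : ℤ) (hK : IsZero (K.X k))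
    (hL : IsZero (L.X k)) : IsZero ((K ⊞ L).X k) := by
  rw [IsZero.iff_id_eq_zero]
  have h : (𝟙 (K ⊞ L) : K ⊞ L ⟶ K ⊞ L).f k = 0 := by
    rw [← biprod.total, HomologicalComplex.add_f_apply, HomologicalComplex.comp_f,
      HomologicalComplex.comp_f, hK.eq_of_tgt ((biprod.fst : K ⊞ L ⟶ K).f k) 0,
      hL.eq_of_tgt ((biprod.snd : K ⊞ L ⟶ L).f k) 0, zero_comp, zero_comp, add_zero]
  exact h

lemma fib_biprod_fst (K L : CochainComplex A ℤ) (hL : ∀ k, Injective (L.X k)) :
    degreewiseEpiWithInjectiveKernel (biprod.fst : K ⊞ L ⟶ K) := by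
  intro k
  rw [epiWithInjectiveKernel_iff]
  refine ⟨L.X k, hL k, (biprod.inr : L ⟶ K ⊞ L).f k, ?_, ⟨?_⟩⟩
  · rw [← HomologicalComplex.comp_f, biprod.inr_fst, HomologicalComplex.zero_f]
  · exact
      { r := (biprod.snd : K ⊞ L ⟶ L).f k
        s := (biprod.inl : K ⟶ K ⊞ L).f k
        f_r := by
          change (biprod.inr : L ⟶ K ⊞ L).f k ≫ (biprod.snd : K ⊞ L ⟶ L).f k = 𝟙 _
          rw [← HomologicalComplex.comp_f, biprod.inr_snd, HomologicalComplex.id_f]
        s_g := by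
          change (biprod.inl : K ⟶ K ⊞ L).f k ≫ (biprod.fst : K ⊞ L ⟶ K).f k = 𝟙 _
          rw [← HomologicalComplex.comp_f, biprod.inl_fst, HomologicalComplex.id_f]
        id := by
          change (biprod.snd : K ⊞ L ⟶ L).f k ≫ (biprod.inr : L ⟶ K ⊞ L).f k +
            (biprod.fst : K ⊞ L ⟶ K).f k ≫ (biprod.inl : K ⟶ K ⊞ L).f k = 𝟙 _
          rw [← HomologicalComplex.comp_f, ← HomologicalComplex.comp_f,
            ← HomologicalComplex.add_f_apply, add_comm, biprod.total, HomologicalComplex.id_f] }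

theorem horseshoe_inj [EnoughInjectives A]
    (S : ShortComplex (CochainComplex A ℤ)) (hS : S.ShortExact) (n : ℤ)
    [S.X₁.IsStrictlyGE n] [S.X₂.IsStrictlyGE n] [S.X₃.IsStrictlyGE n] :
    ∃ (T : ShortComplex (CochainComplex A ℤ)) (φ : S ⟶ T), T.ShortExact ∧
      T.X₁.IsStrictlyGE n ∧ T.X₂.IsStrictlyGE n ∧ T.X₃.IsStrictlyGE n ∧
      (∀ k : ℤ, Injective (T.X₁.X k) ∧ Injective (T.X₂.X k) ∧ Injective (T.X₃.X k)) ∧
      QuasiIso φ.τ₁ ∧ QuasiIso φ.τ₂ ∧ QuasiIso φ.τ₃ := by
  have hI0 : ∃ Z : A, IsZero Z ∧ Injective Z := ⟨0, isZero_zero _, inferInstance⟩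
  have hI : ∀ X : A, ∃ (Y : A) (ι : X ⟶ Y), Injective Y ∧ Mono ι :=
    fun X => ⟨Injective.under X, Injective.ι X, inferInstance, inferInstance⟩
  obtain ⟨I₃, α₃, h3GE, h3inj, -, h3q⟩ := ClassRes.exists_res (fun X => Injective X) hI0 hI S.X₃ n
  obtain ⟨J, β, hJGE, hJinj, hβmono, -⟩ := ClassRes.exists_res (fun X => Injective X) hI0 hI S.X₂ n
  have hβ : Mono β := HomologicalComplex.mono_of_mono_f β hβmono
  let f' : S.X₂ ⟶ I₃ ⊞ J := biprod.lift (S.g ≫ α₃) β
  have hf' : Mono f' := by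
    have : Mono (f' ≫ biprod.snd) := by
      rw [biprod.lift_snd]
      exact hβ
    exact mono_of_mono f' biprod.snd
  have hGE : (I₃ ⊞ J).IsStrictlyGE n := by
    rw [CochainComplex.isStrictlyGE_iff]
    intro i hi
    exact isZero_biprod_X _ _ _ (I₃.isZero_of_isStrictlyGE n i hi) (J.isZero_of_isStrictlyGE n i hi)
  obtain ⟨K', hK'GE, ι, π, hιmono, hιq, hπ, fac⟩ := CochainComplex.Plus.modelCategoryQuillen.cm5a_cof f' n
  let q : K' ⟶ I₃ := π ≫ biprod.fst
  have hq : degreewiseEpiWithInjectiveKernel q :=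
    MorphismProperty.comp_mem _ _ _ hπ (fib_biprod_fst I₃ J hJinj)
  have hqepi : Epi q := hq.epi
  let T : ShortComplex (CochainComplex A ℤ) := ShortComplex.mk (kernel.ι q) q (kernel.condition q)
  have hT : T.ShortExact :=
    { exact := ShortComplex.exact_of_f_is_kernel _ (kernelIsKernel q)
      mono_f := inferInstanceAs (Mono (kernel.ι q))
      epi_g := hqepi }
  have hτ₁ : (S.f ≫ ι) ≫ q = 0 := by
    dsimp only [q]
    rw [Category.assoc, reassoc_of% fac, biprod.lift_fst, S.zero_assoc, zero_comp]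
  let φ : S ⟶ T := ShortComplex.homMk (kernel.lift q (S.f ≫ ι) hτ₁) ι α₃
    (kernel.lift_ι _ _ _) (by
      dsimp only [T, q]
      rw [reassoc_of% fac, biprod.lift_fst])
  have hK'inj : ∀ k, Injective (K'.X k) := fun k =>
    haveI := h3inj k
    injective_of_epiWithInjectiveKernel (q.f k) (hq k)
  have hkerIso : ∀ k, (kernel q).X k ≅ kernel (q.f k) := fun k =>
    PreservesKernel.iso (HomologicalComplex.eval A (ComplexShape.up ℤ) k) q
  refine ⟨T, φ, hT, ?_, hK'GE, h3GE, ?_, ?_, hιq, h3q⟩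
  · change (kernel q).IsStrictlyGE n
    rw [CochainComplex.isStrictlyGE_iff]
    intro i hi
    exact (IsZero.of_mono (kernel.ι (q.f i)) (K'.isZero_of_isStrictlyGE n i hi)).of_iso (hkerIso i)
  · intro k
    exact ⟨Injective.of_iso (hkerIso k).symm (hq k).2, hK'inj k, h3inj k⟩
  · exact quasiIso_τ₁ φ hS hT hιq h3q

end Groth.Agent.Lib.helper2.Horseshoe
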