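import Mathlib
import Groth.Agent.Lib.helper2.FilDLib
import Groth.Agent.Lib.helper2.Horseshoe

set_option autoImplicit false
set_option linter.unusedSectionVars false
universe v u
open CategoryTheory Limits Opposite FilD
open Groth.Agent.Lib.helper2.FilDLib

namespace Groth.Agent.Lib.helper2.FilDHom

section Generic

open CochainComplex HomComplex

variable {C : Type u} [Category.{v} C] [Preadditive C]

lemma homotopy_aux {K L : CochainComplex C ℤ}
    (hext : ∀ (n : ℤ) (u : K.X (n + 1) ⟶ L.X (n + 1)), K.d n (n + 1) ≫ u = 0 →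
      ∃ β : K.X (n + 2) ⟶ L.X (n + 1), K.d (n + 1) (n + 2) ≫ β = u)
    (f : K ⟶ L) (α : Cochain K L (-1)) (n m : ℤ) (hnm : n + 1 = m)
    (hα : (δ (-1) 0 α).EqUpTo (Cochain.ofHom f) n) :
    ∃ (h : K.X (n + 2) ⟶ L.X (n + 1)),
      (δ (-1) 0 (α + Cochain.single h (-1))).EqUpTo (Cochain.ofHom f) m := by
  subst hnm
  let u := f.f (n + 1) - α.v (n + 1) n (by lia) ≫ L.d n (n + 1) -
    K.d (n + 1) (n + 2) ≫ α.v (n + 2) (n + 1) (by lia)
  have hu : K.d n (n + 1) ≫ u = 0 := by
    have eq := hα n n (add_zero n) (by rfl)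
    simp only [δ_v (-1) 0 (neg_add_cancel 1) α n n (add_zero _) (n - 1) (n + 1)
      (by lia) (by lia), Int.negOnePow_zero, one_smul, Cochain.ofHom_v] at eq
    simp only [u, Preadditive.comp_sub, HomologicalComplex.d_comp_d_assoc, zero_comp,
      ← f.comm, ← eq, Preadditive.add_comp, Category.assoc, L.d_comp_d, comp_zero, zero_add,
      sub_self]
  obtain ⟨β, hβ⟩ := hext n u hu
  refine ⟨β, ?_⟩
  intro p q hpq hp
  obtain rfl : p = q := by lia
  obtain hp | rfl := hp.lt_or_eq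
  · rw [δ_add, Cochain.add_v, hα p p (by lia) (by lia), add_eq_left,
      δ_v (-1) 0 (neg_add_cancel 1) _ p p hpq (p - 1) (p + 1) rfl rfl,
      Cochain.single_v_eq_zero _ _ _ _ _ (by lia),
      Cochain.single_v_eq_zero _ _ _ _ _ (by lia)]
    simp
  · rw [δ_v (-1) 0 (neg_add_cancel 1) _ (n + 1) (n + 1) (by lia) n (n + 2)
      (by lia) (by lia), Cochain.add_v,
      Cochain.single_v_eq_zero _ _ _ _ _ (by lia)]
    simp [hβ, u]

open Cochain.InductionUp in
theorem nonempty_homotopy_zero_of_ext {K L : CochainComplex C ℤ} (d : ℤ) [L.IsStrictlyGE d]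
    (hext : ∀ (n : ℤ) (u : K.X (n + 1) ⟶ L.X (n + 1)), K.d n (n + 1) ≫ u = 0 →
      ∃ β : K.X (n + 2) ⟶ L.X (n + 1), K.d (n + 1) (n + 2) ≫ β = u)
    (f : K ⟶ L) : Nonempty (Homotopy f 0) := by
  let X (n : ℕ) : Set (Cochain K L (-1)) :=
    Set.ofPred (fun α => (δ (-1) 0 α).EqUpTo (Cochain.ofHom f) (n + d - 1))
  let x₀ : X 0 := ⟨0, fun p q hpq hp ↦
    IsZero.eq_of_tgt (L.isZero_of_isStrictlyGE d _ (by lia)) _ _⟩
  let φ (n : ℕ) (α : X n) : X (n + 1) :=
    ⟨_, (homotopy_aux hext f α.1 (n + d - 1) ((n + 1 : ℕ) + d - 1)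
      (by lia) α.2).choose_spec⟩
  have hφ (k : ℕ) (x : X k) : (φ k x).1.EqUpTo x.1 (d + k) := fun p q hpq hp => by
    dsimp [φ]
    rw [add_eq_left, Cochain.single_v_eq_zero _ _ _ _ _ (by lia)]
  refine ⟨(Cochain.equivHomotopy f 0).symm ⟨limitSequence φ hφ x₀, ?_⟩⟩
  rw [Cochain.ofHom_zero, add_zero]
  ext n
  let k₀ := (n - d + 1).toNat
  rw [← (sequence φ x₀ k₀).2 n n (add_zero n) (by lia),
    δ_v (-1) 0 (neg_add_cancel 1) _ n n (by lia) (n - 1) (n + 1) rfl (by lia),
    δ_v (-1) 0 (neg_add_cancel 1) _ n n (by lia) (n - 1) (n + 1) rfl (by lia),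
    limitSequence_eqUpTo φ hφ x₀ k₀ n (n - 1) (by lia) (by lia),
    limitSequence_eqUpTo φ hφ x₀ k₀ (n + 1) n (by lia) (by lia)]

end Generic

section Fil

variable {A : Type u} [Category.{v} A] [Abelian A]

lemma injective_level (J : FilF A) (hJ : IsFilteredInjective J) (p : ℤ) :
    Injective (J.obj.obj (op p)) := by
  obtain ⟨b, hb⟩ := J.property.2.1
  have key : ∀ n : ℕ, Injective (J.obj.obj (op (b - n))) := by
    intro n
    induction n with
    | zero => exact (hb _ (by simp)).injective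
    | succ n ih =>
      have e : b - (n : ℤ) = (b - ((n + 1 : ℕ) : ℤ)) + 1 := by push_cast; ring
      generalize b - ((n + 1 : ℕ) : ℤ) = q at e
      rw [e] at ih
      have : Injective ((gr A q).obj J.obj) := hJ q
      let S := ShortComplex.mk (J.obj.map (stepHom q)) (grπ J.obj q) (step_grπ J.obj q)
      have hS : S.Exact := gr_exact J.obj q
      have : Mono S.f := J.property.1 _
      have : Epi S.g := by dsimp [S]; infer_instance
      have : Injective S.X₁ := ih
      have : Injective S.X₃ := hJ q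
      let r : S.X₂ ⟶ S.X₁ := Injective.factorThru (𝟙 _) S.f
      have hr : S.f ≫ r = 𝟙 _ := Injective.comp_factorThru _ _
      let σ := ShortComplex.Splitting.ofExactOfRetraction S hS r hr inferInstance
      exact Groth.Agent.Lib.helper2.Horseshoe.injective_of_splitting σ
  by_cases hpb : b ≤ p
  · exact (hb _ hpb).injective
  · have e : p = b - ((b - p).toNat : ℤ) := by
      rw [Int.toNat_of_nonneg (by omega)]
      ring
    rw [e]
    exact key _

variable (S : ShortComplex (FilF A)) (hS : ∀ p : ℤ, (S.map (grF A p)).Exact)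
  (J : FilF A) (ψ : S.X₂ ⟶ J) (hψ : S.f ≫ ψ = 0)

include hψ in
lemma f_ψ_app (p : ℤ) : S.f.hom.app (op p) ≫ ψ.hom.app (op p) = 0 := by
  have h2 : (S.f ≫ ψ).hom = (0 : S.X₁ ⟶ J).hom := by rw [hψ]
  rw [ObjectProperty.FullSubcategory.comp_hom] at h2
  have h3 := congrArg (fun φ => φ.app (op p)) h2
  dsimp at h3
  rw [h3]

include hS hψ in
/-- one step of the descending construction of the extension -/
lemma ext_step (p q : ℤ) (hq : q = p + 1) (hle : p ≤ q) [Injective (J.obj.obj (op p))]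
    (h' : S.X₃.obj.obj (op q) ⟶ J.obj.obj (op q))
    (hh' : S.g.hom.app (op q) ≫ h' = ψ.hom.app (op q)) :
    ∃ h'' : S.X₃.obj.obj (op p) ⟶ J.obj.obj (op p),
      tr S.X₃.obj hle ≫ h'' = h' ≫ tr J.obj hle ∧
        S.g.hom.app (op p) ≫ h'' = ψ.hom.app (op p) := by
  subst hq
  obtain ⟨ρ, hρdef⟩ : ∃ ρ : S.X₃.obj.obj (op (p + 1)) ⊞ S.X₂.obj.obj (op p) ⟶ S.X₃.obj.obj (op p),
      ρ = biprod.desc (tr S.X₃.obj hle) (S.g.hom.app (op p)) := ⟨_, rfl⟩
  obtain ⟨σ, hσdef⟩ : ∃ σ : S.X₃.obj.obj (op (p + 1)) ⊞ S.X₂.obj.obj (op p) ⟶ J.obj.obj (op p),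
      σ = biprod.desc (h' ≫ tr J.obj hle) (ψ.hom.app (op p)) := ⟨_, rfl⟩
  have ρl : biprod.inl ≫ ρ = tr S.X₃.obj hle := by rw [hρdef, biprod.inl_desc]
  have ρr : biprod.inr ≫ ρ = S.g.hom.app (op p) := by rw [hρdef, biprod.inr_desc]
  have σl : biprod.inl ≫ σ = h' ≫ tr J.obj hle := by rw [hσdef, biprod.inl_desc]
  have σr : biprod.inr ≫ σ = ψ.hom.app (op p) := by rw [hσdef, biprod.inr_desc]
  have hker : kernel.ι ρ ≫ σ = 0 := by
    obtain ⟨w, hw⟩ : ∃ w, w = kernel.ι ρ := ⟨_, rfl⟩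
    obtain ⟨z, hz⟩ : ∃ z, z = w ≫ biprod.fst := ⟨_, rfl⟩
    obtain ⟨y, hy⟩ : ∃ y, y = w ≫ biprod.snd := ⟨_, rfl⟩
    rw [← hw]
    have hwdec : w = z ≫ biprod.inl + y ≫ biprod.inr := by
      rw [hz, hy, Category.assoc, Category.assoc, ← Preadditive.comp_add, biprod.total,
        Category.comp_id]
    have h0 : z ≫ tr S.X₃.obj hle + y ≫ S.g.hom.app (op p) = 0 := by
      have : w ≫ ρ = 0 := by rw [hw]; exact kernel.condition ρ
      rw [hwdec, Preadditive.add_comp, Category.assoc, Category.assoc, ρl, ρr] at this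
      exact this
    have h1 : y ≫ S.g.hom.app (op p) = (-z) ≫ tr S.X₃.obj hle := by
      rw [Preadditive.neg_comp]
      exact eq_neg_of_add_eq_zero_right h0
    obtain ⟨T₁, π₁, hπ₁, y', hy'⟩ :=
      (isStrict_iff S.g).mp (isStrict_g S hS) p (p + 1) hle _ y (-z) h1
    have h2 : (π₁ ≫ y - y' ≫ tr S.X₂.obj hle) ≫ S.g.hom.app (op p) = 0 := by
      rw [Preadditive.sub_comp, Category.assoc, Category.assoc, ← tr_naturality,
        ← Category.assoc y', ← hy', h1, Category.assoc, sub_self]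
    obtain ⟨T₂, π₂, hπ₂, x, hx⟩ := levelwise S hS p _ h2
    have hnat : tr S.X₂.obj hle ≫ ψ.hom.app (op p) = ψ.hom.app (op (p + 1)) ≫ tr J.obj hle :=
      (tr_naturality ψ.hom hle).symm
    have h3 : π₂ ≫ π₁ ≫ y ≫ ψ.hom.app (op p) = - (π₂ ≫ π₁ ≫ z ≫ h' ≫ tr J.obj hle) := by
      have e1 : π₂ ≫ π₁ ≫ y = x ≫ S.f.hom.app (op p) + π₂ ≫ y' ≫ tr S.X₂.obj hle := by
        rw [← hx, Preadditive.comp_sub]
        abel
      have e2 : π₂ ≫ π₁ ≫ y ≫ ψ.hom.app (op p) = (π₂ ≫ π₁ ≫ y) ≫ ψ.hom.app (op p) := by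
        simp only [Category.assoc]
      have e3 : y' ≫ tr S.X₂.obj hle ≫ ψ.hom.app (op p) = (π₁ ≫ (-z)) ≫ h' ≫ tr J.obj hle := by
        rw [hnat, ← hh', hy']
        simp only [Category.assoc]
      rw [e2, e1, Preadditive.add_comp, Category.assoc, f_ψ_app S J ψ hψ, comp_zero, zero_add]
      simp only [Category.assoc]
      rw [e3]
      simp only [Category.assoc, Preadditive.neg_comp, Preadditive.comp_neg]
    have h4 : (π₂ ≫ π₁) ≫ w ≫ σ = 0 := by
      rw [hwdec]
      simp only [Preadditive.add_comp, Category.assoc, σl, σr, Preadditive.comp_add]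
      rw [h3]
      abel
    have : Epi (π₂ ≫ π₁) := epi_comp' hπ₂ hπ₁
    rw [← cancel_epi (π₂ ≫ π₁), h4, comp_zero]
  let σbar : Abelian.coimage ρ ⟶ J.obj.obj (op p) := cokernel.desc (kernel.ι ρ) σ hker
  let h'' := Injective.factorThru σbar (Abelian.factorThruCoimage ρ)
  have hρ : ρ ≫ h'' = σ := by
    have : ρ = Abelian.coimage.π ρ ≫ Abelian.factorThruCoimage ρ := (Abelian.coimage.fac ρ).symm
    rw [this, Category.assoc, Injective.comp_factorThru]
    exact cokernel.π_desc _ _ _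
  refine ⟨h'', ?_, ?_⟩
  · have := biprod.inl ≫= hρ
    rw [← Category.assoc, ρl, σl] at this
    exact this
  · have := biprod.inr ≫= hρ
    rw [← Category.assoc, ρr, σr] at this
    exact this


include hS hψ in
/-- the key extension lemma: maps out of the middle term of a gr-exact short complex killing
`S.f` extend along `S.g` into a filtered injective -/
theorem key_ext (hJ : IsFilteredInjective J) : ∃ h : S.X₃ ⟶ J, S.g ≫ h = ψ := by
  obtain ⟨b, hb⟩ := J.property.2.1
  have hinj : ∀ p : ℤ, Injective (J.obj.obj (op p)) := injective_level J hJ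
  let D : ℤ → Type v := fun p =>
    {h : S.X₃.obj.obj (op p) ⟶ J.obj.obj (op p) // S.g.hom.app (op p) ≫ h = ψ.hom.app (op p)}
  have hD0 : ∀ k : ℤ, b ≤ k →
      S.g.hom.app (op k) ≫ (0 : S.X₃.obj.obj (op k) ⟶ J.obj.obj (op k)) = ψ.hom.app (op k) :=
    fun k hk => (hb k hk).eq_of_tgt _ _
  let predStep : ∀ k : ℤ, k ≤ b → D k → D (k - 1) := fun k _ d =>
    ⟨(ext_step S hS J ψ hψ (k - 1) k (by omega) (by omega) d.1 d.2).choose,
      (ext_step S hS J ψ hψ (k - 1) k (by omega) (by omega) d.1 d.2).choose_spec.2⟩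
  let H : ∀ p : ℤ, D p := fun p =>
    Int.inductionOn' (motive := D) p b ⟨0, hD0 b le_rfl⟩
      (fun k hk _ => ⟨0, hD0 (k + 1) (by omega)⟩) predStep
  -- consecutive compatibility
  have hstep : ∀ (p q : ℤ) (hq : q = p + 1) (hle : p ≤ q),
      tr S.X₃.obj hle ≫ (H p).1 = (H q).1 ≫ tr J.obj hle := by
    intro p q hq hle
    obtain rfl : p = q - 1 := by omega
    by_cases hqb : q ≤ b
    · have e : H (q - 1) = predStep q hqb (H q) := Int.inductionOn'_sub_one hqb
      rw [e]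
      exact (ext_step S hS J ψ hψ (q - 1) q (by omega) (by omega) (H q).1 (H q).2).choose_spec.1
    · exact (hb (q - 1) (by omega)).eq_of_tgt _ _
  have hcompat : ∀ (n : ℕ) (p q : ℤ) (_ : q = p + n) (hle : p ≤ q),
      tr S.X₃.obj hle ≫ (H p).1 = (H q).1 ≫ tr J.obj hle := by
    intro n
    induction n with
    | zero =>
      intro p q hq hle
      obtain rfl : q = p := by simpa using hq
      rw [tr_refl, tr_refl, Category.id_comp, Category.comp_id]
    | succ n ih =>
      intro p q hq hle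
      have h1 : p ≤ p + 1 := by omega
      have h2 : p + 1 ≤ q := by push_cast at hq; omega
      rw [← tr_comp S.X₃.obj h1 h2, ← tr_comp J.obj h1 h2, Category.assoc,
        hstep p (p + 1) rfl h1, ← Category.assoc, ih (p + 1) q (by push_cast at hq; omega) h2,
        Category.assoc]
  let η : S.X₃.obj ⟶ J.obj :=
    { app := fun x => (H x.unop).1
      naturality := by
        intro x y f
        have hle : y.unop ≤ x.unop := leOfHom f.unop
        have hf : f = (homOfLE hle).op := Subsingleton.elim _ _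
        have e : x.unop = y.unop + ((x.unop - y.unop).toNat : ℤ) := by
          rw [Int.toNat_of_nonneg (by omega)]
          ring
        have := hcompat _ y.unop x.unop e hle
        rw [hf]
        exact this }
  refine ⟨ObjectProperty.homMk η, ?_⟩
  apply ObjectProperty.hom_ext
  rw [ObjectProperty.FullSubcategory.comp_hom]
  ext x
  exact (H x.unop).2


theorem main (K I : CochainComplex (FilF A) ℤ) (hK : IsFilteredAcyclic K) (a : ℤ)
    [I.IsStrictlyGE a] (hI : ∀ n, IsFilteredInjective (I.X n)) (φ : K ⟶ I) :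
    Nonempty (Homotopy φ 0) := by
  refine nonempty_homotopy_zero_of_ext a ?_ φ
  intro n u hu
  let S := ShortComplex.mk (K.d n (n + 1)) (K.d (n + 1) (n + 2)) (K.d_comp_d _ _ _)
  have hS : ∀ p : ℤ, (S.map (grF A p)).Exact := by
    intro p
    have := hK p (n + 1)
    rw [HomologicalComplex.exactAt_iff' _ n (n + 1) (n + 2) (by simp) (by simp; ring)] at this
    exact this
  exact key_ext S hS (I.X (n + 1)) u hu (hI (n + 1))

end Fil

end Groth.Agent.Lib.helper2.FilDHom
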