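import Mathlib
import Groth.Agent.Lib.helper2.FilDLib
import Groth.Agent.Lib.helper2.FilDHom
import Groth.Agent.Lib.helper2.FilDBiprod

set_option autoImplicit false
set_option linter.unusedSectionVars false
universe v u
open CategoryTheory Limits Opposite FilD
open Groth.Agent.Lib.helper2.FilDLib Groth.Agent.Lib.helper2.FilDHom Groth.Agent.Lib.helper2.FilDBiprod

namespace Groth.Agent.Lib.helper2.FilDCone

section Generic

open Pretriangulated

variable {C : Type*} [Category C] [Preadditive C] [HasZeroObject C] [HasShift C ℤ]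
  [∀ n : ℤ, (shiftFunctor C n).Additive] [Pretriangulated C]

lemma precomp_mor₁_bijective (T : Triangle C) (hT : T ∈ distTriang C) (X : C)
    (h0 : ∀ t : T.obj₃ ⟶ X, t = 0) (h1 : ∀ t : T.obj₃ ⟶ X⟦(1:ℤ)⟧, t = 0) :
    Function.Bijective (fun f : T.obj₂ ⟶ X => T.mor₁ ≫ f) := by
  constructor
  · intro f₁ f₂ h
    dsimp at h
    have hx : T.mor₁ ≫ (f₁ - f₂) = 0 := by rw [Preadditive.comp_sub, h, sub_self]
    obtain ⟨g, hg⟩ := Triangle.yoneda_exact₂ T hT (f₁ - f₂) hx
    rw [h0 g, comp_zero] at hg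
    exact sub_eq_zero.mp hg
  · intro y
    have hy : T.rotate.mor₂ ≫ y⟦(1:ℤ)⟧' = 0 := h1 _
    obtain ⟨g, hg⟩ := Triangle.yoneda_exact₃ T.rotate (rot_of_distTriang _ hT) (y⟦(1:ℤ)⟧') hy
    obtain ⟨g', hg'⟩ : ∃ g' : T.obj₂ ⟶ X,
        y⟦(1:ℤ)⟧' = (-T.mor₁⟦(1:ℤ)⟧') ≫ g'⟦(1:ℤ)⟧' := by
      obtain ⟨g', hgg⟩ := (shiftFunctor C (1:ℤ)).map_surjective
        (show (T.obj₂)⟦(1:ℤ)⟧ ⟶ X⟦(1:ℤ)⟧ from g)
      exact ⟨g', by rw [hgg]; exact hg⟩
    refine ⟨-g', ?_⟩
    apply (shiftFunctor C (1:ℤ)).map_injective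
    dsimp only
    rw [Functor.map_comp, hg', Functor.map_neg, Preadditive.comp_neg, Preadditive.neg_comp]

end Generic

section Acyclic

open CochainComplex HomotopyCategory

variable {B : Type*} [Category B] [Abelian B]

lemma exactAt_of_iso {K L : CochainComplex B ℤ} (e : K ≅ L) (n : ℤ) (h : L.ExactAt n) :
    K.ExactAt n :=
  (ShortComplex.exact_iff_of_iso
    ((HomologicalComplex.shortComplexFunctor B (ComplexShape.up ℤ) n).mapIso e)).mpr h

lemma mappingCone_exactAt_of_quasiIso {K L : CochainComplex B ℤ} (φ : K ⟶ L) [QuasiIso φ] (n : ℤ) :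
    (mappingCone φ).ExactAt n := by
  have h1 : HomotopyCategory.quasiIso B (ComplexShape.up ℤ)
      ((HomotopyCategory.quotient B (ComplexShape.up ℤ)).map φ) := by
    rw [HomotopyCategory.quotient_map_mem_quasiIso_iff]
    rw [HomologicalComplex.mem_quasiIso_iff]
    infer_instance
  rw [HomotopyCategory.quasiIso_eq_trW_subcategoryAcyclic] at h1
  have h2 := ((subcategoryAcyclic B).trW_iff_of_distinguished _
    (mappingCone_triangleh_distinguished φ)).mp h1
  exact (quotient_obj_mem_subcategoryAcyclic_iff_exactAt _).mp h2 n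

end Acyclic

section Fil

open CochainComplex HomotopyCategory

variable {A : Type u} [Category.{v} A] [Abelian A]

lemma isFilteredAcyclic_mappingCone {K L : CochainComplex (FilF A) ℤ} (α : K ⟶ L)
    (hα : IsFilteredQuasiIso α) : IsFilteredAcyclic (mappingCone α) := by
  intro p n
  have := hα p
  exact exactAt_of_iso (mappingCone.mapHomologicalComplexIso α (grF A p)) n
    (mappingCone_exactAt_of_quasiIso _ n)

lemma hom_eq_zero (I : CochainComplex (FilF A) ℤ) (a : ℤ) [I.IsStrictlyGE a]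
    (hI : ∀ n, IsFilteredInjective (I.X n)) (K : CochainComplex (FilF A) ℤ)
    (hK : IsFilteredAcyclic K)
    (t : (HomotopyCategory.quotient (FilF A) (ComplexShape.up ℤ)).obj K ⟶
      (HomotopyCategory.quotient (FilF A) (ComplexShape.up ℤ)).obj I) : t = 0 := by
  obtain ⟨f, rfl⟩ := (HomotopyCategory.quotient (FilF A) (ComplexShape.up ℤ)).map_surjective t
  obtain ⟨h⟩ := Groth.Agent.Lib.helper2.FilDHom.main K I hK a hI f
  rw [HomotopyCategory.eq_of_homotopy _ _ h, Functor.map_zero]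

theorem main (I : CochainComplex (FilF A) ℤ)
    (a : ℤ) [I.IsStrictlyGE a] (hI : ∀ n, IsFilteredInjective (I.X n))
    {K L : CochainComplex (FilF A) ℤ} (α : K ⟶ L) (hα : IsFilteredQuasiIso α) :
    Function.Bijective (fun β : (HomotopyCategory.quotient (FilF A) (ComplexShape.up ℤ)).obj L ⟶
        (HomotopyCategory.quotient (FilF A) (ComplexShape.up ℤ)).obj I =>
      (HomotopyCategory.quotient (FilF A) (ComplexShape.up ℤ)).map α ≫ β) := by
  have hcone := isFilteredAcyclic_mappingCone α hα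
  have h0 := hom_eq_zero I a hI _ hcone
  have hI1 : ∀ n, IsFilteredInjective ((I⟦(1:ℤ)⟧).X n) := fun n => hI _
  have : (I⟦(1:ℤ)⟧).IsStrictlyGE (a - 1) := I.isStrictlyGE_shift a 1 (a - 1) (by omega)
  have h1' := hom_eq_zero (I⟦(1:ℤ)⟧) (a - 1) hI1 _ hcone
  have h1 : ∀ t : (HomotopyCategory.quotient (FilF A) (ComplexShape.up ℤ)).obj (mappingCone α) ⟶
      ((HomotopyCategory.quotient (FilF A) (ComplexShape.up ℤ)).obj I)⟦(1:ℤ)⟧, t = 0 := by
    intro t
    let e := ((HomotopyCategory.quotient (FilF A) (ComplexShape.up ℤ)).commShiftIso (1:ℤ)).app I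
    have := h1' (t ≫ e.inv)
    rw [← cancel_mono e.inv, this, zero_comp]
  exact precomp_mor₁_bijective (mappingCone.triangleh α) (mappingCone_triangleh_distinguished α)
    _ h0 h1

end Fil

end Groth.Agent.Lib.helper2.FilDCone
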