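import Mathlib
import Groth.Agent.Lib.helper2.FilDLib

set_option autoImplicit false
set_option linter.unusedSectionVars false
universe w v u
open CategoryTheory Limits Opposite FilD
open Groth.Agent.Lib.helper2.FilDLib

namespace Groth.Agent.Lib.helper2.FilDInj

variable {A : Type u} [Category.{v} A] [Abelian A]

attribute [local instance] CategoryTheory.Abelian.hasFiniteBiproducts

lemma injective_biproduct {β : Type w} [Finite β] (c : β → A) (hc : ∀ b, Injective (c b)) :
    Injective (⨁ c) where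
  factors g f mono := by
    refine ⟨biproduct.lift fun b => Injective.factorThru (g ≫ biproduct.π _ _) f, ?_⟩
    ext
    simp only [Category.assoc, biproduct.lift_π, Injective.comp_factorThru]

/-- the cokernel of a split mono into an injective is injective -/
lemma injective_cokernel_of_retraction {X Y : A} (f : X ⟶ Y) (r : Y ⟶ X) (hr : f ≫ r = 𝟙 X)
    (hY : Injective Y) : Injective (cokernel f) := by
  let e : Y ⟶ Y := 𝟙 Y - r ≫ f
  have he : f ≫ e = 0 := by
    simp only [e, Preadditive.comp_sub, Category.comp_id, ← Category.assoc, hr, Category.id_comp,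
      sub_self]
  let s : cokernel f ⟶ Y := cokernel.desc f e he
  have hs : s ≫ cokernel.π f = 𝟙 _ := by
    rw [← cancel_epi (cokernel.π f), ← Category.assoc, cokernel.π_desc, Category.comp_id]
    simp only [e, Preadditive.sub_comp, Category.id_comp, Category.assoc, cokernel.condition,
      comp_zero, sub_zero]
  constructor
  intro U V g i _
  refine ⟨Injective.factorThru (g ≫ s) i ≫ cokernel.π f, ?_⟩
  rw [← Category.assoc, Injective.comp_factorThru, Category.assoc, hs, Category.comp_id]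

section Ifun

variable {ι : Type w} [Finite ι] (lvl : ι → ℤ) (J : ι → A)

/-- indices living at level `q` -/
abbrev Idx (q : ℤ) : Type w := {i : ι // q ≤ lvl i}

/-- the family at level `q` -/
abbrev Jq (q : ℤ) : Idx lvl q → A := fun j => J j.1

/-- level `q` of the filtered object `⊕ J i` with `J i` placed in filtration degree `lvl i` -/
noncomputable abbrev Iobj (q : ℤ) : A := ⨁ (Jq lvl J q)

noncomputable def Itr {p q : ℤ} (h : p ≤ q) : Iobj lvl J q ⟶ Iobj lvl J p :=
  biproduct.desc (fun j : Idx lvl q => biproduct.ι (Jq lvl J p) ⟨j.1, h.trans j.2⟩)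

lemma ι_Itr {p q : ℤ} (h : p ≤ q) (j : Idx lvl q) :
    biproduct.ι (Jq lvl J q) j ≫ Itr lvl J h = biproduct.ι (Jq lvl J p) ⟨j.1, h.trans j.2⟩ :=
  biproduct.ι_desc _ _

noncomputable def Iretr {p q : ℤ} (_ : p ≤ q) : Iobj lvl J p ⟶ Iobj lvl J q :=
  biproduct.desc (fun j : Idx lvl p =>
    if hq : q ≤ lvl j.1 then biproduct.ι (Jq lvl J q) ⟨j.1, hq⟩ else 0)

lemma Itr_Iretr {p q : ℤ} (h : p ≤ q) : Itr lvl J h ≫ Iretr lvl J h = 𝟙 _ := by
  apply biproduct.hom_ext'
  intro j
  rw [← Category.assoc, ι_Itr, Category.comp_id]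
  unfold Iretr
  rw [biproduct.ι_desc]
  dsimp only
  rw [dif_pos j.2]

lemma Iretr_Itr {p q : ℤ} (h : p ≤ q) (hall : ∀ i, q ≤ lvl i) :
    Iretr lvl J h ≫ Itr lvl J h = 𝟙 _ := by
  apply biproduct.hom_ext'
  intro j
  unfold Iretr
  rw [← Category.assoc, biproduct.ι_desc, Category.comp_id]
  rw [dif_pos (hall j.1), ι_Itr]

instance {p q : ℤ} (h : p ≤ q) : Mono (Itr lvl J h) :=
  mono_of_mono_fac (Itr_Iretr lvl J h)

lemma Itr_π {p q : ℤ} (h : p ≤ q) (i : ι) (hp : p ≤ lvl i) :
    Itr lvl J h ≫ biproduct.π (Jq lvl J p) ⟨i, hp⟩ =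
      if hq : q ≤ lvl i then biproduct.π (Jq lvl J q) ⟨i, hq⟩ else 0 := by
  apply biproduct.hom_ext'
  intro j
  rw [← Category.assoc, ι_Itr]
  by_cases hji : j.1 = i
  · obtain ⟨j, hj⟩ := j
    dsimp only at hji
    subst hji
    rw [dif_pos hj, biproduct.ι_π_self, biproduct.ι_π_self]
  · rw [biproduct.ι_π_ne _ (fun e => hji (congrArg Subtype.val e))]
    split_ifs with hq
    · rw [biproduct.ι_π_ne _ (fun e => hji (congrArg Subtype.val e))]
    · rw [comp_zero]

lemma Itr_refl (p : ℤ) : Itr lvl J (le_refl p) = 𝟙 _ := by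
  apply biproduct.hom_ext'
  intro j
  rw [ι_Itr, Category.comp_id]

lemma Itr_comp {p q r : ℤ} (h : p ≤ q) (h' : q ≤ r) :
    Itr lvl J h' ≫ Itr lvl J h = Itr lvl J (h.trans h') := by
  apply biproduct.hom_ext'
  intro j
  rw [← Category.assoc, ι_Itr, ι_Itr, ι_Itr]

/-- the filtered object -/
noncomputable def Ifun : ℤᵒᵖ ⥤ A where
  obj q := Iobj lvl J q.unop
  map {q p} f := Itr lvl J (leOfHom f.unop)
  map_id q := Itr_refl lvl J _
  map_comp f g := (Itr_comp lvl J _ _).symm

lemma tr_Ifun {p q : ℤ} (h : p ≤ q) : tr (Ifun lvl J) h = Itr lvl J h := rfl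

lemma isZero_Iobj (q : ℤ) (hq : ∀ i, ¬ q ≤ lvl i) : IsZero (Iobj lvl J q) := by
  rw [IsZero.iff_id_eq_zero]
  apply biproduct.hom_ext'
  intro j
  exact absurd j.2 (hq j.1)

lemma isFinFil_Ifun (a b : ℤ) (ha : ∀ i, a ≤ lvl i) (hb : ∀ i, lvl i < b) :
    IsFinFil A (Ifun lvl J) := by
  refine ⟨?_, ⟨b, ?_⟩, ⟨a, ?_⟩⟩
  · intro p q f
    change Mono (Itr lvl J (leOfHom f.unop))
    infer_instance
  · intro p hp
    exact isZero_Iobj lvl J p (fun i hi => by have := hb i; omega)
  · intro p q f hp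
    change IsIso (Itr lvl J (leOfHom f.unop))
    exact ⟨Iretr lvl J _, Itr_Iretr lvl J _,
      Iretr_Itr lvl J _ (fun i => le_trans hp (ha i))⟩

lemma injective_gr_Ifun (hJ : ∀ i, Injective (J i)) (p : ℤ) :
    Injective ((gr A p).obj (Ifun lvl J)) := by
  have hle : p ≤ p + 1 := Int.le_add_one le_rfl
  change Injective (cokernel (Itr lvl J hle))
  exact injective_cokernel_of_retraction _ (Iretr lvl J hle) (Itr_Iretr lvl J hle)
    (injective_biproduct _ (fun j => hJ j.1))

end Ifun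


section Embed

/-- bounds of a finite filtered object -/
structure Bounds (X : FilF A) where
  a : ℤ
  b : ℤ
  hab : a < b
  zero : ∀ p, b ≤ p → IsZero (X.obj.obj (op p))
  iso : ∀ (p q : ℤ) (h : p ≤ q), q ≤ a → IsIso (tr X.obj h)

lemma exists_bounds (X : FilF A) : Nonempty (Bounds X) := by
  obtain ⟨-, ⟨b, hb⟩, ⟨a, ha⟩⟩ := X.property
  refine ⟨⟨min a (b - 1), b, by have := min_le_right a (b - 1); omega, hb, ?_⟩⟩
  intro p q h hq
  exact ha _ (le_trans hq (min_le_left _ _))

variable {X : FilF A} (B : Bounds X)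

/-- the map to the total object `X_a` -/
noncomputable def toT (q : ℤ) : X.obj.obj (op q) ⟶ X.obj.obj (op B.a) :=
  haveI := B.iso (min q B.a) B.a (min_le_right _ _) le_rfl
  tr X.obj (min_le_left q B.a) ≫ inv (tr X.obj (min_le_right q B.a))

lemma toT_tr (q m : ℤ) (hq : m ≤ q) (ha : m ≤ B.a) :
    toT B q ≫ tr X.obj ha = tr X.obj hq := by
  haveI := B.iso (min q B.a) B.a (min_le_right _ _) le_rfl
  have hm : m ≤ min q B.a := le_min hq ha
  unfold toT
  rw [← tr_comp X.obj hm (min_le_right q B.a), Category.assoc, IsIso.inv_hom_id_assoc, tr_comp]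

lemma tr_toT {p q : ℤ} (h : p ≤ q) : tr X.obj h ≫ toT B p = toT B q := by
  haveI := B.iso (min p B.a) B.a (min_le_right _ _) le_rfl
  rw [← cancel_mono (tr X.obj (min_le_right p B.a)), Category.assoc, toT_tr B p _ (min_le_left _ _),
    toT_tr B q _ (le_trans (min_le_left _ _) h), tr_comp]

instance (q : ℤ) : Mono (toT B q) := by
  haveI := B.iso (min q B.a) B.a (min_le_right _ _) le_rfl
  haveI := mono_tr X.property (min_le_left q B.a)
  unfold toT
  infer_instance

/-- index type: filtration degrees in `[a, b)` -/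
abbrev Lv : Type := ↥(Set.Ico B.a B.b)

/-- level function -/
abbrev lvl : Lv B → ℤ := fun n => n.1

variable [EnoughInjectives A]

/-- the injective in degree `n` -/
noncomputable def Jn (n : Lv B) : A := Injective.under (cokernel (toT B (n.1 + 1)))

instance (n : Lv B) : Injective (Jn B n) := by unfold Jn; infer_instance

noncomputable def gn (n : Lv B) : X.obj.obj (op B.a) ⟶ Jn B n :=
  cokernel.π (toT B (n.1 + 1)) ≫ Injective.ι _

lemma toT_gn_zero (n : Lv B) (q : ℤ) (hq : ¬ q ≤ n.1) : toT B q ≫ gn B n = 0 := by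
  have h : n.1 + 1 ≤ q := by omega
  unfold gn
  rw [← tr_toT B h, Category.assoc, cokernel.condition_assoc, zero_comp, comp_zero]

lemma factor_of_gn_zero (n : Lv B) {T' : A} (x : T' ⟶ X.obj.obj (op B.a)) (hx : x ≫ gn B n = 0) :
    ∃ x' : T' ⟶ X.obj.obj (op (n.1 + 1)), x' ≫ toT B (n.1 + 1) = x := by
  have h1 : x ≫ cokernel.π (toT B (n.1 + 1)) = 0 := by
    have hx' : (x ≫ cokernel.π (toT B (n.1 + 1))) ≫ Injective.ι _ = 0 := by
      rw [Category.assoc]
      exact hx
    exact zero_of_comp_mono _ hx'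
  let S := ShortComplex.mk (toT B (n.1 + 1)) (cokernel.π _) (cokernel.condition _)
  have hS : S.Exact := ShortComplex.exact_cokernel _
  have : Mono S.f := by dsimp [S]; infer_instance
  exact ⟨hS.lift x h1, hS.lift_f x h1⟩

/-- components of the embedding -/
noncomputable def uq (q : ℤ) : X.obj.obj (op q) ⟶ Iobj (lvl B) (Jn B) q :=
  biproduct.lift (fun j : Idx (lvl B) q => toT B q ≫ gn B j.1)

lemma uq_π (q : ℤ) (n : Lv B) (hn : q ≤ n.1) :
    uq B q ≫ biproduct.π (Jq (lvl B) (Jn B) q) ⟨n, hn⟩ = toT B q ≫ gn B n :=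
  biproduct.lift_π _ _

lemma uq_nat {p q : ℤ} (h : p ≤ q) :
    tr X.obj h ≫ uq B p = uq B q ≫ Itr (lvl B) (Jn B) h := by
  apply biproduct.hom_ext
  rintro ⟨n, hn⟩
  rw [Category.assoc, Category.assoc, uq_π, Itr_π, ← Category.assoc, tr_toT]
  split_ifs with hq
  · rw [uq_π]
  · rw [comp_zero, toT_gn_zero B n q hq]

/-- the filtered injective object -/
noncomputable def Iemb : FilF A :=
  ⟨Ifun (lvl B) (Jn B), isFinFil_Ifun (lvl B) (Jn B) B.a B.b (fun i => i.2.1) (fun i => i.2.2)⟩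

/-- the embedding -/
noncomputable def uemb : X ⟶ Iemb B :=
  ObjectProperty.homMk
    { app := fun q => uq B q.unop
      naturality := by
        intro q p f
        exact uq_nat B (leOfHom f.unop) }

lemma uemb_app (q : ℤ) : (uemb B).hom.app (op q) = uq B q := rfl

lemma isFilteredInjective_Iemb : IsFilteredInjective (Iemb B) := by
  intro p
  exact injective_gr_Ifun (lvl B) (Jn B) (fun i => inferInstance) p

lemma mono_uq (q : ℤ) : Mono (uq B q) := by
  apply Preadditive.mono_of_cancel_zero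
  intro P x hx
  by_cases hq : B.b ≤ q
  · exact (B.zero q hq).eq_of_tgt _ _
  · have hb1 : B.b - 1 ∈ Set.Ico B.a B.b := ⟨by have := B.hab; omega, by omega⟩
    let n : Lv B := ⟨B.b - 1, hb1⟩
    have hn : q ≤ n.1 := by dsimp [n]; omega
    have h1 : (x ≫ toT B q) ≫ gn B n = 0 := by
      rw [Category.assoc, ← uq_π B q n hn, ← Category.assoc, hx, zero_comp]
    obtain ⟨x', hx'⟩ := factor_of_gn_zero B n _ h1
    have hz : IsZero (X.obj.obj (op (n.1 + 1))) := B.zero _ (by dsimp [n]; omega)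
    rw [hz.eq_of_tgt x' 0, zero_comp] at hx'
    exact zero_of_comp_mono _ hx'.symm

lemma mono_uemb : Mono (uemb B) := by
  have : ∀ q : ℤᵒᵖ, Mono ((uemb B).hom.app q) := fun q => mono_uq B q.unop
  have : Mono (uemb B).hom := NatTrans.mono_of_mono_app _
  exact (IsFinFil A).ι.mono_of_mono_map this

lemma isStrict_uemb : IsStrict (uemb B) := by
  rw [isStrict_iff]
  intro p q h T x z hxz
  rw [uemb_app] at hxz
  change T ⟶ Iobj (lvl B) (Jn B) q at z
  change x ≫ uq B p = z ≫ Itr (lvl B) (Jn B) h at hxz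
  change ∃ (T' : A) (π : T' ⟶ T) (_ : Epi π) (x' : T' ⟶ X.obj.obj (op q)), π ≫ z = x' ≫ uq B q
  -- it suffices to lift `x` to level `q`
  suffices hx' : ∃ x' : T ⟶ X.obj.obj (op q), x' ≫ tr X.obj h = x by
    obtain ⟨x', rfl⟩ := hx'
    refine ⟨T, 𝟙 T, inferInstance, x', ?_⟩
    rw [Category.id_comp, ← cancel_mono (Itr (lvl B) (Jn B) h), ← hxz, Category.assoc,
      Category.assoc, uq_nat]
  by_cases hqb : B.b ≤ q
  · refine ⟨0, ?_⟩
    have hz : IsZero (Iobj (lvl B) (Jn B) q) :=
      isZero_Iobj (lvl B) (Jn B) q (fun i hi => by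
        have := i.2.2
        have hi' : q ≤ i.1 := hi
        omega)
    have hxz' : x ≫ uq B p = 0 := by rw [hxz, hz.eq_of_tgt z 0, zero_comp]
    rw [zero_comp]
    haveI := mono_uq B p
    exact (zero_of_comp_mono _ hxz').symm
  by_cases hqa : q ≤ B.a
  · haveI := B.iso p q h hqa
    exact ⟨x ≫ inv (tr X.obj h), by rw [Category.assoc, IsIso.inv_hom_id, Category.comp_id]⟩
  by_cases hpq : p = q
  · subst hpq
    exact ⟨x, by rw [tr_refl, Category.comp_id]⟩
  -- main case: a < q < b, p < q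
  obtain ⟨m, rfl⟩ : ∃ m, q = m + 1 := ⟨q - 1, by ring⟩
  have hm : m ∈ Set.Ico B.a B.b := ⟨by omega, by omega⟩
  let n : Lv B := ⟨m, hm⟩
  have hpn : p ≤ n.1 := by dsimp [n]; omega
  have h1 : (x ≫ toT B p) ≫ gn B n = 0 := by
    have := hxz =≫ biproduct.π (Jq (lvl B) (Jn B) p) ⟨n, hpn⟩
    rw [Category.assoc, Category.assoc, uq_π, Itr_π, dif_neg (show ¬ (m + 1 ≤ m) by omega), comp_zero] at this
    rw [Category.assoc]
    exact this
  obtain ⟨x', hx'⟩ := factor_of_gn_zero B n _ h1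
  refine ⟨x', ?_⟩
  rw [← cancel_mono (toT B p), Category.assoc, tr_toT]
  exact hx'

end Embed

theorem exists_strict_mono_filteredInjective [EnoughInjectives A] (X : FilF A) :
    ∃ (I : FilF A) (u : X ⟶ I), IsFilteredInjective I ∧ Mono u ∧ IsStrict u := by
  obtain ⟨B⟩ := exists_bounds X
  exact ⟨Iemb B, uemb B, isFilteredInjective_Iemb B, mono_uemb B, isStrict_uemb B⟩

end Groth.Agent.Lib.helper2.FilDInj
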