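import Mathlib
import Groth.Agent.Lib.helper2.FilDLib
import Groth.Agent.Lib.helper2.FilDInj
import Groth.Agent.Lib.helper2.FilDCoker

set_option autoImplicit false
set_option linter.unusedSectionVars false
universe w v u
open CategoryTheory Limits Opposite FilD
open Groth.Agent.Lib.helper2.FilDLib Groth.Agent.Lib.helper2.FilDInj Groth.Agent.Lib.helper2.FilDCoker

namespace Groth.Agent.Lib.helper2.FilDRes

variable {A : Type u} [Category.{v} A] [Abelian A] [EnoughInjectives A]

/-- one stage of the resolution -/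
structure Step (A : Type u) [Category.{v} A] [Abelian A] where
  C : FilF A
  I : FilF A
  u : C ⟶ I
  hI : IsFilteredInjective I
  hmono : ∀ q : ℤ, Mono (u.hom.app (op q))
  hstrict : IsStrict u

noncomputable def mkStep (X : FilF A) : Step A :=
  let B := Classical.choice (exists_bounds X)
  { C := X
    I := Iemb B
    u := uemb B
    hI := isFilteredInjective_Iemb B
    hmono := fun q => mono_uq B q
    hstrict := isStrict_uemb B }

lemma mkStep_C (X : FilF A) : (mkStep X).C = X := rfl

noncomputable def next (s : Step A) : Step A := mkStep (cokerObj s.u s.hstrict)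

/-- the embedding of the cokernel, with its syntactic source -/
noncomputable def nextU (s : Step A) : cokerObj s.u s.hstrict ⟶ (next s).I := (next s).u

/-- the differential of one stage -/
noncomputable def stepD (s : Step A) : s.I ⟶ (next s).I := cokerProj s.u s.hstrict ≫ nextU s

lemma u_stepD (s : Step A) : s.u ≫ stepD s = 0 := by
  unfold stepD
  rw [← Category.assoc, comp_cokerProj, zero_comp]

lemma nextU_stepD (s : Step A) : nextU s ≫ stepD (next s) = 0 := u_stepD (next s)

lemma stepD_stepD (s : Step A) : stepD s ≫ stepD (next s) = 0 := by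
  change (cokerProj s.u s.hstrict ≫ nextU s) ≫ stepD (next s) = 0
  rw [Category.assoc, nextU_stepD, comp_zero]

lemma mono_gr_u (s : Step A) (p : ℤ) : Mono ((grF A p).map s.u) :=
  mono_gr_of_strict_mono s.u s.hstrict s.hmono p

lemma mono_gr_nextU (s : Step A) (p : ℤ) : Mono ((grF A p).map (nextU s)) :=
  mono_gr_u (next s) p

lemma gr_stepD (s : Step A) (p : ℤ) : (grF A p).map (stepD s) =
    (grF A p).map (cokerProj s.u s.hstrict) ≫ (grF A p).map (nextU s) := by
  unfold stepD
  rw [Functor.map_comp]

/-- exactness of `gr C ⟶ gr I ⟶ gr I'` -/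
lemma exact_gr_u_stepD (s : Step A) (p : ℤ) :
    (ShortComplex.mk ((grF A p).map s.u) ((grF A p).map (stepD s))
      (by rw [← Functor.map_comp, u_stepD, Functor.map_zero])).Exact := by
  have h := exact_gr_coker s.u s.hstrict p
  have := mono_gr_nextU s p
  let φ : ShortComplex.mk ((grF A p).map s.u) ((grF A p).map (cokerProj s.u s.hstrict))
        (by rw [← Functor.map_comp, comp_cokerProj, Functor.map_zero]) ⟶
      ShortComplex.mk ((grF A p).map s.u) ((grF A p).map (stepD s))
        (by rw [← Functor.map_comp, u_stepD, Functor.map_zero]) :=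
    { τ₁ := 𝟙 _
      τ₂ := 𝟙 _
      τ₃ := (grF A p).map (nextU s)
      comm₁₂ := by simp
      comm₂₃ := by
        dsimp only
        rw [Category.id_comp, gr_stepD] }
  have : Epi φ.τ₁ := by dsimp [φ]; infer_instance
  have : IsIso φ.τ₂ := by dsimp [φ]; infer_instance
  have : Mono φ.τ₃ := mono_gr_nextU s p
  exact (ShortComplex.exact_iff_of_epi_of_isIso_of_mono φ).mp h

/-- exactness of `gr I ⟶ gr I' ⟶ gr I''` -/
lemma exact_gr_stepD (s : Step A) (p : ℤ) :
    (ShortComplex.mk ((grF A p).map (stepD s)) ((grF A p).map (stepD (next s)))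
      (by rw [← Functor.map_comp, stepD_stepD, Functor.map_zero])).Exact := by
  have h : (ShortComplex.mk ((grF A p).map (nextU s)) ((grF A p).map (stepD (next s)))
      (by rw [← Functor.map_comp, nextU_stepD, Functor.map_zero])).Exact :=
    exact_gr_u_stepD (next s) p
  have := epi_gr_cokerProj s.u s.hstrict p
  let φ : ShortComplex.mk ((grF A p).map (stepD s)) ((grF A p).map (stepD (next s)))
        (by rw [← Functor.map_comp, stepD_stepD, Functor.map_zero]) ⟶
      ShortComplex.mk ((grF A p).map (nextU s)) ((grF A p).map (stepD (next s)))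
        (by rw [← Functor.map_comp, nextU_stepD, Functor.map_zero]) :=
    { τ₁ := (grF A p).map (cokerProj s.u s.hstrict)
      τ₂ := 𝟙 _
      τ₃ := 𝟙 _
      comm₁₂ := by
        dsimp only
        rw [Category.comp_id, gr_stepD]
      comm₂₃ := by simp }
  have : Epi φ.τ₁ := epi_gr_cokerProj s.u s.hstrict p
  have : IsIso φ.τ₂ := by dsimp [φ]; infer_instance
  have : Mono φ.τ₃ := by dsimp [φ]; infer_instance
  exact (ShortComplex.exact_iff_of_epi_of_isIso_of_mono φ).mpr h

noncomputable def seq (X : FilF A) : ℕ → Step A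
  | 0 => mkStep X
  | k + 1 => next (seq X k)

variable (X : FilF A)

lemma seq_succ (k : ℕ) : seq X (k + 1) = next (seq X k) := rfl

/-- differential -/
noncomputable def dN (k : ℕ) : (seq X k).I ⟶ (seq X (k + 1)).I := stepD (seq X k)

lemma dN_dN (k : ℕ) : dN X k ≫ dN X (k + 1) = 0 := stepD_stepD (seq X k)

open ZeroObject in
noncomputable def XZ : ℤ → FilF A
  | Int.ofNat k => (seq X k).I
  | Int.negSucc _ => 0

open ZeroObject in
noncomputable def dZ : ∀ n : ℤ, XZ X n ⟶ XZ X (n + 1)
  | Int.ofNat k => dN X k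
  | Int.negSucc _ => 0

lemma dZ_dZ (n : ℤ) : dZ X n ≫ dZ X (n + 1) = 0 := by
  cases n with
  | ofNat k => exact dN_dN X k
  | negSucc k => exact zero_comp

noncomputable def Icx : CochainComplex (FilF A) ℤ := CochainComplex.of (XZ X) (dZ X) (dZ_dZ X)


/-- the differential, typed in terms of `Icx` -/
noncomputable def dI (n : ℤ) : (Icx X).X n ⟶ (Icx X).X (n + 1) := dZ X n

lemma Icx_d (n : ℤ) : (Icx X).d n (n + 1) = dI X n :=
  CochainComplex.of_d _ _ _

lemma dI_dI (n : ℤ) : dI X n ≫ dI X (n + 1) = 0 := dZ_dZ X n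

lemma isZero_XZ_neg (n : ℤ) (hn : n < 0) : IsZero (XZ X n) := by
  cases n with
  | ofNat k => exact absurd hn (by simp)
  | negSucc k => exact isZero_zero _

instance : (Icx X).IsStrictlyGE 0 := by
  rw [CochainComplex.isStrictlyGE_iff]
  intro i hi
  exact isZero_XZ_neg X i hi

lemma isFilteredInjective_of_isZero (Z : FilF A) (hZ : IsZero Z) : IsFilteredInjective Z := by
  intro p
  exact ((grF A p).map_isZero hZ).injective

lemma isFilteredInjective_Icx (n : ℤ) : IsFilteredInjective ((Icx X).X n) := by
  cases n with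
  | ofNat k => exact (seq X k).hI
  | negSucc k => exact isFilteredInjective_of_isZero _ (isZero_zero _)

/-- the augmentation in degree zero, with syntactic types -/
noncomputable def u0 : X ⟶ (Icx X).X 0 := (seq X 0).u

lemma u0_dI : u0 X ≫ dI X 0 = 0 := u_stepD (seq X 0)

lemma u0_d : u0 X ≫ (Icx X).d 0 (0 + 1) = 0 := by
  rw [Icx_d]
  exact u0_dI X

/-- the augmentation -/
noncomputable def aug : (HomologicalComplex.single (FilF A) (ComplexShape.up ℤ) 0).obj X ⟶ Icx X :=
  HomologicalComplex.mkHomFromSingle (K := Icx X) (j := 0) (A := X) (u0 X) (by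
    intro k hk
    have hk' : (0 : ℤ) + 1 = k := hk
    subst hk'
    exact u0_d X)

lemma aug_f_zero : (aug X).f 0 =
    (HomologicalComplex.singleObjXSelf (ComplexShape.up ℤ) 0 X).hom ≫ u0 X :=
  HomologicalComplex.mkHomFromSingle_f _ _

section QI

variable {C : Type*} [Category C] [HasZeroMorphisms C]

lemma exact_mk_congr {X₁ X₂ X₃ : C} {f f' : X₁ ⟶ X₂} {g g' : X₂ ⟶ X₃} (hf : f = f') (hg : g = g')
    (w : f ≫ g = 0) (w' : f' ≫ g' = 0) (h : (ShortComplex.mk f' g' w').Exact) :
    (ShortComplex.mk f g w).Exact := by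
  subst hf hg
  exact h

end QI

lemma mono_gr_u0 (p : ℤ) : Mono ((grF A p).map (u0 X)) := mono_gr_u (seq X 0) p

lemma exact_gr_u0 (p : ℤ) :
    (ShortComplex.mk ((grF A p).map (u0 X)) ((grF A p).map ((Icx X).d 0 (0 + 1)))
      (by rw [← Functor.map_comp, u0_d, Functor.map_zero])).Exact := by
  refine exact_mk_congr rfl (congrArg _ (Icx_d X 0)) _
    (by rw [← Functor.map_comp, u0_dI, Functor.map_zero]) ?_
  exact exact_gr_u_stepD (seq X 0) p

lemma exact_gr_Icx_succ (p : ℤ) (k : ℕ) :
    (ShortComplex.mk ((grF A p).map ((Icx X).d (k : ℤ) ((k : ℤ) + 1)))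
      ((grF A p).map ((Icx X).d ((k : ℤ) + 1) ((k : ℤ) + 1 + 1)))
      (by rw [← Functor.map_comp, HomologicalComplex.d_comp_d, Functor.map_zero])).Exact := by
  refine exact_mk_congr (congrArg _ (Icx_d X k)) (congrArg _ (Icx_d X (k + 1))) _
    (by rw [← Functor.map_comp, dI_dI, Functor.map_zero]) ?_
  exact exact_gr_stepD (seq X k) p

lemma exactAt_gr_Icx (p n : ℤ) (hn : n ≠ 0) : ((grCx p).obj (Icx X)).ExactAt n := by
  by_cases hneg : n < 0
  · exact ShortComplex.exact_of_isZero_X₂ _ ((grF A p).map_isZero (isZero_XZ_neg X n hneg))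
  · obtain ⟨k, rfl⟩ : ∃ k : ℕ, n = (k : ℤ) + 1 := ⟨(n - 1).toNat, by omega⟩
    rw [HomologicalComplex.exactAt_iff' _ (k : ℤ) ((k : ℤ) + 1) ((k : ℤ) + 1 + 1) (by simp)
      (by simp)]
    exact exact_gr_Icx_succ X p k

lemma isFilteredQuasiIso_aug : IsFilteredQuasiIso (aug X) := by
  intro p
  rw [quasiIso_iff]
  intro n
  by_cases hn : n = 0
  · subst hn
    rw [quasiIsoAt_iff' _ (-1) 0 1 (by simp) (by simp)]
    rw [ShortComplex.quasiIso_iff_of_zeros]
    rotate_left
    · change (grF A p).map (((HomologicalComplex.single (FilF A) (ComplexShape.up ℤ) 0).obj X).d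
        (-1) 0) = 0
      rw [HomologicalComplex.single_obj_d, Functor.map_zero]
    · change (grF A p).map (((HomologicalComplex.single (FilF A) (ComplexShape.up ℤ) 0).obj X).d
        0 1) = 0
      rw [HomologicalComplex.single_obj_d, Functor.map_zero]
    · have h0 : (Icx X).d (-1) 0 = 0 := (isZero_XZ_neg X (-1) (by norm_num)).eq_of_src _ _
      change (grF A p).map ((Icx X).d (-1) 0) = 0
      rw [h0, Functor.map_zero]
    have hτ : ((HomologicalComplex.shortComplexFunctor' A (ComplexShape.up ℤ) (-1) 0 1).map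
        ((grCx p).map (aug X))).τ₂ =
        (grF A p).map (HomologicalComplex.singleObjXSelf (ComplexShape.up ℤ) 0 X).hom ≫
          (grF A p).map (u0 X) := by
      change (grF A p).map ((aug X).f 0) = _
      rw [aug_f_zero, Functor.map_comp]
    have hmono := mono_gr_u0 X p
    constructor
    · have h := exact_gr_u0 X p
      refine exact_mk_congr (f' := (grF A p).map
          (HomologicalComplex.singleObjXSelf (ComplexShape.up ℤ) 0 X).hom ≫
            (grF A p).map (u0 X))
        (g' := (grF A p).map ((Icx X).d 0 (0 + 1))) hτ rfl _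
        (by rw [Category.assoc, ← (grF A p).map_comp (u0 X), u0_d, Functor.map_zero,
          comp_zero]) ?_
      let φ : ShortComplex.mk ((grF A p).map
            (HomologicalComplex.singleObjXSelf (ComplexShape.up ℤ) 0 X).hom ≫
              (grF A p).map (u0 X)) ((grF A p).map ((Icx X).d 0 (0 + 1)))
            (by rw [Category.assoc, ← (grF A p).map_comp (u0 X), u0_d, Functor.map_zero,
              comp_zero]) ⟶
          ShortComplex.mk ((grF A p).map (u0 X)) ((grF A p).map ((Icx X).d 0 (0 + 1)))
            (by rw [← Functor.map_comp, u0_d, Functor.map_zero]) :=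
        { τ₁ := (grF A p).map (HomologicalComplex.singleObjXSelf (ComplexShape.up ℤ) 0 X).hom
          τ₂ := 𝟙 _
          τ₃ := 𝟙 _
          comm₁₂ := by simp
          comm₂₃ := by simp }
      have : Epi φ.τ₁ := by dsimp only [φ]; infer_instance
      have : IsIso φ.τ₂ := by dsimp only [φ]; infer_instance
      have : Mono φ.τ₃ := by dsimp only [φ]; infer_instance
      exact (ShortComplex.exact_iff_of_epi_of_isIso_of_mono φ).mpr h
    · rw [hτ]
      have hiso : IsIso ((grF A p).map
          (HomologicalComplex.singleObjXSelf (ComplexShape.up ℤ) 0 X).hom) :=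
        Functor.map_isIso _ _
      have : Mono ((grF A p).map (HomologicalComplex.singleObjXSelf (ComplexShape.up ℤ) 0 X).hom) :=
        IsIso.mono_of_iso _
      exact mono_comp' this hmono
  · have hK : ((grCx p).obj ((HomologicalComplex.single (FilF A) (ComplexShape.up ℤ) 0).obj X)).ExactAt n :=
      ShortComplex.exact_of_isZero_X₂ _ ((grF A p).map_isZero
        (HomologicalComplex.isZero_single_obj_X (ComplexShape.up ℤ) 0 X n hn))
    exact (quasiIsoAt_iff_exactAt _ n hK).mpr (exactAt_gr_Icx X p n hn)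

theorem main : ∃ (I : CochainComplex (FilF A) ℤ)
    (φ : (CochainComplex.singleFunctor (FilF A) 0).obj X ⟶ I), I.IsStrictlyGE 0 ∧
      (∀ n, IsFilteredInjective (I.X n)) ∧ IsFilteredQuasiIso φ :=
  ⟨Icx X, aug X, inferInstance, isFilteredInjective_Icx X, isFilteredQuasiIso_aug X⟩

end Groth.Agent.Lib.helper2.FilDRes
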