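import Mathlib
import Groth.Agent.Lib.helper2.FilDLib
import Groth.Agent.Lib.helper2.FilDCoker
import Groth.Agent.Lib.helper2.FilDCone

set_option autoImplicit false
set_option linter.unusedSectionVars false
universe w v u
open CategoryTheory Limits Opposite FilD
open Groth.Agent.Lib.helper2.FilDLib Groth.Agent.Lib.helper2.FilDCoker

namespace Groth.Agent.Lib.helper2.FilDTrunc

section Abelian

variable {B : Type*} [Category B] [Abelian B]

/-- a map of complexes which looks like `K ⟶ τ_{≥ a} K` is a quasi-isomorphism when `K` is exact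
below `a` -/
theorem quasiIso_of_truncGE_like {K L : CochainComplex B ℤ} (π : K ⟶ L) (a : ℤ)
    (hL : ∀ n, n < a → IsZero (L.X n))
    (hK : ∀ n, n < a → K.ExactAt n)
    (hepi : ∀ n, a ≤ n → Epi (π.f n))
    (hmono : ∀ n, a < n → Mono (π.f n))
    (hex : ∀ ⦃T : B⦄ (x : T ⟶ K.X a), x ≫ π.f a = 0 →
      ∃ (T' : B) (ρ : T' ⟶ T) (_ : Epi ρ) (y : T' ⟶ K.X (a - 1)), ρ ≫ x = y ≫ K.d (a - 1) a) :
    QuasiIso π := by
  rw [quasiIso_iff]
  intro n
  by_cases hn : n < a
  · have hLn : L.ExactAt n := ShortComplex.exact_of_isZero_X₂ _ (hL n hn)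
    exact (quasiIsoAt_iff_exactAt _ n (hK n hn)).mpr hLn
  · have hn' : a ≤ n := not_lt.mp hn
    rw [quasiIsoAt_iff_isIso_homologyMap]
    have hm : Mono (HomologicalComplex.homologyMap π n) := by
      rw [HomologicalComplex.mono_homologyMap_iff_up_to_refinements π (n - 1) n (n + 1)
        (by simp) (by simp)]
      intro T x₂ hx₂ y₁ hy₁
      by_cases hna : n = a
      · subst hna
        have : y₁ = 0 := (hL (n - 1) (by omega)).eq_of_tgt _ _
        rw [this, zero_comp] at hy₁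
        exact hex x₂ hy₁
      · have := hepi (n - 1) (by omega)
        have := hmono n (by omega)
        obtain ⟨T', ρ, hρ, x₁, hx₁⟩ := surjective_up_to_refinements_of_epi (π.f (n - 1)) y₁
        refine ⟨T', ρ, hρ, x₁, ?_⟩
        rw [← cancel_mono (π.f n), Category.assoc, hy₁, ← Category.assoc, hx₁, Category.assoc,
          Category.assoc, π.comm]
    have he : Epi (HomologicalComplex.homologyMap π n) := by
      rw [HomologicalComplex.epi_homologyMap_iff_up_to_refinements π (n - 1) n (n + 1)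
        (by simp) (by simp)]
      intro T y₂ hy₂
      have := hepi n hn'
      have := hmono (n + 1) (by omega)
      obtain ⟨T', ρ, hρ, x₂, hx₂⟩ := surjective_up_to_refinements_of_epi (π.f n) y₂
      refine ⟨T', ρ, hρ, x₂, ?_, 0, ?_⟩
      · rw [← cancel_mono (π.f (n + 1)), Category.assoc, ← π.comm, ← Category.assoc, ← hx₂,
          Category.assoc, hy₂, comp_zero, zero_comp]
      · rw [zero_comp, add_zero, hx₂]
    exact isIso_of_mono_of_epi _

/-- a map of complexes which looks like `τ_{≤ b} K ⟶ K` is a quasi-isomorphism when `K` is exact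
above `b` -/
theorem quasiIso_of_truncLE_like {M K : CochainComplex B ℤ} (ι : M ⟶ K) (b : ℤ)
    (hM : ∀ n, b < n → IsZero (M.X n))
    (hK : ∀ n, b < n → K.ExactAt n)
    (hmono : ∀ n, n ≤ b → Mono (ι.f n))
    (hepi : ∀ n, n < b → Epi (ι.f n))
    (hex : ∀ ⦃T : B⦄ (x : T ⟶ K.X b), x ≫ K.d b (b + 1) = 0 →
      ∃ (T' : B) (ρ : T' ⟶ T) (_ : Epi ρ) (y : T' ⟶ M.X b), ρ ≫ x = y ≫ ι.f b) :
    QuasiIso ι := by
  rw [quasiIso_iff]
  intro n
  by_cases hn : b < n
  · have hMn : M.ExactAt n := ShortComplex.exact_of_isZero_X₂ _ (hM n hn)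
    exact (quasiIsoAt_iff_exactAt _ n hMn).mpr (hK n hn)
  · have hn' : n ≤ b := not_lt.mp hn
    rw [quasiIsoAt_iff_isIso_homologyMap]
    have hm : Mono (HomologicalComplex.homologyMap ι n) := by
      rw [HomologicalComplex.mono_homologyMap_iff_up_to_refinements ι (n - 1) n (n + 1)
        (by simp) (by simp)]
      intro T x₂ hx₂ y₁ hy₁
      have := hepi (n - 1) (by omega)
      have := hmono n hn'
      obtain ⟨T', ρ, hρ, x₁, hx₁⟩ := surjective_up_to_refinements_of_epi (ι.f (n - 1)) y₁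
      refine ⟨T', ρ, hρ, x₁, ?_⟩
      rw [← cancel_mono (ι.f n), Category.assoc, hy₁, ← Category.assoc, hx₁, Category.assoc,
        Category.assoc, ι.comm]
    have he : Epi (HomologicalComplex.homologyMap ι n) := by
      rw [HomologicalComplex.epi_homologyMap_iff_up_to_refinements ι (n - 1) n (n + 1)
        (by simp) (by simp)]
      intro T y₂ hy₂
      by_cases hnb : n = b
      · subst hnb
        obtain ⟨T', ρ, hρ, x₂, hx₂⟩ := hex y₂ hy₂
        refine ⟨T', ρ, hρ, x₂, (hM (n + 1) (by omega)).eq_of_tgt _ _, 0, ?_⟩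
        rw [zero_comp, add_zero, hx₂]
      · have := hepi n (by omega)
        have := hmono (n + 1) (by omega)
        obtain ⟨T', ρ, hρ, x₂, hx₂⟩ := surjective_up_to_refinements_of_epi (ι.f n) y₂
        refine ⟨T', ρ, hρ, x₂, ?_, 0, ?_⟩
        · rw [← cancel_mono (ι.f (n + 1)), Category.assoc, ← ι.comm, ← Category.assoc, ← hx₂,
            Category.assoc, hy₂, comp_zero, zero_comp]
        · rw [zero_comp, add_zero, hx₂]
    exact isIso_of_mono_of_epi _

end Abelian


variable {A : Type u} [Category.{v} A] [Abelian A]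

section Shift

open CochainComplex

lemma isFilteredQuasiIso_of_isIso {K L : CochainComplex (FilF A) ℤ} (φ : K ⟶ L) [IsIso φ] :
    IsFilteredQuasiIso φ := fun p => by
  have : IsIso ((grCx p).map φ) := Functor.map_isIso _ _
  infer_instance

lemma isFilteredQuasiIso_comp {K L M : CochainComplex (FilF A) ℤ} (φ : K ⟶ L) (ψ : L ⟶ M)
    (hφ : IsFilteredQuasiIso φ) (hψ : IsFilteredQuasiIso ψ) : IsFilteredQuasiIso (φ ≫ ψ) :=
  fun p => by
    have := hφ p
    have := hψ p
    rw [Functor.map_comp]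
    infer_instance

lemma isFilteredQuasiIso_shift {K L : CochainComplex (FilF A) ℤ} (φ : K ⟶ L)
    (hφ : IsFilteredQuasiIso φ) (n : ℤ) : IsFilteredQuasiIso (φ⟦n⟧') := by
  intro p
  have := hφ p
  let e := (grF A p).mapCochainComplexShiftIso n
  have hnat := e.hom.naturality φ
  have h1 : QuasiIso (((grCx p).map φ)⟦n⟧') := (quasiIso_shift_iff _ n).mpr inferInstance
  have h2 : (grCx p).map (φ⟦n⟧') = e.hom.app K ≫ ((grCx p).map φ)⟦n⟧' ≫ e.inv.app L := by
    have : (grCx p).map (φ⟦n⟧') ≫ e.hom.app L = e.hom.app K ≫ ((grCx p).map φ)⟦n⟧' := hnat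
    rw [← Category.assoc, ← this, Category.assoc, Iso.hom_inv_id_app]
    exact (Category.comp_id _).symm
  rw [h2]
  infer_instance

lemma exactAt_gr_shift (K : CochainComplex (FilF A) ℤ) (a p n : ℤ)
    (h : ((grCx p).obj K).ExactAt (a + n)) : ((grCx p).obj (K⟦a⟧)).ExactAt n := by
  have e1 : (grCx p).obj (K⟦a⟧) ≅ ((grCx p).obj K)⟦a⟧ :=
    ((grF A p).mapCochainComplexShiftIso a).app K
  apply Groth.Agent.Lib.helper2.FilDCone.exactAt_of_iso e1
  exact (ShortComplex.exact_iff_of_iso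
    ((shiftShortComplexFunctorIso A a n (a + n) rfl).app ((grCx p).obj K))).mpr h

end Shift

section CokerDesc

variable {X Y Z : FilF A} (f : X ⟶ Y) (hf : IsStrict f)

lemma app_eq_zero_of_comp_eq_zero {X Y Z : FilF A} (f : X ⟶ Y) (g : Y ⟶ Z) (w : f ≫ g = 0)
    (q : ℤᵒᵖ) : f.hom.app q ≫ g.hom.app q = 0 :=
  comp_app_eq_zero (ShortComplex.mk f g w) q.unop

/-- descent from the cokernel -/
noncomputable def cokerDesc (g : Y ⟶ Z) (w : f ≫ g = 0) : cokerObj f hf ⟶ Z :=
  ObjectProperty.homMk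
    { app := fun q => cokernel.desc (f.hom.app q) (g.hom.app q) (app_eq_zero_of_comp_eq_zero f g w q)
      naturality := by
        intro q p h
        apply coequalizer.hom_ext
        dsimp [cokerObj, cokerFun]
        simp }

lemma cokerProj_desc (g : Y ⟶ Z) (w : f ≫ g = 0) : cokerProj f hf ≫ cokerDesc f hf g w = g := by
  apply ObjectProperty.hom_ext
  ext q
  exact cokernel.π_desc _ _ _

lemma cokerProj_cancel {h h' : cokerObj f hf ⟶ Z} (e : cokerProj f hf ≫ h = cokerProj f hf ≫ h') :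
    h = h' := by
  apply ObjectProperty.hom_ext
  ext q
  have e' : (cokerProj f hf ≫ h).hom.app q = (cokerProj f hf ≫ h').hom.app q := by rw [e]
  have : Epi ((cokerπ f).app q) := inferInstance
  exact (cancel_epi ((cokerπ f).app q)).mp e'

end CokerDesc


section GE0

variable (K : CochainComplex (FilF A) ℤ) (hs : IsStrict (K.d (-1) 0))

/-- the map from the cokernel to degree one -/
noncomputable def dC : cokerObj (K.d (-1) 0) hs ⟶ K.X 1 :=
  cokerDesc (K.d (-1) 0) hs (K.d 0 1) (K.d_comp_d _ _ _)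

lemma cokerProj_dC : cokerProj (K.d (-1) 0) hs ≫ dC K hs = K.d 0 1 := cokerProj_desc _ _ _ _

lemma dC_d : dC K hs ≫ K.d 1 (1 + 1) = 0 := by
  apply cokerProj_cancel (K.d (-1) 0) hs
  rw [← Category.assoc, cokerProj_dC, K.d_comp_d, comp_zero]

noncomputable def XGn : ℕ → FilF A
  | 0 => cokerObj (K.d (-1) 0) hs
  | (k + 1) => K.X ((k + 1 : ℕ) : ℤ)

open ZeroObject in
noncomputable def XG : ℤ → FilF A
  | Int.ofNat k => XGn K hs k
  | Int.negSucc _ => 0

noncomputable def dGn : ∀ k : ℕ, XGn K hs k ⟶ XGn K hs (k + 1)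
  | 0 => dC K hs
  | (k + 1) => K.d ((k + 1 : ℕ) : ℤ) ((k + 1 + 1 : ℕ) : ℤ)

open ZeroObject in
noncomputable def dG : ∀ n : ℤ, XG K hs n ⟶ XG K hs (n + 1)
  | Int.ofNat k => dGn K hs k
  | Int.negSucc _ => 0

lemma dGn_dGn (k : ℕ) : dGn K hs k ≫ dGn K hs (k + 1) = 0 := by
  match k with
  | 0 => exact dC_d K hs
  | (k + 1) => exact K.d_comp_d _ _ _

lemma dG_dG (n : ℤ) : dG K hs n ≫ dG K hs (n + 1) = 0 := by
  match n with
  | Int.ofNat k => exact dGn_dGn K hs k
  | Int.negSucc _ => exact zero_comp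

noncomputable def LG : CochainComplex (FilF A) ℤ := CochainComplex.of (XG K hs) (dG K hs) (dG_dG K hs)

noncomputable def πGn : ∀ k : ℕ, K.X (k : ℤ) ⟶ XGn K hs k
  | 0 => cokerProj (K.d (-1) 0) hs
  | (k + 1) => 𝟙 _

open ZeroObject in
noncomputable def πGf : ∀ n : ℤ, K.X n ⟶ XG K hs n
  | Int.ofNat k => πGn K hs k
  | Int.negSucc _ => 0

lemma πGn_comm (k : ℕ) :
    πGn K hs k ≫ dGn K hs k = K.d (k : ℤ) ((k + 1 : ℕ) : ℤ) ≫ πGn K hs (k + 1) := by
  match k with
  | 0 =>
    change cokerProj (K.d (-1) 0) hs ≫ dC K hs = K.d 0 1 ≫ 𝟙 _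
    rw [cokerProj_dC, Category.comp_id]
  | (k + 1) =>
    change 𝟙 _ ≫ K.d ((k + 1 : ℕ) : ℤ) ((k + 1 + 1 : ℕ) : ℤ) =
      K.d ((k + 1 : ℕ) : ℤ) ((k + 1 + 1 : ℕ) : ℤ) ≫ 𝟙 _
    rw [Category.id_comp, Category.comp_id]

lemma πGf_comm (n : ℤ) : πGf K hs n ≫ dG K hs n = K.d n (n + 1) ≫ πGf K hs (n + 1) := by
  match n with
  | Int.ofNat k => exact πGn_comm K hs k
  | Int.negSucc 0 =>
    change 0 ≫ _ = K.d (-1) 0 ≫ cokerProj (K.d (-1) 0) hs
    rw [zero_comp, comp_cokerProj]
  | Int.negSucc (k + 1) =>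
    change 0 ≫ _ = K.d (Int.negSucc (k + 1)) (Int.negSucc k) ≫ 0
    rw [zero_comp, comp_zero]

noncomputable def πG : K ⟶ LG K hs where
  f n := πGf K hs n
  comm' i j hij := by
    have hij' : i + 1 = j := hij
    subst hij'
    have : (LG K hs).d i (i + 1) = dG K hs i := CochainComplex.of_d _ _ _
    rw [this]
    exact πGf_comm K hs i

lemma isZero_XG_neg (n : ℤ) (hn : n < 0) : IsZero (XG K hs n) := by
  match n with
  | Int.ofNat k => exact absurd hn (by simp)
  | Int.negSucc k => exact isZero_zero _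

instance : (LG K hs).IsStrictlyGE 0 := by
  rw [CochainComplex.isStrictlyGE_iff]
  intro i hi
  exact isZero_XG_neg K hs i hi

lemma epi_gr_πGn (p : ℤ) (k : ℕ) : Epi ((grF A p).map (πGn K hs k)) := by
  match k with
  | 0 => exact epi_gr_cokerProj (K.d (-1) 0) hs p
  | (k + 1) =>
    change Epi ((grF A p).map (𝟙 (K.X ((k + 1 : ℕ) : ℤ))))
    rw [CategoryTheory.Functor.map_id]
    infer_instance

lemma mono_gr_πGn (p : ℤ) (k : ℕ) : Mono ((grF A p).map (πGn K hs (k + 1))) := by
  change Mono ((grF A p).map (𝟙 (K.X ((k + 1 : ℕ) : ℤ))))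
  rw [CategoryTheory.Functor.map_id]
  infer_instance

lemma isFilteredQuasiIso_πG (hK : ∀ p n : ℤ, n < 0 → ((grCx p).obj K).ExactAt n) :
    IsFilteredQuasiIso (πG K hs) := by
  intro p
  apply quasiIso_of_truncGE_like ((grCx p).map (πG K hs)) 0
  · intro n hn
    exact (grF A p).map_isZero (isZero_XG_neg K hs n hn)
  · intro n hn
    exact hK p n hn
  · intro n hn
    match n with
    | Int.ofNat k => exact epi_gr_πGn K hs p k
    | Int.negSucc k => exact absurd hn (by simp)
  · intro n hn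
    match n with
    | Int.ofNat 0 => exact absurd hn (by simp)
    | Int.ofNat (k + 1) => exact mono_gr_πGn K hs p k
    | Int.negSucc k => exact absurd hn (by simp)
  · intro T x hx
    exact (exact_gr_coker (K.d (-1) 0) hs p).exact_up_to_refinements x hx

end GE0

section GE

open CochainComplex

lemma isStrict_d_of_exactAt (K : CochainComplex (FilF A) ℤ) (i j k : ℤ) (hij : i + 1 = j)
    (hjk : j + 1 = k) (hK : ∀ p : ℤ, ((grCx p).obj K).ExactAt j) :
    IsStrict (K.d i j) ∧ IsStrict (K.d j k) := by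
  let S := ShortComplex.mk (K.d i j) (K.d j k) (K.d_comp_d _ _ _)
  have hS : ∀ p : ℤ, (S.map (grF A p)).Exact := by
    intro p
    have := hK p
    rw [HomologicalComplex.exactAt_iff' _ i j k (by simp; omega) (by simp; omega)] at this
    exact this
  exact ⟨isStrict_f S hS, isStrict_g S hS⟩

theorem exists_truncGE (K : CochainComplex (FilF A) ℤ) (a : ℤ)
    (hK : ∀ (p n : ℤ), n < a → IsZero (((grCx p).obj K).homology n)) :
    ∃ (L : CochainComplex (FilF A) ℤ) (φ : K ⟶ L), L.IsStrictlyGE a ∧ IsFilteredQuasiIso φ := by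
  have hK' : ∀ (p n : ℤ), n < a → ((grCx p).obj K).ExactAt n := by
    intro p n hn
    rw [HomologicalComplex.exactAt_iff_isZero_homology]
    exact hK p n hn
  have hK0 : ∀ p n : ℤ, n < 0 → ((grCx p).obj (K⟦a⟧)).ExactAt n := by
    intro p n hn
    exact exactAt_gr_shift K a p n (hK' p (a + n) (by omega))
  have hs : IsStrict ((K⟦a⟧).d (-1) 0) :=
    (isStrict_d_of_exactAt (K⟦a⟧) (-2) (-1) 0 (by norm_num) (by norm_num)
      (fun p => hK0 p (-1) (by norm_num))).2
  refine ⟨(LG (K⟦a⟧) hs)⟦-a⟧,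
    (shiftFunctorCompIsoId (CochainComplex (FilF A) ℤ) a (-a) (by omega)).inv.app K ≫
      (πG (K⟦a⟧) hs)⟦-a⟧', ?_, ?_⟩
  · exact (LG (K⟦a⟧) hs).isStrictlyGE_shift 0 (-a) a (by omega)
  · apply isFilteredQuasiIso_comp
    · exact isFilteredQuasiIso_of_isIso _
    · exact isFilteredQuasiIso_shift _ (isFilteredQuasiIso_πG (K⟦a⟧) hs hK0) _

end GE

end Groth.Agent.Lib.helper2.FilDTrunc
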