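import Mathlib
import Groth.Agent.Lib.helper2.FilDLib
import Groth.Agent.Lib.helper2.FilDInj
import Groth.Agent.Lib.helper2.FilDCoker
import Groth.Agent.Lib.helper2.FilDBiprod
import Groth.Agent.Lib.helper2.FilDTrunc
import Groth.Agent.Lib.helper2.FilDRes

set_option autoImplicit false
set_option linter.unusedSectionVars false
universe w v u
open CategoryTheory Limits Opposite FilD
open Groth.Agent.Lib.helper2.FilDLib Groth.Agent.Lib.helper2.FilDInj Groth.Agent.Lib.helper2.FilDCoker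
open Groth.Agent.Lib.helper2.FilDBiprod Groth.Agent.Lib.helper2.FilDTrunc

namespace Groth.Agent.Lib.helper2.FilDCx

variable {A : Type u} [Category.{v} A] [Abelian A]

/-- evaluation at level `q` -/
noncomputable abbrev ev (q : ℤ) : FilF A ⥤ A := (IsFinFil A).ι ⋙ (evaluation ℤᵒᵖ A).obj (op q)

lemma ev_map {X Y : FilF A} (f : X ⟶ Y) (q : ℤ) : (ev q).map f = f.hom.app (op q) := rfl

instance (q : ℤ) : (ev (A := A) q).Additive := inferInstance

lemma mono_of_app_mono {X Y : FilF A} (f : X ⟶ Y) (h : ∀ q : ℤ, Mono (f.hom.app (op q))) :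
    Mono f := by
  have : ∀ q : ℤᵒᵖ, Mono (f.hom.app q) := fun q => h q.unop
  have : Mono f.hom := NatTrans.mono_of_mono_app _
  exact (IsFinFil A).ι.mono_of_mono_map this

lemma comp_app {X Y Z : FilF A} (f : X ⟶ Y) (g : Y ⟶ Z) (q : ℤ) :
    (f ≫ g).hom.app (op q) = f.hom.app (op q) ≫ g.hom.app (op q) := rfl

/-- if `m ≫ f` is a strict levelwise mono then so is `m` -/
lemma strict_of_comp {P Y I : FilF A} (m : P ⟶ Y) (f : Y ⟶ I) (hs : IsStrict (m ≫ f))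
    (hm : ∀ q : ℤ, Mono ((m ≫ f).hom.app (op q))) :
    IsStrict m ∧ ∀ q : ℤ, Mono (m.hom.app (op q)) := by
  have hm' : ∀ q : ℤ, Mono (m.hom.app (op q)) := by
    intro q
    have := hm q
    rw [comp_app] at this
    exact mono_of_mono _ (f.hom.app (op q))
  refine ⟨?_, hm'⟩
  rw [isStrict_iff]
  intro p q h T x z hxz
  have h1 : x ≫ (m ≫ f).hom.app (op p) = (z ≫ f.hom.app (op q)) ≫ tr I.obj h := by
    rw [comp_app, ← Category.assoc, hxz, Category.assoc, Category.assoc, tr_naturality]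
  obtain ⟨T', π, hπ, x', hx'⟩ := (isStrict_iff (m ≫ f)).mp hs p q h T x _ h1
  refine ⟨T', π, hπ, x', ?_⟩
  have hmt : Mono (tr Y.obj h) := mono_tr Y.property h
  have hmp := hm p
  have h2 : x' ≫ tr P.obj h = π ≫ x := by
    rw [← cancel_mono ((m ≫ f).hom.app (op p)), Category.assoc, ← tr_naturality,
      ← Category.assoc, ← hx', Category.assoc, Category.assoc, Category.assoc, h1]
    simp only [Category.assoc]
  rw [← cancel_mono (tr Y.obj h), Category.assoc, ← hxz, Category.assoc, tr_naturality,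
    ← Category.assoc x', h2, Category.assoc]


section Pushout

variable {P I X : FilF A} (ι : P ⟶ I) (t : P ⟶ X) (hι : IsStrict ι)
  (hmι : ∀ q : ℤ, Mono (ι.hom.app (op q)))

/-- the map `(ι, -t) : P ⟶ I ⊞ X` -/
noncomputable def mm : P ⟶ I ⊞ X := biprod.lift ι (-t)

lemma mm_fst : mm ι t ≫ biprod.fst = ι := biprod.lift_fst _ _

lemma mm_snd : mm ι t ≫ biprod.snd = -t := biprod.lift_snd _ _

lemma mm_eq : mm ι t = ι ≫ biprod.inl - t ≫ biprod.inr := by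
  unfold mm
  rw [biprod.lift_eq, Preadditive.neg_comp, sub_eq_add_neg]

include hι hmι in
lemma isStrict_mm : IsStrict (mm ι t) :=
  (strict_of_comp (mm ι t) biprod.fst (by rw [mm_fst]; exact hι) (by rw [mm_fst]; exact hmι)).1

include hι hmι in
lemma mono_mm_app (q : ℤ) : Mono ((mm ι t).hom.app (op q)) :=
  (strict_of_comp (mm ι t) biprod.fst (by rw [mm_fst]; exact hι) (by rw [mm_fst]; exact hmι)).2 q

/-- the pushout of `ι` along `t` -/
noncomputable def Q : FilF A := cokerObj (mm ι t) (isStrict_mm ι t hι hmι)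

noncomputable def pr : I ⊞ X ⟶ Q ι t hι hmι := cokerProj (mm ι t) (isStrict_mm ι t hι hmι)

lemma mm_pr : mm ι t ≫ pr ι t hι hmι = 0 := comp_cokerProj _ _

noncomputable def kap : X ⟶ Q ι t hι hmι := biprod.inr ≫ pr ι t hι hmι

noncomputable def inI : I ⟶ Q ι t hι hmι := biprod.inl ≫ pr ι t hι hmι

lemma ι_inI : ι ≫ inI ι t hι hmι = t ≫ kap ι t hι hmι := by
  have h := mm_pr ι t hι hmι
  rw [mm_eq, Preadditive.sub_comp, sub_eq_zero] at h
  unfold inI kap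
  simpa only [Category.assoc] using h

noncomputable def descQ {Z : FilF A} (a : I ⟶ Z) (b : X ⟶ Z) (w : ι ≫ a = t ≫ b) :
    Q ι t hι hmι ⟶ Z :=
  cokerDesc (mm ι t) (isStrict_mm ι t hι hmι) (biprod.desc a b) (by
    rw [mm_eq, Preadditive.sub_comp, Category.assoc, Category.assoc, biprod.inl_desc,
      biprod.inr_desc, w, sub_self])

lemma pr_descQ {Z : FilF A} (a : I ⟶ Z) (b : X ⟶ Z) (w : ι ≫ a = t ≫ b) :
    pr ι t hι hmι ≫ descQ ι t hι hmι a b w = biprod.desc a b := cokerProj_desc _ _ _ _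

lemma inI_descQ {Z : FilF A} (a : I ⟶ Z) (b : X ⟶ Z) (w : ι ≫ a = t ≫ b) :
    inI ι t hι hmι ≫ descQ ι t hι hmι a b w = a := by
  unfold inI
  rw [Category.assoc, pr_descQ, biprod.inl_desc]

lemma kap_descQ {Z : FilF A} (a : I ⟶ Z) (b : X ⟶ Z) (w : ι ≫ a = t ≫ b) :
    kap ι t hι hmι ≫ descQ ι t hι hmι a b w = b := by
  unfold kap
  rw [Category.assoc, pr_descQ, biprod.inr_desc]

lemma Q_hom_ext {Z : FilF A} {f g : Q ι t hι hmι ⟶ Z}
    (h1 : inI ι t hι hmι ≫ f = inI ι t hι hmι ≫ g)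
    (h2 : kap ι t hι hmι ≫ f = kap ι t hι hmι ≫ g) : f = g := by
  apply cokerProj_cancel (mm ι t) (isStrict_mm ι t hι hmι)
  apply biprod.hom_ext'
  · have h1' : biprod.inl ≫ pr ι t hι hmι ≫ f = biprod.inl ≫ pr ι t hι hmι ≫ g := by
      simpa only [inI, Category.assoc] using h1
    exact h1'
  · have h2' : biprod.inr ≫ pr ι t hι hmι ≫ f = biprod.inr ≫ pr ι t hι hmι ≫ g := by
      simpa only [kap, Category.assoc] using h2
    exact h2'

lemma pr_app (q : ℤ) : (pr ι t hι hmι).hom.app (op q) = (cokerπ (mm ι t)).app (op q) := rfl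

lemma total_app (q : ℤ) {T : A} (w : T ⟶ (I ⊞ X).obj.obj (op q)) :
    w = (w ≫ (biprod.fst : I ⊞ X ⟶ I).hom.app (op q)) ≫ (biprod.inl : I ⟶ I ⊞ X).hom.app (op q) +
      (w ≫ (biprod.snd : I ⊞ X ⟶ X).hom.app (op q)) ≫ (biprod.inr : X ⟶ I ⊞ X).hom.app (op q) := by
  have h : (ev q).map (biprod.fst ≫ biprod.inl + biprod.snd ≫ biprod.inr : I ⊞ X ⟶ I ⊞ X) =
      (ev q).map (𝟙 _) := by rw [biprod.total]
  rw [Functor.map_add, Functor.map_comp, Functor.map_comp, CategoryTheory.Functor.map_id] at h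
  simp only [ev_map] at h
  have h2 := congrArg (fun φ => w ≫ φ) h
  simp only [Preadditive.comp_add] at h2
  rw [Category.assoc, Category.assoc]
  refine Eq.trans ?_ h2.symm
  exact (Category.comp_id _).symm

lemma mono_kap_app (q : ℤ) : Mono ((kap ι t hι hmι).hom.app (op q)) := by
  apply Preadditive.mono_of_cancel_zero
  intro T x hx
  have hx' : (x ≫ (biprod.inr : X ⟶ I ⊞ X).hom.app (op q)) ≫ (cokerπ (mm ι t)).app (op q) = 0 := by
    rw [Category.assoc]; exact hx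
  obtain ⟨T₁, e, he, p₀, hp₀⟩ := exists_lift_of_comp_cokerπ_eq_zero (mm ι t) q _ hx'
  have h1 : p₀ ≫ ι.hom.app (op q) = 0 := by
    have h := hp₀ =≫ (biprod.fst : I ⊞ X ⟶ I).hom.app (op q)
    simp only [Category.assoc] at h
    rw [← comp_app, ← comp_app, mm_fst, biprod.inr_fst] at h
    rw [← h]
    change e ≫ x ≫ (0 : (X.obj.obj (op q)) ⟶ _) = 0
    rw [comp_zero, comp_zero]
  have := hmι q
  have h2 : p₀ = 0 := zero_of_comp_mono _ h1
  rw [h2, zero_comp] at hp₀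
  have h3 := hp₀ =≫ (biprod.snd : I ⊞ X ⟶ X).hom.app (op q)
  simp only [Category.assoc, zero_comp] at h3
  rw [← comp_app, biprod.inr_snd] at h3
  have h4 : e ≫ x = 0 := by
    have : (𝟙 X : X ⟶ X).hom.app (op q) = 𝟙 _ := rfl
    rw [this, Category.comp_id] at h3
    exact h3
  rw [← cancel_epi e, h4, comp_zero]


lemma kap_app (q : ℤ) : (kap ι t hι hmι).hom.app (op q) =
    (biprod.inr : X ⟶ I ⊞ X).hom.app (op q) ≫ (cokerπ (mm ι t)).app (op q) := rfl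

lemma isStrict_kap : IsStrict (kap ι t hι hmι) := by
  rw [isStrict_iff]
  intro p q h T x z hxz
  change T ⟶ (cokerFun (mm ι t)).obj (op q) at z
  have hxz' : x ≫ ((biprod.inr : X ⟶ I ⊞ X).hom.app (op p) ≫ (cokerπ (mm ι t)).app (op p)) =
      z ≫ tr (cokerFun (mm ι t)) h := hxz
  clear hxz
  suffices hgoal : ∃ (T' : A) (π : T' ⟶ T) (_ : Epi π) (x' : T' ⟶ X.obj.obj (op q)),
      π ≫ z = x' ≫ ((biprod.inr : X ⟶ I ⊞ X).hom.app (op q) ≫ (cokerπ (mm ι t)).app (op q)) from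
    hgoal
  obtain ⟨T₁, e₁, he₁, y, hy⟩ :=
    surjective_up_to_refinements_of_epi ((cokerπ (mm ι t)).app (op q)) z
  have h1 : (e₁ ≫ x ≫ (biprod.inr : X ⟶ I ⊞ X).hom.app (op p) - y ≫ tr (I ⊞ X).obj h) ≫
      (cokerπ (mm ι t)).app (op p) = 0 := by
    rw [Preadditive.sub_comp, sub_eq_zero]
    have hA : (e₁ ≫ x ≫ (biprod.inr : X ⟶ I ⊞ X).hom.app (op p)) ≫ (cokerπ (mm ι t)).app (op p) =
        e₁ ≫ z ≫ tr (cokerFun (mm ι t)) h := by
      rw [← hxz']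
      simp only [Category.assoc]
    have hB : (y ≫ tr (I ⊞ X).obj h) ≫ (cokerπ (mm ι t)).app (op p) =
        e₁ ≫ z ≫ tr (cokerFun (mm ι t)) h := by
      rw [Category.assoc, ← tr_cokerFun_π, ← Category.assoc y, ← hy, Category.assoc]
    rw [hA, hB]
  obtain ⟨T₂, e₂, he₂, p₀, hp₀⟩ := exists_lift_of_comp_cokerπ_eq_zero (mm ι t) p _ h1
  have h2 : p₀ ≫ ι.hom.app (op p) =
      (-(e₂ ≫ y ≫ (biprod.fst : I ⊞ X ⟶ I).hom.app (op q))) ≫ tr I.obj h := by
    have h := hp₀ =≫ (biprod.fst : I ⊞ X ⟶ I).hom.app (op p)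
    simp only [Category.assoc, Preadditive.sub_comp, Preadditive.comp_sub] at h
    rw [← comp_app, ← comp_app, mm_fst, biprod.inr_fst] at h
    rw [← h, Preadditive.neg_comp]
    have hz : ((0 : X ⟶ I)).hom.app (op p) = 0 := rfl
    rw [hz, comp_zero, comp_zero, comp_zero, zero_sub]
    simp only [Category.assoc]
    rw [tr_naturality]
  obtain ⟨T₃, e₃, he₃, p₁, hp₁⟩ := (isStrict_iff ι).mp hι p q h T₂ p₀ _ h2
  obtain ⟨w, hw⟩ : ∃ w : T₃ ⟶ (I ⊞ X).obj.obj (op q),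
      w = e₃ ≫ e₂ ≫ y + p₁ ≫ (mm ι t).hom.app (op q) := ⟨_, rfl⟩
  have hw1 : w ≫ (biprod.fst : I ⊞ X ⟶ I).hom.app (op q) = 0 := by
    rw [hw, Preadditive.add_comp, Category.assoc p₁, ← comp_app, mm_fst, ← hp₁,
      Preadditive.comp_neg]
    simp only [Category.assoc]
    exact add_neg_cancel _
  have hw2 : w = (w ≫ (biprod.snd : I ⊞ X ⟶ X).hom.app (op q)) ≫
      (biprod.inr : X ⟶ I ⊞ X).hom.app (op q) := by
    have := total_app (I := I) (X := X) q w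
    rw [hw1, zero_comp, zero_add] at this
    exact this
  have hw3 : w ≫ (cokerπ (mm ι t)).app (op q) = (e₃ ≫ e₂ ≫ e₁) ≫ z := by
    rw [hw, Preadditive.add_comp, Category.assoc p₁, comp_cokerπ, comp_zero, add_zero]
    simp only [Category.assoc]
    rw [hy]
  refine ⟨T₃, e₃ ≫ e₂ ≫ e₁, epi_comp' he₃ (epi_comp' he₂ he₁),
    w ≫ (biprod.snd : I ⊞ X ⟶ X).hom.app (op q), ?_⟩
  rw [← hw3, ← Category.assoc (w ≫ _), ← hw2]


instance (p : ℤ) : (grF A p).Additive := inferInstance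

lemma gr_total (p : ℤ) {T : A} (w : T ⟶ (grF A p).obj (I ⊞ X)) :
    w = (w ≫ (grF A p).map (biprod.fst : I ⊞ X ⟶ I)) ≫ (grF A p).map (biprod.inl : I ⟶ I ⊞ X) +
      (w ≫ (grF A p).map (biprod.snd : I ⊞ X ⟶ X)) ≫ (grF A p).map (biprod.inr : X ⟶ I ⊞ X) := by
  have h : (grF A p).map (biprod.fst ≫ biprod.inl + biprod.snd ≫ biprod.inr : I ⊞ X ⟶ I ⊞ X) =
      (grF A p).map (𝟙 _) := by rw [biprod.total]
  rw [Functor.map_add, Functor.map_comp, Functor.map_comp, CategoryTheory.Functor.map_id] at h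
  have h2 := congrArg (fun φ => w ≫ φ) h
  simp only [Preadditive.comp_add] at h2
  rw [Category.assoc, Category.assoc]
  refine Eq.trans ?_ h2.symm
  exact (Category.comp_id _).symm

lemma exists_gr_decomp (p : ℤ) {T : A} (ξ : T ⟶ (grF A p).obj (Q ι t hι hmι)) :
    ∃ (T' : A) (e : T' ⟶ T) (_ : Epi e) (y' : T' ⟶ (grF A p).obj I)
      (x : T' ⟶ (grF A p).obj X),
      e ≫ ξ = y' ≫ (grF A p).map (inI ι t hι hmι) + x ≫ (grF A p).map (kap ι t hι hmι) := by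
  have hepi : Epi ((grF A p).map (pr ι t hι hmι)) :=
    epi_gr_cokerProj (mm ι t) (isStrict_mm ι t hι hmι) p
  obtain ⟨T', e, he, w, hw⟩ :=
    surjective_up_to_refinements_of_epi ((grF A p).map (pr ι t hι hmι)) ξ
  refine ⟨T', e, he, w ≫ (grF A p).map biprod.fst, w ≫ (grF A p).map biprod.snd, ?_⟩
  rw [hw]
  conv_lhs => rw [gr_total p w]
  rw [Preadditive.add_comp]
  unfold inI kap
  simp only [Functor.map_comp, Category.assoc]

lemma exists_gr_lift (p : ℤ) {T : A} (y : T ⟶ (grF A p).obj I) (x' : T ⟶ (grF A p).obj X)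
    (h : y ≫ (grF A p).map (inI ι t hι hmι) = x' ≫ (grF A p).map (kap ι t hι hmι)) :
    ∃ (T' : A) (e : T' ⟶ T) (_ : Epi e) (ξ : T' ⟶ (grF A p).obj P),
      e ≫ y = ξ ≫ (grF A p).map ι := by
  have h0 : (y ≫ (grF A p).map (biprod.inl : I ⟶ I ⊞ X) -
      x' ≫ (grF A p).map (biprod.inr : X ⟶ I ⊞ X)) ≫ (grF A p).map (pr ι t hι hmι) = 0 := by
    rw [Preadditive.sub_comp, sub_eq_zero]
    unfold inI kap at h
    simpa only [Functor.map_comp, Category.assoc] using h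
  obtain ⟨T', e, he, ξ, hξ⟩ :=
    (exact_gr_coker (mm ι t) (isStrict_mm ι t hι hmι) p).exact_up_to_refinements _ h0
  refine ⟨T', e, he, ξ, ?_⟩
  have h1 := hξ =≫ (grF A p).map (biprod.fst : I ⊞ X ⟶ I)
  dsimp only at h1
  simp only [Category.assoc, Preadditive.sub_comp, Preadditive.comp_sub, ← Functor.map_comp,
    mm_fst, biprod.inl_fst, biprod.inr_fst, CategoryTheory.Functor.map_id, Functor.map_zero,
    Category.comp_id, comp_zero, sub_zero] at h1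
  exact h1

end Pushout


section Misc

lemma isStrict_comp_mono {X Y Z : FilF A} (f : X ⟶ Y) (g : Y ⟶ Z) (hf : IsStrict f)
    (hg : IsStrict g) (hmg : ∀ q : ℤ, Mono (g.hom.app (op q))) : IsStrict (f ≫ g) := by
  rw [isStrict_iff]
  intro p q h T x z hxz
  rw [comp_app] at hxz
  have h1 : (x ≫ f.hom.app (op p)) ≫ g.hom.app (op p) = z ≫ tr Z.obj h := by
    rw [Category.assoc]; exact hxz
  obtain ⟨T₁, e₁, he₁, x₁, hx₁⟩ := (isStrict_iff g).mp hg p q h T _ z h1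
  have := hmg p
  have h2 : (e₁ ≫ x) ≫ f.hom.app (op p) = x₁ ≫ tr Y.obj h := by
    rw [← cancel_mono (g.hom.app (op p)), Category.assoc, Category.assoc, Category.assoc,
      ← tr_naturality, ← Category.assoc x₁, ← hx₁, Category.assoc, ← h1, Category.assoc]
  obtain ⟨T₂, e₂, he₂, x₂, hx₂⟩ := (isStrict_iff f).mp hf p q h T₁ _ x₁ h2
  refine ⟨T₂, e₂ ≫ e₁, epi_comp' he₂ he₁, x₂, ?_⟩
  rw [comp_app, ← Category.assoc x₂, ← hx₂, Category.assoc, Category.assoc, hx₁]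

lemma isStrict_of_isZero_tgt {X Y : FilF A} (f : X ⟶ Y) (hY : IsZero Y) : IsStrict f := by
  rw [isStrict_iff]
  intro p q h T x z hxz
  have hz : IsZero (Y.obj.obj (op q)) := (ev q).map_isZero hY
  exact ⟨T, 𝟙 T, inferInstance, 0, hz.eq_of_tgt _ _⟩

lemma mono_app_of_isZero_src {X Y : FilF A} (f : X ⟶ Y) (hX : IsZero X) (q : ℤ) :
    Mono (f.hom.app (op q)) := by
  have hz : IsZero (X.obj.obj (op q)) := (ev q).map_isZero hX
  exact ⟨fun g h _ => hz.eq_of_tgt _ _⟩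

lemma isStrict_iso_comp {X Y Z : FilF A} (e : X ≅ Y) (g : Y ⟶ Z) (hg : IsStrict g) :
    IsStrict (e.hom ≫ g) := by
  rw [isStrict_iff]
  intro p q h T x z hxz
  rw [comp_app] at hxz
  have h1 : (x ≫ e.hom.hom.app (op p)) ≫ g.hom.app (op p) = z ≫ tr Z.obj h := by
    rw [Category.assoc]; exact hxz
  obtain ⟨T₁, e₁, he₁, x₁, hx₁⟩ := (isStrict_iff g).mp hg p q h T _ z h1
  refine ⟨T₁, e₁, he₁, x₁ ≫ e.inv.hom.app (op q), ?_⟩
  rw [comp_app, Category.assoc, ← Category.assoc (e.inv.hom.app (op q)), ← comp_app,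
    e.inv_hom_id]
  have : (𝟙 Y : Y ⟶ Y).hom.app (op q) = 𝟙 _ := rfl
  rw [this, Category.id_comp, hx₁]

end Misc


section Seq

open Groth.Agent.Lib.helper2.FilDRes

variable [EnoughInjectives A]
variable (X : ℕ → FilF A) (d : ∀ k, X k ⟶ X (k + 1))

/-- the data at one stage of the inductive construction -/
structure Stage (k : ℕ) where
  I : FilF A
  P : FilF A
  ι : P ⟶ I
  κ : X k ⟶ P
  dt : P ⟶ X (k + 1)
  hI : IsFilteredInjective I
  hmι : ∀ q : ℤ, Mono (ι.hom.app (op q))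
  hι : IsStrict ι
  hmκ : ∀ q : ℤ, Mono (κ.hom.app (op q))
  hκ : IsStrict κ
  κ_dt : κ ≫ dt = d k
  dt_d : dt ≫ d (k + 1) = 0
  dt_gr : ∀ (p : ℤ) (T : A) (ξ : T ⟶ (grF A p).obj P),
    ∃ (T' : A) (e : T' ⟶ T) (_ : Epi e) (x : T' ⟶ (grF A p).obj (X k)),
      e ≫ ξ ≫ (grF A p).map dt = x ≫ (grF A p).map (d k)

variable {X d}

/-- the embedding into a filtered injective, with syntactic source -/
noncomputable def embU (Y : FilF A) : Y ⟶ (mkStep Y).I := (mkStep Y).u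

variable (hd : ∀ k, d k ≫ d (k + 1) = 0)

/-- the pushout object of a stage -/
noncomputable def SQ {k : ℕ} (s : Stage X d k) : FilF A := Q s.ι s.dt s.hι s.hmι

noncomputable def Skap {k : ℕ} (s : Stage X d k) : X (k + 1) ⟶ SQ s := kap s.ι s.dt s.hι s.hmι

noncomputable def SinI {k : ℕ} (s : Stage X d k) : s.I ⟶ SQ s := inI s.ι s.dt s.hι s.hmι

noncomputable def Sdt {k : ℕ} (s : Stage X d k) : SQ s ⟶ X (k + 1 + 1) :=
  descQ s.ι s.dt s.hι s.hmι 0 (d (k + 1)) (by rw [comp_zero, s.dt_d])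

lemma SinI_Sdt {k : ℕ} (s : Stage X d k) : SinI s ≫ Sdt s = 0 := inI_descQ _ _ _ _ _ _ _

lemma Skap_Sdt {k : ℕ} (s : Stage X d k) : Skap s ≫ Sdt s = d (k + 1) := kap_descQ _ _ _ _ _ _ _

lemma ι_SinI {k : ℕ} (s : Stage X d k) : s.ι ≫ SinI s = s.dt ≫ Skap s := ι_inI _ _ _ _

include hd in
lemma Sdt_d {k : ℕ} (s : Stage X d k) : Sdt s ≫ d (k + 1 + 1) = 0 := by
  apply Q_hom_ext s.ι s.dt s.hι s.hmι
  · change SinI s ≫ Sdt s ≫ d (k + 1 + 1) = SinI s ≫ 0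
    rw [← Category.assoc, SinI_Sdt, zero_comp, comp_zero]
  · change Skap s ≫ Sdt s ≫ d (k + 1 + 1) = Skap s ≫ 0
    rw [← Category.assoc, Skap_Sdt, hd, comp_zero]

lemma Sdt_gr {k : ℕ} (s : Stage X d k) (p : ℤ) (T : A) (ξ : T ⟶ (grF A p).obj (SQ s)) :
    ∃ (T' : A) (e : T' ⟶ T) (_ : Epi e) (x : T' ⟶ (grF A p).obj (X (k + 1))),
      e ≫ ξ ≫ (grF A p).map (Sdt s) = x ≫ (grF A p).map (d (k + 1)) := by
  obtain ⟨T', e, he, y', x, h⟩ := exists_gr_decomp s.ι s.dt s.hι s.hmι p ξ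
  have h' : e ≫ ξ = y' ≫ (grF A p).map (SinI s) + x ≫ (grF A p).map (Skap s) := h
  refine ⟨T', e, he, x, ?_⟩
  rw [← Category.assoc, h', Preadditive.add_comp, Category.assoc, Category.assoc,
    ← Functor.map_comp, ← Functor.map_comp, SinI_Sdt, Skap_Sdt, Functor.map_zero, comp_zero,
    zero_add]

/-- the next stage -/
noncomputable def next {k : ℕ} (s : Stage X d k) : Stage X d (k + 1) where
  I := (mkStep (SQ s)).I
  P := SQ s
  ι := embU (SQ s)
  κ := Skap s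
  dt := Sdt s
  hI := (mkStep (SQ s)).hI
  hmι := (mkStep (SQ s)).hmono
  hι := (mkStep (SQ s)).hstrict
  hmκ := mono_kap_app s.ι s.dt s.hι s.hmι
  hκ := isStrict_kap s.ι s.dt s.hι s.hmι
  κ_dt := Skap_Sdt s
  dt_d := Sdt_d hd s
  dt_gr := Sdt_gr s


/-- the embedding of the pushout into the next injective, typed -/
noncomputable def nextι {k : ℕ} (s : Stage X d k) : SQ s ⟶ (next hd s).I := (next hd s).ι

/-- the comparison map at a stage -/
noncomputable def Sφ {k : ℕ} (s : Stage X d k) : X k ⟶ s.I := s.κ ≫ s.ι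

/-- the differential out of a stage -/
noncomputable def SdI {k : ℕ} (s : Stage X d k) : s.I ⟶ (next hd s).I := SinI s ≫ nextι hd s

lemma Sφ_next {k : ℕ} (s : Stage X d k) : Sφ (next hd s) = Skap s ≫ nextι hd s := rfl

lemma SdI_eq {k : ℕ} (s : Stage X d k) : SdI hd s = SinI s ≫ nextι hd s := rfl

lemma nextι_eq {k : ℕ} (s : Stage X d k) : nextι hd s = (next hd s).ι := rfl

lemma ι_SdI {k : ℕ} (s : Stage X d k) : s.ι ≫ SdI hd s = s.dt ≫ Sφ (next hd s) := by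
  rw [SdI_eq, ← Category.assoc, ι_SinI, Category.assoc, Sφ_next]

lemma Sφ_SdI {k : ℕ} (s : Stage X d k) : Sφ s ≫ SdI hd s = d k ≫ Sφ (next hd s) := by
  unfold Sφ
  rw [Category.assoc, ι_SdI, ← Category.assoc, s.κ_dt]
  rfl

lemma SdI_SdI {k : ℕ} (s : Stage X d k) : SdI hd s ≫ SdI hd (next hd s) = 0 := by
  have h : nextι hd s ≫ SdI hd (next hd s) = Sdt s ≫ Sφ (next hd (next hd s)) :=
    ι_SdI hd (next hd s)
  rw [SdI_eq hd s, Category.assoc, h, ← Category.assoc, SinI_Sdt, zero_comp]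

lemma mono_Sφ_app {k : ℕ} (s : Stage X d k) (q : ℤ) : Mono ((Sφ s).hom.app (op q)) := by
  unfold Sφ
  rw [comp_app]
  exact mono_comp' (s.hmκ q) (s.hmι q)

lemma isStrict_Sφ {k : ℕ} (s : Stage X d k) : IsStrict (Sφ s) :=
  isStrict_comp_mono s.κ s.ι s.hκ s.hι s.hmι

lemma mono_gr_Sφ {k : ℕ} (s : Stage X d k) (p : ℤ) : Mono ((grF A p).map (Sφ s)) := by
  unfold Sφ
  rw [Functor.map_comp]
  exact mono_comp' (mono_gr_of_strict_mono s.κ s.hκ s.hmκ p)
    (mono_gr_of_strict_mono s.ι s.hι s.hmι p)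

lemma mono_gr_nextι {k : ℕ} (s : Stage X d k) (p : ℤ) : Mono ((grF A p).map (nextι hd s)) :=
  mono_gr_of_strict_mono (next hd s).ι (next hd s).hι (next hd s).hmι p

lemma mono_gr_Skap {k : ℕ} (s : Stage X d k) (p : ℤ) : Mono ((grF A p).map (Skap s)) :=
  mono_gr_of_strict_mono (kap s.ι s.dt s.hι s.hmι) (isStrict_kap s.ι s.dt s.hι s.hmι)
    (mono_kap_app s.ι s.dt s.hι s.hmι) p

lemma gr_mono_part {k : ℕ} (s : Stage X d k) (p : ℤ) {T : A}
    (x₂ : T ⟶ (grF A p).obj (X (k + 1))) (y₁ : T ⟶ (grF A p).obj s.I)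
    (h : x₂ ≫ (grF A p).map (Sφ (next hd s)) = y₁ ≫ (grF A p).map (SdI hd s)) :
    ∃ (T' : A) (e : T' ⟶ T) (_ : Epi e) (x₁ : T' ⟶ (grF A p).obj (X k)),
      e ≫ x₂ = x₁ ≫ (grF A p).map (d k) := by
  have hm := mono_gr_nextι hd s p
  have hk := mono_gr_Skap s p
  have h1 : y₁ ≫ (grF A p).map (SinI s) = x₂ ≫ (grF A p).map (Skap s) := by
    rw [← cancel_mono ((grF A p).map (nextι hd s)), Category.assoc, Category.assoc,
      ← Functor.map_comp, ← Functor.map_comp, ← SdI_eq, ← Sφ_next]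
    exact h.symm
  obtain ⟨T₁, e₁, he₁, ξ, hξ⟩ := exists_gr_lift s.ι s.dt s.hι s.hmι p y₁ x₂ h1
  have h2 : e₁ ≫ x₂ = ξ ≫ (grF A p).map s.dt := by
    rw [← cancel_mono ((grF A p).map (Skap s)), Category.assoc, ← h1, ← Category.assoc, hξ,
      Category.assoc, Category.assoc, ← Functor.map_comp, ← Functor.map_comp, ι_SinI]
  obtain ⟨T₂, e₂, he₂, x₁, hx₁⟩ := s.dt_gr p T₁ ξ
  exact ⟨T₂, e₂ ≫ e₁, epi_comp' he₂ he₁, x₁, by rw [Category.assoc, h2, hx₁]⟩

lemma gr_epi_part {k : ℕ} (s : Stage X d k) (p : ℤ) {T : A}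
    (y : T ⟶ (grF A p).obj (next hd s).I) (x' : T ⟶ (grF A p).obj (X (k + 1 + 1)))
    (h : y ≫ (grF A p).map (SdI hd (next hd s)) =
      x' ≫ (grF A p).map (Sφ (next hd (next hd s)))) :
    ∃ (T' : A) (e : T' ⟶ T) (_ : Epi e) (y' : T' ⟶ (grF A p).obj s.I)
      (x : T' ⟶ (grF A p).obj (X (k + 1))),
      e ≫ y = y' ≫ (grF A p).map (SdI hd s) + x ≫ (grF A p).map (Sφ (next hd s)) := by
  have hm := mono_gr_nextι hd (next hd s) p
  have h1 : y ≫ (grF A p).map (SinI (next hd s)) = x' ≫ (grF A p).map (Skap (next hd s)) := by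
    rw [← cancel_mono ((grF A p).map (nextι hd (next hd s))), Category.assoc, Category.assoc,
      ← Functor.map_comp, ← Functor.map_comp, ← SdI_eq, ← Sφ_next]
    exact h
  obtain ⟨T₁, e₁, he₁, ξ, hξ⟩ := exists_gr_lift (next hd s).ι (next hd s).dt (next hd s).hι
    (next hd s).hmι p y x' h1
  obtain ⟨ξ', hξ'⟩ : ∃ ξ' : T₁ ⟶ (grF A p).obj (SQ s), ξ' = ξ := ⟨ξ, rfl⟩
  have hξ2 : e₁ ≫ y = ξ' ≫ (grF A p).map (nextι hd s) := by
    rw [hξ']
    exact hξ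
  obtain ⟨T₂, e₂, he₂, y', x, hx⟩ := exists_gr_decomp s.ι s.dt s.hι s.hmι p ξ'
  have hx' : e₂ ≫ ξ' = y' ≫ (grF A p).map (SinI s) + x ≫ (grF A p).map (Skap s) := hx
  refine ⟨T₂, e₂ ≫ e₁, epi_comp' he₂ he₁, y', x, ?_⟩
  rw [Category.assoc, hξ2, ← Category.assoc, hx', Preadditive.add_comp, Category.assoc,
    Category.assoc, ← Functor.map_comp, ← Functor.map_comp, ← SdI_eq, ← Sφ_next]

end Seq


section NatSeq

open Groth.Agent.Lib.helper2.FilDRes

variable [EnoughInjectives A]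
variable {X : ℕ → FilF A} {d : ∀ k, X k ⟶ X (k + 1)} (hd : ∀ k, d k ≫ d (k + 1) = 0)
  (hX0 : IsZero (X 0))

open ZeroObject in
/-- the initial (trivial) stage -/
noncomputable def stage0 : Stage X d 0 where
  I := 0
  P := 0
  ι := 0
  κ := 0
  dt := 0
  hI := isFilteredInjective_of_isZero _ (isZero_zero _)
  hmι := fun q => mono_app_of_isZero_src _ (isZero_zero _) q
  hι := isStrict_of_isZero_tgt _ (isZero_zero _)
  hmκ := fun q => mono_app_of_isZero_src _ hX0 q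
  hκ := isStrict_of_isZero_tgt _ (isZero_zero _)
  κ_dt := hX0.eq_of_src _ _
  dt_d := zero_comp
  dt_gr := fun p T ξ => ⟨T, 𝟙 T, inferInstance, 0, by
    rw [Functor.map_zero, comp_zero, comp_zero, zero_comp]⟩

/-- the sequence of stages -/
noncomputable def seq : ∀ k : ℕ, Stage X d k
  | 0 => stage0 hX0
  | k + 1 => next hd (seq k)

lemma seq_succ (k : ℕ) : seq hd hX0 (k + 1) = next hd (seq hd hX0 k) := rfl

noncomputable def IN (k : ℕ) : FilF A := (seq hd hX0 k).I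

noncomputable def dN (k : ℕ) : IN hd hX0 k ⟶ IN hd hX0 (k + 1) := SdI hd (seq hd hX0 k)

noncomputable def φN (k : ℕ) : X k ⟶ IN hd hX0 k := Sφ (seq hd hX0 k)

lemma dN_dN (k : ℕ) : dN hd hX0 k ≫ dN hd hX0 (k + 1) = 0 := SdI_SdI hd (seq hd hX0 k)

lemma φN_dN (k : ℕ) : φN hd hX0 k ≫ dN hd hX0 k = d k ≫ φN hd hX0 (k + 1) :=
  Sφ_SdI hd (seq hd hX0 k)

lemma isZero_IN_zero : IsZero (IN hd hX0 0) := isZero_zero _

lemma isFilteredInjective_IN (k : ℕ) : IsFilteredInjective (IN hd hX0 k) := (seq hd hX0 k).hI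

lemma mono_φN (k : ℕ) : Mono (φN hd hX0 k) := mono_of_app_mono _ (mono_Sφ_app (seq hd hX0 k))

lemma isStrict_φN (k : ℕ) : IsStrict (φN hd hX0 k) := isStrict_Sφ (seq hd hX0 k)

lemma mono_gr_φN (p : ℤ) (k : ℕ) : Mono ((grF A p).map (φN hd hX0 k)) :=
  mono_gr_Sφ (seq hd hX0 k) p

lemma gr_mono_N (k : ℕ) (p : ℤ) {T : A}
    (x₂ : T ⟶ (grF A p).obj (X (k + 1))) (y₁ : T ⟶ (grF A p).obj (IN hd hX0 k))
    (h : x₂ ≫ (grF A p).map (φN hd hX0 (k + 1)) = y₁ ≫ (grF A p).map (dN hd hX0 k)) :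
    ∃ (T' : A) (e : T' ⟶ T) (_ : Epi e) (x₁ : T' ⟶ (grF A p).obj (X k)),
      e ≫ x₂ = x₁ ≫ (grF A p).map (d k) :=
  gr_mono_part hd (seq hd hX0 k) p x₂ y₁ h

lemma gr_epi_N (k : ℕ) (p : ℤ) {T : A}
    (y : T ⟶ (grF A p).obj (IN hd hX0 (k + 1))) (x' : T ⟶ (grF A p).obj (X (k + 1 + 1)))
    (h : y ≫ (grF A p).map (dN hd hX0 (k + 1)) = x' ≫ (grF A p).map (φN hd hX0 (k + 1 + 1))) :
    ∃ (T' : A) (e : T' ⟶ T) (_ : Epi e) (y' : T' ⟶ (grF A p).obj (IN hd hX0 k))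
      (x : T' ⟶ (grF A p).obj (X (k + 1))),
      e ≫ y = y' ≫ (grF A p).map (dN hd hX0 k) + x ≫ (grF A p).map (φN hd hX0 (k + 1)) :=
  gr_epi_part hd (seq hd hX0 k) p y x' h

end NatSeq


section IntCx

open Groth.Agent.Lib.helper2.FilDRes

variable [EnoughInjectives A]
variable (K : CochainComplex (FilF A) ℤ) [K.IsStrictlyGE 1]

noncomputable def KX (k : ℕ) : FilF A := K.X ((k : ℕ) : ℤ)

noncomputable def Kd (k : ℕ) : KX K k ⟶ KX K (k + 1) := K.d ((k : ℕ) : ℤ) ((k + 1 : ℕ) : ℤ)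

lemma Kd_Kd (k : ℕ) : Kd K k ≫ Kd K (k + 1) = 0 := K.d_comp_d _ _ _

lemma isZero_KX_zero : IsZero (KX K 0) := K.isZero_of_isStrictlyGE 1 _ (by simp)

lemma isZero_K_neg (k : ℕ) : IsZero (K.X (Int.negSucc k)) :=
  K.isZero_of_isStrictlyGE 1 _ (by have := Int.negSucc_lt_zero k; omega)

open ZeroObject in
noncomputable def XZ : ℤ → FilF A
  | Int.ofNat k => IN (Kd_Kd K) (isZero_KX_zero K) k
  | Int.negSucc _ => 0

open ZeroObject in
noncomputable def dZ : ∀ n : ℤ, XZ K n ⟶ XZ K (n + 1)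
  | Int.ofNat k => dN (Kd_Kd K) (isZero_KX_zero K) k
  | Int.negSucc _ => 0

lemma dZ_dZ (n : ℤ) : dZ K n ≫ dZ K (n + 1) = 0 := by
  match n with
  | Int.ofNat k => exact dN_dN (Kd_Kd K) (isZero_KX_zero K) k
  | Int.negSucc _ => exact zero_comp

noncomputable def Icx : CochainComplex (FilF A) ℤ := CochainComplex.of (XZ K) (dZ K) (dZ_dZ K)

open ZeroObject in
noncomputable def φZ : ∀ n : ℤ, K.X n ⟶ XZ K n
  | Int.ofNat k => φN (Kd_Kd K) (isZero_KX_zero K) k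
  | Int.negSucc _ => 0

lemma φZ_comm (n : ℤ) : φZ K n ≫ dZ K n = K.d n (n + 1) ≫ φZ K (n + 1) := by
  match n with
  | Int.ofNat k => exact φN_dN (Kd_Kd K) (isZero_KX_zero K) k
  | Int.negSucc k => exact (isZero_K_neg K k).eq_of_src _ _

lemma Icx_d (n : ℤ) : (Icx K).d n (n + 1) = dZ K n := CochainComplex.of_d _ _ _

noncomputable def φ : K ⟶ Icx K where
  f n := φZ K n
  comm' i j hij := by
    have hij' : i + 1 = j := hij
    subst hij'
    rw [Icx_d]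
    exact φZ_comm K i

lemma isZero_XZ (n : ℤ) (hn : n ≤ 0) : IsZero (XZ K n) := by
  match n with
  | Int.ofNat 0 => exact isZero_IN_zero (Kd_Kd K) (isZero_KX_zero K)
  | Int.ofNat (k + 1) => exact absurd hn (by simp)
  | Int.negSucc k => exact isZero_zero _

instance : (Icx K).IsStrictlyGE 1 := by
  rw [CochainComplex.isStrictlyGE_iff]
  intro i hi
  exact isZero_XZ K i (by omega)

lemma isFilteredInjective_Icx (n : ℤ) : IsFilteredInjective ((Icx K).X n) := by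
  match n with
  | Int.ofNat k => exact isFilteredInjective_IN (Kd_Kd K) (isZero_KX_zero K) k
  | Int.negSucc k => exact isFilteredInjective_of_isZero _ (isZero_zero _)

lemma mono_φ_f (n : ℤ) : Mono ((φ K).f n) := by
  match n with
  | Int.ofNat k => exact mono_φN (Kd_Kd K) (isZero_KX_zero K) k
  | Int.negSucc k => exact ⟨fun g h _ => (isZero_K_neg K k).eq_of_tgt _ _⟩

lemma isStrict_φ_f (n : ℤ) : IsStrict ((φ K).f n) := by
  match n with
  | Int.ofNat k => exact isStrict_φN (Kd_Kd K) (isZero_KX_zero K) k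
  | Int.negSucc k => exact isStrict_of_isZero_tgt _ (isZero_zero _)

end IntCx


section QI

variable {B : Type*} [Category B] [Abelian B]

theorem quasiIsoAt_of_parts {K L : CochainComplex B ℤ} (φ : K ⟶ L) (i j k : ℤ) (hij : i + 1 = j)
    (hjk : j + 1 = k) (hMk : Mono (φ.f k))
    (hmono : ∀ ⦃T : B⦄ (x₂ : T ⟶ K.X j) (y₁ : T ⟶ L.X i), x₂ ≫ φ.f j = y₁ ≫ L.d i j →
      ∃ (T' : B) (e : T' ⟶ T) (_ : Epi e) (x₁ : T' ⟶ K.X i), e ≫ x₂ = x₁ ≫ K.d i j)
    (hepi : ∀ ⦃T : B⦄ (y : T ⟶ L.X j) (x' : T ⟶ K.X k), y ≫ L.d j k = x' ≫ φ.f k →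
      ∃ (T' : B) (e : T' ⟶ T) (_ : Epi e) (y' : T' ⟶ L.X i) (x : T' ⟶ K.X j),
        e ≫ y = y' ≫ L.d i j + x ≫ φ.f j) : QuasiIsoAt φ j := by
  rw [quasiIsoAt_iff_isIso_homologyMap]
  have hm : Mono (HomologicalComplex.homologyMap φ j) := by
    rw [HomologicalComplex.mono_homologyMap_iff_up_to_refinements φ i j k
      (by subst hij; simp) (by subst hjk; simp)]
    intro T x₂ hx₂ y₁ hy₁
    exact hmono x₂ y₁ hy₁
  have he : Epi (HomologicalComplex.homologyMap φ j) := by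
    rw [HomologicalComplex.epi_homologyMap_iff_up_to_refinements φ i j k
      (by subst hij; simp) (by subst hjk; simp)]
    intro T y₂ hy₂
    obtain ⟨T', e, he, y', x, hx⟩ := hepi y₂ 0 (by rw [hy₂, zero_comp])
    refine ⟨T', e, he, x, ?_, y', ?_⟩
    · rw [← cancel_mono (φ.f k), Category.assoc, ← φ.comm, zero_comp, ← Category.assoc]
      have : x ≫ φ.f j = e ≫ y₂ - y' ≫ L.d i j := by rw [hx]; abel
      rw [this, Preadditive.sub_comp, Category.assoc, hy₂, comp_zero, Category.assoc,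
        L.d_comp_d, comp_zero, sub_zero]
    · rw [hx, add_comm]
  exact isIso_of_mono_of_epi _

end QI

section IntQI

variable [EnoughInjectives A]
variable (K : CochainComplex (FilF A) ℤ) [K.IsStrictlyGE 1]

lemma isFilteredQuasiIso_φ : IsFilteredQuasiIso (φ K) := by
  intro p
  rw [quasiIso_iff]
  intro n
  by_cases hn : n ≤ 0
  · have hK : ((grCx p).obj K).ExactAt n := ShortComplex.exact_of_isZero_X₂ _
      ((grF A p).map_isZero (K.isZero_of_isStrictlyGE 1 n (by omega)))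
    have hL : ((grCx p).obj (Icx K)).ExactAt n := ShortComplex.exact_of_isZero_X₂ _
      ((grF A p).map_isZero (isZero_XZ K n hn))
    exact (quasiIsoAt_iff_exactAt _ n hK).mpr hL
  · obtain ⟨k, rfl⟩ : ∃ k : ℕ, n = (k : ℤ) + 1 := ⟨(n - 1).toNat, by omega⟩
    have e1 : ((grCx p).obj (Icx K)).d (k : ℤ) ((k : ℤ) + 1) = (grF A p).map (dZ K (k : ℤ)) :=
      congrArg (fun f => (grF A p).map f) (Icx_d K k)
    have e2 : ((grCx p).obj (Icx K)).d ((k : ℤ) + 1) ((k : ℤ) + 1 + 1) =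
        (grF A p).map (dZ K ((k : ℤ) + 1)) :=
      congrArg (fun f => (grF A p).map f) (Icx_d K ((k : ℤ) + 1))
    apply quasiIsoAt_of_parts ((grCx p).map (φ K)) (k : ℤ) ((k : ℤ) + 1) ((k : ℤ) + 1 + 1) rfl rfl
    · exact mono_gr_φN (Kd_Kd K) (isZero_KX_zero K) p (k + 1 + 1)
    · intro T x₂ y₁ h
      rw [e1] at h
      exact gr_mono_N (Kd_Kd K) (isZero_KX_zero K) k p x₂ y₁ h
    · intro T y x' h
      rw [e2] at h
      rw [e1]
      exact gr_epi_N (Kd_Kd K) (isZero_KX_zero K) k p y x' h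

end IntQI


section Main

open CochainComplex

variable [EnoughInjectives A]

theorem main (K : CochainComplex (FilF A) ℤ) (a : ℤ) [K.IsStrictlyGE a] :
    ∃ (I : CochainComplex (FilF A) ℤ) (a' : ℤ) (φ : K ⟶ I), I.IsStrictlyGE a' ∧
      (∀ n, IsFilteredInjective (I.X n)) ∧
      IsFilteredQuasiIso φ ∧ ∀ n, Mono (φ.f n) ∧ IsStrict (φ.f n) := by
  obtain ⟨s, hs⟩ : ∃ s : ℤ, s = a - 1 := ⟨_, rfl⟩
  have : (K⟦s⟧).IsStrictlyGE 1 := K.isStrictlyGE_shift a s 1 (by omega)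
  let e : K ≅ (K⟦s⟧)⟦-s⟧ :=
    ((shiftFunctorCompIsoId (CochainComplex (FilF A) ℤ) s (-s) (by omega)).symm).app K
  refine ⟨(Icx (K⟦s⟧))⟦-s⟧, 1 + s, e.hom ≫ (φ (K⟦s⟧))⟦-s⟧', ?_, ?_, ?_, ?_⟩
  · exact (Icx (K⟦s⟧)).isStrictlyGE_shift 1 (-s) (1 + s) (by omega)
  · intro n
    exact isFilteredInjective_Icx (K⟦s⟧) (n + -s)
  · apply isFilteredQuasiIso_comp
    · exact isFilteredQuasiIso_of_isIso _
    · exact isFilteredQuasiIso_shift _ (isFilteredQuasiIso_φ _) _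
  · intro n
    let en : K.X n ≅ ((K⟦s⟧)⟦-s⟧).X n :=
      (HomologicalComplex.eval (FilF A) (ComplexShape.up ℤ) n).mapIso e
    have hf : (e.hom ≫ (φ (K⟦s⟧))⟦-s⟧').f n = en.hom ≫ (φ (K⟦s⟧)).f (n + -s) := rfl
    rw [hf]
    constructor
    · have h1 : Mono ((φ (K⟦s⟧)).f (n + -s)) := mono_φ_f (K⟦s⟧) (n + -s)
      have h2 : Mono en.hom := inferInstance
      exact mono_comp' h2 h1
    · exact isStrict_iso_comp en _ (isStrict_φ_f (K⟦s⟧) (n + -s))

end Main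

end Groth.Agent.Lib.helper2.FilDCx
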