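import Mathlib

set_option autoImplicit false
set_option linter.unusedSectionVars false
universe w v u
open CategoryTheory Limits Opposite

namespace Groth.Agent.Lib.helper2.Twist

section Twist

variable {C : Type u} [Category.{v} C] [Preadditive C] [HasBinaryBiproducts C]
  (I J : CochainComplex C ℤ) (δ : ∀ n : ℤ, J.X n ⟶ I.X (n + 1))
  (hδ : ∀ n : ℤ, δ n ≫ I.d (n + 1) (n + 1 + 1) + J.d n (n + 1) ≫ δ (n + 1) = 0)

/-- differential of the twisted direct sum -/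
noncomputable def dM (n : ℤ) : I.X n ⊞ J.X n ⟶ I.X (n + 1) ⊞ J.X (n + 1) :=
  biprod.fst ≫ I.d n (n + 1) ≫ biprod.inl +
    biprod.snd ≫ (δ n ≫ biprod.inl + J.d n (n + 1) ≫ biprod.inr)

lemma inl_dM (n : ℤ) : biprod.inl ≫ dM I J δ n = I.d n (n + 1) ≫ biprod.inl := by
  simp [dM]

lemma inr_dM (n : ℤ) : biprod.inr ≫ dM I J δ n = δ n ≫ biprod.inl + J.d n (n + 1) ≫ biprod.inr := by
  simp [dM]

lemma dM_snd (n : ℤ) : dM I J δ n ≫ biprod.snd = biprod.snd ≫ J.d n (n + 1) := by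
  simp [dM]

include hδ in
lemma dM_dM (n : ℤ) : dM I J δ n ≫ dM I J δ (n + 1) = 0 := by
  apply biprod.hom_ext'
  · rw [← Category.assoc, inl_dM, Category.assoc, inl_dM, ← Category.assoc, I.d_comp_d,
      zero_comp, comp_zero]
  · rw [← Category.assoc, inr_dM, Preadditive.add_comp, Category.assoc, Category.assoc, inl_dM,
      inr_dM, Preadditive.comp_add, ← Category.assoc, ← Category.assoc, ← Category.assoc,
      J.d_comp_d, zero_comp, add_zero, ← Preadditive.add_comp, hδ, zero_comp, comp_zero]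

/-- the twisted direct sum complex -/
noncomputable def M : CochainComplex C ℤ :=
  CochainComplex.of (fun n => I.X n ⊞ J.X n) (dM I J δ) (dM_dM I J δ hδ)

lemma M_d (n : ℤ) : (M I J δ hδ).d n (n + 1) = dM I J δ n := by
  unfold M
  exact CochainComplex.of_d (fun n => I.X n ⊞ J.X n) (dM I J δ) n

lemma lift_dM (n : ℤ) {Y : C} (u : Y ⟶ I.X n) (v : Y ⟶ J.X n) :
    biprod.lift u v ≫ dM I J δ n =
      (u ≫ I.d n (n + 1) + v ≫ δ n) ≫ biprod.inl + (v ≫ J.d n (n + 1)) ≫ biprod.inr := by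
  simp only [dM, Preadditive.comp_add, Preadditive.add_comp, Category.assoc, biprod.lift_fst_assoc,
    biprod.lift_snd_assoc]
  abel

noncomputable def αM : I ⟶ M I J δ hδ where
  f n := biprod.inl
  comm' i j hij := by
    have hij' : i + 1 = j := hij
    subst hij'
    rw [M_d]
    exact (inl_dM I J δ i)

noncomputable def βM : M I J δ hδ ⟶ J where
  f n := biprod.snd
  comm' i j hij := by
    have hij' : i + 1 = j := hij
    subst hij'
    rw [M_d]
    exact (dM_snd I J δ i).symm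

lemma split (n : ℤ) : ∃ (r : (M I J δ hδ).X n ⟶ I.X n) (s : J.X n ⟶ (M I J δ hδ).X n),
    (αM I J δ hδ).f n ≫ r = 𝟙 _ ∧ s ≫ (βM I J δ hδ).f n = 𝟙 _ ∧
      (αM I J δ hδ).f n ≫ (βM I J δ hδ).f n = 0 ∧
        r ≫ (αM I J δ hδ).f n + (βM I J δ hδ).f n ≫ s = 𝟙 _ :=
  ⟨biprod.fst, biprod.inr, biprod.inl_fst, biprod.inr_snd, biprod.inl_snd, biprod.total⟩

/-- a map from a single complex into the twisted sum -/
noncomputable def bM [HasZeroObject C] {Y : C} (u : Y ⟶ I.X 0) (v : Y ⟶ J.X 0)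
    (h1 : u ≫ I.d 0 (0 + 1) + v ≫ δ 0 = 0) (h2 : v ≫ J.d 0 (0 + 1) = 0) :
    (HomologicalComplex.single C (ComplexShape.up ℤ) 0).obj Y ⟶ M I J δ hδ :=
  HomologicalComplex.mkHomFromSingle (K := M I J δ hδ) (j := 0) (A := Y) (biprod.lift u v) (by
    intro k hk
    have hk' : (0 : ℤ) + 1 = k := hk
    subst hk'
    rw [M_d]
    change (biprod.lift u v : Y ⟶ I.X 0 ⊞ J.X 0) ≫ dM I J δ 0 = 0
    rw [lift_dM, h1, h2, zero_comp, zero_comp, add_zero])

lemma bM_f_zero [HasZeroObject C] {Y : C} (u : Y ⟶ I.X 0) (v : Y ⟶ J.X 0)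
    (h1 : u ≫ I.d 0 (0 + 1) + v ≫ δ 0 = 0) (h2 : v ≫ J.d 0 (0 + 1) = 0) :
    (bM I J δ hδ u v h1 h2).f 0 =
      (HomologicalComplex.singleObjXSelf (ComplexShape.up ℤ) 0 Y).hom ≫ biprod.lift u v :=
  HomologicalComplex.mkHomFromSingle_f _ _

end Twist

end Groth.Agent.Lib.helper2.Twist
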