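import Mathlib
import Groth.Agent.Lib.helper2.FilDLib
import Groth.Agent.Lib.helper2.FilDHom
import Groth.Agent.Lib.helper2.FilDBiprod
import Groth.Agent.Lib.helper2.FilDCone
import Groth.Agent.Lib.helper2.FilDCoker
import Groth.Agent.Lib.helper2.FilDTrunc
import Groth.Agent.Lib.helper2.Twist

set_option autoImplicit false
set_option linter.unusedSectionVars false
universe w v u
open CategoryTheory Limits Opposite FilD
open Groth.Agent.Lib.helper2.FilDLib Groth.Agent.Lib.helper2.FilDCoker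
  Groth.Agent.Lib.helper2.FilDBiprod Groth.Agent.Lib.helper2.Twist

namespace Groth.Agent.Lib.helper2.FilDHorseshoe

variable {A : Type u} [Category.{v} A] [Abelian A]

section SES

variable (S : ShortComplex (FilF A))
  (hS : ∀ p : ℤ, (S.map ((IsFinFil A).ι ⋙ (evaluation ℤᵒᵖ A).obj (op p))).ShortExact)

include hS in
lemma mono_f_app (p : ℤ) : Mono (S.f.hom.app (op p)) := (hS p).mono_f

include hS in
lemma epi_g_app (p : ℤ) : Epi (S.g.hom.app (op p)) := (hS p).epi_g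

include hS in
lemma exact_app (p : ℤ) {T : A} (y : T ⟶ S.X₂.obj.obj (op p)) (hy : y ≫ S.g.hom.app (op p) = 0) :
    ∃ (T' : A) (π : T' ⟶ T) (_ : Epi π) (x : T' ⟶ S.X₁.obj.obj (op p)),
      π ≫ y = x ≫ S.f.hom.app (op p) :=
  (hS p).exact.exact_up_to_refinements y hy

include hS in
lemma isStrict_f_of_shortExact : IsStrict S.f := by
  rw [isStrict_iff]
  intro p q h T x z hxz
  have hm : Mono (tr S.X₃.obj h) := mono_tr S.X₃.property h
  have hz : z ≫ S.g.hom.app (op q) = 0 := by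
    rw [← cancel_mono (tr S.X₃.obj h), Category.assoc, tr_naturality, ← Category.assoc, ← hxz,
      Category.assoc, comp_app_eq_zero, comp_zero, zero_comp]
  exact exact_app S hS q z hz

include hS in
lemma mono_gr_f (p : ℤ) : Mono ((grF A p).map S.f) :=
  mono_gr_of_strict_mono S.f (isStrict_f_of_shortExact S hS) (mono_f_app S hS) p

include hS in
/-- extension along `S.f` into a filtered injective -/
lemma exists_extension {W : FilF A} (hW : IsFilteredInjective W) (ψ : S.X₁ ⟶ W) :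
    ∃ h : S.X₂ ⟶ W, S.f ≫ h = ψ := by
  let S' : ShortComplex (FilF A) := ShortComplex.mk (0 : S.X₁ ⟶ S.X₁) S.f zero_comp
  have hS' : ∀ p : ℤ, (S'.map (grF A p)).Exact := by
    intro p
    have := mono_gr_f S hS p
    rw [ShortComplex.exact_iff_mono _ (by exact (grF A p).map_zero _ _)]
    exact this
  exact Groth.Agent.Lib.helper2.FilDHom.key_ext S' hS' W ψ zero_comp hW

include hS in
/-- descent along `S.g` -/
lemma exists_descent {W : FilF A} (ψ : S.X₂ ⟶ W) (hψ : S.f ≫ ψ = 0) :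
    ∃ ε : S.X₃ ⟶ W, S.g ≫ ε = ψ := by
  have hψp : ∀ q : ℤᵒᵖ, S.f.hom.app q ≫ ψ.hom.app q = 0 := fun q =>
    Groth.Agent.Lib.helper2.FilDTrunc.app_eq_zero_of_comp_eq_zero S.f ψ hψ q
  have hepi : ∀ q : ℤᵒᵖ, Epi (S.g.hom.app q) := fun q => epi_g_app S hS q.unop
  have hepi' : ∀ q : ℤᵒᵖ, Epi (S.map ((IsFinFil A).ι ⋙ (evaluation ℤᵒᵖ A).obj (op q.unop))).g :=
    fun q => (hS q.unop).epi_g
  let η : S.X₃.obj ⟶ W.obj :=
    { app := fun q => haveI := hepi' q; (hS q.unop).exact.desc (ψ.hom.app q) (hψp q)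
      naturality := by
        intro q p g
        have := hepi q
        have := hepi' q
        have := hepi' p
        rw [← cancel_epi (S.g.hom.app q)]
        have e1 : S.g.hom.app q ≫ (hS q.unop).exact.desc (ψ.hom.app q) (hψp q) = ψ.hom.app q :=
          (hS q.unop).exact.g_desc _ _
        have e2 : S.g.hom.app p ≫ (hS p.unop).exact.desc (ψ.hom.app p) (hψp p) = ψ.hom.app p :=
          (hS p.unop).exact.g_desc _ _
        rw [← Category.assoc, ← S.g.hom.naturality g, Category.assoc, e2, ← Category.assoc, e1,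
          ψ.hom.naturality] }
  refine ⟨ObjectProperty.homMk η, ?_⟩
  apply ObjectProperty.hom_ext
  ext q
  have := hepi' q
  exact (hS q.unop).exact.g_desc _ _

include hS in
lemma g_cancel {W : FilF A} {ε ε' : S.X₃ ⟶ W} (h : S.g ≫ ε = S.g ≫ ε') : ε = ε' := by
  apply ObjectProperty.hom_ext
  ext q
  have := epi_g_app S hS q.unop
  have e' : (S.g ≫ ε).hom.app q = (S.g ≫ ε').hom.app q := by rw [h]
  exact (cancel_epi (S.g.hom.app q)).mp e'

end SES


section Main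

open CochainComplex

lemma shift_one_d (K : CochainComplex (FilF A) ℤ) (i j : ℤ) :
    (K⟦(1 : ℤ)⟧).d i j = -K.d (i + 1) (j + 1) := by
  rw [CochainComplex.shiftFunctor_obj_d']
  simp

lemma comp_shift_one_d (I : CochainComplex (FilF A) ℤ) (m k : ℤ) (hk : m + 1 = k) {T : FilF A}
    (x : T ⟶ (I⟦(1 : ℤ)⟧).X m) :
    ∃ x' : T ⟶ I.X k, x ≫ (I⟦(1 : ℤ)⟧).d m k = -(x' ≫ I.d k (k + 1)) := by
  subst hk
  refine ⟨x, ?_⟩
  rw [shift_one_d]
  exact Preadditive.comp_neg _ _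

theorem main (S : ShortComplex (FilF A))
    (hS : ∀ p : ℤ, (S.map ((IsFinFil A).ι ⋙ (evaluation ℤᵒᵖ A).obj (op p))).ShortExact)
    (I : CochainComplex (FilF A) ℤ) [I.IsStrictlyGE 0] (hI : ∀ n, IsFilteredInjective (I.X n))
    (a : (HomologicalComplex.single (FilF A) (ComplexShape.up ℤ) 0).obj S.X₁ ⟶ I)
    (J : CochainComplex (FilF A) ℤ) [J.IsStrictlyGE 0]
    (c : (HomologicalComplex.single (FilF A) (ComplexShape.up ℤ) 0).obj S.X₃ ⟶ J)
    (hc : IsFilteredQuasiIso c) :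
    ∃ (M : CochainComplex (FilF A) ℤ) (α : I ⟶ M) (β : M ⟶ J)
      (b : (HomologicalComplex.single (FilF A) (ComplexShape.up ℤ) 0).obj S.X₂ ⟶ M),
      (∀ n, ∃ (r : M.X n ⟶ I.X n) (s : J.X n ⟶ M.X n), α.f n ≫ r = 𝟙 _ ∧ s ≫ β.f n = 𝟙 _ ∧
        α.f n ≫ β.f n = 0 ∧ r ≫ α.f n + β.f n ≫ s = 𝟙 _) ∧
      a ≫ α = (HomologicalComplex.single (FilF A) (ComplexShape.up ℤ) 0).map S.f ≫ b ∧
      b ≫ β = (HomologicalComplex.single (FilF A) (ComplexShape.up ℤ) 0).map S.g ≫ c := by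
  obtain ⟨eX, heX⟩ : ∃ e, e = HomologicalComplex.singleObjXSelf (ComplexShape.up ℤ) 0 S.X₁ := ⟨_, rfl⟩
  obtain ⟨eY, heY⟩ : ∃ e, e = HomologicalComplex.singleObjXSelf (ComplexShape.up ℤ) 0 S.X₂ := ⟨_, rfl⟩
  obtain ⟨eZ, heZ⟩ : ∃ e, e = HomologicalComplex.singleObjXSelf (ComplexShape.up ℤ) 0 S.X₃ := ⟨_, rfl⟩
  obtain ⟨a0, ha0def⟩ : ∃ a0 : S.X₁ ⟶ I.X 0, a0 = eX.inv ≫ a.f 0 := ⟨_, rfl⟩
  obtain ⟨c0, hc0def⟩ : ∃ c0 : S.X₃ ⟶ J.X 0, c0 = eZ.inv ≫ c.f 0 := ⟨_, rfl⟩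
  have ha0 : a0 ≫ I.d 0 (0 + 1) = 0 := by
    rw [ha0def, Category.assoc, a.comm 0 (0 + 1), HomologicalComplex.single_obj_d, zero_comp,
      comp_zero]
  have hc0 : c0 ≫ J.d 0 (0 + 1) = 0 := by
    rw [hc0def, Category.assoc, c.comm 0 (0 + 1), HomologicalComplex.single_obj_d, zero_comp,
      comp_zero]
  obtain ⟨at0, hat0⟩ := exists_extension S hS (hI 0) a0
  have h1 : S.f ≫ (-(at0 ≫ I.d 0 (0 + 1))) = 0 := by
    rw [Preadditive.comp_neg, ← Category.assoc, hat0, ha0, neg_zero]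
  obtain ⟨ε, hε⟩ := exists_descent S hS (-(at0 ≫ I.d 0 (0 + 1))) h1
  have hεd : ε ≫ I.d (0 + 1) (0 + 1 + 1) = 0 := by
    apply g_cancel S hS
    rw [← Category.assoc, hε, comp_zero, Preadditive.neg_comp, Category.assoc, I.d_comp_d,
      comp_zero, neg_zero]
  -- the shifted complex
  have hI1 : ∀ n, IsFilteredInjective ((I⟦(1 : ℤ)⟧).X n) := fun n => hI _
  have : (I⟦(1 : ℤ)⟧).IsStrictlyGE (-1) := I.isStrictlyGE_shift 0 1 (-1) (by norm_num)
  let εt : (HomologicalComplex.single (FilF A) (ComplexShape.up ℤ) 0).obj S.X₃ ⟶ I⟦(1 : ℤ)⟧ :=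
    HomologicalComplex.mkHomFromSingle (K := I⟦(1 : ℤ)⟧) (j := 0) (A := S.X₃) ε (by
      intro k hk
      have hk' : (0 : ℤ) + 1 = k := hk
      subst hk'
      rw [shift_one_d]
      change ε ≫ (-(I.d (0 + 1) (0 + 1 + 1))) = 0
      rw [Preadditive.comp_neg, hεd, neg_zero])
  have hεt : εt.f 0 = eZ.hom ≫ ε := by
    rw [heZ]
    exact HomologicalComplex.mkHomFromSingle_f _ _
  obtain ⟨β', hβ'⟩ := (Groth.Agent.Lib.helper2.FilDCone.main (I⟦(1 : ℤ)⟧) (-1) hI1 c hc).2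
    ((HomotopyCategory.quotient (FilF A) (ComplexShape.up ℤ)).map εt)
  obtain ⟨δ', rfl⟩ := (HomotopyCategory.quotient (FilF A) (ComplexShape.up ℤ)).map_surjective β'
  dsimp only at hβ'
  rw [← Functor.map_comp] at hβ'
  have H : Homotopy (c ≫ δ') εt := HomotopyCategory.homotopyOfEq _ _ hβ'
  -- the family δ
  obtain ⟨δ, hδdef⟩ : ∃ δ : ∀ n : ℤ, J.X n ⟶ I.X (n + 1), ∀ n, δ n = δ'.f n :=
    ⟨fun n => δ'.f n, fun n => rfl⟩
  have hδ : ∀ n : ℤ, δ n ≫ I.d (n + 1) (n + 1 + 1) + J.d n (n + 1) ≫ δ (n + 1) = 0 := by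
    intro n
    have h := δ'.comm n (n + 1)
    rw [shift_one_d] at h
    have h' : δ n ≫ (-(I.d (n + 1) (n + 1 + 1))) = J.d n (n + 1) ≫ δ (n + 1) := by
      rw [hδdef, hδdef]
      exact h
    rw [Preadditive.comp_neg] at h'
    rw [← h']
    exact add_neg_cancel _
  -- the homotopy in degree zero
  obtain ⟨hh, hhh⟩ := comp_shift_one_d I (-1) 0 (by norm_num) (H.hom 0 (-1))
  obtain ⟨h, hhdef⟩ : ∃ h : S.X₃ ⟶ I.X 0, h = eZ.inv ≫ hh := ⟨_, rfl⟩
  have hcomm : c0 ≫ δ 0 = ε - h ≫ I.d 0 (0 + 1) := by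
    have h0 := H.comm 0
    have hd : dNext 0 H.hom = 0 := by
      rw [dNext_eq H.hom (show (ComplexShape.up ℤ).Rel 0 1 by simp),
        HomologicalComplex.single_obj_d, zero_comp]
    have hp : prevD 0 H.hom = -(hh ≫ I.d 0 (0 + 1)) := by
      rw [prevD_eq H.hom (show (ComplexShape.up ℤ).Rel (-1) 0 by simp)]
      exact hhh
    rw [hd, hp, zero_add, HomologicalComplex.comp_f, hεt] at h0
    have h0' : c.f 0 ≫ δ 0 = -(hh ≫ I.d 0 (0 + 1)) + eZ.hom ≫ ε := by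
      rw [hδdef]
      exact h0
    rw [hc0def, Category.assoc, h0', Preadditive.comp_add, Preadditive.comp_neg,
      Iso.inv_hom_id_assoc, hhdef]
    simp only [Category.assoc]
    abel
  -- adjusted extension
  obtain ⟨at1, hat1def⟩ : ∃ at1 : S.X₂ ⟶ I.X 0, at1 = at0 + S.g ≫ h := ⟨_, rfl⟩
  have hat1 : S.f ≫ at1 = a0 := by
    rw [hat1def, Preadditive.comp_add, hat0, ← Category.assoc, S.zero, zero_comp, add_zero]
  have hb1 : at1 ≫ I.d 0 (0 + 1) + (S.g ≫ c0) ≫ δ 0 = 0 := by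
    rw [Category.assoc, hcomm, hat1def, Preadditive.add_comp, Preadditive.comp_sub, hε]
    simp only [Category.assoc]
    abel
  have hb2 : (S.g ≫ c0) ≫ J.d 0 (0 + 1) = 0 := by
    rw [Category.assoc, hc0, comp_zero]
  refine ⟨M I J δ hδ, αM I J δ hδ, βM I J δ hδ, bM I J δ hδ at1 (S.g ≫ c0) hb1 hb2,
    split I J δ hδ, ?_, ?_⟩
  · apply HomologicalComplex.from_single_hom_ext
    have e1 : a.f 0 = eX.hom ≫ a0 := by rw [ha0def, Iso.hom_inv_id_assoc]
    have e2 : S.f ≫ (biprod.lift at1 (S.g ≫ c0) : S.X₂ ⟶ I.X 0 ⊞ J.X 0) = a0 ≫ biprod.inl := by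
      apply biprod.hom_ext
      · rw [Category.assoc, biprod.lift_fst, Category.assoc, biprod.inl_fst, Category.comp_id, hat1]
      · rw [Category.assoc, biprod.lift_snd, Category.assoc, biprod.inl_snd, comp_zero,
          ← Category.assoc, S.zero, zero_comp]
    have e3 : (bM I J δ hδ at1 (S.g ≫ c0) hb1 hb2).f 0 =
        eY.hom ≫ (biprod.lift at1 (S.g ≫ c0) : S.X₂ ⟶ I.X 0 ⊞ J.X 0) := by
      rw [heY]
      exact bM_f_zero I J δ hδ at1 (S.g ≫ c0) hb1 hb2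
    have e4 : ((HomologicalComplex.single (FilF A) (ComplexShape.up ℤ) 0).map S.f).f 0 =
        eX.hom ≫ S.f ≫ eY.inv := by
      rw [heX, heY]
      exact HomologicalComplex.single_map_f_self _ _ _
    rw [HomologicalComplex.comp_f, HomologicalComplex.comp_f, e3, e4]
    change a.f 0 ≫ (biprod.inl : I.X 0 ⟶ I.X 0 ⊞ J.X 0) =
      (eX.hom ≫ S.f ≫ eY.inv) ≫ eY.hom ≫ (biprod.lift at1 (S.g ≫ c0) : S.X₂ ⟶ I.X 0 ⊞ J.X 0)
    rw [e1]
    simp only [Category.assoc, Iso.inv_hom_id_assoc]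
    rw [e2]
  · apply HomologicalComplex.from_single_hom_ext
    have e3 : (bM I J δ hδ at1 (S.g ≫ c0) hb1 hb2).f 0 =
        eY.hom ≫ (biprod.lift at1 (S.g ≫ c0) : S.X₂ ⟶ I.X 0 ⊞ J.X 0) := by
      rw [heY]
      exact bM_f_zero I J δ hδ at1 (S.g ≫ c0) hb1 hb2
    have e4 : ((HomologicalComplex.single (FilF A) (ComplexShape.up ℤ) 0).map S.g).f 0 =
        eY.hom ≫ S.g ≫ eZ.inv := by
      rw [heY, heZ]
      exact HomologicalComplex.single_map_f_self _ _ _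
    rw [HomologicalComplex.comp_f, HomologicalComplex.comp_f, e3, e4]
    change (eY.hom ≫ (biprod.lift at1 (S.g ≫ c0) : S.X₂ ⟶ I.X 0 ⊞ J.X 0)) ≫
      (biprod.snd : I.X 0 ⊞ J.X 0 ⟶ J.X 0) = (eY.hom ≫ S.g ≫ eZ.inv) ≫ c.f 0
    rw [Category.assoc, biprod.lift_snd, hc0def]
    simp only [Category.assoc]

end Main

end Groth.Agent.Lib.helper2.FilDHorseshoe
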