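import Mathlib
import Groth.Agent.Lib.helper2.FilDLib
import Groth.Agent.Lib.helper2.FilDCoker
import Groth.Agent.Lib.helper2.FilDTrunc

set_option autoImplicit false
set_option linter.unusedSectionVars false
universe w v u
open CategoryTheory Limits Opposite FilD
open Groth.Agent.Lib.helper2.FilDLib Groth.Agent.Lib.helper2.FilDCoker
  Groth.Agent.Lib.helper2.FilDTrunc

namespace Groth.Agent.Lib.helper2.FilDTruncLE

variable {A : Type u} [Category.{v} A] [Abelian A]

section Ker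

variable {X Y : FilF A} (f : X ⟶ Y)

/-- levelwise kernel -/
noncomputable def kerFun : ℤᵒᵖ ⥤ A where
  obj q := kernel (f.hom.app q)
  map {q p} g := kernel.map _ _ (X.obj.map g) (Y.obj.map g) (f.hom.naturality g).symm
  map_id q := by
    apply equalizer.hom_ext
    simp
  map_comp g h := by
    apply equalizer.hom_ext
    simp

/-- inclusion of the levelwise kernel -/
noncomputable def kerιN : kerFun f ⟶ X.obj where
  app q := kernel.ι (f.hom.app q)
  naturality q p g := by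
    dsimp [kerFun]
    simp

lemma kerιN_app (q : ℤᵒᵖ) : (kerιN f).app q = kernel.ι (f.hom.app q) := rfl

instance (q : ℤᵒᵖ) : Mono ((kerιN f).app q) := by
  rw [kerιN_app]; exact equalizer.ι_mono

lemma kerιN_comp (q : ℤ) : (kerιN f).app (op q) ≫ f.hom.app (op q) = 0 := kernel.condition _

lemma isFinFil_kerFun : IsFinFil A (kerFun f) := by
  obtain ⟨hX1, ⟨b₁, hb₁⟩, ⟨a₁, ha₁⟩⟩ := X.property
  obtain ⟨-, ⟨b₂, hb₂⟩, ⟨a₂, ha₂⟩⟩ := Y.property
  refine ⟨?_, ⟨b₁, ?_⟩, ⟨min a₁ a₂, ?_⟩⟩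
  · intro q p g
    have := hX1 g
    have h : (kerFun f).map g ≫ (kerιN f).app p = (kerιN f).app q ≫ X.obj.map g :=
      (kerιN f).naturality g
    have : Mono ((kerFun f).map g ≫ (kerιN f).app p) := by rw [h]; infer_instance
    exact mono_of_mono _ ((kerιN f).app p)
  · intro p hp
    exact IsZero.of_mono ((kerιN f).app (op p)) (hb₁ p hp)
  · intro q p g hq
    have h1 : IsIso (X.obj.map g) := ha₁ g (le_trans hq (min_le_left _ _))
    have h2 : IsIso (Y.obj.map g) := ha₂ g (le_trans hq (min_le_right _ _))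
    refine ⟨kernel.map _ _ (inv (X.obj.map g)) (inv (Y.obj.map g)) ?_, ?_, ?_⟩
    · rw [IsIso.comp_inv_eq, Category.assoc, ← f.hom.naturality g, IsIso.inv_hom_id_assoc]
    · apply equalizer.hom_ext
      simp [kerFun]
    · apply equalizer.hom_ext
      simp [kerFun]

/-- the kernel object -/
noncomputable def kerObj : FilF A := ⟨kerFun f, isFinFil_kerFun f⟩

/-- the inclusion of the kernel -/
noncomputable def kerι : kerObj f ⟶ X := ObjectProperty.homMk (kerιN f)

lemma kerι_comp : kerι f ≫ f = 0 := by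
  apply ObjectProperty.hom_ext
  ext q
  exact kernel.condition _

/-- lift to the kernel -/
noncomputable def kerLift {Z : FilF A} (g : Z ⟶ X) (w : g ≫ f = 0) : Z ⟶ kerObj f :=
  ObjectProperty.homMk
    { app := fun q => kernel.lift (f.hom.app q) (g.hom.app q) (app_eq_zero_of_comp_eq_zero g f w q)
      naturality := by
        intro q p h
        apply equalizer.hom_ext
        dsimp [kerObj, kerFun]
        simp }

lemma kerLift_ι {Z : FilF A} (g : Z ⟶ X) (w : g ≫ f = 0) : kerLift f g w ≫ kerι f = g := by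
  apply ObjectProperty.hom_ext
  ext q
  exact kernel.lift_ι _ _ _

lemma kerι_cancel {Z : FilF A} {h h' : Z ⟶ kerObj f} (e : h ≫ kerι f = h' ≫ kerι f) : h = h' := by
  apply ObjectProperty.hom_ext
  ext q
  have e' : (h ≫ kerι f).hom.app q = (h' ≫ kerι f).hom.app q := by rw [e]
  have : Mono ((kerιN f).app q) := inferInstance
  exact (cancel_mono ((kerιN f).app q)).mp e'

lemma mono_kerι_app (q : ℤ) : Mono ((kerι f).hom.app (op q)) :=
  inferInstanceAs (Mono ((kerιN f).app (op q)))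

lemma isStrict_kerι : IsStrict (kerι f) := by
  rw [isStrict_iff]
  intro p q h T x z hxz
  change T ⟶ (kerFun f).obj (op p) at x
  change x ≫ (kerιN f).app (op p) = z ≫ tr X.obj h at hxz
  have hz : z ≫ f.hom.app (op q) = 0 := by
    have := mono_tr Y.property h
    rw [← cancel_mono (tr Y.obj h), Category.assoc, tr_naturality, ← Category.assoc, ← hxz,
      Category.assoc, kerιN_comp, comp_zero, zero_comp]
  refine ⟨T, 𝟙 T, inferInstance, kernel.lift _ z hz, ?_⟩
  rw [Category.id_comp]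
  exact (kernel.lift_ι _ _ _).symm

lemma mono_gr_kerι (p : ℤ) : Mono ((grF A p).map (kerι f)) :=
  mono_gr_of_strict_mono (kerι f) (isStrict_kerι f) (mono_kerι_app f) p

end Ker

section GrKer

variable (S : ShortComplex (FilF A)) (hS : ∀ p : ℤ, (S.map (grF A p)).Exact)

include hS in
/-- cycles of `gr` lift to `gr` of the kernel, when the next step is `gr`-exact -/
lemma exists_lift_gr_ker (p : ℤ) {T : A} (η : T ⟶ (grF A p).obj S.X₁)
    (hη : η ≫ (grF A p).map S.f = 0) :
    ∃ (T' : A) (ρ : T' ⟶ T) (_ : Epi ρ) (ζ : T' ⟶ (grF A p).obj (kerObj S.f)),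
      ρ ≫ η = ζ ≫ (grF A p).map (kerι S.f) := by
  have hle : p ≤ p + 1 := Int.le_add_one le_rfl
  change η ≫ (gr A p).map S.f.hom = 0 at hη
  obtain ⟨T₁, π₁, hπ₁, y, hy⟩ := exists_lift_grπ S.X₁.obj p η
  have h1 : (y ≫ S.f.hom.app (op p)) ≫ grπ S.X₂.obj p = 0 := by
    rw [Category.assoc, grπ_naturality, ← Category.assoc, ← hy, Category.assoc, hη, comp_zero]
  obtain ⟨T₂, π₂, hπ₂, w, hw⟩ := exists_lift_of_grπ_eq_zero S.X₂.obj p _ h1
  have hwg : w ≫ S.g.hom.app (op (p + 1)) = 0 := by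
    have := mono_tr S.X₃.property hle
    rw [← cancel_mono (tr S.X₃.obj hle), Category.assoc, tr_naturality, ← Category.assoc, ← hw,
      zero_comp]
    simp only [Category.assoc, comp_app_eq_zero, comp_zero]
  obtain ⟨T₃, π₃, hπ₃, y', hy'⟩ := levelwise S hS (p + 1) w hwg
  have hu : (π₃ ≫ π₂ ≫ y - y' ≫ tr S.X₁.obj hle) ≫ S.f.hom.app (op p) = 0 := by
    have e1 : (y' ≫ tr S.X₁.obj hle) ≫ S.f.hom.app (op p) = π₃ ≫ π₂ ≫ y ≫ S.f.hom.app (op p) := by
      rw [Category.assoc, ← tr_naturality, ← Category.assoc y', ← hy', Category.assoc, ← hw]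
    rw [Preadditive.sub_comp, e1]
    simp only [Category.assoc, sub_self]
  let z : T₃ ⟶ (kerFun S.f).obj (op p) := kernel.lift _ _ hu
  have hz : z ≫ (kerιN S.f).app (op p) = π₃ ≫ π₂ ≫ y - y' ≫ tr S.X₁.obj hle := kernel.lift_ι _ _ _
  refine ⟨T₃, π₃ ≫ π₂ ≫ π₁, epi_comp' hπ₃ (epi_comp' hπ₂ hπ₁), z ≫ grπ (kerFun S.f) p, ?_⟩
  change _ = (z ≫ grπ (kerFun S.f) p) ≫ (gr A p).map (kerιN S.f)
  have e : (z ≫ grπ (kerFun S.f) p) ≫ (gr A p).map (kerιN S.f) =
      (z ≫ (kerιN S.f).app (op p)) ≫ grπ S.X₁.obj p := by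
    rw [Category.assoc, ← grπ_naturality, Category.assoc]
  rw [e, hz]
  simp only [Category.assoc, Preadditive.sub_comp, tr_grπ, comp_zero, sub_zero, hy]

end GrKer


section LE0

variable (K : CochainComplex (FilF A) ℤ)

/-- the map from degree `-1` to the kernel -/
noncomputable def dZ : K.X (-1) ⟶ kerObj (K.d 0 1) :=
  kerLift (K.d 0 1) (K.d (-1) 0) (K.d_comp_d _ _ _)

lemma dZ_ι : dZ K ≫ kerι (K.d 0 1) = K.d (-1) 0 := kerLift_ι _ _ _

lemma d_dZ : K.d (-2) (-1) ≫ dZ K = 0 := by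
  apply kerι_cancel (K.d 0 1)
  rw [Category.assoc, dZ_ι, K.d_comp_d, zero_comp]

open ZeroObject in
noncomputable def XLn : ℕ → FilF A
  | 0 => kerObj (K.d 0 1)
  | (_ + 1) => 0

noncomputable def XL : ℤ → FilF A
  | Int.ofNat k => XLn K k
  | Int.negSucc k => K.X (Int.negSucc k)

lemma isZero_XL_pos (n : ℤ) (hn : 0 < n) : IsZero (XL K n) := by
  match n with
  | Int.ofNat 0 => exact absurd hn (by simp)
  | Int.ofNat (k + 1) => exact isZero_zero _
  | Int.negSucc k => exact absurd hn (by simp)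

noncomputable def dL : ∀ n : ℤ, XL K n ⟶ XL K (n + 1)
  | Int.ofNat _ => 0
  | Int.negSucc 0 => dZ K
  | Int.negSucc (k + 1) => K.d (Int.negSucc (k + 1)) (Int.negSucc k)

lemma dL_dL (n : ℤ) : dL K n ≫ dL K (n + 1) = 0 := by
  match n with
  | Int.ofNat k => exact zero_comp
  | Int.negSucc 0 => exact comp_zero
  | Int.negSucc 1 => exact d_dZ K
  | Int.negSucc (k + 2) => exact K.d_comp_d _ _ _

noncomputable def ML : CochainComplex (FilF A) ℤ := CochainComplex.of (XL K) (dL K) (dL_dL K)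

noncomputable def ιLn : ∀ k : ℕ, XLn K k ⟶ K.X (k : ℤ)
  | 0 => kerι (K.d 0 1)
  | (_ + 1) => 0

noncomputable def ιLf : ∀ n : ℤ, XL K n ⟶ K.X n
  | Int.ofNat k => ιLn K k
  | Int.negSucc k => 𝟙 _

lemma ιLf_comm (n : ℤ) : ιLf K n ≫ K.d n (n + 1) = dL K n ≫ ιLf K (n + 1) := by
  match n with
  | Int.ofNat 0 =>
    change kerι (K.d 0 1) ≫ K.d 0 1 = 0 ≫ _
    rw [kerι_comp, zero_comp]
  | Int.ofNat (k + 1) =>
    change (0 : XLn K (k + 1) ⟶ K.X ((k + 1 : ℕ) : ℤ)) ≫ _ = (0 : XL K (Int.ofNat (k + 1)) ⟶ _) ≫ _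
    exact zero_comp.trans zero_comp.symm
  | Int.negSucc 0 =>
    change 𝟙 _ ≫ K.d (-1) 0 = dZ K ≫ kerι (K.d 0 1)
    rw [Category.id_comp, dZ_ι]
  | Int.negSucc (k + 1) =>
    change 𝟙 _ ≫ K.d (Int.negSucc (k + 1)) (Int.negSucc k) =
      K.d (Int.negSucc (k + 1)) (Int.negSucc k) ≫ 𝟙 _
    rw [Category.id_comp, Category.comp_id]

noncomputable def ιL : ML K ⟶ K where
  f n := ιLf K n
  comm' i j hij := by
    have hij' : i + 1 = j := hij
    subst hij'
    have : (ML K).d i (i + 1) = dL K i := CochainComplex.of_d _ _ _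
    rw [this]
    exact ιLf_comm K i

instance : (ML K).IsStrictlyLE 0 := by
  rw [CochainComplex.isStrictlyLE_iff]
  intro i hi
  exact isZero_XL_pos K i hi

lemma isFilteredQuasiIso_ιL (hK : ∀ p n : ℤ, 0 < n → ((grCx p).obj K).ExactAt n) :
    IsFilteredQuasiIso (ιL K) := by
  intro p
  apply quasiIso_of_truncLE_like ((grCx p).map (ιL K)) 0
  · intro n hn
    exact (grF A p).map_isZero (isZero_XL_pos K n hn)
  · intro n hn
    exact hK p n hn
  · intro n hn
    match n with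
    | Int.ofNat 0 => exact mono_gr_kerι (K.d 0 1) p
    | Int.ofNat (k + 1) => exact absurd hn (by simp)
    | Int.negSucc k =>
      change Mono ((grF A p).map (𝟙 (K.X (Int.negSucc k))))
      rw [CategoryTheory.Functor.map_id]
      infer_instance
  · intro n hn
    match n with
    | Int.ofNat k => exact absurd hn (by simp)
    | Int.negSucc k =>
      change Epi ((grF A p).map (𝟙 (K.X (Int.negSucc k))))
      rw [CategoryTheory.Functor.map_id]
      infer_instance
  · intro T x hx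
    let S := ShortComplex.mk (K.d 0 1) (K.d 1 2) (K.d_comp_d _ _ _)
    have hS : ∀ p : ℤ, (S.map (grF A p)).Exact := by
      intro p
      have := hK p 1 (by norm_num)
      rw [HomologicalComplex.exactAt_iff' _ 0 1 2 (by simp) (by simp)] at this
      exact this
    exact exists_lift_gr_ker S hS p x hx

end LE0

section LE

open CochainComplex

theorem exists_truncLE (K : CochainComplex (FilF A) ℤ) (b : ℤ)
    (hK : ∀ (p n : ℤ), b < n → IsZero (((grCx p).obj K).homology n)) :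
    ∃ (M : CochainComplex (FilF A) ℤ) (φ : M ⟶ K), M.IsStrictlyLE b ∧ IsFilteredQuasiIso φ := by
  have hK' : ∀ (p n : ℤ), b < n → ((grCx p).obj K).ExactAt n := by
    intro p n hn
    rw [HomologicalComplex.exactAt_iff_isZero_homology]
    exact hK p n hn
  have hK0 : ∀ p n : ℤ, 0 < n → ((grCx p).obj (K⟦b⟧)).ExactAt n := by
    intro p n hn
    exact exactAt_gr_shift K b p n (hK' p (b + n) (by omega))
  refine ⟨(ML (K⟦b⟧))⟦-b⟧,
    (ιL (K⟦b⟧))⟦-b⟧' ≫
      (shiftFunctorCompIsoId (CochainComplex (FilF A) ℤ) b (-b) (by omega)).hom.app K, ?_, ?_⟩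
  · exact (ML (K⟦b⟧)).isStrictlyLE_shift 0 (-b) b (by omega)
  · apply isFilteredQuasiIso_comp
    · exact isFilteredQuasiIso_shift _ (isFilteredQuasiIso_ιL (K⟦b⟧) hK0) _
    · exact isFilteredQuasiIso_of_isIso _

end LE

end Groth.Agent.Lib.helper2.FilDTruncLE
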