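import Mathlib
import Groth.Agent.Lib.helper2.ExtSys
import Groth.Agent.Lib.helper2.DerTrunc
import Groth.Agent.Lib.helper2.ShiftHom
import Groth.Agent.S6939
import Groth.Agent.S6942

/-!
# Finiteness of `Hom(K, L[i])` in `D(A)`, `A` Noetherian

`K` with finite cohomology modules, `L` with finite cohomology modules and a bounded injective
representative.
-/

namespace Groth.Agent.Lib.helper2.FinExt

open CategoryTheory Limits DerivedCategory Pretriangulated

attribute [local instance] HasDerivedCategory.standard

section General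

variable {C : Type*} [Category C] [Abelian C] [HasDerivedCategory C]

/-- no maps from an object which is `≥ c` to a complex of injectives in degrees `[a, b]`, `b < c` -/
lemma hom_eq_zero_of_isGE (I : CochainComplex C ℤ) (a b c : ℤ) (hc : b < c) [I.IsStrictlyGE a]
    [I.IsStrictlyLE b] (hI : ∀ n, Injective (I.X n)) (X : DerivedCategory C) [X.IsGE c]
    (φ : X ⟶ Q.obj I) : φ = 0 := by
  haveI := hI
  haveI : I.IsKInjective := CochainComplex.isKInjective_of_injective I a
  obtain ⟨K', hK', ⟨e⟩⟩ := X.exists_iso_Q_obj_of_isGE c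
  obtain ⟨g, hg⟩ := (CochainComplex.IsKInjective.Qh_map_bijective
    ((HomotopyCategory.quotient _ _).obj K') I).surjective
      ((quotientCompQhIso C).hom.app K' ≫ e.inv ≫ φ ≫ (quotientCompQhIso C).inv.app I)
  obtain ⟨f, rfl⟩ := (HomotopyCategory.quotient _ _).map_surjective g
  have hf : f = 0 := by
    ext q
    by_cases hq : q < c
    · exact (CochainComplex.isZero_of_isStrictlyGE K' c q hq).eq_of_src _ _
    · exact (CochainComplex.isZero_of_isStrictlyLE I b q (by lia)).eq_of_tgt _ _
  subst hf
  rw [Functor.map_zero, Functor.map_zero] at hg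
  rw [← cancel_epi e.inv, ← cancel_mono ((quotientCompQhIso C).inv.app I),
    ← cancel_epi ((quotientCompQhIso C).hom.app K')]
  simp only [Category.assoc, zero_comp, comp_zero]
  exact hg.symm

end General

section Mod

universe u

variable {A : Type u} [CommRing A]

/-- middle term of an exact sequence of modules over a Noetherian ring is finite -/
lemma finite_of_exact [IsNoetherianRing A] {M₁ M₂ M₃ : Type*} [AddCommGroup M₁] [Module A M₁]
    [AddCommGroup M₂] [Module A M₂] [AddCommGroup M₃] [Module A M₃]
    (f : M₁ →ₗ[A] M₂) (g : M₂ →ₗ[A] M₃) (hgf : ∀ x, g (f x) = 0)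
    (h : ∀ y, g y = 0 → ∃ x, f x = y) [Module.Finite A M₁] [Module.Finite A M₃] :
    Module.Finite A M₂ := by
  rw [Module.finite_def]
  refine Submodule.fg_of_fg_map_of_fg_inf_ker g ?_ ?_
  · exact IsNoetherian.noetherian _
  · have : (⊤ : Submodule A M₂) ⊓ LinearMap.ker g = Submodule.map f ⊤ := by
      ext y
      simp only [Submodule.mem_inf, Submodule.mem_top, true_and, LinearMap.mem_ker,
        Submodule.mem_map]
      constructor
      · intro hy
        obtain ⟨x, hx⟩ := h y hy
        exact ⟨x, hx⟩
      · rintro ⟨x, rfl⟩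
        exact hgf x
    rw [this]
    exact Submodule.FG.map f (Module.finite_def.1 inferInstance)

/-- finite modules -/
def finProp (A : Type u) [CommRing A] : ObjectProperty (ModuleCat.{u} A) :=
  fun Y => Module.Finite A Y

instance : (finProp A).IsClosedUnderIsomorphisms :=
  ⟨fun {X Y} e h => by
    have : Module.Finite A X := h
    exact Module.Finite.equiv e.toLinearEquiv⟩

/-- objects `L` with `Hom(K, L)` finite -/
def homFinProp (K : DerivedCategory (ModuleCat.{u} A)) :
    ObjectProperty (DerivedCategory (ModuleCat.{u} A)) :=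
  fun L => Module.Finite A (K ⟶ L)

instance (K : DerivedCategory (ModuleCat.{u} A)) : (homFinProp K).IsClosedUnderIsomorphisms :=
  ⟨fun {X Y} e h => by
    have : Module.Finite A (K ⟶ X) := h
    exact Module.Finite.equiv (Linear.homCongr A (Iso.refl K) e)⟩

/-- `Hom(K, L)` is finite for `K` pseudo-coherent and `L` bounded with finite cohomology -/
lemma finite_hom_of_bounded [IsNoetherianRing A] (F : CochainComplex (ModuleCat.{u} A) ℤ)
    [F.IsKProjective]
    (hfin : ∀ i, Module.Finite A (F.X i)) (hfree : ∀ i, Module.Free A (F.X i))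
    {K : DerivedCategory (ModuleCat.{u} A)} (e₀ : Q.obj F ≅ K)
    (L : DerivedCategory (ModuleCat.{u} A)) (a b : ℤ) [L.IsGE a] [L.IsLE b]
    (hL : ∀ i, Module.Finite A ((homologyFunctor (ModuleCat.{u} A) i).obj L)) :
    Module.Finite A (K ⟶ L) := by
  refine DerTrunc.bounded_induction (fun _ => finProp A) (homFinProp K) ?_ ?_ ?_ L a b
    (fun i _ _ => hL i)
  · intro X hX
    have : Subsingleton (K ⟶ X) := ⟨fun f g => hX.eq_of_tgt f g⟩
    change Module.Finite A (K ⟶ X)
    infer_instance
  · intro T hT h1 h3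
    have : Module.Finite A (K ⟶ T.obj₁) := h1
    have : Module.Finite A (K ⟶ T.obj₃) := h3
    change Module.Finite A (K ⟶ T.obj₂)
    refine finite_of_exact (Linear.rightComp A K T.mor₁) (Linear.rightComp A K T.mor₂) ?_ ?_
    · intro x
      change (x ≫ T.mor₁) ≫ T.mor₂ = 0
      rw [Category.assoc, comp_distTriang_mor_zero₁₂ _ hT, comp_zero]
    · intro y hy
      obtain ⟨x, hx⟩ := Triangle.coyoneda_exact₂ T hT y hy
      exact ⟨x, hx.symm⟩
  · intro n Y hY
    have : Module.Finite A Y := hY
    change Module.Finite A (K ⟶ (singleFunctor (ModuleCat.{u} A) n).obj Y)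
    have h1 := ExtSys.finite_hom F hfin hfree e₀ Y (-n)
    let e : ((singleFunctor (ModuleCat.{u} A) 0).obj Y)⟦-n⟧ ≅
        (singleFunctor (ModuleCat.{u} A) n).obj Y :=
      ((DerivedCategory.singleFunctors (ModuleCat.{u} A)).shiftIso (-n) n 0 (by simp)).app Y
    exact Module.Finite.equiv (Linear.homCongr A (Iso.refl K) e)

/-- finiteness of `Hom(K, L[i])`: `K`, `L` with finite cohomology, `L` with a bounded injective
representative. -/
theorem finite_hom [IsNoetherianRing A] (K L : DerivedCategory (ModuleCat.{u} A))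
    (hK : ∀ i, Module.Finite A ((homologyFunctor (ModuleCat.{u} A) i).obj K))
    (hL : ∀ i, Module.Finite A ((homologyFunctor (ModuleCat.{u} A) i).obj L))
    (E : CochainComplex (ModuleCat.{u} A) ℤ) (a b : ℤ) [E.IsStrictlyGE a] [E.IsStrictlyLE b]
    (hE : ∀ n, Injective (E.X n)) (e : Q.obj E ≅ L) (i : ℤ) :
    Module.Finite A (K ⟶ L⟦i⟧) := by
  -- truncate `K` above `b - i`
  let K₂ := (TStructure.t.truncLT (b - i + 1)).obj K
  let K₃ := (TStructure.t.truncGE (b - i + 1)).obj K
  have hT := TStructure.t.triangleLTGE_distinguished (b - i + 1) K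
  -- vanishing
  have hvan : ∀ ψ : K₃ ⟶ L⟦i⟧, ψ = 0 := by
    have h1 : ShiftHom.HT K₃ L i := by
      rw [← ShiftHom.hs_iff_ht (-i) i (by lia)]
      intro ψ
      have : TStructure.t.IsGE K₃ (b - i + 1) := by dsimp only [K₃]; infer_instance
      have : (K₃⟦-i⟧).IsGE (b + 1) := TStructure.t.isGE_shift K₃ (b - i + 1) (-i) (b + 1)
      have := hom_eq_zero_of_isGE E a b (b + 1) (by lia) hE _ (ψ ≫ e.inv)
      rw [← cancel_mono e.inv, this, zero_comp]
    exact h1
  -- injectivity
  have hinj : Function.Injective
      (Linear.leftComp A (L⟦i⟧) ((TStructure.t.truncLTι (b - i + 1)).app K)) := by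
    rw [← LinearMap.ker_eq_bot, LinearMap.ker_eq_bot']
    intro f hf
    obtain ⟨g, hg⟩ := Triangle.yoneda_exact₂ _ hT f hf
    rw [hg, hvan g]
    exact comp_zero
  -- finiteness for `K₂`
  suffices Module.Finite A (K₂ ⟶ L⟦i⟧) from Module.Finite.of_injective _ hinj
  have hK₂ : ∀ j, Module.Finite A ((homologyFunctor (ModuleCat.{u} A) j).obj K₂) := by
    intro j
    by_cases hj : j < b - i + 1
    · have := DerTrunc.isIso_homology_map_truncLTι K (b - i + 1) j hj
      have : Module.Finite A ((homologyFunctor (ModuleCat.{u} A) j).obj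
        ((𝟭 (DerivedCategory (ModuleCat.{u} A))).obj K)) := hK j
      exact Module.Finite.equiv (asIso ((homologyFunctor (ModuleCat.{u} A) j).map
        ((TStructure.t.truncLTι (b - i + 1)).app K))).symm.toLinearEquiv
    · have : TStructure.t.IsLE K₂ (b - i) := by dsimp only [K₂]; infer_instance
      have hz : IsZero ((homologyFunctor (ModuleCat.{u} A) j).obj K₂) :=
        DerivedCategory.isZero_of_isLE _ (b - i) j (by lia)
      have := ModuleCat.subsingleton_of_isZero hz
      infer_instance
  have hpc : DRing.IsPseudoCoherent' A K₂ := by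
    refine (Groth.Agent.S6939.result A 0 K₂ ⟨b - i, fun j hj => ?_⟩).2 fun j => ?_
    · have : TStructure.t.IsLE K₂ (b - i) := by dsimp only [K₂]; infer_instance
      exact ModuleCat.subsingleton_of_isZero (DerivedCategory.isZero_of_isLE _ (b - i) j hj)
    · exact ((Groth.Agent.S6942.result A 0 K₂ _).2).2 (hK₂ j)
  obtain ⟨F, c, hc, hF, ⟨e₀⟩⟩ := hpc
  have : F.IsStrictlyLE c := by
    rw [CochainComplex.isStrictlyLE_iff]
    exact hc
  have : ∀ n, Projective (F.X n) := fun n => by
    have := (hF n).2
    exact ModuleCat.projective_of_free (Module.Free.chooseBasis A (F.X n))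
  have : F.IsKProjective := CochainComplex.isKProjective_of_projective F c
  -- boundedness and finiteness for `L[i]`
  have : L.IsGE a := TStructure.t.isGE_of_iso e a
  have : L.IsLE b := TStructure.t.isLE_of_iso e b
  have : (L⟦i⟧).IsGE (a - i) := TStructure.t.isGE_shift L a i (a - i)
  have : (L⟦i⟧).IsLE (b - i) := TStructure.t.isLE_shift L b i (b - i)
  refine finite_hom_of_bounded F (fun n => (hF n).1) (fun n => (hF n).2) e₀ (L⟦i⟧) (a - i) (b - i)
    fun j => ?_
  have : Module.Finite A (((homologyFunctor (ModuleCat.{u} A) 0).shift (i + j)).obj L) :=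
    hL (i + j)
  exact Module.Finite.equiv
    (((homologyFunctor (ModuleCat.{u} A) 0).shiftIso i j (i + j) rfl).app L).symm.toLinearEquiv

end Mod

end Groth.Agent.Lib.helper2.FinExt
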