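import Mathlib
import Groth.Agent.Lib.helper2.FinExt

/-!
# Finiteness of `Hom(K, L)` in `D(A)`: `K` bounded above, `L` bounded below (helper2)
-/

namespace Groth.Agent.Lib.helper2.FinExt

open CategoryTheory Limits DerivedCategory Pretriangulated

attribute [local instance] HasDerivedCategory.standard

universe u

variable {A : Type u} [CommRing A]

/-- `Hom(K, L)` is a finite module if `K` is bounded above, `L` is bounded below and both have
finite cohomology modules (`A` Noetherian). -/
theorem finite_hom_of_isLE_of_isGE [IsNoetherianRing A] (K L : DerivedCategory (ModuleCat.{u} A))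
    (a b : ℤ) [K.IsLE b] [L.IsGE a]
    (hK : ∀ i, Module.Finite A ((homologyFunctor (ModuleCat.{u} A) i).obj K))
    (hL : ∀ i, Module.Finite A ((homologyFunctor (ModuleCat.{u} A) i).obj L)) :
    Module.Finite A (K ⟶ L) := by
  let L₂ := (TStructure.t.truncLT (b + 1)).obj L
  have hsurj : Function.Surjective
      (Linear.rightComp A K ((TStructure.t.truncLTι (b + 1)).app L)) := by
    intro f
    exact ⟨TStructure.t.liftTruncLT f b (b + 1) rfl, TStructure.t.liftTruncLT_ι f b (b + 1) rfl⟩
  suffices Module.Finite A (K ⟶ L₂) from Module.Finite.of_surjective _ hsurj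
  have hL₂ : ∀ j, Module.Finite A ((homologyFunctor (ModuleCat.{u} A) j).obj L₂) := by
    intro j
    by_cases hj : j < b + 1
    · have := DerTrunc.isIso_homology_map_truncLTι L (b + 1) j hj
      have : Module.Finite A ((homologyFunctor (ModuleCat.{u} A) j).obj
        ((𝟭 (DerivedCategory (ModuleCat.{u} A))).obj L)) := hL j
      exact Module.Finite.equiv (asIso ((homologyFunctor (ModuleCat.{u} A) j).map
        ((TStructure.t.truncLTι (b + 1)).app L))).symm.toLinearEquiv
    · have : TStructure.t.IsLE L₂ b := by dsimp only [L₂]; infer_instance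
      have hz : IsZero ((homologyFunctor (ModuleCat.{u} A) j).obj L₂) :=
        DerivedCategory.isZero_of_isLE _ b j (by lia)
      have := ModuleCat.subsingleton_of_isZero hz
      infer_instance
  have hpc : DRing.IsPseudoCoherent' A K := by
    refine (Groth.Agent.S6939.result A 0 K ⟨b, fun j hj => ?_⟩).2 fun j => ?_
    · exact ModuleCat.subsingleton_of_isZero (DerivedCategory.isZero_of_isLE _ b j hj)
    · exact ((Groth.Agent.S6942.result A 0 K _).2).2 (hK j)
  obtain ⟨F, c, hc, hF, ⟨e₀⟩⟩ := hpc
  have : F.IsStrictlyLE c := by
    rw [CochainComplex.isStrictlyLE_iff]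
    exact hc
  have : ∀ n, Projective (F.X n) := fun n => by
    have := (hF n).2
    exact ModuleCat.projective_of_free (Module.Free.chooseBasis A (F.X n))
  have : F.IsKProjective := CochainComplex.isKProjective_of_projective F c
  have : L₂.IsGE a := by
    dsimp only [L₂]
    exact inferInstanceAs (TStructure.t.IsGE _ a)
  have : L₂.IsLE b := by
    dsimp only [L₂]
    exact inferInstanceAs (TStructure.t.IsLE _ b)
  exact finite_hom_of_bounded F (fun n => (hF n).1) (fun n => (hF n).2) e₀ L₂ a b hL₂

end Groth.Agent.Lib.helper2.FinExt
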