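import Mathlib

set_option autoImplicit false
universe v u v' u'
open CategoryTheory CategoryTheory.Limits

namespace Groth.Agent.Lib.helper2.FinLenCounit

variable {A : Type u} [Category.{v} A] [Abelian A] {B : Type u'} [Category.{v'} B] [Abelian B]
  (u : A ⥤ B) [PreservesFiniteLimits u] [PreservesFiniteColimits u] [u.PreservesZeroMorphisms]

/-- one step: pass from `Q` to `Q / S` for a simple subobject `S` -/
lemma mono_step (hsimple : ∀ X : A, Simple X → Simple (u.obj X)) {Q : A} (S : Subobject Q)
    (hS : Simple (S : A)) (K : B) (i : K ⟶ u.obj Q) [Mono i]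
    (hK : ∀ S : A, Simple S → ∀ f : u.obj S ⟶ K, f = 0) :
    Mono (i ≫ u.map (cokernel.π S.arrow)) := by
  apply Preadditive.mono_of_kernel_zero
  set j := i ≫ u.map (cokernel.π S.arrow) with hj
  -- the exact sequence u S → u Q → u (Q/S)
  have hex : (ShortComplex.mk S.arrow (cokernel.π S.arrow) (cokernel.condition _)).Exact :=
    ShortComplex.exact_cokernel _
  have hex' := hex.map u
  have hmono : Mono (u.map S.arrow) := inferInstance
  have hmono' : Mono ((ShortComplex.mk S.arrow (cokernel.π S.arrow) (cokernel.condition _)).map u).f :=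
    hmono
  have h0 : (kernel.ι j ≫ i) ≫
      ((ShortComplex.mk S.arrow (cokernel.π S.arrow) (cokernel.condition _)).map u).g = 0 := by
    change (kernel.ι j ≫ i) ≫ u.map (cokernel.π S.arrow) = 0
    rw [Category.assoc]
    exact kernel.condition j
  obtain ⟨a, ha⟩ : ∃ a : kernel j ⟶ u.obj (S : A), a ≫ u.map S.arrow = kernel.ι j ≫ i :=
    ⟨hex'.lift _ h0, hex'.lift_f _ h0⟩
  have hamono : Mono a := by
    have : Mono (a ≫ u.map S.arrow) := by rw [ha]; infer_instance
    exact mono_of_mono a (u.map S.arrow)
  have huS : Simple (u.obj (S : A)) := hsimple _ hS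
  by_cases hiso : IsIso a
  · have h1 : inv a ≫ kernel.ι j = 0 := hK _ hS _
    have : kernel.ι j = a ≫ (inv a ≫ kernel.ι j) := by simp
    rw [this, h1, comp_zero]
  · have ha0 : a = 0 := mono_to_simple_zero_of_not_iso (fun h => hiso h)
    rw [ha0, zero_comp] at ha
    exact zero_of_comp_mono i ha.symm


theorem isZero_of_vanishing (hlen : ∀ X : A, IsArtinianObject X ∧ IsNoetherianObject X)
    (hsimple : ∀ X : A, Simple X → Simple (u.obj X)) (X : A) (X' : Subobject X) :
    ∀ (Q : A) (π : X ⟶ Q) [Epi π], kernelSubobject π = X' →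
      ∀ (K : B) (i : K ⟶ u.obj Q) [Mono i],
        (∀ S : A, Simple S → ∀ f : u.obj S ⟶ K, f = 0) → IsZero K := by
  have := (hlen X).2
  induction X' using WellFoundedGT.induction with
  | ind X' ih =>
    intro Q π _ hπ K i _ hK
    by_cases hQ : IsZero Q
    · exact IsZero.of_mono i (u.map_isZero hQ)
    · have := (hlen Q).1
      obtain ⟨S, hS⟩ := exists_simple_subobject hQ
      have hm := mono_step u hsimple S hS K i hK
      have hepi : Epi (π ≫ cokernel.π S.arrow) := epi_comp _ _
      refine ih (kernelSubobject (π ≫ cokernel.π S.arrow)) ?_ (cokernel S.arrow)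
        (π ≫ cokernel.π S.arrow) rfl K (i ≫ u.map (cokernel.π S.arrow)) hK
      rw [← hπ]
      apply lt_of_le_of_ne (kernelSubobject_comp_le _ _)
      intro heq
      have h1 : (kernelSubobject (π ≫ cokernel.π S.arrow)).arrow ≫ π = 0 := by
        rw [← Subobject.ofLE_arrow (le_of_eq heq.symm), Category.assoc,
          kernelSubobject_arrow_comp, comp_zero]
      obtain ⟨T', e, he, x, hx⟩ := surjective_up_to_refinements_of_epi π S.arrow
      have hx0 : x ≫ (π ≫ cokernel.π S.arrow) = 0 := by
        rw [← Category.assoc, ← hx, Category.assoc, cokernel.condition, comp_zero]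
      have hx1 : x ≫ π = 0 := by
        rw [← factorThruKernelSubobject_comp_arrow _ x hx0, Category.assoc, h1, comp_zero]
      have hS0 : S.arrow = 0 := by
        rw [← cancel_epi e, hx, hx1, comp_zero]
      exact Simple.not_isZero (S : A) (IsZero.of_mono_eq_zero S.arrow hS0)


theorem main (u : A ⥤ B) [u.Full] [u.Faithful] [PreservesFiniteLimits u]
    [PreservesFiniteColimits u] [u.IsRightAdjoint]
    (uStar : B ⥤ A) (adj : u ⊣ uStar)
    (hlen : ∀ X : A, IsArtinianObject X ∧ IsNoetherianObject X)
    (hsimple : ∀ X : A, Simple X → Simple (u.obj X)) (Y : B) :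
    Mono (adj.counit.app Y) := by
  have : u.PreservesZeroMorphisms := inferInstance
  have : uStar.IsRightAdjoint := adj.isRightAdjoint
  have : uStar.PreservesZeroMorphisms := inferInstance
  apply Preadditive.mono_of_kernel_zero
  have hK : ∀ S : A, Simple S → ∀ f : u.obj S ⟶ kernel (adj.counit.app Y), f = 0 := by
    intro S _ f
    have hiso : IsIso (uStar.map (adj.counit.app Y)) := by
      have h := adj.right_triangle_components Y
      have : IsIso (adj.unit.app (uStar.obj Y)) := inferInstance
      have h2 : IsIso (adj.unit.app (uStar.obj Y) ≫ uStar.map (adj.counit.app Y)) := by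
        rw [h]; exact IsIso.id _
      exact IsIso.of_isIso_comp_left (adj.unit.app (uStar.obj Y)) _
    have hm : Mono (uStar.map (kernel.ι (adj.counit.app Y))) := inferInstance
    have h0 : uStar.map (kernel.ι (adj.counit.app Y)) = 0 := by
      have : uStar.map (kernel.ι (adj.counit.app Y)) ≫ uStar.map (adj.counit.app Y) = 0 := by
        rw [← uStar.map_comp, kernel.condition, uStar.map_zero]
      rw [← cancel_mono (uStar.map (adj.counit.app Y)), this, zero_comp]
    have h1 : uStar.map f = 0 := by
      rw [← cancel_mono (uStar.map (kernel.ι (adj.counit.app Y))), zero_comp, h0, comp_zero]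
    apply (adj.homEquiv S _).injective
    rw [adj.homEquiv_unit, adj.homEquiv_unit, h1, uStar.map_zero]
  have hz := isZero_of_vanishing u hlen hsimple (uStar.obj Y) (kernelSubobject (𝟙 _))
    (uStar.obj Y) (𝟙 _) rfl (kernel (adj.counit.app Y)) (kernel.ι (adj.counit.app Y)) hK
  exact hz.eq_of_src _ _

end Groth.Agent.Lib.helper2.FinLenCounit
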