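import Mathlib
import Groth.Agent.Lib.helper2.TwoTermQI

set_option autoImplicit false
set_option linter.unusedSectionVars false

namespace Groth.Agent.Lib.helper2.TwoTermQI

open CategoryTheory CategoryTheory.Limits HomologicalComplex

universe u

variable {R : Type u} [CommRing R]

theorem exists_finite_model [IsNoetherianRing R] (E : CochainComplex (ModuleCat.{u} R) ℤ)
    (hE : ∀ i : ℤ, i < -1 ∨ 0 < i → IsZero (E.X i))
    (h1 : Module.Finite R (E.homology (-1))) (h0 : Module.Finite R (E.homology 0)) :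
    ∃ (E' : CochainComplex (ModuleCat.{u} R) ℤ) (φ : E' ⟶ E), QuasiIso φ ∧
      (∀ i : ℤ, i < -1 ∨ 0 < i → IsZero (E'.X i)) ∧ Module.Free R (E'.X 0) ∧
      Module.Finite R (E'.X 0) ∧ Module.Finite R (E'.X (-1)) := by
  have hop : Module.Finite R (E.opcycles 0) := by
    have := E.isIso_homologyι 0 1 (by simp) ((hE 1 (Or.inr (by lia))).eq_of_tgt _ _)
    exact Module.Finite.equiv (asIso (E.homologyι 0)).toLinearEquiv
  have hcy : Module.Finite R (E.cycles (-1)) := by
    have := E.isIso_homologyπ (-2) (-1) (by simp) ((hE (-2) (Or.inl (by lia))).eq_of_src _ _)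
    exact Module.Finite.equiv (asIso (E.homologyπ (-1))).symm.toLinearEquiv
  obtain ⟨n, g, hg⟩ := Module.Finite.exists_fin' R (E.opcycles 0)
  have hp : Function.Surjective (E.pOpcycles 0).hom := pOpcycles_surjective E 0
  obtain ⟨f, hf⟩ := Module.projective_lifting_property (E.pOpcycles 0).hom g hp
  let A : (E.X (-1) × (Fin n → R)) →ₗ[R] E.X 0 :=
    (E.d (-1) 0).hom ∘ₗ LinearMap.fst R (E.X (-1)) (Fin n → R)
  let B : (E.X (-1) × (Fin n → R)) →ₗ[R] E.X 0 :=
    f ∘ₗ LinearMap.snd R (E.X (-1)) (Fin n → R)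
  let P : Submodule R (E.X (-1) × (Fin n → R)) := LinearMap.eqLocus A B
  have hP : ∀ x : P, E.d (-1) 0 x.1.1 = f x.1.2 := fun x => x.2
  let X₀ : ModuleCat.{u} R := ModuleCat.of R P
  let X₁ : ModuleCat.{u} R := ModuleCat.of R (Fin n → R)
  let d' : X₀ ⟶ X₁ := ModuleCat.ofHom (LinearMap.snd R (E.X (-1)) (Fin n → R) ∘ₗ P.subtype)
  let φ₀ : X₀ ⟶ E.X (-1) := ModuleCat.ofHom (LinearMap.fst R (E.X (-1)) (Fin n → R) ∘ₗ P.subtype)
  let φ₁ : X₁ ⟶ E.X 0 := ModuleCat.ofHom f
  have comm : φ₀ ≫ E.d (-1) 0 = d' ≫ φ₁ := by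
    apply ModuleCat.hom_ext
    apply LinearMap.ext
    intro x
    exact hP x
  have hqi := quasiIso_dblHom d' E hE φ₀ φ₁ comm
    (by
      intro x h1 h2
      apply Subtype.ext
      exact Prod.ext h2 h1)
    (by
      intro y hy
      refine ⟨⟨(y, 0), ?_⟩, rfl, rfl⟩
      change E.d (-1) 0 y = f 0
      rw [hy, map_zero])
    (by
      intro y
      obtain ⟨v, hv⟩ := hg (E.pOpcycles 0 y)
      have h2 : E.pOpcycles 0 (y - f v) = 0 := by
        rw [map_sub]
        have : E.pOpcycles 0 (f v) = g v := LinearMap.congr_fun hf v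
        rw [this, hv, sub_self]
      obtain ⟨e, he⟩ := exists_boundary E (-1) 0 (by lia) _ h2
      refine ⟨v, e, ?_⟩
      rw [he]
      change y = f v + (y - f v)
      abel)
    (by
      rintro v ⟨e, he⟩
      exact ⟨⟨(e, v), he.symm⟩, rfl⟩)
  refine ⟨dbl d', dblHom d' E hE φ₀ φ₁ comm, hqi, ?_, ?_, ?_, ?_⟩
  · intro i hi
    exact isZero_double_X d' rel_neg_one_zero i (by lia) (by lia)
  · exact Module.Free.of_equiv (doubleXIso₁ d' rel_neg_one_zero (by lia)).symm.toLinearEquiv
  · exact Module.Finite.equiv (doubleXIso₁ d' rel_neg_one_zero (by lia)).symm.toLinearEquiv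
  · have hPfin : Module.Finite R P := by
      let s : P →ₗ[R] (Fin n → R) := LinearMap.snd R (E.X (-1)) (Fin n → R) ∘ₗ P.subtype
      let ψ : E.cycles (-1) →ₗ[R] P :=
        LinearMap.codRestrict P
          (LinearMap.inl R (E.X (-1)) (Fin n → R) ∘ₗ (E.iCycles (-1)).hom) (by
            intro c
            change E.d (-1) 0 (E.iCycles (-1) c) = f 0
            rw [map_zero]
            exact ConcreteCategory.congr_hom (E.iCycles_d (-1) 0) c)
      have hker : LinearMap.ker s ≤ LinearMap.range ψ := by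
        intro x hx
        have hx2 : x.1.2 = 0 := hx
        have hx1 : E.d (-1) 0 x.1.1 = 0 := by rw [hP x, hx2, map_zero]
        obtain ⟨c, hc⟩ := exists_cycle E (-1) 0 (by lia) _ hx1
        refine ⟨c, ?_⟩
        apply Subtype.ext
        exact Prod.ext hc hx2.symm
      constructor
      apply Submodule.fg_of_fg_map_of_fg_inf_ker s
      · exact IsNoetherian.noetherian _
      · rw [top_inf_eq]
        have hfg : (LinearMap.range ψ).FG := by
          rw [LinearMap.range_eq_map]
          exact Submodule.FG.map _ Module.Finite.fg_top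
        have hle : LinearMap.range ψ ≤ LinearMap.ker s := by
          rintro _ ⟨c, rfl⟩
          rfl
        rw [le_antisymm hker hle]
        exact hfg
    exact Module.Finite.equiv (doubleXIso₀ d' rel_neg_one_zero).symm.toLinearEquiv

end Groth.Agent.Lib.helper2.TwoTermQI
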