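import Mathlib
import Groth.Agent.Lib.helper2.DerTrunc

/-!
# Splitting an object of `D(A)` along a gap in its cohomology (helper2)
-/

set_option autoImplicit false
set_option linter.unusedSectionVars false
set_option linter.style.haveILetI false
set_option backward.isDefEq.respectTransparency false
set_option backward.defeqAttrib.useBackward true

namespace Groth.Agent.Lib.helper2.GapSplit

open CategoryTheory CategoryTheory.Limits CategoryTheory.Pretriangulated DerivedCategory

universe w v u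

variable {C : Type u} [Category.{v} C] [Abelian C] [HasDerivedCategory.{w} C]

variable (C) in
/-- the canonical t-structure -/
noncomputable abbrev tS : Triangulated.TStructure (DerivedCategory C) := DerivedCategory.TStructure.t

/-- if `H^i(K) = 0` for `n₀ ≤ i < n₁`, there is a distinguished triangle
`τ_{<n₀} K ⟶ K ⟶ τ_{≥n₁} K ⟶`. -/
theorem exists_triangle (K : DerivedCategory C) (n₀ n₁ : ℤ) (h01 : n₀ ≤ n₁)
    (hH : ∀ i : ℤ, n₀ ≤ i → i < n₁ → IsZero ((DerivedCategory.homologyFunctor C i).obj K)) :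
    ∃ δ : ((tS C).truncGE n₁).obj K ⟶ (((tS C).truncLT n₀).obj K)⟦(1 : ℤ)⟧,
      Triangle.mk (((tS C).truncLTι n₀).app K) (((tS C).truncGEπ n₁).app K) δ ∈
        distTriang (DerivedCategory C) := by
  have hT := (tS C).triangleLTGE_distinguished n₀ K
  have hT' := (tS C).triangleLTGE_distinguished n₁ K
  have hge : (tS C).IsGE (((tS C).truncGE n₀).obj K) n₁ := by
    change DerivedCategory.IsGE (((tS C).truncGE n₀).obj K) n₁
    rw [DerivedCategory.isGE_iff]
    intro i hi
    by_cases h : i < n₀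
    · exact DerivedCategory.isZero_of_isGE (((tS C).truncGE n₀).obj K) n₀ i h
    · have := DerTrunc.isIso_homology_map_truncGEπ K n₀ i (by lia)
      exact (hH i (by lia) hi).of_iso (asIso ((DerivedCategory.homologyFunctor C i).map
        (((tS C).truncGEπ n₀).app K))).symm
  have hle : (tS C).IsLE (((tS C).truncLT n₀).obj K) (n₀ - 1) := inferInstance
  have hle' : (tS C).IsLE (((tS C).truncLT n₁).obj K) (n₀ - 1) := by
    change DerivedCategory.IsLE (((tS C).truncLT n₁).obj K) (n₀ - 1)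
    rw [DerivedCategory.isLE_iff]
    intro i hi
    by_cases h : n₁ ≤ i
    · have : DerivedCategory.IsLE (((tS C).truncLT n₁).obj K) (n₁ - 1) :=
        inferInstanceAs ((tS C).IsLE _ _)
      exact DerivedCategory.isZero_of_isLE (((tS C).truncLT n₁).obj K) (n₁ - 1) i (by lia)
    · have := DerTrunc.isIso_homology_map_truncLTι K n₁ i (by lia)
      exact (hH i (by lia) (by lia)).of_iso (asIso ((DerivedCategory.homologyFunctor C i).map
        (((tS C).truncLTι n₁).app K)))
  obtain ⟨e', he'⟩ := (tS C).triangle_iso_exists hT hT' (Iso.refl K) (n₀ - 1) n₁ hle hge hle'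
    inferInstance (by lia)
  dsimp at he'
  have h3 : e'.hom.hom₃ ≫ e'.inv.hom₃ = 𝟙 _ := by
    have := congrArg TriangleMorphism.hom₃ e'.hom_inv_id
    exact this
  refine ⟨e'.inv.hom₃ ≫ (((tS C).triangleLTGE n₀).obj K).mor₃, ?_⟩
  refine isomorphic_distinguished _ hT _ (Triangle.isoMk _ _ (Iso.refl _) (Iso.refl _)
    (Triangle.π₃.mapIso e').symm ?_ ?_ ?_)
  · exact (Category.comp_id _).trans (Category.id_comp _).symm
  · change ((tS C).truncGEπ n₁).app K ≫ e'.inv.hom₃ = 𝟙 K ≫ ((tS C).truncGEπ n₀).app K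
    have := e'.hom.comm₂
    rw [he'] at this
    change ((tS C).truncGEπ n₀).app K ≫ e'.hom.hom₃ = 𝟙 K ≫ ((tS C).truncGEπ n₁).app K at this
    rw [Category.id_comp] at this ⊢
    rw [← this, Category.assoc, h3]
    exact Category.comp_id _
  · change (e'.inv.hom₃ ≫ (((tS C).triangleLTGE n₀).obj K).mor₃) ≫ (𝟙 _)⟦(1 : ℤ)⟧' =
      e'.inv.hom₃ ≫ (((tS C).triangleLTGE n₀).obj K).mor₃
    rw [CategoryTheory.Functor.map_id, Category.comp_id]

theorem exists_iso_biprod (K : DerivedCategory C) (n₀ n₁ : ℤ) (h01 : n₀ ≤ n₁)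
    (hH : ∀ i : ℤ, n₀ ≤ i → i < n₁ → IsZero ((DerivedCategory.homologyFunctor C i).obj K))
    (hz : ∀ δ : ((tS C).truncGE n₁).obj K ⟶ (((tS C).truncLT n₀).obj K)⟦(1 : ℤ)⟧, δ = 0) :
    ∃ e : K ≅ ((tS C).truncLT n₀).obj K ⊞ ((tS C).truncGE n₁).obj K,
      ((tS C).truncLTι n₀).app K ≫ e.hom = biprod.inl ∧
        e.hom ≫ biprod.snd = ((tS C).truncGEπ n₁).app K := by
  obtain ⟨δ, hT⟩ := exists_triangle K n₀ n₁ h01 hH
  obtain ⟨e, he1, he2⟩ := exists_iso_binaryBiproduct_of_distTriang _ hT (hz δ)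
  exact ⟨e, he1, he2.symm⟩

end Groth.Agent.Lib.helper2.GapSplit
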