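import Mathlib
import Groth.Prelude.Def_HRes
import Groth.Agent.Lib.helper2.ExtNat
universe u
open CategoryTheory AlgebraicGeometry Abelian

namespace Groth.Agent.Lib.helper2.HResComp

variable (K : Precoverage Scheme.{u}) {S T T' : Scheme.{u}} (f : T ⟶ S) (g : T' ⟶ T)


theorem pullConst_comp (M : AddCommGrpCat.{u + 1}) :
    (HRes.pullConst K g M).inv ≫
      (BigSite.pullBig K g AddCommGrpCat.{u + 1}).map (HRes.pullConst K f M).inv ≫
      (K.toGrothendieck.overMapPullbackComp AddCommGrpCat.{u + 1} g f).hom.app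
        ((constantSheaf (QuotSh.J K S) AddCommGrpCat.{u + 1}).obj M) =
    (HRes.pullConst K (g ≫ f) M).inv := by
  apply Sheaf.hom_ext
  refine sheafify_hom_ext _ _ _
    ((BigSite.pullBig K (g ≫ f) AddCommGrpCat.{u + 1}).obj
      ((constantSheaf (QuotSh.J K S) AddCommGrpCat.{u + 1}).obj M)).property ?_
  rw [ObjectProperty.FullSubcategory.comp_hom, ObjectProperty.FullSubcategory.comp_hom]
  unfold HRes.pullConst
  simp only [Iso.symm_inv, Iso.app_hom]
  rw [Functor.pushforwardContinuousSheafificationCompatibility_hom_app_hom,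
    Functor.pushforwardContinuousSheafificationCompatibility_hom_app_hom]
  erw [toSheafify_sheafifyLift]
  refine (Category.assoc _ _ _).symm.trans ?_
  erw [toSheafify_sheafifyLift]
  ext U : 2
  rw [NatTrans.comp_app, NatTrans.comp_app,
    GrothendieckTopology.overMapPullbackComp_hom_app_hom_app]
  have h1 := congrArg (fun t => t.app (Opposite.op ((Over.map g).obj U.unop)))
    (Functor.toSheafify_pullbackSheafificationCompatibility (G := Over.map f)
      AddCommGrpCat.{u + 1} (QuotSh.J K T) (QuotSh.J K S) ((Functor.const (Over S)ᵒᵖ).obj M))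
  have h2 := (toSheafify (QuotSh.J K S) ((Functor.const (Over S)ᵒᵖ).obj M)).naturality
    ((Over.mapComp g f).hom.app (Opposite.unop U)).op
  change (toSheafify (QuotSh.J K T) ((Functor.const (Over T)ᵒᵖ).obj M)).app
        (Opposite.op ((Over.map g).obj U.unop)) ≫
      ((((Over.map f).pushforwardContinuousSheafificationCompatibility AddCommGrpCat.{u + 1}
        (QuotSh.J K T) (QuotSh.J K S)).hom.app ((Functor.const (Over S)ᵒᵖ).obj M)).hom.app
          (Opposite.op ((Over.map g).obj U.unop))) ≫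
      (sheafify (QuotSh.J K S) ((Functor.const (Over S)ᵒᵖ).obj M)).map
        ((Over.mapComp g f).hom.app (Opposite.unop U)).op =
    (toSheafify (QuotSh.J K S) ((Functor.const (Over S)ᵒᵖ).obj M)).app
      (Opposite.op ((Over.map (g ≫ f)).obj U.unop))
  refine (Category.assoc _ _ _).symm.trans ?_
  refine (congrArg (fun t => t ≫ (sheafify (QuotSh.J K S) ((Functor.const (Over S)ᵒᵖ).obj M)).map
        ((Over.mapComp g f).hom.app (Opposite.unop U)).op) h1).trans ?_
  refine h2.symm.trans ?_
  simp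

theorem main (F : BigSite.Ab K S) (n : ℕ) (x : BigSite.H K S F n) :
    HRes.pull K (g ≫ f) F n x =
      Sheaf.H.map ((K.toGrothendieck.overMapPullbackComp AddCommGrpCat.{u + 1} g f).hom.app F) n
        (HRes.pull K g ((BigSite.pullBig K f AddCommGrpCat.{u + 1}).obj F) n (HRes.pull K f F n x)) := by
  have : Limits.PreservesFiniteLimits
      (BigSite.pullBig K f AddCommGrpCat.{u + 1} ⋙ BigSite.pullBig K g AddCommGrpCat.{u + 1}) :=
    Limits.comp_preservesFiniteLimits _ _
  have : Limits.PreservesFiniteColimits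
      (BigSite.pullBig K f AddCommGrpCat.{u + 1} ⋙ BigSite.pullBig K g AddCommGrpCat.{u + 1}) :=
    Limits.comp_preservesFiniteColimits _ _
  rw [Sheaf.H.map_apply, HRes.pull_apply, HRes.pull_apply, HRes.pull_apply,
    Ext.mapExactFunctor_comp, Ext.mapExactFunctor_mk₀, ExtNat.mapExactFunctor_comp_functor]
  have hnat := ExtNat.mapExactFunctor_naturality
    (BigSite.pullBig K f AddCommGrpCat.{u + 1} ⋙ BigSite.pullBig K g AddCommGrpCat.{u + 1})
    (BigSite.pullBig K (g ≫ f) AddCommGrpCat.{u + 1})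
    (K.toGrothendieck.overMapPullbackComp AddCommGrpCat.{u + 1} g f).hom n x
  rw [Ext.comp_assoc_of_third_deg_zero, Ext.comp_assoc_of_third_deg_zero]
  refine Eq.trans ?_ (congrArg (fun t =>
    (Ext.mk₀ (HRes.pullConst K g (AddCommGrpCat.of (ULift.{u + 1, 0} ℤ))).inv).comp
      ((Ext.mk₀ ((BigSite.pullBig K g AddCommGrpCat.{u + 1}).map
        (HRes.pullConst K f (AddCommGrpCat.of (ULift.{u + 1, 0} ℤ))).inv)).comp t (zero_add n))
      (zero_add n)) hnat.symm)
  rw [← Ext.comp_assoc_of_second_deg_zero, ← Ext.comp_assoc_of_second_deg_zero, Ext.mk₀_comp_mk₀,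
    Ext.mk₀_comp_mk₀]
  refine congrArg (fun t => (Ext.mk₀ t).comp
    (Ext.mapExactFunctor (BigSite.pullBig K (g ≫ f) AddCommGrpCat.{u + 1}) x) (zero_add n)) ?_
  exact (pullConst_comp K f g _).symm

end Groth.Agent.Lib.helper2.HResComp
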