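import Mathlib
import Groth.Prelude.Def_HRes
import Groth.Agent.Lib.helper2.ExtNat
universe u
open CategoryTheory AlgebraicGeometry Abelian

namespace Groth.Agent.Lib.helper2.HResId

variable (K : Precoverage Scheme.{u}) (S : Scheme.{u})

theorem pullConst_id (M : AddCommGrpCat.{u + 1}) :
    (HRes.pullConst K (𝟙 S) M).inv ≫
      (K.toGrothendieck.overMapPullbackId AddCommGrpCat.{u + 1} S).hom.app
        ((constantSheaf (QuotSh.J K S) AddCommGrpCat.{u + 1}).obj M) = 𝟙 _ := by
  apply Sheaf.hom_ext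
  refine sheafify_hom_ext _ _ _ ((constantSheaf (QuotSh.J K S) AddCommGrpCat.{u + 1}).obj M).property ?_
  rw [ObjectProperty.FullSubcategory.comp_hom, ObjectProperty.FullSubcategory.id_hom]
  unfold HRes.pullConst
  simp only [Iso.symm_inv, Iso.app_hom]
  rw [Functor.pushforwardContinuousSheafificationCompatibility_hom_app_hom]
  refine (Category.assoc _ _ _).symm.trans ?_
  erw [toSheafify_sheafifyLift]
  ext U : 2
  rw [NatTrans.comp_app, GrothendieckTopology.overMapPullbackId_hom_app_hom_app]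
  have := (toSheafify (QuotSh.J K S) ((Functor.const (Over S)ᵒᵖ).obj M)).naturality
    ((Over.mapId S).inv.app (Opposite.unop U)).op
  change (toSheafify (QuotSh.J K S) ((Functor.const (Over S)ᵒᵖ).obj M)).app
      (Opposite.op ((Over.map (𝟙 S)).obj U.unop)) ≫
    (sheafify (QuotSh.J K S) ((Functor.const (Over S)ᵒᵖ).obj M)).map
      ((Over.mapId S).inv.app (Opposite.unop U)).op =
    (toSheafify (QuotSh.J K S) ((Functor.const (Over S)ᵒᵖ).obj M)).app U ≫ 𝟙 _
  refine this.symm.trans ?_
  simp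

theorem main (F : BigSite.Ab K S) (n : ℕ) (x : BigSite.H K S F n) :
    Sheaf.H.map ((K.toGrothendieck.overMapPullbackId AddCommGrpCat.{u + 1} S).hom.app F) n
      (HRes.pull K (𝟙 S) F n x) = x := by
  rw [Sheaf.H.map_apply, HRes.pull_apply, Ext.comp_assoc_of_third_deg_zero]
  have hnat := ExtNat.mapExactFunctor_naturality
    (BigSite.pullBig K (𝟙 S) AddCommGrpCat.{u + 1}) (𝟭 _)
    (K.toGrothendieck.overMapPullbackId AddCommGrpCat.{u + 1} S).hom n x
  rw [ExtNat.mapExactFunctor_id] at hnat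
  erw [hnat]
  rw [← Ext.comp_assoc_of_second_deg_zero, Ext.mk₀_comp_mk₀]
  erw [pullConst_id]
  exact Ext.mk₀_id_comp _

end Groth.Agent.Lib.helper2.HResId
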