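import Mathlib
import Groth.Prelude.Def_CohDer
import Groth.Prelude.Def_DerLim
import Groth.Agent.Lib.helper2.Compact

/-!
# Maps from countably-compact objects to sequential coproducts (helper2)
-/

set_option autoImplicit false
set_option linter.unusedSectionVars false

namespace Groth.Agent.Lib.helper2.SeqCompact

open CategoryTheory CategoryTheory.Limits CohDer

universe v u

variable {D : Type u} [Category.{v} D] [Preadditive D]

section Cofan

variable {X : ℕ → D} (c : Cofan X) (hc : IsColimit c) (f : ∀ n, X n ⟶ X (n + 1))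

/-- the idempotent of the coproduct killing the summands of index `< N` -/
noncomputable def E (N : ℕ) : c.pt ⟶ c.pt :=
  Cofan.IsColimit.desc hc (fun k => if N ≤ k then c.inj k else 0)

@[reassoc]
lemma inj_E (N k : ℕ) : c.inj k ≫ E c hc N = if N ≤ k then c.inj k else 0 :=
  Cofan.IsColimit.fac hc _ k

/-- the shift map of the coproduct -/
noncomputable def σ : c.pt ⟶ c.pt :=
  Cofan.IsColimit.desc hc (fun k => f k ≫ c.inj (k + 1))

@[reassoc]
lemma inj_σ (k : ℕ) : c.inj k ≫ σ c hc f = f k ≫ c.inj (k + 1) :=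
  Cofan.IsColimit.fac hc _ k

lemma σ_E (N : ℕ) : σ c hc f ≫ E c hc (N + 1) = E c hc N ≫ σ c hc f := by
  apply Cofan.IsColimit.hom_ext hc
  intro k
  rw [inj_σ_assoc, inj_E, inj_E_assoc]
  by_cases h : N ≤ k
  · simp [h, inj_σ]
  · simp [h]

lemma E_zero : E c hc 0 = 𝟙 _ := by
  apply Cofan.IsColimit.hom_ext hc
  intro k
  simp [inj_E]

lemma comp_E_of_comp_σ {T : D} (x : T ⟶ c.pt) (hx : x ≫ σ c hc f = x) (N : ℕ) :
    x ≫ E c hc N = x := by
  induction N with
  | zero => rw [E_zero, Category.comp_id]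
  | succ n ih =>
    calc x ≫ E c hc (n + 1) = (x ≫ σ c hc f) ≫ E c hc (n + 1) := by rw [hx]
      _ = x ≫ E c hc n ≫ σ c hc f := by rw [Category.assoc, σ_E]
      _ = x := by rw [← Category.assoc, ih, hx]

lemma eq_zero_of_finset {T : D} (x : T ⟶ c.pt) (hx : x ≫ σ c hc f = x) (s : Finset ℕ)
    (a : ∀ k, T ⟶ X k) (h : x = ∑ k ∈ s, a k ≫ c.inj k) : x = 0 := by
  have h1 := comp_E_of_comp_σ c hc f x hx (s.sup id + 1)
  rw [← h1, h, Preadditive.sum_comp]
  refine Finset.sum_eq_zero (fun k hk => ?_)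
  have hk' : k ≤ s.sup id := Finset.le_sup (f := id) hk
  rw [Category.assoc, inj_E, if_neg (by omega), comp_zero]

end Cofan

section Compact

variable (K : D) [HasCoproductsOfShape (ULift.{v} ℕ) D]
  (hK : ∀ (E : ℕ → D), Function.Surjective (homSumToHomCoprod K (fun i : ULift.{v} ℕ => E i.down)))

include hK in
lemma exists_finset {X : ℕ → D} (c : Cofan X) (hc : IsColimit c) (w : K ⟶ c.pt) :
    ∃ (s : Finset ℕ) (a : ∀ k, K ⟶ X k), w = ∑ k ∈ s, a k ≫ c.inj k := by
  classical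
  let X' : ULift.{v} ℕ → D := fun i => X i.down
  let ψ : c.pt ⟶ ∐ X' := Cofan.IsColimit.desc hc (fun n => Sigma.ι X' ⟨n⟩)
  let ψ' : ∐ X' ⟶ c.pt := Sigma.desc (fun i => c.inj i.down)
  have h1 : ψ ≫ ψ' = 𝟙 _ := by
    apply Cofan.IsColimit.hom_ext hc
    intro n
    simp [ψ, ψ', X']
  have h2 : w ≫ ψ ∈ Compact.finSupp K X' := hK X (w ≫ ψ)
  rw [Compact.mem_finSupp_iff] at h2
  obtain ⟨s, a, ha⟩ := h2
  refine ⟨s.image ULift.down, fun k => a ⟨k⟩, ?_⟩
  have h3 : w = (w ≫ ψ) ≫ ψ' := by rw [Category.assoc, h1, Category.comp_id]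
  rw [h3, ha, Preadditive.sum_comp, Finset.sum_image (fun x _ y _ h => ULift.ext _ _ h)]
  refine Finset.sum_congr rfl (fun k _ => ?_)
  simp [ψ', X']

end Compact

end Groth.Agent.Lib.helper2.SeqCompact
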