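import Mathlib
import Groth.Prelude.Def_DerLim

/-!
# Sequential colimits in abelian categories with exact `ℕ`-colimits (helper2)

`0 → ∐ X → ∐ X → colim X → 0` for a sequence `(X n, g n)`; homological functors and homotopy colimits.
-/

set_option autoImplicit false
universe v v' u u'
open CategoryTheory CategoryTheory.Limits
open DerLim

namespace Groth.Agent.Lib.helper2.SeqColim

section helpers

variable {A : Type u} [Category.{v} A] [Abelian A] (X : ℕ → A) (f : ∀ n, X n ⟶ X (n + 1))
  [HasCoproduct X]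

/-- the idempotent of `∐ X` killing the summands of index `< n` -/
noncomputable def E (n : ℕ) : ∐ X ⟶ ∐ X :=
  Sigma.desc (fun k => if n ≤ k then Sigma.ι X k else 0)

lemma ι_E (n k : ℕ) : Sigma.ι X k ≫ E X n = if n ≤ k then Sigma.ι X k else 0 := by
  simp [E]

lemma shiftMap_E (n : ℕ) : shiftMap X f ≫ E X (n + 1) = E X n ≫ shiftMap X f := by
  apply Sigma.hom_ext
  intro k
  simp only [shiftMap, colimit.ι_desc_assoc, Cofan.mk_pt, Cofan.mk_ι_app, Category.assoc, ι_E]
  rw [← Category.assoc, ι_E]
  by_cases h : n ≤ k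
  · simp [h]
  · simp [h]

lemma E_zero : E X 0 = 𝟙 _ := by
  apply Sigma.hom_ext
  intro k
  simp [ι_E]

lemma comp_E_of_comp_shiftMap {T : A} (x : T ⟶ ∐ X) (hx : x ≫ (𝟙 _ - shiftMap X f) = 0) (n : ℕ) :
    x ≫ E X n = x := by
  have hx' : x ≫ shiftMap X f = x := by
    rw [Preadditive.comp_sub, Category.comp_id, sub_eq_zero] at hx
    exact hx.symm
  induction n with
  | zero => rw [E_zero, Category.comp_id]
  | succ n ih =>
    calc x ≫ E X (n + 1) = (x ≫ shiftMap X f) ≫ E X (n + 1) := by rw [hx']
      _ = x ≫ E X n ≫ shiftMap X f := by rw [Category.assoc, shiftMap_E]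
      _ = x := by rw [← Category.assoc, ih, hx']

end helpers


section key

variable {A : Type u} [Category.{v} A] [Abelian A] (X : ℕ → A) [HasCoproduct X]
  [HasColimitsOfShape ℕ A] [HasExactColimitsOfShape ℕ A]

/-- the sequence `∐ X → ∐ X → ⋯` with transition maps `E (n+1)` -/
noncomputable abbrev C : ℕ ⥤ A := Functor.ofSequence (X := fun _ => ∐ X) (fun n => E X (n + 1))

/-- the colimit injections, with source written as `∐ X` -/
noncomputable def cι (n : ℕ) : ∐ X ⟶ colimit (C X) := colimit.ι (C X) n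

omit [HasExactColimitsOfShape ℕ A] in
lemma C_w (n : ℕ) : E X (n + 1) ≫ cι X (n + 1) = cι X n := by
  have := colimit.w (C X) (homOfLE (Nat.le_add_right n 1))
  rw [Functor.ofSequence_map_homOfLE_succ] at this
  exact this

omit [HasExactColimitsOfShape ℕ A] in
lemma ι_colimit_ι_C (d : ℕ) : ∀ (n k : ℕ), k < n + d + 1 →
    Sigma.ι X k ≫ cι X n = 0 := by
  induction d with
  | zero =>
    intro n k hk
    rw [← C_w, ← Category.assoc, ι_E, if_neg (by lia), zero_comp]
  | succ d ih =>
    intro n k hk
    rw [← C_w, ← Category.assoc, ι_E]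
    by_cases h : n + 1 ≤ k
    · rw [if_pos h]
      exact ih (n + 1) k (by lia)
    · rw [if_neg h, zero_comp]

omit [HasExactColimitsOfShape ℕ A] in
lemma colimit_ι_C (n : ℕ) : cι X n = 0 := by
  apply Sigma.hom_ext
  intro k
  rw [comp_zero]
  exact ι_colimit_ι_C X k n k (by lia)

omit [HasExactColimitsOfShape ℕ A] in
lemma isZero_colimit_C : IsZero (colimit (C X)) := by
  rw [IsZero.iff_id_eq_zero]
  apply colimit.hom_ext
  intro n
  show cι X n ≫ _ = cι X n ≫ _
  rw [colimit_ι_C, zero_comp, zero_comp]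

lemma isZero_of_mono {T : A} (x : T ⟶ ∐ X) [Mono x] (hx : ∀ n, x ≫ E X n = x) : IsZero T := by
  let ξ : (Functor.const ℕ).obj T ⟶ C X :=
    NatTrans.ofSequence (fun _ => x) (by
      intro n
      dsimp
      rw [Category.id_comp, Functor.ofSequence_map_homOfLE_succ]
      exact (hx (n + 1)).symm)
  have : Mono ξ := by
    have hmx : Mono x := inferInstance
    have : ∀ n, Mono (ξ.app n) := fun n => hmx
    exact NatTrans.mono_of_mono_app ξ
  have hpres : PreservesFiniteLimits (colim (J := ℕ) (C := A)) :=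
    HasExactColimitsOfShape.preservesFiniteLimits
  have hm : Mono (colim.map ξ) := inferInstance
  have hz : IsZero (colim.obj ((Functor.const ℕ).obj T)) :=
    IsZero.of_mono (colim.map ξ) (isZero_colimit_C X)
  rw [IsZero.iff_id_eq_zero]
  have h1 : colimit.ι ((Functor.const ℕ).obj T) 0 ≫
      colimit.desc ((Functor.const ℕ).obj T) ⟨T, 𝟙 _⟩ = 𝟙 T := by
    simp
  rw [← h1, hz.eq_of_tgt (colimit.ι ((Functor.const ℕ).obj T) 0) 0, zero_comp]

end key


section main

variable {A : Type u} [Category.{v} A] [Abelian A] [HasColimitsOfShape ℕ A]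
  [HasExactColimitsOfShape ℕ A] (X : ℕ → A) (g : ∀ n, X n ⟶ X (n + 1)) [HasCoproduct X]

lemma mono_one_sub_shiftMap : Mono (𝟙 (∐ X) - shiftMap X g) := by
  apply Preadditive.mono_of_isZero_kernel
  exact isZero_of_mono X (kernel.ι _)
    (fun n => comp_E_of_comp_shiftMap _ _ _ (kernel.condition _) n)

/-- the canonical map `∐ X ⟶ colim X` -/
noncomputable def toColimit : ∐ X ⟶ colimit (Functor.ofSequence g) :=
  Sigma.desc (fun n => colimit.ι (Functor.ofSequence g) n)

omit [HasExactColimitsOfShape ℕ A] in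
@[reassoc]
lemma ι_toColimit (n : ℕ) : Sigma.ι X n ≫ toColimit X g = colimit.ι (Functor.ofSequence g) n := by
  simp [toColimit]

omit [HasExactColimitsOfShape ℕ A] in
lemma one_sub_shiftMap_toColimit : (𝟙 (∐ X) - shiftMap X g) ≫ toColimit X g = 0 := by
  apply Sigma.hom_ext
  intro n
  have := colimit.w (Functor.ofSequence g) (homOfLE (Nat.le_add_right n 1))
  rw [Functor.ofSequence_map_homOfLE_succ] at this
  simp only [DerLim.shiftMap, Preadditive.comp_sub, Preadditive.sub_comp, Category.id_comp,
    comp_zero, colimit.ι_desc_assoc, Cofan.mk_pt, Cofan.mk_ι_app, Category.assoc, ι_toColimit]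
  exact sub_eq_zero.2 this.symm

omit [HasExactColimitsOfShape ℕ A] in
instance : Epi (toColimit X g) :=
  ⟨fun a b hab => colimit.hom_ext (fun n => by
    have := Sigma.ι X n ≫= hab
    rw [ι_toColimit_assoc, ι_toColimit_assoc] at this
    exact this)⟩

omit [HasExactColimitsOfShape ℕ A] in
/-- `colim X` is the cokernel of `1 - shift`. -/
noncomputable def isColimitCokernelCofork :
    IsColimit (CokernelCofork.ofπ (toColimit X g) (one_sub_shiftMap_toColimit X g)) := by
  refine CokernelCofork.IsColimit.ofπ' _ _ (fun {W} φ hφ => ?_)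
  have hφ' : ∀ n : ℕ, g n ≫ Sigma.ι X (n + 1) ≫ φ = Sigma.ι X n ≫ φ := by
    intro n
    have := Sigma.ι X n ≫= hφ
    simp only [DerLim.shiftMap, Preadditive.sub_comp, Preadditive.comp_sub, Category.id_comp,
      comp_zero, colimit.ι_desc_assoc, Cofan.mk_pt, Cofan.mk_ι_app, Category.assoc,
      sub_eq_zero] at this
    exact this.symm
  let c : Cocone (Functor.ofSequence g) :=
    { pt := W
      ι := NatTrans.ofSequence (fun n => Sigma.ι X n ≫ φ) (by
        intro n
        dsimp
        rw [Category.comp_id, Functor.ofSequence_map_homOfLE_succ]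
        exact hφ' n) }
  refine ⟨colimit.desc _ c, ?_⟩
  apply Sigma.hom_ext
  intro n
  rw [ι_toColimit_assoc]
  exact colimit.ι_desc c n

lemma shortExact : (ShortComplex.mk _ _ (one_sub_shiftMap_toColimit X g)).ShortExact :=
  have := mono_one_sub_shiftMap X g
  { exact := ShortComplex.exact_of_g_is_cokernel _ (isColimitCokernelCofork X g) }

end main

section functor

variable {D : Type u} [Category.{v} D] [Preadditive D]
  {A : Type u'} [Category.{v'} A] [Abelian A] [HasColimitsOfShape ℕ A] [HasExactColimitsOfShape ℕ A]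
  (H : D ⥤ A) [H.Additive] (K : ℕ → D) (f : ∀ n, K n ⟶ K (n + 1)) [HasCoproduct K]
  [PreservesColimit (Discrete.functor K) H]

omit [Preadditive D] [Abelian A] [HasColimitsOfShape ℕ A] [HasExactColimitsOfShape ℕ A]
  [H.Additive] in
include K in
lemma hasCoproduct_map : HasCoproduct (fun n => H.obj (K n)) := by
  have : HasColimit (Discrete.functor K ⋙ H) :=
    ⟨⟨⟨H.mapCocone (colimit.cocone _), isColimitOfPreserves H (colimit.isColimit _)⟩⟩⟩
  exact hasColimit_of_iso (Discrete.compNatIsoDiscrete K H).symm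

variable [HasCoproduct (fun n => H.obj (K n))]

omit [HasColimitsOfShape ℕ A] [HasExactColimitsOfShape ℕ A] [PreservesColimit (Discrete.functor K) H] in
lemma comparison_comm :
    sigmaComparison H K ≫ H.map (𝟙 _ - shiftMap K f) =
      (𝟙 _ - shiftMap (fun n => H.obj (K n)) (fun n => H.map (f n))) ≫ sigmaComparison H K := by
  apply Sigma.hom_ext
  intro n
  have e1 : Sigma.ι K n ≫ (𝟙 _ - shiftMap K f) = Sigma.ι K n - f n ≫ Sigma.ι K (n + 1) := by
    simp [shiftMap, Preadditive.comp_sub]
  have e2 : Sigma.ι (fun n => H.obj (K n)) n ≫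
      (𝟙 _ - shiftMap (fun n => H.obj (K n)) (fun n => H.map (f n))) =
      Sigma.ι (fun n => H.obj (K n)) n - H.map (f n) ≫ Sigma.ι (fun n => H.obj (K n)) (n + 1) := by
    simp [shiftMap, Preadditive.comp_sub]
  rw [ι_comp_sigmaComparison_assoc, ← H.map_comp, e1, reassoc_of% e2, Preadditive.sub_comp,
    Category.assoc, ι_comp_sigmaComparison, ι_comp_sigmaComparison, H.map_sub, H.map_comp]

lemma mono_map : Mono (H.map (𝟙 _ - shiftMap K f)) := by
  have h1 := mono_one_sub_shiftMap (fun n => H.obj (K n)) (fun n => H.map (f n))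
  have h2 : Mono (sigmaComparison H K ≫ H.map (𝟙 _ - shiftMap K f)) := by
    rw [comparison_comm]
    infer_instance
  have : H.map (𝟙 _ - shiftMap K f) =
      inv (sigmaComparison H K) ≫ (sigmaComparison H K ≫ H.map (𝟙 _ - shiftMap K f)) := by simp
  rw [this]
  infer_instance

/-- the canonical map `H(∐ K) ⟶ colim H(K n)` -/
noncomputable def π : H.obj (∐ K) ⟶ colimit (Functor.ofSequence (fun n => H.map (f n))) :=
  inv (sigmaComparison H K) ≫ toColimit _ _

omit [HasExactColimitsOfShape ℕ A] [H.Additive] in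
lemma map_ι_π (n : ℕ) : H.map (Sigma.ι K n) ≫ π H K f =
    colimit.ι (Functor.ofSequence (fun n => H.map (f n))) n := by
  rw [π, map_ι_comp_inv_sigmaComparison_assoc, ι_toColimit]

omit [HasExactColimitsOfShape ℕ A] in
lemma map_π_zero : H.map (𝟙 _ - shiftMap K f) ≫ π H K f = 0 := by
  rw [π, ← cancel_epi (sigmaComparison H K), comp_zero, ← Category.assoc, comparison_comm,
    Category.assoc, IsIso.hom_inv_id_assoc, one_sub_shiftMap_toColimit]

omit [HasExactColimitsOfShape ℕ A] in
/-- `colim H(K n)` is the cokernel of `H(1 - shift)`. -/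
noncomputable def isColimitπ :
    IsColimit (CokernelCofork.ofπ (π H K f) (map_π_zero H K f)) := by
  have hepi : Epi (π H K f) := by dsimp [π]; infer_instance
  refine CokernelCofork.IsColimit.ofπ' _ _ (fun {W} φ hφ => ?_)
  have h2 : (𝟙 _ - shiftMap (fun n => H.obj (K n)) (fun n => H.map (f n))) ≫
      (sigmaComparison H K ≫ φ) = 0 := by
    rw [← Category.assoc, ← comparison_comm, Category.assoc, hφ, comp_zero]
  refine ⟨(isColimitCokernelCofork _ _).desc (CokernelCofork.ofπ _ h2), ?_⟩
  have := (isColimitCokernelCofork (fun n => H.obj (K n)) (fun n => H.map (f n))).fac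
    (CokernelCofork.ofπ _ h2) WalkingParallelPair.one
  dsimp at this
  rw [π, Category.assoc, this, IsIso.inv_hom_id_assoc]

end functor


section functorCokernel

variable {A : Type u} [Category.{v} A] [Preadditive A] (F : ℕ ⥤ A) [HasCoproduct F.obj] [HasColimit F]

lemma one_sub_shiftMap_desc :
    (𝟙 (∐ F.obj) - DerLim.shiftMap F.obj (fun n => F.map (homOfLE (Nat.le_succ n)))) ≫
      Sigma.desc (fun n => colimit.ι F n) = 0 := by
  apply Sigma.hom_ext
  intro n
  simp [DerLim.shiftMap, Preadditive.comp_sub, Preadditive.sub_comp]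

instance epi_desc_colimit_ι : Epi (Sigma.desc (fun n => colimit.ι F n)) :=
  ⟨fun g h hgh => colimit.hom_ext (fun n => by simpa using Sigma.ι _ n ≫= hgh)⟩

/-- `colim F` is the cokernel of `1 - shift` on `∐ F.obj` (no exactness hypothesis). -/
noncomputable def isColimitCokernelCoforkFunctor :
    IsColimit (CokernelCofork.ofπ (Sigma.desc (fun n => colimit.ι F n))
      (one_sub_shiftMap_desc F)) := by
  refine CokernelCofork.IsColimit.ofπ' _ _ (fun {W} φ hφ => ?_)
  have hφ' : ∀ n : ℕ, F.map (homOfLE (Nat.le_succ n)) ≫ Sigma.ι F.obj (n + 1) ≫ φ =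
      Sigma.ι F.obj n ≫ φ := by
    intro n
    have := Sigma.ι F.obj n ≫= hφ
    simp only [DerLim.shiftMap, Preadditive.sub_comp, Preadditive.comp_sub, Category.id_comp,
      comp_zero, colimit.ι_desc_assoc, Cofan.mk_pt, Cofan.mk_ι_app, Category.assoc,
      sub_eq_zero] at this
    exact this.symm
  let c : Cocone F :=
    { pt := W
      ι := NatTrans.ofSequence (fun n => Sigma.ι F.obj n ≫ φ) (by
        intro n
        dsimp
        rw [Category.comp_id]
        exact hφ' n) }
  refine ⟨colimit.desc F c, ?_⟩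
  apply Sigma.hom_ext
  intro n
  simp [c]

end functorCokernel


section preadd

variable {D : Type u} [Category.{v} D] [Preadditive D] {B : Type u'} [Category.{v'} B]
  [Preadditive B] (H : D ⥤ B) [H.Additive] (K : ℕ → D) (f : ∀ n, K n ⟶ K (n + 1))
  [HasCoproduct K] [HasCoproduct (fun n => H.obj (K n))]

/-- `comparison_comm` for a preadditive target. -/
lemma comparison_comm' :
    sigmaComparison H K ≫ H.map (𝟙 _ - shiftMap K f) =
      (𝟙 _ - shiftMap (fun n => H.obj (K n)) (fun n => H.map (f n))) ≫ sigmaComparison H K := by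
  apply Sigma.hom_ext
  intro n
  have e1 : Sigma.ι K n ≫ (𝟙 _ - shiftMap K f) = Sigma.ι K n - f n ≫ Sigma.ι K (n + 1) := by
    simp [shiftMap, Preadditive.comp_sub]
  have e2 : Sigma.ι (fun n => H.obj (K n)) n ≫
      (𝟙 _ - shiftMap (fun n => H.obj (K n)) (fun n => H.map (f n))) =
      Sigma.ι (fun n => H.obj (K n)) n - H.map (f n) ≫ Sigma.ι (fun n => H.obj (K n)) (n + 1) := by
    simp [shiftMap, Preadditive.comp_sub]
  rw [ι_comp_sigmaComparison_assoc, ← H.map_comp, e1, reassoc_of% e2, Preadditive.sub_comp,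
    Category.assoc, ι_comp_sigmaComparison, ι_comp_sigmaComparison, H.map_sub, H.map_comp]

end preadd

end Groth.Agent.Lib.helper2.SeqColim
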