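import Mathlib
import Groth.Agent.S0985
import Groth.Agent.Lib.helper2.DerCoprod
import Groth.Agent.Lib.helper2.SeqCompact

/-!
# Maps from a countably compact object to a termwise sequential colimit (helper2)
-/

set_option autoImplicit false
set_option linter.unusedSectionVars false
set_option linter.style.haveILetI false

namespace Groth.Agent.Lib.helper2.HomColim

open CategoryTheory CategoryTheory.Limits CategoryTheory.Pretriangulated CohDer DerLim DerivedCategory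

universe w v u

variable {A : Type u} [Category.{v} A] [Abelian A] [HasDerivedCategory.{w} A]
  [HasColimitsOfShape ℕ A] [HasExactColimitsOfShape ℕ A]
  [HasColimitsOfShape (Discrete ℕ) A] [HasExactColimitsOfShape (Discrete ℕ) A]
  [HasColimitsOfShape (Discrete ℕ) (DerivedCategory A)]
  [HasColimitsOfShape (Discrete (ULift.{w} ℕ)) (DerivedCategory A)]

/-- the transition maps of a sequence -/
abbrev tr (L : ℕ ⥤ CochainComplex A ℤ) (k m : ℕ) (h : k ≤ m) : L.obj k ⟶ L.obj m :=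
  L.map (homOfLE h)

lemma tr_succ (L : ℕ ⥤ CochainComplex A ℤ) (k m : ℕ) (h : k + 1 ≤ m) :
    L.map (homOfLE (Nat.le_succ k)) ≫ tr L (k + 1) m h = tr L k m (by omega) := by
  dsimp [tr]
  rw [← L.map_comp]
  rfl

theorem main (K : DerivedCategory A)
    (hK : ∀ E : ℕ → DerivedCategory A,
      Function.Surjective (homSumToHomCoprod K (fun i : ULift.{w} ℕ => E i.down)))
    (L : ℕ ⥤ CochainComplex A ℤ) :
    (∀ x : K ⟶ Q.obj (colimit L), ∃ (n : ℕ) (y : K ⟶ Q.obj (L.obj n)),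
        y ≫ Q.map (colimit.ι L n) = x) ∧
      (∀ (n : ℕ) (y : K ⟶ Q.obj (L.obj n)), y ≫ Q.map (colimit.ι L n) = 0 →
        ∃ (m : ℕ) (h : n ≤ m), y ≫ Q.map (L.map (homOfLE h)) = 0) := by
  classical
  haveI : PreservesColimit (Discrete.functor L.obj) (Q (C := A)) :=
    preservesColimit_of_preserves_colimit_cocone (DerCoprod.isColimitSig L.obj)
      ((isColimitMapCoconeCofanMkEquiv Q _ _).symm (DerCoprod.isColimitCofanQ L.obj))
  obtain ⟨c', hT⟩ := Groth.Agent.S0985.result L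
  let Kn : ℕ → DerivedCategory A := fun n => Q.obj (L.obj n)
  let fn : ∀ n, Kn n ⟶ Kn (n + 1) := fun n => Q.map (L.map (homOfLE (Nat.le_succ n)))
  let i : ∀ n, Kn n ⟶ Q.obj (colimit L) := fun n => Q.map (colimit.ι L n)
  change Triangle.mk (𝟙 (∐ Kn) - shiftMap Kn fn) (Sigma.desc i) c' ∈ distTriang _ at hT
  let c₀ : Cofan Kn := Cofan.mk (∐ Kn) (Sigma.ι Kn)
  have hc₀ : IsColimit c₀ := coproductIsCoproduct Kn
  have hσ₀ : shiftMap Kn fn = SeqCompact.σ c₀ hc₀ fn := by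
    apply Sigma.hom_ext
    intro n
    have := SeqCompact.inj_σ c₀ hc₀ fn n
    simp only [shiftMap, Sigma.ι_desc]
    exact this.symm
  constructor
  · intro x
    -- the composite with the connecting map vanishes
    let c₁ : Cofan (fun n => (Kn n)⟦(1 : ℤ)⟧) :=
      Cofan.mk ((∐ Kn)⟦(1 : ℤ)⟧) (fun n => (Sigma.ι Kn n)⟦(1 : ℤ)⟧')
    have hc₁ : IsColimit c₁ :=
      isColimitCofanMkObjOfIsColimit (shiftFunctor (DerivedCategory A) (1 : ℤ)) Kn _ hc₀
    have hσ₁ : (shiftMap Kn fn)⟦(1 : ℤ)⟧' = SeqCompact.σ c₁ hc₁ (fun n => (fn n)⟦(1 : ℤ)⟧') := by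
      apply Cofan.IsColimit.hom_ext hc₁
      intro n
      rw [SeqCompact.inj_σ]
      change (Sigma.ι Kn n)⟦(1 : ℤ)⟧' ≫ _ = _ ≫ (Sigma.ι Kn (n + 1))⟦(1 : ℤ)⟧'
      rw [← Functor.map_comp, ← Functor.map_comp]
      congr 1
      simp [shiftMap]
    have h0 : (x ≫ c') ≫ (shiftMap Kn fn)⟦(1 : ℤ)⟧' = x ≫ c' := by
      have := comp_distTriang_mor_zero₃₁ _ hT
      change c' ≫ (𝟙 (∐ Kn) - shiftMap Kn fn)⟦(1 : ℤ)⟧' = 0 at this
      rw [Functor.map_sub, CategoryTheory.Functor.map_id, Preadditive.comp_sub, Category.comp_id,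
        sub_eq_zero] at this
      rw [Category.assoc, ← this]
    obtain ⟨s, a, ha⟩ := SeqCompact.exists_finset K hK c₁ hc₁ (x ≫ c')
    rw [hσ₁] at h0
    have h1 : x ≫ c' = 0 := SeqCompact.eq_zero_of_finset c₁ hc₁ _ _ h0 s a ha
    obtain ⟨g, hg⟩ := Triangle.coyoneda_exact₃ _ hT x h1
    change K ⟶ ∐ Kn at g
    change x = g ≫ Sigma.desc i at hg
    obtain ⟨s, a, ha⟩ := SeqCompact.exists_finset K hK c₀ hc₀ g
    refine ⟨s.sup id, ∑ k ∈ s, if h : k ≤ s.sup id then a k ≫ Q.map (tr L k _ h) else 0, ?_⟩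
    rw [hg, ha, Preadditive.sum_comp, Preadditive.sum_comp]
    refine Finset.sum_congr rfl (fun k hk => ?_)
    have hk' : k ≤ s.sup id := Finset.le_sup (f := id) hk
    rw [dif_pos hk', Category.assoc, Category.assoc]
    change _ = a k ≫ Sigma.ι Kn k ≫ Sigma.desc i
    rw [Sigma.ι_desc, ← Functor.map_comp]
    dsimp [tr, i]
    rw [colimit.w]
  · intro n y hy
    have h1 : (y ≫ Sigma.ι Kn n) ≫ Sigma.desc i = 0 := by
      rw [Category.assoc, Sigma.ι_desc]
      exact hy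
    obtain ⟨z, hz⟩ := Triangle.coyoneda_exact₂ _ hT (y ≫ Sigma.ι Kn n) h1
    change K ⟶ ∐ Kn at z
    change y ≫ Sigma.ι Kn n = z ≫ (𝟙 (∐ Kn) - shiftMap Kn fn) at hz
    obtain ⟨s, a, ha⟩ := SeqCompact.exists_finset K hK c₀ hc₀ z
    let m : ℕ := max n (s.sup id + 1)
    have hnm : n ≤ m := le_max_left _ _
    refine ⟨m, hnm, ?_⟩
    let ρ : ∐ Kn ⟶ Kn m := Sigma.desc (fun k => if h : k ≤ m then Q.map (tr L k m h) else 0)
    have hρ : ∀ k (h : k ≤ m), Sigma.ι Kn k ≫ ρ = Q.map (tr L k m h) := by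
      intro k h
      simp [ρ, h]
    have h2 : (y ≫ Sigma.ι Kn n) ≫ ρ = (z ≫ (𝟙 (∐ Kn) - shiftMap Kn fn)) ≫ ρ := by rw [hz]
    rw [Category.assoc, hρ n hnm] at h2
    rw [h2, ha, Preadditive.sum_comp, Preadditive.sum_comp]
    refine Finset.sum_eq_zero (fun k hk => ?_)
    have hk' : k ≤ s.sup id := Finset.le_sup (f := id) hk
    have hk1 : k + 1 ≤ m := le_trans (by omega) (le_max_right _ _)
    rw [Category.assoc, Category.assoc, Preadditive.sub_comp, Category.id_comp,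
      Preadditive.comp_sub, Preadditive.comp_sub]
    change a k ≫ Sigma.ι Kn k ≫ ρ - a k ≫ Sigma.ι Kn k ≫ shiftMap Kn fn ≫ ρ = 0
    rw [hρ k (by omega)]
    have : Sigma.ι Kn k ≫ shiftMap Kn fn ≫ ρ = Q.map (tr L k m (by omega)) := by
      simp only [shiftMap, Sigma.ι_desc_assoc, Category.assoc]
      rw [hρ (k + 1) hk1]
      dsimp [fn]
      rw [← Functor.map_comp, tr_succ]
    rw [this, sub_self]

end Groth.Agent.Lib.helper2.HomColim
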