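import Mathlib

/-!
# Canonical truncations in the derived category: factorization lemmas (helper2)
-/

set_option autoImplicit false
set_option linter.unusedSectionVars false

namespace Groth.Agent.Lib.helper2.TruncDer

open CategoryTheory CategoryTheory.Limits CategoryTheory.Pretriangulated HomologicalComplex

universe w v u

variable {A : Type u} [Category.{v} A] [Abelian A]

/-- a chain map from a complex strictly `≤ a` to a complex strictly `≥ a` inducing zero on `H^a`
is zero. -/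
lemma eq_zero_of_homologyMap_eq_zero (K L : CochainComplex A ℤ) (a : ℤ)
    [K.IsStrictlyLE a] [L.IsStrictlyGE a] (g : K ⟶ L)
    (hg : HomologicalComplex.homologyMap g a = 0) : g = 0 := by
  ext i
  by_cases hi : a < i
  · exact (K.isZero_of_isStrictlyLE a i hi).eq_of_src _ _
  by_cases hi' : i < a
  · exact (L.isZero_of_isStrictlyGE a i hi').eq_of_tgt _ _
  obtain rfl : i = a := by omega
  have h1 : K.d i (i + 1) = 0 := (K.isZero_of_isStrictlyLE i (i + 1) (by omega)).eq_of_tgt _ _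
  have h2 : L.d (i - 1) i = 0 := (L.isZero_of_isStrictlyGE i (i - 1) (by omega)).eq_of_src _ _
  have : IsIso (K.iCycles i) := K.isIso_iCycles i (i + 1) (by simp) h1
  have : IsIso (L.pOpcycles i) := L.isIso_pOpcycles (i - 1) i (by simp) h2
  have h3 : K.iCycles i ≫ g.f i ≫ L.pOpcycles i = 0 := by
    have e1 : K.iCycles i ≫ g.f i = cyclesMap g i ≫ L.iCycles i := (cyclesMap_i g i).symm
    rw [← Category.assoc, e1, Category.assoc, ← homology_π_ι, ← Category.assoc,
      ← homologyπ_naturality, hg]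
    simp
  have h4 : g.f i ≫ L.pOpcycles i = 0 := by
    rw [← cancel_epi (K.iCycles i), h3, comp_zero]
  rw [← cancel_mono (L.pOpcycles i), h4]
  simp

variable [HasDerivedCategory.{w} A]

open DerivedCategory

/-- a map to `Q L` killed by `Q L ⟶ Q (τ_{≥a} L)` factors through `Q (τ_{≤ b} L)`, `b + 1 = a`. -/
lemma exists_lift_truncLE (L : CochainComplex A ℤ) (a b : ℤ) (h : b + 1 = a)
    {X : DerivedCategory A} (ψ : X ⟶ Q.obj L) (hψ : ψ ≫ Q.map (L.πTruncGE a) = 0) :
    ∃ χ : X ⟶ Q.obj (L.truncLE b), χ ≫ Q.map (L.ιTruncLE b) = ψ := by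
  have hS := L.shortComplexTruncLE_shortExact b
  have hT := triangleOfSES_distinguished hS
  have e := Q.congr_map (L.g_shortComplexTruncLEX₃ToTruncGE b a h)
  rw [Functor.map_comp] at e
  have h0 : ψ ≫ Q.map (L.shortComplexTruncLE b).g = 0 := by
    have : IsIso (Q.map (L.shortComplexTruncLEX₃ToTruncGE b a h)) := inferInstance
    rw [← cancel_mono (Q.map (L.shortComplexTruncLEX₃ToTruncGE b a h)), Category.assoc, zero_comp]
    exact (congrArg (fun z => ψ ≫ z) e).trans hψ
  obtain ⟨χ, hχ⟩ : ∃ χ : X ⟶ Q.obj (L.truncLE b), ψ = χ ≫ Q.map (L.ιTruncLE b) :=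
    Triangle.coyoneda_exact₂ _ hT ψ h0
  exact ⟨χ, hχ.symm⟩

/-- a map from `Q L` killing `Q (τ_{≤a} L) ⟶ Q L` factors through `Q (τ_{≥ b} L)`, `a + 1 = b`. -/
lemma exists_desc_truncGE (L : CochainComplex A ℤ) (a b : ℤ) (h : a + 1 = b)
    {X : DerivedCategory A} (ψ : Q.obj L ⟶ X) (hψ : Q.map (L.ιTruncLE a) ≫ ψ = 0) :
    ∃ χ : Q.obj (L.truncGE b) ⟶ X, Q.map (L.πTruncGE b) ≫ χ = ψ := by
  have hS := L.shortComplexTruncLE_shortExact a
  have hT := triangleOfSES_distinguished hS
  obtain ⟨χ, hχ⟩ : ∃ χ : Q.obj (L.shortComplexTruncLE a).X₃ ⟶ X,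
      ψ = Q.map (L.shortComplexTruncLE a).g ≫ χ := Triangle.yoneda_exact₂ _ hT ψ hψ
  have : IsIso (Q.map (L.shortComplexTruncLEX₃ToTruncGE a b h)) := inferInstance
  have e := Q.congr_map (L.g_shortComplexTruncLEX₃ToTruncGE a b h)
  rw [Functor.map_comp] at e
  refine ⟨inv (Q.map (L.shortComplexTruncLEX₃ToTruncGE a b h)) ≫ χ, ?_⟩
  have e' := (IsIso.comp_inv_eq (Q.map (L.shortComplexTruncLEX₃ToTruncGE a b h))).2 e.symm
  exact (Category.assoc _ _ _).symm.trans ((congrArg (fun z => z ≫ χ) e').trans hχ.symm)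

/-- step for the truncation-factorization lemma (`≤` version) -/
lemma step_truncLE (M L : CochainComplex A ℤ) (f : M ⟶ L) (a b : ℤ) (h : b + 1 = a)
    (hf : HomologicalComplex.homologyMap f a = 0) :
    ∃ χ : Q.obj (M.truncLE a) ⟶ Q.obj (L.truncLE b),
      χ ≫ Q.map (L.ιTruncLE b) = Q.map (M.ιTruncLE a ≫ f) := by
  apply exists_lift_truncLE L a b h
  rw [← Q.map_comp]
  have : (M.ιTruncLE a ≫ f) ≫ L.πTruncGE a = 0 := by
    apply eq_zero_of_homologyMap_eq_zero _ _ a
    rw [homologyMap_comp, homologyMap_comp, hf]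
    simp
  rw [this, Q.map_zero]

/-- step for the truncation-factorization lemma (`≥` version) -/
lemma step_truncGE (L M : CochainComplex A ℤ) (f : L ⟶ M) (a b : ℤ) (h : a + 1 = b)
    (hf : HomologicalComplex.homologyMap f a = 0) :
    ∃ χ : Q.obj (L.truncGE b) ⟶ Q.obj (M.truncGE a),
      Q.map (L.πTruncGE b) ≫ χ = Q.map (f ≫ M.πTruncGE a) := by
  apply exists_desc_truncGE L a b h
  rw [← Q.map_comp]
  have : L.ιTruncLE a ≫ f ≫ M.πTruncGE a = 0 := by
    apply eq_zero_of_homologyMap_eq_zero _ _ a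
    rw [homologyMap_comp, homologyMap_comp, hf]
    simp
  rw [this, Q.map_zero]

end Groth.Agent.Lib.helper2.TruncDer
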