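import Mathlib
import Groth.Agent.Lib.helper2.TruncDer

set_option autoImplicit false

namespace Groth.Agent.Lib.helper2.TruncDer

open CategoryTheory CategoryTheory.Limits CategoryTheory.Pretriangulated HomologicalComplex

universe w v u

variable {A : Type u} [Category.{v} A] [Abelian A] [HasDerivedCategory.{w} A]

open DerivedCategory

/-- a morphism in the derived category from an object `≤ n` to an object `≥ n` inducing zero on `H^n`
is zero. -/
lemma eq_zero_of_isLE_of_isGE_of_homology (X Y : DerivedCategory A) (n : ℤ) [X.IsLE n] [Y.IsGE n]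
    (f : X ⟶ Y) (hf : (DerivedCategory.homologyFunctor A n).map f = 0) : f = 0 := by
  obtain ⟨K, _, ⟨eK⟩⟩ := exists_iso_Q_obj_of_isLE X n
  obtain ⟨L, _, ⟨eL⟩⟩ := exists_iso_Q_obj_of_isGE Y n
  suffices h : eK.inv ≫ f ≫ eL.hom = 0 by
    have : f = eK.hom ≫ (eK.inv ≫ f ≫ eL.hom) ≫ eL.inv := by simp
    rw [this, h]; simp
  obtain ⟨K', _, s, hs, g, fac⟩ := right_fac_of_isStrictlyLE (eK.inv ≫ f ≫ eL.hom) n
  have hg : g = 0 := by
    apply eq_zero_of_homologyMap_eq_zero _ _ n
    have h1 : (DerivedCategory.homologyFunctor A n).map (Q.map g) = 0 := by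
      have : Q.map g = Q.map s ≫ eK.inv ≫ f ≫ eL.hom := by rw [fac]; simp
      rw [this]; simp [hf]
    have h := (homologyFunctorFactors A n).hom.naturality g
    dsimp at h
    rw [h1, zero_comp] at h
    have : IsIso ((homologyFunctorFactors A n).hom.app K') := inferInstance
    change (HomologicalComplex.homologyFunctor A (ComplexShape.up ℤ) n).map g = 0
    rw [← cancel_epi ((homologyFunctorFactors A n).hom.app K'), ← h, comp_zero]
  rw [fac, hg]; simp

end Groth.Agent.Lib.helper2.TruncDer
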