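import Mathlib
import Groth.Agent.Lib.helper2.Horseshoe
import Groth.Agent.Lib.helper2.ClassResOp

set_option autoImplicit false
set_option linter.unusedSectionVars false

namespace Groth.Agent.Lib.helper2.HorseshoeOp

open CategoryTheory CategoryTheory.Limits HomologicalComplex CochainComplex Abelian ZeroObject Opposite

universe v u

variable {A : Type u} [Category.{v} A] [Abelian A]

theorem horseshoe_proj [EnoughProjectives A]
    (S : ShortComplex (CochainComplex A ℤ)) (hS : S.ShortExact) (n : ℤ)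
    [S.X₁.IsStrictlyLE n] [S.X₂.IsStrictlyLE n] [S.X₃.IsStrictlyLE n] :
    ∃ (T : ShortComplex (CochainComplex A ℤ)) (φ : T ⟶ S), T.ShortExact ∧
      T.X₁.IsStrictlyLE n ∧ T.X₂.IsStrictlyLE n ∧ T.X₃.IsStrictlyLE n ∧
      (∀ k : ℤ, Projective (T.X₁.X k) ∧ Projective (T.X₂.X k) ∧ Projective (T.X₃.X k)) ∧
      QuasiIso φ.τ₁ ∧ QuasiIso φ.τ₂ ∧ QuasiIso φ.τ₃ := by
  let E := CochainComplex.opEquivalence A
  let S' : ShortComplex (CochainComplex Aᵒᵖ ℤ) := S.op.map E.functor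
  have hS' : S'.ShortExact := hS.op.map_of_exact E.functor
  have hGE : ∀ (K : CochainComplex A ℤ) [K.IsStrictlyLE n],
      (E.functor.obj (op K)).IsStrictlyGE (-n) := by
    intro K _
    rw [CochainComplex.isStrictlyGE_iff]
    intro i hi
    have : IsZero (K.X (-i)) := K.isZero_of_isStrictlyLE n (-i) (by lia)
    exact this.op
  have h1 : S'.X₁.IsStrictlyGE (-n) := hGE S.X₃
  have h2 : S'.X₂.IsStrictlyGE (-n) := hGE S.X₂
  have h3 : S'.X₃.IsStrictlyGE (-n) := hGE S.X₁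
  obtain ⟨T', φ', hT', hT1, hT2, hT3, hinj, hq1, hq2, hq3⟩ :=
    Horseshoe.horseshoe_inj S' hS' (-n)
  let T : ShortComplex (CochainComplex A ℤ) := (T'.map E.inverse).unop
  have hT : T.ShortExact := (hT'.map_of_exact E.inverse).unop
  have hLE : ∀ (L : CochainComplex Aᵒᵖ ℤ) [L.IsStrictlyGE (-n)],
      (E.inverse.obj L).unop.IsStrictlyLE n := by
    intro L _
    rw [CochainComplex.isStrictlyLE_iff]
    intro i hi
    have : IsZero (L.X (-i)) := L.isZero_of_isStrictlyGE (-n) (-i) (by lia)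
    exact this.unop
  have hproj : ∀ (L : CochainComplex Aᵒᵖ ℤ) (_ : ∀ k, Injective (L.X k)) (k : ℤ),
      Projective ((E.inverse.obj L).unop.X k) := by
    intro L hL k
    have := hL (-k)
    change Projective (L.X (-k)).unop
    infer_instance
  -- the comparison morphisms
  let c : ∀ (K : CochainComplex A ℤ) (L : CochainComplex Aᵒᵖ ℤ) (_ : E.functor.obj (op K) ⟶ L),
      (E.inverse.obj L).unop ⟶ K := fun K L g => (E.inverse.map g).unop ≫ (E.unit.app (op K)).unop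
  have hc : ∀ (K : CochainComplex A ℤ) (L : CochainComplex Aᵒᵖ ℤ) (g : E.functor.obj (op K) ⟶ L),
      QuasiIso g → QuasiIso (c K L g) := by
    intro K L g hg
    have h1 : QuasiIso (E.inverse.map g).unop := ClassResOp.quasiIso_unop g
    have h2 : IsIso (E.unit.app (op K)).unop := inferInstance
    exact quasiIso_comp _ _
  have hnat : ∀ (K₁ K₂ : CochainComplex A ℤ) (f : K₁ ⟶ K₂) (L₁ L₂ : CochainComplex Aᵒᵖ ℤ)
      (g₁ : E.functor.obj (op K₁) ⟶ L₁) (g₂ : E.functor.obj (op K₂) ⟶ L₂) (l : L₂ ⟶ L₁)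
      (_ : g₂ ≫ l = E.functor.map f.op ≫ g₁),
      (E.inverse.map l).unop ≫ c K₂ L₂ g₂ = c K₁ L₁ g₁ ≫ f := by
    intro K₁ K₂ f L₁ L₂ g₁ g₂ l hl
    apply Quiver.Hom.op_inj
    dsimp only [c]
    simp only [op_comp, Quiver.Hom.op_unop, Category.assoc]
    rw [← E.inverse.map_comp, hl, E.inverse.map_comp]
    exact ((E.unit.naturality_assoc f.op _).symm)
  refine ⟨T, ShortComplex.homMk (c S.X₁ T'.X₃ φ'.τ₃) (c S.X₂ T'.X₂ φ'.τ₂) (c S.X₃ T'.X₁ φ'.τ₁)
    ?_ ?_, hT, hLE T'.X₃, hLE T'.X₂, hLE T'.X₁, ?_, hc _ _ _ hq3, hc _ _ _ hq2, hc _ _ _ hq1⟩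
  · exact (hnat S.X₁ S.X₂ S.f T'.X₃ T'.X₂ φ'.τ₃ φ'.τ₂ T'.g φ'.comm₂₃).symm
  · exact (hnat S.X₂ S.X₃ S.g T'.X₂ T'.X₁ φ'.τ₂ φ'.τ₁ T'.f φ'.comm₁₂).symm
  · intro k
    exact ⟨hproj T'.X₃ (fun k => (hinj k).2.2) k, hproj T'.X₂ (fun k => (hinj k).2.1) k,
      hproj T'.X₁ (fun k => (hinj k).1) k⟩

end Groth.Agent.Lib.helper2.HorseshoeOp
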