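import Mathlib
import Groth.Agent.S6965
import Groth.Agent.Lib.helper2.Stupid
import Groth.Agent.Lib.helper2.DerTrunc

set_option autoImplicit false
set_option linter.unusedSectionVars false

namespace Groth.Agent.Lib.helper2.InjDimR

open CategoryTheory CategoryTheory.Limits CategoryTheory.Pretriangulated DerivedCategory DRing

universe u

attribute [local instance] HasDerivedCategory.standard

variable (R : Type u) [CommRing R]

/-- the Ext-vanishing form of injective amplitude in `[a, b]` -/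
def ExtVan (a b : ℤ) (K : Dual.D R) : Prop :=
  ∀ (N : Type u) [AddCommGroup N] [Module R N] (i : ℤ), (i < a ∨ b < i) →
    Subsingleton (Dual.inD R N ⟶ K⟦i⟧)

lemma hasInjAmplitudeIn_iff (K : Dual.D R) (a b : ℤ) :
    HasInjAmplitudeIn R a b K ↔ ExtVan R a b K :=
  (Groth.Agent.S6965.result R K a b).out 0 1

variable {R}

lemma extVan_mono {K : Dual.D R} {a b a' b' : ℤ} (h : ExtVan R a b K) (ha : a' ≤ a) (hb : b ≤ b') :
    ExtVan R a' b' K := by
  intro N _ _ i hi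
  exact h N i (by lia)

lemma hasFiniteInjDim_of_iso {K L : Dual.D R} (e : K ≅ L) (h : HasFiniteInjDim R K) :
    HasFiniteInjDim R L := by
  obtain ⟨a, b, E, h1, h2, ⟨e'⟩⟩ := h
  exact ⟨a, b, E, h1, h2, ⟨e' ≪≫ e⟩⟩

lemma hasFiniteInjDim_of_isZero {K : Dual.D R} (h : IsZero K) : HasFiniteInjDim R K := by
  refine ⟨0, 0, (hasInjAmplitudeIn_iff R K 0 0).2 ?_⟩
  intro N _ _ i hi
  have : IsZero (K⟦i⟧) := (shiftFunctor (Dual.D R) i).map_isZero h
  exact ⟨fun f g => this.eq_of_tgt f g⟩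

lemma hasFiniteInjDim_shift {K : Dual.D R} (h : HasFiniteInjDim R K) (n : ℤ) :
    HasFiniteInjDim R (K⟦n⟧) := by
  obtain ⟨a, b, h⟩ := h
  rw [hasInjAmplitudeIn_iff] at h
  refine ⟨a - n, b - n, (hasInjAmplitudeIn_iff R _ _ _).2 ?_⟩
  intro N _ _ i hi
  have := h N (n + i) (by lia)
  let e : (K⟦n⟧)⟦i⟧ ≅ K⟦n + i⟧ := (shiftFunctorAdd' (Dual.D R) n i (n + i) rfl).symm.app K
  exact ⟨fun f g => by
    rw [← cancel_mono e.hom]
    exact Subsingleton.elim _ _⟩

lemma hasFiniteInjDim_of_distTriang (T : Triangle (Dual.D R)) (hT : T ∈ distTriang _)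
    (h1 : HasFiniteInjDim R T.obj₁) (h3 : HasFiniteInjDim R T.obj₃) :
    HasFiniteInjDim R T.obj₂ := by
  obtain ⟨a₁, b₁, h1⟩ := h1
  obtain ⟨a₃, b₃, h3⟩ := h3
  rw [hasInjAmplitudeIn_iff] at h1 h3
  refine ⟨min a₁ a₃, max b₁ b₃, (hasInjAmplitudeIn_iff R _ _ _).2 ?_⟩
  intro N _ _ i hi
  have s1 := h1 N i (by
    rcases hi with hi | hi
    · exact Or.inl (lt_of_lt_of_le hi (min_le_left _ _))
    · exact Or.inr (lt_of_le_of_lt (le_max_left _ _) hi))
  have s3 := h3 N i (by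
    rcases hi with hi | hi
    · exact Or.inl (lt_of_lt_of_le hi (min_le_right _ _))
    · exact Or.inr (lt_of_le_of_lt (le_max_right _ _) hi))
  have hT' := Triangle.shift_distinguished T hT i
  have key : ∀ φ : Dual.inD R N ⟶ T.obj₂⟦i⟧, φ = 0 := by
    intro φ
    obtain ⟨ψ, hψ⟩ := Triangle.coyoneda_exact₂ _ hT' φ (s3.elim _ _)
    have hψ0 : ψ = 0 := s1.elim ψ 0
    rw [hψ, hψ0]
    exact zero_comp
  exact ⟨fun f g => by rw [key f, key g]⟩

end Groth.Agent.Lib.helper2.InjDimR
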