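import Mathlib

set_option autoImplicit false
set_option linter.unusedSectionVars false

namespace Groth.Agent.Lib.helper2.InjHull

open CategoryTheory CategoryTheory.Limits HomologicalComplex CochainComplex

universe v u

variable {A : Type u} [Category.{v} A] [Abelian A]

section Gen

variable (I : A ⥤ A) (ι : 𝟭 A ⟶ I) [∀ X, Mono (ι.app X)] (M : CochainComplex A ℤ)

/-- the embedding, with the expected type -/
def ιa (X : A) : X ⟶ I.obj X := ι.app X

instance (X : A) : Mono (ιa I ι X) := inferInstanceAs (Mono (ι.app X))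

@[reassoc]
lemma ιa_nat {X X' : A} (f : X ⟶ X') : ιa I ι X ≫ I.map f = f ≫ ιa I ι X' :=
  (ι.naturality f).symm

/-- the graph-type embedding `M^m → I(M^m) ⊞ I(M^n)` -/
noncomputable def u (m n : ℤ) : M.X m ⟶ I.obj (M.X m) ⊞ I.obj (M.X n) :=
  biprod.lift (ιa I ι (M.X m)) (M.d m n ≫ ιa I ι (M.X n))

@[reassoc (attr := simp)]
lemma u_fst (m n : ℤ) : u I ι M m n ≫ biprod.fst = ιa I ι (M.X m) := by simp [u]

@[reassoc (attr := simp)]
lemma u_snd (m n : ℤ) : u I ι M m n ≫ biprod.snd = M.d m n ≫ ιa I ι (M.X n) := by simp [u]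

instance (m n : ℤ) : Mono (u I ι M m n) := by
  have : Mono (u I ι M m n ≫ biprod.fst) := by
    rw [u_fst]
    infer_instance
  exact mono_of_mono _ biprod.fst

/-- the terms of the quotient complex -/
noncomputable def Y (m n : ℤ) : A := cokernel (u I ι M m n)

noncomputable def p (m n : ℤ) : I.obj (M.X m) ⊞ I.obj (M.X n) ⟶ Y I ι M m n := cokernel.π _

instance (m n : ℤ) : Epi (p I ι M m n) :=
  inferInstanceAs (Epi (cokernel.π (u I ι M m n)))

@[reassoc (attr := simp)]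
lemma u_p (m n : ℤ) : u I ι M m n ≫ p I ι M m n = 0 := cokernel.condition _

lemma exists_lift {W : A} (m n : ℤ) (x : W ⟶ I.obj (M.X m) ⊞ I.obj (M.X n))
    (hx : x ≫ p I ι M m n = 0) : ∃ z : W ⟶ M.X m, z ≫ u I ι M m n = x := by
  have hl := Abelian.monoIsKernelOfCokernel (Cofork.ofπ (p I ι M m n) (by simp))
    (cokernelIsCokernel (u I ι M m n))
  exact ⟨hl.lift (KernelFork.ofι x hx), hl.fac _ WalkingParallelPair.zero⟩

lemma Y_hom_ext {m n : ℤ} {T : A} (f g : Y I ι M m n ⟶ T)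
    (h : p I ι M m n ≫ f = p I ι M m n ≫ g) : f = g := by
  rwa [cancel_epi] at h

lemma ι_inl_p (n q : ℤ) : ιa I ι (M.X n) ≫ biprod.inl ≫ p I ι M n q =
    -(M.d n q ≫ ιa I ι (M.X q) ≫ biprod.inr ≫ p I ι M n q) := by
  have h := u_p I ι M n q
  have h2 : u I ι M n q = ιa I ι (M.X n) ≫ biprod.inl + (M.d n q ≫ ιa I ι (M.X q)) ≫ biprod.inr := by
    apply biprod.hom_ext <;> simp
  rw [h2, Preadditive.add_comp, Category.assoc, Category.assoc, Category.assoc] at h
  exact eq_neg_of_add_eq_zero_left h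

/-- the differential -/
noncomputable def D (m n q : ℤ) : Y I ι M m n ⟶ Y I ι M n q :=
  cokernel.desc _ (biprod.snd ≫ biprod.inl ≫ p I ι M n q) (by
    rw [u_snd_assoc, ι_inl_p, Preadditive.comp_neg, M.d_comp_d_assoc, zero_comp,
      neg_zero])

@[reassoc (attr := simp)]
lemma p_D (m n q : ℤ) : p I ι M m n ≫ D I ι M m n q = biprod.snd ≫ biprod.inl ≫ p I ι M n q :=
  cokernel.π_desc _ _ _

@[reassoc (attr := simp)]
lemma D_D (m n q r : ℤ) : D I ι M m n q ≫ D I ι M n q r = 0 := by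
  apply Y_hom_ext
  simp

/-- the quotient complex -/
noncomputable def Q : CochainComplex A ℤ :=
  CochainComplex.of (fun n => Y I ι M n (n + 1)) (fun n => D I ι M n (n + 1) (n + 1 + 1))
    (fun _ => D_D I ι M _ _ _ _)

lemma Q_d (n : ℤ) : (Q I ι M).d n (n + 1) = D I ι M n (n + 1) (n + 1 + 1) :=
  CochainComplex.of_d (fun n => Y I ι M n (n + 1)) (fun n => D I ι M n (n + 1) (n + 1 + 1)) n

instance mono_inr_p (m n : ℤ) : Mono (biprod.inr ≫ p I ι M m n : I.obj (M.X n) ⟶ _) := by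
  rw [Preadditive.mono_iff_cancel_zero]
  intro W x hx
  obtain ⟨z, hz⟩ := exists_lift I ι M m n (x ≫ biprod.inr) (by rw [Category.assoc, hx])
  have h1 : z ≫ ιa I ι (M.X m) = 0 := by
    have := congrArg (fun t => t ≫ biprod.fst) hz
    simpa using this
  have h2 : z = 0 := by rw [← cancel_mono (ιa I ι (M.X m)), h1, zero_comp]
  have h3 := congrArg (fun t => t ≫ biprod.snd) hz
  simp only [Category.assoc, biprod.inr_snd, Category.comp_id, h2, zero_comp] at h3
  exact h3.symm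

section Map

variable {M} {M' M'' : CochainComplex A ℤ} (f : M ⟶ M') (g : M' ⟶ M'')

lemma u_map (m n : ℤ) : u I ι M m n ≫ biprod.map (I.map (f.f m)) (I.map (f.f n)) =
    f.f m ≫ u I ι M' m n := by
  apply biprod.hom_ext
  · simp [ιa_nat]
  · simp [ιa_nat]

/-- functoriality of the terms -/
noncomputable def Ymap (m n : ℤ) : Y I ι M m n ⟶ Y I ι M' m n :=
  cokernel.map _ _ (f.f m) (biprod.map (I.map (f.f m)) (I.map (f.f n))) (u_map I ι f m n)

@[reassoc (attr := simp)]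
lemma p_Ymap (m n : ℤ) : p I ι M m n ≫ Ymap I ι f m n =
    biprod.map (I.map (f.f m)) (I.map (f.f n)) ≫ p I ι M' m n :=
  cokernel.π_desc _ _ _

@[reassoc]
lemma Ymap_D (m n q : ℤ) : Ymap I ι f m n ≫ D I ι M' m n q = D I ι M m n q ≫ Ymap I ι f n q := by
  apply Y_hom_ext
  simp

lemma Ymap_id (m n : ℤ) : Ymap I ι (𝟙 M) m n = 𝟙 _ := by
  apply Y_hom_ext
  have : biprod.map (I.map ((𝟙 M : M ⟶ M).f m)) (I.map ((𝟙 M : M ⟶ M).f n)) = 𝟙 _ := by
    ext <;> simp
  rw [p_Ymap, Category.comp_id, this, Category.id_comp]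

lemma Ymap_comp (m n : ℤ) : Ymap I ι (f ≫ g) m n = Ymap I ι f m n ≫ Ymap I ι g m n := by
  apply Y_hom_ext
  have : biprod.map (I.map ((f ≫ g).f m)) (I.map ((f ≫ g).f n)) =
      biprod.map (I.map (f.f m)) (I.map (f.f n)) ≫ biprod.map (I.map (g.f m)) (I.map (g.f n)) := by
    ext <;> simp
  rw [p_Ymap, p_Ymap_assoc, p_Ymap, this, Category.assoc]

/-- functoriality of the quotient complex -/
noncomputable def Qmap : Q I ι M ⟶ Q I ι M' :=
  CochainComplex.ofHom (fun n => Ymap I ι f n (n + 1)) (fun n => by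
    rw [Q_d, Q_d]
    exact Ymap_D I ι f _ _ _)

lemma Qmap_f (n : ℤ) : (Qmap I ι f).f n = Ymap I ι f n (n + 1) := rfl

end Map

/-- the quotient functor -/
noncomputable def Qfun : CochainComplex A ℤ ⥤ CochainComplex A ℤ where
  obj M := Q I ι M
  map f := Qmap I ι f
  map_id M := by
    ext n
    exact Ymap_id I ι _ _
  map_comp f g := by
    ext n
    exact Ymap_comp I ι f g _ _

/-- the comparison map -/
noncomputable def kf (n : ℤ) : M.X (n + 1) ⟶ Y I ι M n (n + 1) :=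
  ιa I ι (M.X (n + 1)) ≫ biprod.inr ≫ p I ι M n (n + 1)

instance (n : ℤ) : Mono (kf I ι M n) := by
  unfold kf
  infer_instance

noncomputable def k : M⟦(1 : ℤ)⟧ ⟶ Q I ι M :=
  CochainComplex.ofHom (X := M⟦(1 : ℤ)⟧) (Y := Q I ι M) (fun n => kf I ι M n) (fun n => by
    rw [Q_d, CochainComplex.shiftFunctor_obj_d']
    change (ιa I ι (M.X (n + 1)) ≫ biprod.inr ≫ p I ι M n (n + 1)) ≫ D I ι M n (n + 1) (n + 1 + 1) =
      ((1 : ℤ).negOnePow • M.d (n + 1) (n + 1 + 1)) ≫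
        (ιa I ι (M.X (n + 1 + 1)) ≫ biprod.inr ≫ p I ι M (n + 1) (n + 1 + 1))
    simp only [Category.assoc, p_D, biprod.inr_snd_assoc]
    rw [ι_inl_p]
    simp)

lemma k_f (n : ℤ) : (k I ι M).f n = kf I ι M n := rfl

lemma k_nat {M M' : CochainComplex A ℤ} (f : M ⟶ M') :
    f⟦(1 : ℤ)⟧' ≫ k I ι M' = k I ι M ≫ Qmap I ι f := by
  ext n
  change f.f (n + 1) ≫ (ιa I ι (M'.X (n + 1)) ≫ biprod.inr ≫ p I ι M' n (n + 1)) =
    (ιa I ι (M.X (n + 1)) ≫ biprod.inr ≫ p I ι M n (n + 1)) ≫ Ymap I ι f n (n + 1)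
  simp [ιa_nat_assoc]

/-- natural transformation version of `k` -/
noncomputable def kNat : CategoryTheory.shiftFunctor (CochainComplex A ℤ) (1 : ℤ) ⟶ Qfun I ι where
  app M := k I ι M
  naturality _ _ f := k_nat I ι f

lemma shift_d (W : A) (i : ℤ) (x : W ⟶ M.X (i + 1)) :
    (x : W ⟶ (M⟦(1 : ℤ)⟧).X i) ≫ (M⟦(1 : ℤ)⟧).d i (i + 1) = -(x ≫ M.d (i + 1) (i + 1 + 1)) := by
  rw [CochainComplex.shiftFunctor_obj_d']
  change x ≫ ((1 : ℤ).negOnePow • M.d (i + 1) (i + 1 + 1)) = _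
  simp

lemma quasiIsoAt_k (i : ℤ) : QuasiIsoAt (k I ι M) (i + 1) := by
  rw [quasiIsoAt_iff_isIso_homologyMap]
  have hm : Mono (HomologicalComplex.homologyMap (k I ι M) (i + 1)) := by
    rw [HomologicalComplex.mono_homologyMap_iff_up_to_refinements (k I ι M) i (i + 1) (i + 1 + 1)
      (by simp) (by simp)]
    intro W x₂ hx₂ y₁ h
    rw [Q_d] at h
    change W ⟶ M.X (i + 1 + 1) at x₂
    change W ⟶ Y I ι M i (i + 1) at y₁
    change x₂ ≫ kf I ι M (i + 1) = y₁ ≫ D I ι M i (i + 1) (i + 1 + 1) at h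
    obtain ⟨W₁, π₁, hπ₁, y, hy⟩ := surjective_up_to_refinements_of_epi (p I ι M i (i + 1)) y₁
    have h0 : (π₁ ≫ x₂ ≫ ιa I ι _ ≫ biprod.inr - y ≫ biprod.snd ≫ biprod.inl) ≫
        p I ι M (i + 1) (i + 1 + 1) = 0 := by
      rw [Preadditive.sub_comp, sub_eq_zero]
      calc (π₁ ≫ x₂ ≫ ιa I ι _ ≫ biprod.inr) ≫ p I ι M (i + 1) (i + 1 + 1)
          = π₁ ≫ (x₂ ≫ kf I ι M (i + 1)) := by simp [kf]
        _ = π₁ ≫ y₁ ≫ D I ι M i (i + 1) (i + 1 + 1) := by rw [h]
        _ = y ≫ p I ι M i (i + 1) ≫ D I ι M i (i + 1) (i + 1 + 1) := by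
          rw [← Category.assoc, hy, Category.assoc]
        _ = (y ≫ biprod.snd ≫ biprod.inl) ≫ p I ι M (i + 1) (i + 1 + 1) := by simp
    obtain ⟨z, hz⟩ := exists_lift I ι M _ _ _ h0
    have h1 : z ≫ M.d (i + 1) (i + 1 + 1) = π₁ ≫ x₂ := by
      have := congrArg (fun t => t ≫ biprod.snd) hz
      simp only [Category.assoc, u_snd, Preadditive.sub_comp, biprod.inr_snd, biprod.inl_snd,
        Category.comp_id, comp_zero, sub_zero] at this
      rw [← cancel_mono (ιa I ι (M.X (i + 1 + 1))), Category.assoc, this, Category.assoc]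
    refine ⟨W₁, π₁, hπ₁, (-z : W₁ ⟶ M.X (i + 1)), ?_⟩
    exact ((shift_d M W₁ i (-z)).trans (by rw [Preadditive.neg_comp, neg_neg, h1]; rfl)).symm
  have he : Epi (HomologicalComplex.homologyMap (k I ι M) (i + 1)) := by
    rw [HomologicalComplex.epi_homologyMap_iff_up_to_refinements (k I ι M) i (i + 1) (i + 1 + 1)
      (by simp) (by simp)]
    intro W y₂ hy₂
    rw [Q_d] at hy₂
    change W ⟶ Y I ι M (i + 1) (i + 1 + 1) at y₂
    change y₂ ≫ D I ι M (i + 1) (i + 1 + 1) (i + 1 + 1 + 1) = 0 at hy₂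
    obtain ⟨W₁, π₁, hπ₁, y, hy⟩ :=
      surjective_up_to_refinements_of_epi (p I ι M (i + 1) (i + 1 + 1)) y₂
    have h0 : (y ≫ biprod.snd ≫ biprod.inl) ≫ p I ι M (i + 1 + 1) (i + 1 + 1 + 1) = 0 := by
      have := congrArg (fun t => π₁ ≫ t) hy₂
      rw [← Category.assoc, hy, comp_zero, Category.assoc, p_D] at this
      simpa using this
    obtain ⟨z, hz⟩ := exists_lift I ι M _ _ _ h0
    have h1 : z ≫ ιa I ι _ = y ≫ biprod.snd := by
      have := congrArg (fun t => t ≫ biprod.fst) hz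
      simpa using this
    have h2 : z ≫ M.d (i + 1 + 1) (i + 1 + 1 + 1) = 0 := by
      have := congrArg (fun t => t ≫ biprod.snd) hz
      simp only [Category.assoc, u_snd, biprod.inl_snd, comp_zero] at this
      rw [← cancel_mono (ιa I ι (M.X (i + 1 + 1 + 1))), Category.assoc, this, zero_comp]
    refine ⟨W₁, π₁, hπ₁, (z : W₁ ⟶ M.X (i + 1 + 1)), ?_,
      ((y ≫ biprod.fst) ≫ biprod.inr ≫ p I ι M i (i + 1) : W₁ ⟶ Y I ι M i (i + 1)), ?_⟩
    · have := shift_d M W₁ (i + 1) z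
      rw [h2, neg_zero] at this
      exact this
    · rw [Q_d]
      change π₁ ≫ y₂ = z ≫ kf I ι M (i + 1) +
        ((y ≫ biprod.fst) ≫ biprod.inr ≫ p I ι M i (i + 1)) ≫ D I ι M i (i + 1) (i + 1 + 1)
      rw [hy]
      have e1 : z ≫ kf I ι M (i + 1) =
          y ≫ biprod.snd ≫ biprod.inr ≫ p I ι M (i + 1) (i + 1 + 1) := by
        simp only [kf]
        rw [reassoc_of% h1]
      have e2 : ((y ≫ biprod.fst) ≫ biprod.inr ≫ p I ι M i (i + 1)) ≫
          D I ι M i (i + 1) (i + 1 + 1) =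
          y ≫ biprod.fst ≫ biprod.inl ≫ p I ι M (i + 1) (i + 1 + 1) := by simp
      have e3 : biprod.snd ≫ biprod.inr ≫ p I ι M (i + 1) (i + 1 + 1) +
          biprod.fst ≫ biprod.inl ≫ p I ι M (i + 1) (i + 1 + 1) =
          p I ι M (i + 1) (i + 1 + 1) := by
        rw [← Category.assoc, ← Category.assoc, ← Preadditive.add_comp, add_comm (biprod.snd ≫ biprod.inr), biprod.total,
          Category.id_comp]
      rw [e1, e2, ← Preadditive.comp_add, e3]
  exact isIso_of_mono_of_epi _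

instance quasiIso_k : QuasiIso (k I ι M) := by
  rw [quasiIso_iff]
  intro n
  obtain ⟨i, rfl⟩ : ∃ i, n = i + 1 := ⟨n - 1, by lia⟩
  exact quasiIsoAt_k I ι M i

end Gen

section Main

variable (A) [IsGrothendieckAbelian.{v} A]

open MorphismProperty ZeroObject

/-- `X ↦ (X ⟶ 0)` -/
noncomputable def toZero : A ⥤ Arrow A where
  obj X := Arrow.mk (0 : X ⟶ (0 : A))
  map f := Arrow.homMk f (𝟙 _) (by simp)

/-- the functorial factorization data given by the small object argument -/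
noncomputable def fdata : FunctorialFactorizationData (monomorphisms A) (monomorphisms A).rlp :=
  functorialFactorizationData _ _

/-- a functorial injective embedding -/
noncomputable def Ifun : A ⥤ A := toZero A ⋙ (fdata A).Z

noncomputable def ιnat : 𝟭 A ⟶ Ifun A where
  app X := (fdata A).i.app (Arrow.mk (0 : X ⟶ (0 : A)))
  naturality _ _ f := (fdata A).i.naturality ((toZero A).map f)

instance (X : A) : Mono ((ιnat A).app X) :=
  (MorphismProperty.monomorphisms.iff _).1 ((fdata A).hi _)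

instance (X : A) : Injective ((Ifun A).obj X) :=
  inferInstanceAs (Injective (IsGrothendieckAbelian.monoMapFactorizationDataRlp (0 : X ⟶ 0)).Z)

/-- the functor -/
noncomputable def N : CochainComplex A ℤ ⥤ CochainComplex A ℤ :=
  Qfun (Ifun A) (ιnat A) ⋙ CategoryTheory.shiftFunctor (CochainComplex A ℤ) (-1 : ℤ)

/-- the natural transformation -/
noncomputable def j : 𝟭 (CochainComplex A ℤ) ⟶ N A :=
  (shiftFunctorCompIsoId (CochainComplex A ℤ) (1 : ℤ) (-1 : ℤ) (by simp)).inv ≫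
    Functor.whiskerRight (kNat (Ifun A) (ιnat A))
      (CategoryTheory.shiftFunctor (CochainComplex A ℤ) (-1 : ℤ))

lemma j_app (M : CochainComplex A ℤ) : (j A).app M =
    (shiftFunctorCompIsoId (CochainComplex A ℤ) (1 : ℤ) (-1 : ℤ) (by simp)).inv.app M ≫
      (k (Ifun A) (ιnat A) M)⟦(-1 : ℤ)⟧' := rfl

theorem main (M : CochainComplex A ℤ) :
    (∀ n : ℤ, Mono (((j A).app M).f n)) ∧ QuasiIso ((j A).app M) ∧
        ∀ n : ℤ, ∃ (I : A) (_ : Injective I) (a : M.X n ⟶ I) (b : I ⟶ ((N A).obj M).X n),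
          Mono b ∧ a ≫ b = ((j A).app M).f n := by
  refine ⟨?_, ?_, ?_⟩
  · intro n
    rw [j_app, HomologicalComplex.comp_f]
    have h0 : Mono (((k (Ifun A) (ιnat A) M)⟦(-1 : ℤ)⟧').f n) :=
      inferInstanceAs (Mono (kf (Ifun A) (ιnat A) M (n + -1)))
    have h1 : IsIso ((shiftFunctorCompIsoId (CochainComplex A ℤ) (1 : ℤ) (-1 : ℤ)
      (by simp)).inv.app M) := inferInstance
    have h2 : IsIso (((shiftFunctorCompIsoId (CochainComplex A ℤ) (1 : ℤ) (-1 : ℤ)
      (by simp)).inv.app M).f n) := inferInstance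
    exact @mono_comp _ _ _ _ _ _ inferInstance _ h0
  · rw [j_app]
    have h1 : IsIso ((shiftFunctorCompIsoId (CochainComplex A ℤ) (1 : ℤ) (-1 : ℤ)
      (by simp)).inv.app M) := inferInstance
    have h2 : QuasiIso ((k (Ifun A) (ιnat A) M)⟦(-1 : ℤ)⟧') := by
      rw [quasiIso_shift_iff]
      infer_instance
    exact @quasiIso_comp _ _ _ _ _ _ _ _ _ _ _ _ _ inferInstance h2
  · intro n
    refine ⟨(Ifun A).obj (M.X (n + -1 + 1)), inferInstance,
      ((shiftFunctorCompIsoId (CochainComplex A ℤ) (1 : ℤ) (-1 : ℤ) (by simp)).inv.app M).f n ≫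
        ιa (Ifun A) (ιnat A) (M.X (n + -1 + 1)),
      biprod.inr ≫ p (Ifun A) (ιnat A) M (n + -1) (n + -1 + 1), ?_, ?_⟩
    · exact mono_inr_p (Ifun A) (ιnat A) M _ _
    · rw [j_app, HomologicalComplex.comp_f, Category.assoc]
      rfl

end Main

end Groth.Agent.Lib.helper2.InjHull
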