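import Mathlib

open CategoryTheory CategoryTheory.Limits

namespace Groth.Agent.Lib.helper2.InjLadder

universe u v
variable {V : Type u} [Category.{v} V] [Abelian V]

/-- one-map extension into an injective object -/
lemma ext1 {A X J : V} [Injective J] (a : A ⟶ X) (α : A ⟶ J) (h : kernel.ι a ≫ α = 0) :
    ∃ φ : X ⟶ J, a ≫ φ = α := by
  let ψ : Abelian.coimage a ⟶ J := cokernel.desc (kernel.ι a) α h
  refine ⟨Injective.factorThru ψ (Abelian.factorThruCoimage a), ?_⟩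
  calc a ≫ Injective.factorThru ψ (Abelian.factorThruCoimage a)
      = (Abelian.coimage.π a ≫ Abelian.factorThruCoimage a) ≫
          Injective.factorThru ψ (Abelian.factorThruCoimage a) := by
        rw [Abelian.coimage.fac]
    _ = α := by
        rw [Category.assoc, Injective.comp_factorThru]
        exact cokernel.π_desc _ _ _

lemma comp_biprod_desc {A B X K : V} (k : K ⟶ A ⊞ B) (a : A ⟶ X) (b : B ⟶ X) :
    k ≫ biprod.desc a b = (k ≫ biprod.fst) ≫ a + (k ≫ biprod.snd) ≫ b := by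
  rw [biprod.desc_eq, Preadditive.comp_add, Category.assoc, Category.assoc]

/-- two-map extension into an injective object -/
lemma ext2 {A B X J : V} [Injective J] (a : A ⟶ X) (b : B ⟶ X) (α : A ⟶ J) (β : B ⟶ J)
    (h : ∀ (T : V) (s : T ⟶ A) (t : T ⟶ B), s ≫ a = t ≫ b → s ≫ α = t ≫ β) :
    ∃ φ : X ⟶ J, a ≫ φ = α ∧ b ≫ φ = β := by
  obtain ⟨φ, hφ⟩ := ext1 (biprod.desc a b) (biprod.desc α β) (by
    have hk := kernel.condition (biprod.desc a b)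
    rw [comp_biprod_desc] at hk ⊢
    have h1 := h _ (kernel.ι (biprod.desc a b) ≫ biprod.fst)
      (-(kernel.ι (biprod.desc a b) ≫ biprod.snd)) (by
      rw [Preadditive.neg_comp]; exact eq_neg_of_add_eq_zero_left hk)
    rw [h1, Preadditive.neg_comp]; simp)
  refine ⟨φ, ?_, ?_⟩
  · have := congrArg (fun x => biprod.inl ≫ x) hφ
    simpa using this
  · have := congrArg (fun x => biprod.inr ≫ x) hφ
    simpa using this

/-- building a chain map inductively with an invariant -/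
lemma exists_hom_of_step {P Q : CochainComplex V ℕ} (Inv : ∀ n, (P.X n ⟶ Q.X n) → Prop)
    (φ0 : P.X 0 ⟶ Q.X 0) (h0 : Inv 0 φ0)
    (hstep : ∀ n (φ : P.X n ⟶ Q.X n), Inv n φ → ∃ ψ : P.X (n+1) ⟶ Q.X (n+1),
      P.d n (n+1) ≫ ψ = φ ≫ Q.d n (n+1) ∧ Inv (n+1) ψ) :
    ∃ f : P ⟶ Q, f.f 0 = φ0 ∧ ∀ n, Inv n (f.f n) := by
  classical
  let seq : ∀ n, {φ : P.X n ⟶ Q.X n // Inv n φ} := fun n =>
    Nat.rec (motive := fun n => {φ : P.X n ⟶ Q.X n // Inv n φ}) ⟨φ0, h0⟩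
      (fun n p => ⟨(hstep n p.1 p.2).choose, (hstep n p.1 p.2).choose_spec.2⟩) n
  refine ⟨{ f := fun n => (seq n).1, comm' := ?_ }, rfl, fun n => (seq n).2⟩
  rintro i j (rfl : i + 1 = j)
  exact ((hstep i (seq i).1 (seq i).2).choose_spec.1).symm

/-- the inclusion of `H^0` in degree-zero cochains -/
noncomputable def z (K : CochainComplex V ℕ) : K.homology 0 ⟶ K.X 0 :=
  K.isoHomologyπ₀.inv ≫ K.iCycles 0

instance (K : CochainComplex V ℕ) : Mono (z K) := by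
  unfold z; infer_instance

@[reassoc (attr := simp)]
lemma z_d (K : CochainComplex V ℕ) : z K ≫ K.d 0 1 = 0 := by
  simp [z]

lemma π_z (K : CochainComplex V ℕ) : K.homologyπ 0 ≫ z K = K.iCycles 0 := by
  simp [z]

lemma z_lift (K : CochainComplex V ℕ) {T : V} (s : T ⟶ K.X 0) (hs : s ≫ K.d 0 1 = 0) :
    ∃ w : T ⟶ K.homology 0, w ≫ z K = s :=
  ⟨K.liftCycles s 1 (by simp) hs ≫ K.homologyπ 0, by simp [π_z]⟩

@[reassoc]
lemma z_nat {K L : CochainComplex V ℕ} (f : K ⟶ L) :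
    HomologicalComplex.homologyMap f 0 ≫ z L = z K ≫ f.f 0 := by
  simp [z]

lemma homologyMap_eq_iff {K L : CochainComplex V ℕ} (f : K ⟶ L) (g : K.homology 0 ⟶ L.homology 0) :
    HomologicalComplex.homologyMap f 0 = g ↔ z K ≫ f.f 0 = g ≫ z L := by
  rw [← z_nat, cancel_mono]

lemma cyc_apply {K L : CochainComplex V ℕ} (i j : ℕ) (hij : i + 1 = j) (φ : K.X i ⟶ L.X i)
    (h : K.iCycles i ≫ φ ≫ L.d i j = 0) {T : V} (s : T ⟶ K.X i) (hs : s ≫ K.d i j = 0) :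
    s ≫ φ ≫ L.d i j = 0 := by
  have : s = K.liftCycles s j (by simp [← hij]) hs ≫ K.iCycles i := by simp
  rw [this, Category.assoc, h, comp_zero]

lemma exact_lift (K : CochainComplex V ℕ) (i j k : ℕ) (hij : i + 1 = j) (hjk : j + 1 = k)
    (hK : K.ExactAt j) {T : V} (s : T ⟶ K.X j) (hs : s ≫ K.d j k = 0) :
    ∃ (T' : V) (π : T' ⟶ T) (_ : Epi π) (s' : T' ⟶ K.X i), π ≫ s = s' ≫ K.d i j :=
  ((K.exactAt_iff' i j k (by simp [← hij]) (by simp [← hjk])).1 hK).exact_up_to_refinements s hs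

lemma cyc_succ {K L : CochainComplex V ℕ} (i j k : ℕ) (hij : i + 1 = j) (hjk : j + 1 = k)
    (hK : K.ExactAt j) (φ : K.X i ⟶ L.X i) (ψ : K.X j ⟶ L.X j)
    (h : K.d i j ≫ ψ = φ ≫ L.d i j) : K.iCycles j ≫ ψ ≫ L.d j k = 0 := by
  obtain ⟨T', π, hπ, s', hs'⟩ := exact_lift K i j k hij hjk hK (K.iCycles j) (by simp)
  rw [← cancel_epi π, reassoc_of% hs', reassoc_of% h]
  simp

lemma lemA (K L : CochainComplex V ℕ) (hK : ∀ n, 0 < n → K.ExactAt n)
    (injL : ∀ n, Injective (L.X n)) (g : K.homology 0 ⟶ L.homology 0) :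
    ∃ f : K ⟶ L, z K ≫ f.f 0 = g ≫ z L := by
  have := injL
  obtain ⟨f, hf0, -⟩ := exists_hom_of_step (P := K) (Q := L)
    (fun n φ => K.iCycles n ≫ φ ≫ L.d n (n+1) = 0)
    (Injective.factorThru (g ≫ z L) (z K))
    (by
      rw [← π_z, Category.assoc, Injective.comp_factorThru_assoc]
      simp)
    (fun n φ hφ => by
      obtain ⟨ψ, hψ⟩ := ext1 (K.d n (n+1)) (φ ≫ L.d n (n+1))
        (cyc_apply n (n+1) rfl φ hφ _ (kernel.condition _))
      exact ⟨ψ, hψ, cyc_succ n (n+1) (n+1+1) rfl rfl (hK _ (Nat.succ_pos n)) φ ψ hψ⟩)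
  exact ⟨f, by rw [hf0, Injective.comp_factorThru]⟩

lemma lemB (C' C I' I : CochainComplex V ℕ) (jC : C' ⟶ C) (jI : I' ⟶ I)
    (mC : ∀ n, Mono (jC.f n))
    (hC' : ∀ n, 0 < n → C'.ExactAt n) (hC : ∀ n, 0 < n → C.ExactAt n)
    (injI : ∀ n, Injective (I.X n))
    (g' : C'.homology 0 ⟶ I'.homology 0) (g : C.homology 0 ⟶ I.homology 0)
    (hg1 : HomologicalComplex.homologyMap jC 0 ≫ g = g' ≫ HomologicalComplex.homologyMap jI 0)
    (f' : C' ⟶ I') (hf' : z C' ≫ f'.f 0 = g' ≫ z I') :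
    ∃ f : C ⟶ I, jC ≫ f = f' ≫ jI ∧ z C ≫ f.f 0 = g ≫ z I := by
  have := injI
  have := mC
  -- base
  obtain ⟨φ0, hφ0a, hφ0b⟩ := ext2 (jC.f 0) (z C) (f'.f 0 ≫ jI.f 0) (g ≫ z I) (by
    intro T s t hst
    have h1 : s ≫ C'.d 0 1 = 0 := by
      rw [← cancel_mono (jC.f 1), Category.assoc, ← jC.comm, reassoc_of% hst]; simp
    obtain ⟨s', rfl⟩ := z_lift C' s h1
    have h2 : s' ≫ HomologicalComplex.homologyMap jC 0 = t := by
      rw [← cancel_mono (z C), Category.assoc, z_nat, ← hst, Category.assoc]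
    rw [Category.assoc, reassoc_of% hf', ← z_nat, ← reassoc_of% hg1, reassoc_of% h2])
  obtain ⟨f, hf0, hf⟩ := exists_hom_of_step (P := C) (Q := I)
    (fun n φ => jC.f n ≫ φ = f'.f n ≫ jI.f n ∧ C.iCycles n ≫ φ ≫ I.d n (n+1) = 0)
    φ0 ⟨hφ0a, by rw [← π_z, Category.assoc, reassoc_of% hφ0b]; simp⟩
    (fun n φ ⟨hφ1, hφ2⟩ => by
      obtain ⟨ψ, hψ1, hψ2⟩ := ext2 (C.d n (n+1)) (jC.f (n+1)) (φ ≫ I.d n (n+1))
          (f'.f (n+1) ≫ jI.f (n+1)) (by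
        intro T s t hst
        have h1 : t ≫ C'.d (n+1) (n+1+1) = 0 := by
          rw [← cancel_mono (jC.f (n+1+1)), Category.assoc, ← jC.comm, ← reassoc_of% hst]; simp
        obtain ⟨T', π, hπ, t', ht'⟩ :=
          exact_lift C' n (n+1) (n+1+1) rfl rfl (hC' _ (Nat.succ_pos n)) t h1
        rw [← cancel_epi π]
        have h2 : (π ≫ s - t' ≫ jC.f n) ≫ C.d n (n+1) = 0 := by
          rw [Preadditive.sub_comp, Category.assoc, hst, reassoc_of% ht', Category.assoc,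
            jC.comm, sub_self]
        have h3 := cyc_apply n (n+1) rfl φ hφ2 _ h2
        rw [Preadditive.sub_comp, sub_eq_zero] at h3
        rw [Category.assoc] at h3
        rw [h3, Category.assoc, reassoc_of% hφ1, jI.comm, f'.comm_assoc, reassoc_of% ht'])
      exact ⟨ψ, hψ1, hψ2, cyc_succ n (n+1) (n+1+1) rfl rfl (hC _ (Nat.succ_pos n)) φ ψ hψ1⟩)
  refine ⟨f, ?_, by rw [hf0, hφ0b]⟩
  ext n
  exact (hf n).1

section C

variable (C' C C'' : CochainComplex V ℕ) (jC : C' ⟶ C) (πC : C ⟶ C'')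
    (mC : ∀ n, Mono (jC.f n)) (wC : ∀ n, jC.f n ≫ πC.f n = 0)
    (exC : ∀ n, (ShortComplex.mk (jC.f n) (πC.f n) (wC n)).Exact)
    (hC' : ∀ n, 0 < n → C'.ExactAt n)

include mC exC hC' in
lemma lift_mod (j k l : ℕ) (hjk : j + 1 = k) (hkl : k + 1 = l) {T : V} (x : T ⟶ C.X j)
    (hx : x ≫ C.d j k ≫ πC.f k = 0) :
    ∃ (T' : V) (π : T' ⟶ T) (_ : Epi π) (y' : T' ⟶ C'.X j),
      (π ≫ x - y' ≫ jC.f j) ≫ C.d j k = 0 := by
  have := mC
  obtain ⟨T1, π1, hπ1, y, hy⟩ : ∃ (T1 : V) (π1 : T1 ⟶ T) (_ : Epi π1) (y : T1 ⟶ C'.X k),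
      π1 ≫ x ≫ C.d j k = y ≫ jC.f k :=
    (exC k).exact_up_to_refinements (x ≫ C.d j k) (by rw [Category.assoc]; exact hx)
  have hy0 : y ≫ C'.d k l = 0 := by
    rw [← cancel_mono (jC.f l), Category.assoc, ← jC.comm, ← reassoc_of% hy]; simp
  obtain ⟨T2, π2, hπ2, y', hy'⟩ := exact_lift C' j k l hjk hkl (hC' k (by omega)) y hy0
  refine ⟨T2, π2 ≫ π1, inferInstance, y', ?_⟩
  rw [Preadditive.sub_comp, Category.assoc, Category.assoc, hy, reassoc_of% hy', Category.assoc,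
    jC.comm, sub_self]

end C

lemma lemC (C' C C'' I' I I'' : CochainComplex V ℕ)
    (jC : C' ⟶ C) (πC : C ⟶ C'') (jI : I' ⟶ I) (πI : I ⟶ I'')
    (mC : ∀ n, Mono (jC.f n)) (wC : ∀ n, jC.f n ≫ πC.f n = 0)
    (exC : ∀ n, (ShortComplex.mk (jC.f n) (πC.f n) (wC n)).Exact)
    (wI : ∀ n, jI.f n ≫ πI.f n = 0)
    (hC' : ∀ n, 0 < n → C'.ExactAt n) (hC : ∀ n, 0 < n → C.ExactAt n)
    (hC'' : ∀ n, 0 < n → C''.ExactAt n)
    (injI'' : ∀ n, Injective (I''.X n))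
    (g : C.homology 0 ⟶ I.homology 0) (g'' : C''.homology 0 ⟶ I''.homology 0)
    (hg2 : HomologicalComplex.homologyMap πC 0 ≫ g'' = g ≫ HomologicalComplex.homologyMap πI 0)
    (f' : C' ⟶ I') (f : C ⟶ I) (hff' : jC ≫ f = f' ≫ jI) (hf : z C ≫ f.f 0 = g ≫ z I) :
    ∃ f'' : C'' ⟶ I'', πC ≫ f'' = f ≫ πI ∧ z C'' ≫ f''.f 0 = g'' ≫ z I'' := by
  have := injI''
  have hff'n : ∀ n, jC.f n ≫ f.f n = f'.f n ≫ jI.f n := fun n => by
    have := congrArg (fun φ => φ.f n) hff'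
    simpa using this
  have kill : ∀ n {T : V} (y : T ⟶ C'.X n), y ≫ jC.f n ≫ f.f n ≫ πI.f n = 0 := fun n T y => by
    rw [reassoc_of% (hff'n n), wI, comp_zero, comp_zero]
  -- base
  obtain ⟨φ0, hφ0a, hφ0b⟩ := ext2 (πC.f 0) (z C'') (f.f 0 ≫ πI.f 0) (g'' ≫ z I'') (by
    intro T s t hst
    have hx : s ≫ C.d 0 1 ≫ πC.f 1 = 0 := by
      rw [← πC.comm, reassoc_of% hst]; simp
    obtain ⟨T', π, hπ, y', hy'⟩ := lift_mod C' C C'' jC πC mC wC exC hC' 0 1 2 rfl rfl s hx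
    obtain ⟨w, hw⟩ := z_lift C _ hy'
    have hπs : π ≫ s = w ≫ z C + y' ≫ jC.f 0 := by rw [hw]; abel
    have h2 : w ≫ HomologicalComplex.homologyMap πC 0 = π ≫ t := by
      rw [← cancel_mono (z C''), Category.assoc, z_nat, reassoc_of% hw, Preadditive.sub_comp,
        Category.assoc, Category.assoc, wC, comp_zero, sub_zero, hst, Category.assoc]
    rw [← cancel_epi π, reassoc_of% hπs, Preadditive.add_comp, Category.assoc, Category.assoc,
      kill, add_zero, reassoc_of% hf, ← z_nat, ← reassoc_of% hg2, reassoc_of% h2])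
  obtain ⟨f'', hf0, hf''⟩ := exists_hom_of_step (P := C'') (Q := I'')
    (fun n φ => πC.f n ≫ φ = f.f n ≫ πI.f n ∧ C''.iCycles n ≫ φ ≫ I''.d n (n+1) = 0)
    φ0 ⟨hφ0a, by rw [← π_z, Category.assoc, reassoc_of% hφ0b]; simp⟩
    (fun n φ ⟨hφ1, hφ2⟩ => by
      obtain ⟨ψ, hψ1, hψ2⟩ := ext2 (C''.d n (n+1)) (πC.f (n+1)) (φ ≫ I''.d n (n+1))
          (f.f (n+1) ≫ πI.f (n+1)) (by
        intro T s t hst
        have hx : t ≫ C.d (n+1) (n+1+1) ≫ πC.f (n+1+1) = 0 := by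
          rw [← πC.comm, ← reassoc_of% hst]; simp
        obtain ⟨T', π, hπ, y', hy'⟩ :=
          lift_mod C' C C'' jC πC mC wC exC hC' (n+1) (n+1+1) (n+1+1+1) rfl rfl t hx
        obtain ⟨T3, π3, hπ3, u, hu⟩ :=
          exact_lift C n (n+1) (n+1+1) rfl rfl (hC _ (Nat.succ_pos n)) _ hy'
        have h2 : (π3 ≫ π ≫ s - u ≫ πC.f n) ≫ C''.d n (n+1) = 0 := by
          rw [Preadditive.sub_comp, Category.assoc, Category.assoc, Category.assoc, hst,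
            πC.comm, ← reassoc_of% hu, Preadditive.sub_comp, Category.assoc, Category.assoc,
            wC, comp_zero, sub_zero, sub_self]
        have h3 := cyc_apply n (n+1) rfl φ hφ2 _ h2
        rw [Preadditive.sub_comp, sub_eq_zero] at h3
        simp only [Category.assoc] at h3
        have hu' : u ≫ C.d n (n+1) ≫ f.f (n+1) ≫ πI.f (n+1)
            = π3 ≫ π ≫ t ≫ f.f (n+1) ≫ πI.f (n+1) := by
          rw [← reassoc_of% hu, Preadditive.sub_comp, Category.assoc, Category.assoc, kill,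
            sub_zero]
        rw [← cancel_epi π, ← cancel_epi π3, h3, reassoc_of% hφ1, πI.comm, f.comm_assoc, hu'])
      exact ⟨ψ, hψ1, hψ2, cyc_succ n (n+1) (n+1+1) rfl rfl (hC'' _ (Nat.succ_pos n)) φ ψ hψ1⟩)
  refine ⟨f'', ?_, by rw [hf0, hφ0b]⟩
  ext n
  exact (hf'' n).1

theorem main (C' C C'' I' I I'' : CochainComplex V ℕ)
    (jC : C' ⟶ C) (πC : C ⟶ C'') (jI : I' ⟶ I) (πI : I ⟶ I'')
    (mC : ∀ n, Mono (jC.f n)) (wC : ∀ n, jC.f n ≫ πC.f n = 0)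
    (exC : ∀ n, (ShortComplex.mk (jC.f n) (πC.f n) (wC n)).Exact)
    (wI : ∀ n, jI.f n ≫ πI.f n = 0)
    (hC' : ∀ n, 0 < n → C'.ExactAt n) (hC : ∀ n, 0 < n → C.ExactAt n)
    (hC'' : ∀ n, 0 < n → C''.ExactAt n)
    (injI' : ∀ n, Injective (I'.X n)) (injI : ∀ n, Injective (I.X n))
    (injI'' : ∀ n, Injective (I''.X n))
    (g' : C'.homology 0 ⟶ I'.homology 0) (g : C.homology 0 ⟶ I.homology 0)
    (g'' : C''.homology 0 ⟶ I''.homology 0)
    (hg1 : HomologicalComplex.homologyMap jC 0 ≫ g = g' ≫ HomologicalComplex.homologyMap jI 0)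
    (hg2 : HomologicalComplex.homologyMap πC 0 ≫ g'' = g ≫ HomologicalComplex.homologyMap πI 0) :
    ∃ (f' : C' ⟶ I') (f : C ⟶ I) (f'' : C'' ⟶ I''),
      jC ≫ f = f' ≫ jI ∧ πC ≫ f'' = f ≫ πI ∧
      HomologicalComplex.homologyMap f' 0 = g' ∧ HomologicalComplex.homologyMap f 0 = g ∧
      HomologicalComplex.homologyMap f'' 0 = g'' := by
  obtain ⟨f', hf'⟩ := lemA C' I' hC' injI' g'
  obtain ⟨f, hf1, hf2⟩ := lemB C' C I' I jC jI mC hC' hC injI g' g hg1 f' hf'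
  obtain ⟨f'', hf''1, hf''2⟩ := lemC C' C C'' I' I I'' jC πC jI πI mC wC exC wI hC' hC hC''
    injI'' g g'' hg2 f' f hf1 hf2
  exact ⟨f', f, f'', hf1, hf''1, (homologyMap_eq_iff _ _).2 hf', (homologyMap_eq_iff _ _).2 hf2,
    (homologyMap_eq_iff _ _).2 hf''2⟩

end Groth.Agent.Lib.helper2.InjLadder
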