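import Mathlib
import Groth.Prelude.Def_SGA6

/-!
# The resolution theorem for `K₀` (helper2)
-/

set_option autoImplicit false
set_option linter.unusedSectionVars false

namespace Groth.Agent.Lib.helper2.K0Res

open CategoryTheory CategoryTheory.Limits

universe v u

variable {C : Type u} [Category.{v} C] [Abelian C]

section Basic

variable (P : ObjectProperty C)

lemma clSub_add (S : ShortComplex C) (hS : S.ShortExact) (h₁ : P S.X₁) (h₂ : P S.X₂)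
    (h₃ : P S.X₃) : KZero.clSub P S.X₂ = KZero.clSub P S.X₁ + KZero.clSub P S.X₃ := by
  have h0 : (QuotientAddGroup.mk (FreeAbelianGroup.of ⟨S.X₂, h₂⟩ -
      FreeAbelianGroup.of ⟨S.X₁, h₁⟩ - FreeAbelianGroup.of ⟨S.X₃, h₃⟩) : KZero.K0sub P) = 0 :=
    (QuotientAddGroup.eq_zero_iff _).2
      (AddSubgroup.subset_closure ⟨S, h₁, h₂, h₃, hS, rfl⟩)
  rw [QuotientAddGroup.mk_sub, QuotientAddGroup.mk_sub, sub_sub, sub_eq_zero] at h0
  simp only [KZero.clSub, dif_pos h₁, dif_pos h₂, dif_pos h₃]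
  exact h0

lemma shortExact_kernel {L A : C} (p : L ⟶ A) [Epi p] :
    (ShortComplex.mk (kernel.ι p) p (kernel.condition p)).ShortExact where
  exact := ShortComplex.exact_of_f_is_kernel _ (kernelIsKernel p)
  mono_f := inferInstanceAs (Mono (kernel.ι p))
  epi_g := inferInstanceAs (Epi p)

end Basic

/-- the hypotheses on the pair `P₀ ≤ P₁` -/
structure Hyp (P₀ P₁ : ObjectProperty C) : Prop where
  hle : ∀ X, P₀ X → P₁ X
  hext₀ : ∀ S : ShortComplex C, S.ShortExact → P₀ S.X₁ → P₀ S.X₃ → P₀ S.X₂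
  hext₁ : ∀ S : ShortComplex C, S.ShortExact → P₁ S.X₁ → P₁ S.X₃ → P₁ S.X₂
  h1₀ : ∀ S : ShortComplex C, S.ShortExact → P₀ S.X₂ → P₀ S.X₃ → P₀ S.X₁
  h1₁ : ∀ S : ShortComplex C, S.ShortExact → P₁ S.X₂ → P₁ S.X₃ → P₁ S.X₁
  h2 : ∀ (A B D : C) (u : A ⟶ B) (v : D ⟶ B), Epi u → P₁ A → P₁ B → P₁ D →
      ∃ (L : C) (u' : L ⟶ D) (v' : L ⟶ A), P₀ L ∧ Epi u' ∧ u' ≫ v = v' ≫ u

variable {P₀ P₁ : ObjectProperty C}

/-- a one-step resolution of `A` -/
structure Step (P₀ : ObjectProperty C) (A : C) where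
  L : C
  K : C
  i : K ⟶ L
  p : L ⟶ A
  w : i ≫ p = 0
  se : (ShortComplex.mk i p w).ShortExact
  hL : P₀ L

namespace Step

variable {A : C}

instance (s : Step P₀ A) : Mono s.i := s.se.mono_f
instance (s : Step P₀ A) : Epi s.p := s.se.epi_g

lemma hK (H : Hyp P₀ P₁) (s : Step P₀ A) (hA : P₁ A) : P₁ s.K :=
  H.h1₁ _ s.se (H.hle _ s.hL) hA

/-- the step attached to an epimorphism from an object of `P₀` -/
noncomputable def ofEpi {L : C} (p : L ⟶ A) [Epi p] (hL : P₀ L) : Step P₀ A where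
  L := L
  K := kernel p
  i := kernel.ι p
  p := p
  w := kernel.condition p
  se := shortExact_kernel p
  hL := hL

/-- lifting to the kernel -/
noncomputable def lift (s : Step P₀ A) {T : C} (x : T ⟶ s.L) (hx : x ≫ s.p = 0) : T ⟶ s.K :=
  s.se.fIsKernel.lift (KernelFork.ofι x hx)

@[reassoc (attr := simp)]
lemma lift_i (s : Step P₀ A) {T : C} (x : T ⟶ s.L) (hx : x ≫ s.p = 0) :
    s.lift x hx ≫ s.i = x :=
  s.se.fIsKernel.fac (KernelFork.ofι x hx) WalkingParallelPair.zero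

end Step

lemma exists_step (H : Hyp P₀ P₁) {A : C} (hA : P₁ A) : Nonempty (Step P₀ A) := by
  obtain ⟨L, u', _, hL, hu', _⟩ := H.h2 A A A (𝟙 A) (𝟙 A) inferInstance hA hA hA
  exact ⟨Step.ofEpi u' hL⟩

/-- an infinite resolution of `A` by objects of `P₀`, presented by its syzygies -/
structure Chain (P₀ : ObjectProperty C) (A : C) where
  K : ℕ → C
  L : ℕ → C
  i : ∀ n, K (n + 1) ⟶ L n
  p : ∀ n, L n ⟶ K n
  w : ∀ n, i n ≫ p n = 0
  se : ∀ n, (ShortComplex.mk (i n) (p n) (w n)).ShortExact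
  hL : ∀ n, P₀ (L n)
  e : K 0 ≅ A

section ChainOf

variable (H : Hyp P₀ P₁)

/-- a chosen step -/
noncomputable def stepOf (X : {X : C // P₁ X}) : Step P₀ X.1 := (exists_step H X.2).some

/-- the next syzygy -/
noncomputable def nxt (X : {X : C // P₁ X}) : {X : C // P₁ X} :=
  ⟨(stepOf H X).K, (stepOf H X).hK H X.2⟩

/-- the iterated syzygies -/
noncomputable def iter (X₀ : {X : C // P₁ X}) : ℕ → {X : C // P₁ X}
  | 0 => X₀
  | n + 1 => nxt H (iter X₀ n)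

/-- a chosen chain -/
noncomputable def chainOf {A : C} (hA : P₁ A) : Chain P₀ A where
  K n := (iter H ⟨A, hA⟩ n).1
  L n := (stepOf H (iter H ⟨A, hA⟩ n)).L
  i n := (stepOf H (iter H ⟨A, hA⟩ n)).i
  p n := (stepOf H (iter H ⟨A, hA⟩ n)).p
  w n := (stepOf H (iter H ⟨A, hA⟩ n)).w
  se n := (stepOf H (iter H ⟨A, hA⟩ n)).se
  hL n := (stepOf H (iter H ⟨A, hA⟩ n)).hL
  e := Iso.refl _

end ChainOf

/-- prepending an object to a sequence -/
def consSeq (A : C) (K : ℕ → C) : ℕ → C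
  | 0 => A
  | n + 1 => K n

lemma se_cons_zero {A : C} (s : Step P₀ A) {K₀ : C} (e : K₀ ≅ s.K) :
    (ShortComplex.mk (e.hom ≫ s.i) s.p (by simp [s.w])).ShortExact := by
  let S₁ : ShortComplex C := ShortComplex.mk s.i s.p s.w
  let S₂ : ShortComplex C := ShortComplex.mk (e.hom ≫ s.i) s.p (by simp [s.w])
  have eS : S₁ ≅ S₂ := ShortComplex.isoMk e.symm (Iso.refl _) (Iso.refl _)
    (by simp [S₁, S₂]) (by simp [S₁, S₂])
  exact ShortComplex.shortExact_of_iso eS s.se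

/-- the inclusions of the prepended chain -/
noncomputable def consI {A : C} (s : Step P₀ A) (ch : Chain P₀ s.K) :
    ∀ n, consSeq A ch.K (n + 1) ⟶ consSeq s.L ch.L n
  | 0 => (ch.e.hom ≫ s.i : ch.K 0 ⟶ s.L)
  | m + 1 => ch.i m

/-- the projections of the prepended chain -/
noncomputable def consP {A : C} (s : Step P₀ A) (ch : Chain P₀ s.K) :
    ∀ n, consSeq s.L ch.L n ⟶ consSeq A ch.K n
  | 0 => s.p
  | m + 1 => ch.p m

lemma consW {A : C} (s : Step P₀ A) (ch : Chain P₀ s.K) :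
    ∀ n, consI s ch n ≫ consP s ch n = 0
  | 0 => by
    change (ch.e.hom ≫ s.i) ≫ s.p = 0
    rw [Category.assoc, s.w, comp_zero]
  | m + 1 => ch.w m

lemma consSE {A : C} (s : Step P₀ A) (ch : Chain P₀ s.K) :
    ∀ n, (ShortComplex.mk (consI s ch n) (consP s ch n) (consW s ch n)).ShortExact
  | 0 => se_cons_zero s ch.e
  | m + 1 => ch.se m

lemma consHL {A : C} (s : Step P₀ A) (ch : Chain P₀ s.K) :
    ∀ n, P₀ (consSeq s.L ch.L n)
  | 0 => s.hL
  | m + 1 => ch.hL m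

/-- prepending a step to a chain -/
noncomputable def Chain.cons {A : C} (s : Step P₀ A) (ch : Chain P₀ s.K) : Chain P₀ A where
  K := consSeq A ch.K
  L := consSeq s.L ch.L
  i := consI s ch
  p := consP s ch
  w := consW s ch
  se := consSE s ch
  hL := consHL s ch
  e := Iso.refl _

lemma Chain.cons_K_succ {A : C} (s : Step P₀ A) (ch : Chain P₀ s.K) (n : ℕ) :
    (Chain.cons s ch).K (n + 1) = ch.K n := rfl

/-- `A` has `P₀`-dimension at most `n` -/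
def D (P₀ P₁ : ObjectProperty C) (n : ℕ) (A : C) : Prop :=
  P₁ A ∧ ∀ ch : Chain P₀ A, P₀ (ch.K n)

section DLemmas

variable [P₀.IsClosedUnderIsomorphisms] (H : Hyp P₀ P₁)
include H

lemma D_of_P₀ {A : C} (hA : P₀ A) (n : ℕ) : D P₀ P₁ n A := by
  refine ⟨H.hle _ hA, fun ch => ?_⟩
  induction n with
  | zero => exact P₀.prop_of_iso ch.e.symm hA
  | succ n ih => exact H.h1₀ _ (ch.se n) (ch.hL n) ih

lemma D_succ {A : C} {n : ℕ} (h : D P₀ P₁ n A) : D P₀ P₁ (n + 1) A :=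
  ⟨h.1, fun ch => H.h1₀ _ (ch.se n) (ch.hL n) (h.2 ch)⟩

lemma D_mono {A : C} {n m : ℕ} (hnm : n ≤ m) (h : D P₀ P₁ n A) : D P₀ P₁ m A := by
  induction m, hnm using Nat.le_induction with
  | base => exact h
  | succ m _ ih => exact D_succ H ih

lemma D_step {A : C} {n : ℕ} (h : D P₀ P₁ (n + 1) A) (s : Step P₀ A) : D P₀ P₁ n s.K :=
  ⟨s.hK H h.1, fun ch => by
    have := h.2 (Chain.cons s ch)
    rwa [Chain.cons_K_succ] at this⟩

lemma P₀_of_D_zero {A : C} (h : D P₀ P₁ 0 A) : P₀ A :=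
  P₀.prop_of_iso (chainOf H h.1).e (h.2 (chainOf H h.1))

end DLemmas

section Complex

variable {A : C} (ch : Chain P₀ A)

instance (n : ℕ) : Mono (ch.i n) := (ch.se n).mono_f
instance (n : ℕ) : Epi (ch.p n) := (ch.se n).epi_g

/-- the differential of the resolution -/
noncomputable def Chain.d (n : ℕ) : ch.L (n + 1) ⟶ ch.L n := ch.p (n + 1) ≫ ch.i n

lemma Chain.d_comp_d (n : ℕ) : ch.d (n + 1) ≫ ch.d n = 0 := by
  simp only [Chain.d, Category.assoc]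
  rw [reassoc_of% (ch.w (n + 1)), zero_comp, comp_zero]

/-- the resolution as a chain complex -/
noncomputable def Chain.cx : ChainComplex C ℕ := ChainComplex.of ch.L ch.d ch.d_comp_d

lemma Chain.cx_d (n : ℕ) : ch.cx.d (n + 1) n = ch.d n := ChainComplex.of_d _ _ _

lemma Chain.exact_aux (n : ℕ) :
    (ShortComplex.mk (ch.d (n + 1)) (ch.d n) (ch.d_comp_d n)).Exact := by
  let Sb : ShortComplex C := ShortComplex.mk (ch.i (n + 1)) (ch.p (n + 1)) (ch.w (n + 1))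
  let Sa : ShortComplex C := ShortComplex.mk (ch.p (n + 2) ≫ ch.i (n + 1)) (ch.p (n + 1))
    (by rw [Category.assoc, ch.w, comp_zero])
  let Sc : ShortComplex C := ShortComplex.mk (ch.d (n + 1)) (ch.d n) (ch.d_comp_d n)
  let φ : Sa ⟶ Sb := ShortComplex.homMk (ch.p (n + 2)) (𝟙 _) (𝟙 _) (by simp [Sa, Sb])
    (by simp [Sa, Sb])
  let ψ : Sa ⟶ Sc := ShortComplex.homMk (𝟙 _) (𝟙 _) (ch.i n) (by simp [Sa, Sc, Chain.d])
    (by simp [Sa, Sc, Chain.d])
  have h1 : Epi φ.τ₁ := inferInstanceAs (Epi (ch.p (n + 2)))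
  have h2 : IsIso φ.τ₂ := inferInstanceAs (IsIso (𝟙 _))
  have h3 : Mono φ.τ₃ := inferInstanceAs (Mono (𝟙 _))
  have h4 : Epi ψ.τ₁ := inferInstanceAs (Epi (𝟙 _))
  have h5 : IsIso ψ.τ₂ := inferInstanceAs (IsIso (𝟙 _))
  have h6 : Mono ψ.τ₃ := inferInstanceAs (Mono (ch.i n))
  have ha : Sa.Exact := (ShortComplex.exact_iff_of_epi_of_isIso_of_mono φ).2 (ch.se (n + 1)).exact
  exact (ShortComplex.exact_iff_of_epi_of_isIso_of_mono ψ).1 ha

lemma Chain.cx_exactAt (n : ℕ) : ch.cx.ExactAt (n + 1) := by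
  rw [HomologicalComplex.exactAt_iff' ch.cx (n + 2) (n + 1) n (by simp) (by simp)]
  refine ShortComplex.exact_of_iso ?_ (ch.exact_aux n)
  exact ShortComplex.isoMk (Iso.refl _) (Iso.refl _) (Iso.refl _)
    (by
      simp only [Iso.refl_hom]
      exact (Category.id_comp _).trans ((ch.cx_d (n + 1)).trans (Category.comp_id _).symm))
    (by
      simp only [Iso.refl_hom]
      exact (Category.id_comp _).trans ((ch.cx_d n).trans (Category.comp_id _).symm))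

lemma Chain.cx_homology_zero : Nonempty (ch.cx.homology 0 ≅ A) := by
  have h1 := ch.cx.opcyclesIsCokernel 1 0 (by simp)
  have h2 := (ch.se 0).gIsCokernel
  have h3 := isCokernelEpiComp h2 (ch.p 1) (h := ch.cx.d 1 0) (by rw [ch.cx_d 0]; rfl)
  exact ⟨ch.cx.isoHomologyι₀ ≪≫ (h1.coconePointUniqueUpToIso h3) ≪≫ ch.e⟩

lemma Chain.cx_cycles (n : ℕ) : Nonempty (ch.cx.cycles (n + 1) ≅ ch.K (n + 2)) := by
  have h1 := ch.cx.cyclesIsKernel (n + 1) n (by simp)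
  have h2 := (ch.se (n + 1)).fIsKernel
  have h3 := isKernelCompMono h2 (ch.i n) (h := ch.cx.d (n + 1) n) (by rw [ch.cx_d n]; rfl)
  exact ⟨h1.conePointUniqueUpToIso h3⟩

end Complex

section H3

variable [P₀.IsClosedUnderIsomorphisms]

lemma D_of_h3 {A : C} (hA : P₁ A) (d : ℕ)
    (h3 : ∀ L : ChainComplex C ℕ, (∀ i, P₀ (L.X i)) → (∀ i, 1 ≤ i → L.ExactAt i) →
      Nonempty (L.homology 0 ≅ A) → P₀ (L.cycles (d + 1))) : D P₀ P₁ (d + 2) A := by
  refine ⟨hA, fun ch => ?_⟩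
  obtain ⟨e⟩ := ch.cx_cycles d
  refine P₀.prop_of_iso e (h3 ch.cx (fun i => ch.hL i) (fun i hi => ?_) ch.cx_homology_zero)
  obtain ⟨j, rfl⟩ : ∃ j, i = j + 1 := ⟨i - 1, by omega⟩
  exact ch.cx_exactAt j

end H3

section SES

variable {A : C}

/-- comparing two steps along an epimorphism of their middle terms -/
lemma cmpSES (s s'' : Step P₀ A) (q : s''.L ⟶ s.L) [Epi q] (hq : q ≫ s.p = s''.p) :
    ∃ (ν : kernel q ⟶ s''.K) (κ : s''.K ⟶ s.K) (w : ν ≫ κ = 0),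
      (ShortComplex.mk ν κ w).ShortExact := by
  let ν : kernel q ⟶ s''.K := s''.lift (kernel.ι q) (by
    rw [← hq, kernel.condition_assoc, zero_comp])
  let κ : s''.K ⟶ s.K := s.lift (s''.i ≫ q) (by rw [Category.assoc, hq, s''.w])
  have hν : ν ≫ s''.i = kernel.ι q := s''.lift_i _ _
  have hκ : κ ≫ s.i = s''.i ≫ q := s.lift_i _ _
  have w : ν ≫ κ = 0 := by
    rw [← cancel_mono s.i, Category.assoc, hκ, reassoc_of% hν, kernel.condition, zero_comp]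
  refine ⟨ν, κ, w, ?_⟩
  have hm : Mono ν := mono_of_mono_fac hν
  have he : Epi κ := by
    rw [epi_iff_surjective_up_to_refinements]
    intro T y
    obtain ⟨T', π, hπ, z, hz⟩ := surjective_up_to_refinements_of_epi q (y ≫ s.i)
    have hz0 : z ≫ s''.p = 0 := by
      rw [← hq, ← reassoc_of% hz, s.w, comp_zero, comp_zero]
    refine ⟨T', π, hπ, s''.lift z hz0, ?_⟩
    rw [← cancel_mono s.i, Category.assoc, Category.assoc, hκ, Step.lift_i_assoc, hz]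
  refine ⟨?_⟩
  rw [ShortComplex.exact_iff_exact_up_to_refinements]
  intro T x₂ hx₂
  dsimp at x₂ hx₂
  have h0 : (x₂ ≫ s''.i) ≫ q = 0 := by
    rw [Category.assoc, ← hκ, reassoc_of% hx₂, zero_comp]
  refine ⟨T, 𝟙 T, inferInstance, kernel.lift q (x₂ ≫ s''.i) h0, ?_⟩
  dsimp
  rw [Category.id_comp, ← cancel_mono s''.i, Category.assoc, hν, kernel.lift_ι]

/-- the horseshoe construction -/
lemma horseshoe [P₀.IsClosedUnderIsomorphisms] (H : Hyp P₀ P₁) (S : ShortComplex C)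
    (hS : S.ShortExact) (s' : Step P₀ S.X₁)
    {L₂ : C} (hL₂ : P₀ L₂) (p'' : L₂ ⟶ S.X₃) [Epi p''] (v' : L₂ ⟶ S.X₂) (hv : v' ≫ S.g = p'') :
    ∃ (s : Step P₀ S.X₂) (s'' : Step P₀ S.X₃) (α : s'.K ⟶ s.K) (β : s.K ⟶ s''.K)
      (w : α ≫ β = 0), (ShortComplex.mk α β w).ShortExact ∧
      KZero.clSub P₀ s.L = KZero.clSub P₀ s'.L + KZero.clSub P₀ s''.L := by
  have := hS.mono_f
  have := hS.epi_g
  have hsp := (ShortComplex.Splitting.ofHasBinaryBiproduct s'.L L₂).shortExact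
  have hL : P₀ (s'.L ⊞ L₂) := H.hext₀ _ hsp s'.hL hL₂
  let p : s'.L ⊞ L₂ ⟶ S.X₂ := biprod.desc (s'.p ≫ S.f) v'
  have hpg : p ≫ S.g = biprod.snd ≫ p'' := by
    apply biprod.hom_ext'
    · simp [p, S.zero]
    · simp [p, hv]
  have hp : Epi p := by
    rw [epi_iff_surjective_up_to_refinements]
    intro T x
    obtain ⟨T₁, π₁, hπ₁, z, hz⟩ := surjective_up_to_refinements_of_epi p'' (x ≫ S.g)
    have h1 : (π₁ ≫ x - z ≫ v') ≫ S.g = 0 := by
      rw [Preadditive.sub_comp, Category.assoc, Category.assoc, hv, hz, sub_self]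
    obtain ⟨T₂, π₂, hπ₂, w, hw⟩ := hS.exact.exact_up_to_refinements _ h1
    obtain ⟨T₃, π₃, hπ₃, t, ht⟩ := surjective_up_to_refinements_of_epi s'.p w
    refine ⟨T₃, π₃ ≫ π₂ ≫ π₁, inferInstance, biprod.lift t (π₃ ≫ π₂ ≫ z), ?_⟩
    simp only [p, biprod.lift_desc, Category.assoc]
    rw [← reassoc_of% ht, ← hw]
    simp only [Preadditive.comp_sub]
    abel
  let α : s'.K ⟶ kernel p := kernel.lift p (s'.i ≫ biprod.inl) (by
    simp only [p, Category.assoc, biprod.inl_desc]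
    rw [reassoc_of% s'.w, zero_comp])
  let β : kernel p ⟶ kernel p'' := kernel.lift p'' (kernel.ι p ≫ biprod.snd) (by
    rw [Category.assoc, ← hpg, kernel.condition_assoc, zero_comp])
  have hα : α ≫ kernel.ι p = s'.i ≫ biprod.inl := kernel.lift_ι _ _ _
  have hβ : β ≫ kernel.ι p'' = kernel.ι p ≫ biprod.snd := kernel.lift_ι _ _ _
  have w : α ≫ β = 0 := by
    rw [← cancel_mono (kernel.ι p''), Category.assoc, hβ, reassoc_of% hα, biprod.inl_snd,
      comp_zero, zero_comp]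
  have hm : Mono α := by
    have : Mono (s'.i ≫ (biprod.inl : s'.L ⟶ s'.L ⊞ L₂)) := mono_comp _ _
    exact mono_of_mono_fac hα
  have he : Epi β := by
    rw [epi_iff_surjective_up_to_refinements]
    intro T k''
    have h1 : ((k'' ≫ kernel.ι p'') ≫ v') ≫ S.g = 0 := by
      rw [Category.assoc, hv, Category.assoc, kernel.condition, comp_zero]
    obtain ⟨T₁, π₁, hπ₁, w₁, hw₁⟩ := hS.exact.exact_up_to_refinements _ h1
    obtain ⟨T₂, π₂, hπ₂, t, ht⟩ := surjective_up_to_refinements_of_epi s'.p w₁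
    let el : T₂ ⟶ s'.L ⊞ L₂ := biprod.lift (-t) (π₂ ≫ π₁ ≫ k'' ≫ kernel.ι p'')
    have hel : el ≫ p = 0 := by
      simp only [el, p, biprod.lift_desc, Category.assoc, Preadditive.neg_comp]
      rw [← reassoc_of% ht, ← hw₁]
      simp only [Category.assoc]
      abel
    refine ⟨T₂, π₂ ≫ π₁, inferInstance, kernel.lift p el hel, ?_⟩
    rw [← cancel_mono (kernel.ι p''), Category.assoc, Category.assoc, Category.assoc, hβ,
      kernel.lift_ι_assoc]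
    simp [el]
  have hex : (ShortComplex.mk α β w).Exact := by
    rw [ShortComplex.exact_iff_exact_up_to_refinements]
    intro T k hk
    change T ⟶ kernel p at k
    change k ≫ β = 0 at hk
    have h1 : k ≫ kernel.ι p ≫ biprod.snd = 0 := by
      rw [← hβ, reassoc_of% hk, zero_comp]
    have h2 : k ≫ kernel.ι p = (k ≫ kernel.ι p ≫ biprod.fst) ≫ biprod.inl := by
      apply biprod.hom_ext
      · simp
      · simp [h1]
    have h3 : (k ≫ kernel.ι p ≫ biprod.fst) ≫ s'.p = 0 := by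
      rw [← cancel_mono S.f, zero_comp]
      have : k ≫ kernel.ι p ≫ p = 0 := by rw [kernel.condition, comp_zero]
      rw [← Category.assoc, h2] at this
      simpa [p] using this
    refine ⟨T, 𝟙 T, inferInstance, s'.lift _ h3, ?_⟩
    change 𝟙 T ≫ k = s'.lift _ h3 ≫ α
    rw [Category.id_comp, ← cancel_mono (kernel.ι p), Category.assoc, hα, Step.lift_i_assoc]
    exact h2
  have hSE : (ShortComplex.mk α β w).ShortExact := ⟨hex⟩
  exact ⟨Step.ofEpi p hL, Step.ofEpi p'' hL₂, α, β, w, hSE, clSub_add P₀ _ hsp s'.hL hL hL₂⟩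

end SES

section Rel

variable (P₀) in
/-- `x` is an `n`-step Euler characteristic of `A` -/
def R : ℕ → C → KZero.K0sub P₀ → Prop
  | 0 => fun A x => P₀ A ∧ x = KZero.clSub P₀ A
  | n + 1 => fun A x => ∃ (s : Step P₀ A) (y : KZero.K0sub P₀),
      R n s.K y ∧ x = KZero.clSub P₀ s.L - y

variable [P₀.IsClosedUnderIsomorphisms] (H : Hyp P₀ P₁)
include H

lemma exists_R {n : ℕ} {A : C} (h : D P₀ P₁ n A) : ∃ x, R P₀ n A x := by
  induction n generalizing A with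
  | zero => exact ⟨_, P₀_of_D_zero H h, rfl⟩
  | succ n ih =>
    obtain ⟨s⟩ := exists_step H h.1
    obtain ⟨y, hy⟩ := ih (D_step H h s)
    exact ⟨_, s, y, hy, rfl⟩

omit [P₀.IsClosedUnderIsomorphisms] in
lemma mapSub_clSub {X : C} (hX : P₀ X) :
    SGA6.mapSub (𝟭 C) P₀ P₁ H.hle (KZero.clSub P₀ X) = KZero.clSub P₁ X := by
  simp only [KZero.clSub, dif_pos hX, dif_pos (H.hle _ hX)]
  rfl

omit [P₀.IsClosedUnderIsomorphisms] in
lemma map_R {n : ℕ} {A : C} {x : KZero.K0sub P₀} (hA : P₁ A) (h : R P₀ n A x) :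
    SGA6.mapSub (𝟭 C) P₀ P₁ H.hle x = KZero.clSub P₁ A := by
  induction n generalizing A x with
  | zero =>
    obtain ⟨h0, rfl⟩ := h
    exact mapSub_clSub H h0
  | succ n ih =>
    obtain ⟨s, y, hy, rfl⟩ := h
    rw [map_sub, ih (s.hK H hA) hy, mapSub_clSub H s.hL,
      clSub_add P₁ _ s.se (s.hK H hA) (H.hle _ s.hL) hA]
    abel

omit [P₀.IsClosedUnderIsomorphisms] in
lemma R_succ {n : ℕ} {A : C} {x : KZero.K0sub P₀} (hA : P₁ A) (h : R P₀ n A x) :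
    R P₀ (n + 1) A x := by
  induction n generalizing A x with
  | zero =>
    obtain ⟨h0, rfl⟩ := h
    obtain ⟨s⟩ := exists_step H hA
    have hK : P₀ s.K := H.h1₀ _ s.se s.hL h0
    refine ⟨s, KZero.clSub P₀ s.K, ⟨hK, rfl⟩, ?_⟩
    rw [clSub_add P₀ _ s.se hK s.hL h0]
    abel
  | succ n ih =>
    obtain ⟨s, y, hy, rfl⟩ := h
    exact ⟨s, y, ih (s.hK H hA) hy, rfl⟩

omit [P₀.IsClosedUnderIsomorphisms] in
lemma R_mono {n m : ℕ} (hnm : n ≤ m) {A : C} {x : KZero.K0sub P₀} (hA : P₁ A)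
    (h : R P₀ n A x) : R P₀ m A x := by
  induction m, hnm using Nat.le_induction with
  | base => exact h
  | succ m _ ih => exact R_succ H hA ih

omit [P₀.IsClosedUnderIsomorphisms] in
lemma R_of_P₀ {N : C} (hN : P₀ N) (n : ℕ) : R P₀ n N (KZero.clSub P₀ N) :=
  R_mono H (Nat.zero_le n) (H.hle _ hN) ⟨hN, rfl⟩

end Rel

section Main

variable [P₀.IsClosedUnderIsomorphisms] (H : Hyp P₀ P₁)

/-- uniqueness of the `n`-step Euler characteristic -/
def U (P₀ P₁ : ObjectProperty C) (n : ℕ) : Prop :=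
  ∀ (A : C) (x x' : KZero.K0sub P₀), D P₀ P₁ n A → R P₀ n A x → R P₀ n A x' → x = x'

/-- additivity of the `n`-step Euler characteristic -/
def Ad (P₀ P₁ : ObjectProperty C) (n : ℕ) : Prop :=
  ∀ (S : ShortComplex C), S.ShortExact → D P₀ P₁ n S.X₁ → D P₀ P₁ n S.X₂ → D P₀ P₁ n S.X₃ →
    ∀ x₁ x₂ x₃ : KZero.K0sub P₀, R P₀ n S.X₁ x₁ → R P₀ n S.X₂ x₂ → R P₀ n S.X₃ x₃ →
      x₂ = x₁ + x₃

include H

lemma cmp {n : ℕ} (hAd : Ad P₀ P₁ n) {A : C} (hA : D P₀ P₁ (n + 1) A) (s s'' : Step P₀ A)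
    (q : s''.L ⟶ s.L) (hqe : Epi q) (hq : q ≫ s.p = s''.p) (y y'' : KZero.K0sub P₀)
    (hy : R P₀ n s.K y) (hy'' : R P₀ n s''.K y'') :
    KZero.clSub P₀ s''.L - y'' = KZero.clSub P₀ s.L - y := by
  obtain ⟨ν, κ, w, hse⟩ := cmpSES s s'' q hq
  have hN : P₀ (kernel q) := H.h1₀ _ (shortExact_kernel q) s''.hL s.hL
  have h1 := hAd _ hse (D_of_P₀ H hN n) (D_step H hA s'') (D_step H hA s) _ _ _
    (R_of_P₀ H hN n) hy'' hy
  have h2 := clSub_add P₀ _ (shortExact_kernel q) hN s''.hL s.hL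
  dsimp at h2
  rw [h1, h2]
  abel

lemma U_zero : U P₀ P₁ 0 := by
  rintro A x x' _ ⟨_, rfl⟩ ⟨_, rfl⟩
  rfl

lemma Ad_zero : Ad P₀ P₁ 0 := by
  rintro S hS _ _ _ x₁ x₂ x₃ ⟨h₁, rfl⟩ ⟨h₂, rfl⟩ ⟨h₃, rfl⟩
  exact clSub_add P₀ S hS h₁ h₂ h₃

lemma U_succ {n : ℕ} (hAd : Ad P₀ P₁ n) : U P₀ P₁ (n + 1) := by
  rintro A x x' hD ⟨s, y, hy, rfl⟩ ⟨s', y', hy', rfl⟩
  have hA := hD.1
  obtain ⟨La, ua, va, hLa, hua, hca⟩ := H.h2 s.L A s'.L s.p s'.p inferInstance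
    (H.hle _ s.hL) hA (H.hle _ s'.hL)
  obtain ⟨Lb, ub, vb, hLb, hub, hcb⟩ := H.h2 s'.L A s.L s'.p s.p inferInstance
    (H.hle _ s'.hL) hA (H.hle _ s.hL)
  have hsp := (ShortComplex.Splitting.ofHasBinaryBiproduct La Lb).shortExact
  have hL : P₀ (La ⊞ Lb) := H.hext₀ _ hsp hLa hLb
  let q : La ⊞ Lb ⟶ s.L := biprod.desc va ub
  let q' : La ⊞ Lb ⟶ s'.L := biprod.desc ua vb
  have hq : Epi q := epi_of_epi_fac (biprod.inr_desc va ub)
  have hq' : Epi q' := epi_of_epi_fac (biprod.inl_desc ua vb)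
  have hqq : q' ≫ s'.p = q ≫ s.p := by
    apply biprod.hom_ext'
    · simp [q, q', hca]
    · simp [q, q', hcb]
  have hp'' : Epi (q ≫ s.p) := epi_comp _ _
  let s'' : Step P₀ A := Step.ofEpi (q ≫ s.p) hL
  obtain ⟨y'', hy''⟩ := exists_R H (D_step H hD s'')
  have e1 := cmp H hAd hD s s'' q hq rfl y y'' hy hy''
  have e2 := cmp H hAd hD s' s'' q' hq' hqq y' y'' hy' hy''
  rw [← e1, e2]

lemma Ad_succ {n : ℕ} (hAd : Ad P₀ P₁ n) (hU : U P₀ P₁ (n + 1)) : Ad P₀ P₁ (n + 1) := by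
  intro S hS hD₁ hD₂ hD₃ x₁ x₂ x₃ hx₁ hx₂ hx₃
  have := hS.epi_g
  obtain ⟨s'⟩ := exists_step H hD₁.1
  obtain ⟨sM⟩ := exists_step H hD₃.1
  obtain ⟨L₂, u', v', hL₂, hu', hc⟩ := H.h2 S.X₂ S.X₃ sM.L S.g sM.p inferInstance hD₂.1 hD₃.1
    (H.hle _ sM.hL)
  have hp'' : Epi (u' ≫ sM.p) := epi_comp _ _
  obtain ⟨s, s'', α, β, w, hSE, hcl⟩ := horseshoe H S hS s' hL₂ (u' ≫ sM.p) v' hc.symm
  obtain ⟨y', hy'⟩ := exists_R H (D_step H hD₁ s')
  obtain ⟨y, hy⟩ := exists_R H (D_step H hD₂ s)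
  obtain ⟨y'', hy''⟩ := exists_R H (D_step H hD₃ s'')
  have h1 := hAd _ hSE (D_step H hD₁ s') (D_step H hD₂ s) (D_step H hD₃ s'') _ _ _ hy' hy hy''
  have e₁ := hU _ _ _ hD₁ hx₁ ⟨s', y', hy', rfl⟩
  have e₂ := hU _ _ _ hD₂ hx₂ ⟨s, y, hy, rfl⟩
  have e₃ := hU _ _ _ hD₃ hx₃ ⟨s'', y'', hy'', rfl⟩
  rw [e₁, e₂, e₃, hcl, h1]
  abel

theorem UA (n : ℕ) : U P₀ P₁ n ∧ Ad P₀ P₁ n := by
  induction n with
  | zero => exact ⟨U_zero H, Ad_zero H⟩
  | succ n ih =>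
    have hU := U_succ H ih.2
    exact ⟨hU, Ad_succ H ih.2 hU⟩

end Main

section Final

variable [P₀.IsClosedUnderIsomorphisms] (H : Hyp P₀ P₁)
  (h3 : ∀ A : C, P₁ A → ∃ d : ℕ, ∀ L : ChainComplex C ℕ, (∀ i, P₀ (L.X i)) →
    (∀ i, 1 ≤ i → L.ExactAt i) → Nonempty (L.homology 0 ≅ A) → P₀ (L.cycles (d + 1)))

/-- `x` is the Euler characteristic of `A` -/
def E (P₀ P₁ : ObjectProperty C) (A : C) (x : KZero.K0sub P₀) : Prop :=
  ∃ n, D P₀ P₁ n A ∧ R P₀ n A x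

include H

lemma E_unique {A : C} {x x' : KZero.K0sub P₀} (h : E P₀ P₁ A x) (h' : E P₀ P₁ A x') :
    x = x' := by
  obtain ⟨n, hD, hR⟩ := h
  obtain ⟨n', hD', hR'⟩ := h'
  exact (UA H (max n n')).1 A x x' (D_mono H (le_max_left _ _) hD)
    (R_mono H (le_max_left _ _) hD.1 hR) (R_mono H (le_max_right _ _) hD.1 hR')

lemma E_add (S : ShortComplex C) (hS : S.ShortExact) {x₁ x₂ x₃ : KZero.K0sub P₀}
    (h₁ : E P₀ P₁ S.X₁ x₁) (h₂ : E P₀ P₁ S.X₂ x₂) (h₃ : E P₀ P₁ S.X₃ x₃) : x₂ = x₁ + x₃ := by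
  obtain ⟨n₁, hD₁, hR₁⟩ := h₁
  obtain ⟨n₂, hD₂, hR₂⟩ := h₂
  obtain ⟨n₃, hD₃, hR₃⟩ := h₃
  let N := max n₁ (max n₂ n₃)
  have l₁ : n₁ ≤ N := le_max_left _ _
  have l₂ : n₂ ≤ N := le_trans (le_max_left _ _) (le_max_right _ _)
  have l₃ : n₃ ≤ N := le_trans (le_max_right _ _) (le_max_right _ _)
  exact (UA H N).2 S hS (D_mono H l₁ hD₁) (D_mono H l₂ hD₂) (D_mono H l₃ hD₃) _ _ _
    (R_mono H l₁ hD₁.1 hR₁) (R_mono H l₂ hD₂.1 hR₂) (R_mono H l₃ hD₃.1 hR₃)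

lemma E_of_P₀ {A : C} (hA : P₀ A) : E P₀ P₁ A (KZero.clSub P₀ A) :=
  ⟨0, D_of_P₀ H hA 0, hA, rfl⟩

lemma map_E {A : C} {x : KZero.K0sub P₀} (h : E P₀ P₁ A x) :
    SGA6.mapSub (𝟭 C) P₀ P₁ H.hle x = KZero.clSub P₁ A := by
  obtain ⟨n, hD, hR⟩ := h
  exact map_R H hD.1 hR

include h3

lemma exists_E {A : C} (hA : P₁ A) : ∃ x, E P₀ P₁ A x := by
  obtain ⟨d, hd⟩ := h3 A hA
  have hD := D_of_h3 (P₀ := P₀) hA d hd
  obtain ⟨x, hx⟩ := exists_R H hD
  exact ⟨x, d + 2, hD, hx⟩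

/-- the inverse on generators -/
noncomputable def ψ₀ (X : Subtype P₁) : KZero.K0sub P₀ := (exists_E H h3 X.2).choose

lemma ψ₀_spec (X : Subtype P₁) : E P₀ P₁ X.1 (ψ₀ H h3 X) := (exists_E H h3 X.2).choose_spec

/-- the inverse map -/
noncomputable def ψ : KZero.K0sub P₁ →+ KZero.K0sub P₀ :=
  QuotientAddGroup.lift (KZero.relSub P₁) (FreeAbelianGroup.lift (ψ₀ H h3)) (by
    rw [KZero.relSub, AddSubgroup.closure_le]
    rintro x ⟨S, h₁, h₂, h₃, hS, rfl⟩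
    simp only [SetLike.mem_coe, AddMonoidHom.mem_ker, map_sub, FreeAbelianGroup.lift_apply_of]
    rw [E_add H S hS (ψ₀_spec H h3 ⟨_, h₁⟩) (ψ₀_spec H h3 ⟨_, h₂⟩) (ψ₀_spec H h3 ⟨_, h₃⟩)]
    abel)

lemma ψ_mk_of (X : Subtype P₁) :
    ψ H h3 (QuotientAddGroup.mk (FreeAbelianGroup.of X)) = ψ₀ H h3 X := by
  simp [ψ]

theorem bijective : Function.Bijective (SGA6.mapSub (𝟭 C) P₀ P₁ H.hle) := by
  have h1 : ∀ x, ψ H h3 (SGA6.mapSub (𝟭 C) P₀ P₁ H.hle x) = x := by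
    intro x
    induction x using QuotientAddGroup.induction_on with
    | H z =>
      induction z using FreeAbelianGroup.induction_on with
      | zero => simp
      | of X =>
        obtain ⟨A, hA⟩ := X
        have e1 : (QuotientAddGroup.mk (FreeAbelianGroup.of ⟨A, hA⟩) : KZero.K0sub P₀) =
            KZero.clSub P₀ A := by simp [KZero.clSub, dif_pos hA]
        rw [e1, mapSub_clSub H hA]
        simp only [KZero.clSub, dif_pos (H.hle _ hA)]
        rw [ψ_mk_of]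
        have := E_unique H (ψ₀_spec H h3 ⟨A, H.hle _ hA⟩) (E_of_P₀ H hA)
        rw [this]
        simp [KZero.clSub, dif_pos hA]
      | neg X ih =>
        rw [QuotientAddGroup.mk_neg, map_neg, map_neg, ih]
      | add a b ha hb =>
        rw [QuotientAddGroup.mk_add, map_add, map_add, ha, hb]
  have h2 : ∀ y, SGA6.mapSub (𝟭 C) P₀ P₁ H.hle (ψ H h3 y) = y := by
    intro y
    induction y using QuotientAddGroup.induction_on with
    | H z =>
      induction z using FreeAbelianGroup.induction_on with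
      | zero => simp
      | of X =>
        rw [ψ_mk_of, map_E H (ψ₀_spec H h3 X)]
        simp [KZero.clSub, dif_pos X.2]
      | neg X ih =>
        rw [QuotientAddGroup.mk_neg, map_neg, map_neg, ih]
      | add a b ha hb =>
        rw [QuotientAddGroup.mk_add, map_add, map_add, ha, hb]
  exact ⟨Function.LeftInverse.injective h1, Function.RightInverse.surjective h2⟩

end Final

end Groth.Agent.Lib.helper2.K0Res
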