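import Mathlib

/-!
# Sequential limits of K-injective complexes along termwise split epimorphisms (helper2)
-/

set_option autoImplicit false
set_option linter.unusedSectionVars false
set_option linter.style.haveILetI false

namespace Groth.Agent.Lib.helper2.KInjLim

open CategoryTheory CategoryTheory.Limits CochainComplex HomComplex Opposite

universe v u

variable {A : Type u} [Category.{v} A] [Abelian A]

/-- for `K` acyclic and `L` K-injective, every cocycle `K → L` of any degree is a coboundary -/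
lemma exists_cochain_of_cocycle {K L : CochainComplex A ℤ} [L.IsKInjective] (hK : K.Acyclic)
    (m n : ℤ) (hmn : m + 1 = n) (z : Cochain K L n) (hz : δ n (n + 1) z = 0) :
    ∃ g : Cochain K L m, δ m n g = z := by
  let z' : Cocycle K (L⟦n⟧) 0 := (Cocycle.mk z (n + 1) rfl hz).rightShift n 0 (zero_add n)
  let φ : K ⟶ L⟦n⟧ := Cocycle.homOf z'
  obtain ⟨ho⟩ := IsKInjective.nonempty_homotopy_zero φ hK
  obtain ⟨w, hw⟩ := Cochain.equivHomotopy φ 0 ho
  rw [Cochain.ofHom_zero, add_zero] at hw
  refine ⟨n.negOnePow • w.rightUnshift m (by lia), ?_⟩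
  rw [δ_units_smul, Cochain.δ_rightUnshift _ m _ n 0 (zero_add n), smul_smul,
    Int.units_mul_self, one_smul, ← hw]
  have h1 : Cochain.ofHom φ = z.rightShift n 0 (zero_add n) :=
    Cocycle.cochain_ofHom_homOf_eq_coe z'
  rw [h1, Cochain.rightUnshift_rightShift]

/-- lifting cochains along a termwise split epimorphism -/
lemma exists_lift_cochain {K L L' : CochainComplex A ℤ} (p : L' ⟶ L)
    (hp : ∀ m, IsSplitEpi (p.f m)) (n : ℤ) (g : Cochain K L n) :
    ∃ g' : Cochain K L' n, g'.comp (Cochain.ofHom p) (add_zero n) = g := by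
  haveI := hp
  refine ⟨Cochain.mk (fun a b hab => g.v a b hab ≫ section_ (p.f b)), ?_⟩
  ext a b hab
  simp [Cochain.comp_zero_cochain_v]

lemma step {K L L' : CochainComplex A ℤ} [L.IsKInjective] [L'.IsKInjective] (hK : K.Acyclic)
    (p : L' ⟶ L) (hp : ∀ m, IsSplitEpi (p.f m)) (f' : K ⟶ L') (h : Cochain K L (-1))
    (hh : δ (-1) 0 h = Cochain.ofHom (f' ≫ p)) :
    ∃ h' : Cochain K L' (-1), δ (-1) 0 h' = Cochain.ofHom f' ∧
      h'.comp (Cochain.ofHom p) (add_zero _) = h := by
  obtain ⟨h₀, hh₀⟩ := exists_cochain_of_cocycle hK (-1) 0 (by simp) (Cochain.ofHom f') (by simp)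
  let z : Cochain K L (-1) := h₀.comp (Cochain.ofHom p) (add_zero _) - h
  have hz : δ (-1) (-1 + 1) z = 0 := by
    change δ (-1) 0 z = 0
    dsimp only [z]
    rw [δ_sub, δ_comp_ofHom, hh₀, hh, Cochain.ofHom_comp, sub_self]
  obtain ⟨g, hg⟩ := exists_cochain_of_cocycle hK (-2) (-1) (by simp) z hz
  obtain ⟨g', hg'⟩ := exists_lift_cochain p hp (-2) g
  refine ⟨h₀ - δ (-2) (-1) g', ?_, ?_⟩
  · rw [δ_sub, δ_δ, sub_zero, hh₀]
  · rw [Cochain.sub_comp, ← δ_comp_ofHom, hg', hg]
    dsimp only [z]
    abel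

section Limit

variable [HasLimitsOfShape ℕᵒᵖ A] (I : ℕᵒᵖ ⥤ CochainComplex A ℤ)

/-- the transition maps -/
abbrev p (k : ℕ) : I.obj (op (k + 1)) ⟶ I.obj (op k) := I.map (homOfLE (Nat.le_succ k)).op

lemma exists_cochain_limit {K : CochainComplex A ℤ} (n : ℤ)
    (h : ∀ k : ℕ, Cochain K (I.obj (op k)) n)
    (hcompat : ∀ k, (h (k + 1)).comp (Cochain.ofHom (p I k)) (add_zero n) = h k) :
    ∃ H : Cochain K (limit I) n,
      ∀ k, H.comp (Cochain.ofHom (limit.π I (op k))) (add_zero n) = h k := by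
  have hcompat' : ∀ (k k' : ℕ) (hk : k' ≤ k) (a b : ℤ) (hab : a + n = b),
      (h k).v a b hab ≫ (I.map (homOfLE hk).op).f b = (h k').v a b hab := by
    intro k k' hk a b hab
    induction k, hk using Nat.le_induction with
    | base =>
      have : (homOfLE (le_refl k')).op = 𝟙 (op k') := rfl
      rw [this, I.map_id]
      simp
    | succ k hk ih =>
      have h1 : (homOfLE (le_trans hk (Nat.le_succ k))).op =
          (homOfLE (Nat.le_succ k)).op ≫ (homOfLE hk).op := rfl
      rw [show (homOfLE (Nat.le_succ_of_le hk)).op = _ from h1, I.map_comp,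
        HomologicalComplex.comp_f, ← Category.assoc]
      have h2 := Cochain.congr_v (hcompat k) a b hab
      rw [Cochain.comp_zero_cochain_v, Cochain.ofHom_v] at h2
      rw [h2, ih]
  let c : ∀ (a b : ℤ) (hab : a + n = b),
      Cone (I ⋙ HomologicalComplex.eval A (ComplexShape.up ℤ) b) := fun a b hab =>
    { pt := K.X a
      π :=
        { app := fun k => (h k.unop).v a b hab
          naturality := by
            intro k k' φ
            dsimp
            rw [Category.id_comp]
            have : φ = (homOfLE (leOfHom φ.unop)).op := rfl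
            rw [this]
            exact (hcompat' k.unop k'.unop (leOfHom φ.unop) a b hab).symm } }
  refine ⟨Cochain.mk (fun a b hab =>
    (isLimitOfPreserves (HomologicalComplex.eval A (ComplexShape.up ℤ) b)
      (limit.isLimit I)).lift (c a b hab)), fun k => ?_⟩
  ext a b hab
  rw [Cochain.comp_zero_cochain_v, Cochain.ofHom_v, Cochain.mk_v]
  exact (isLimitOfPreserves (HomologicalComplex.eval A (ComplexShape.up ℤ) b)
      (limit.isLimit I)).fac (c a b hab) (op k)

lemma cochain_limit_ext {K : CochainComplex A ℤ} (n : ℤ) (H H' : Cochain K (limit I) n)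
    (h : ∀ k : ℕ, H.comp (Cochain.ofHom (limit.π I (op k))) (add_zero n) =
      H'.comp (Cochain.ofHom (limit.π I (op k))) (add_zero n)) : H = H' := by
  ext a b hab
  apply (isLimitOfPreserves (HomologicalComplex.eval A (ComplexShape.up ℤ) b)
      (limit.isLimit I)).hom_ext
  intro k
  have := Cochain.congr_v (h k.unop) a b hab
  rw [Cochain.comp_zero_cochain_v, Cochain.comp_zero_cochain_v, Cochain.ofHom_v] at this
  exact this

variable (h1 : ∀ n : ℕ, (I.obj (op n)).IsKInjective)
  (h2 : ∀ (n : ℕ) (m : ℤ), IsSplitEpi ((p I n).f m))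
  {K : CochainComplex A ℤ} (hK : K.Acyclic) (f : K ⟶ limit I)

/-- a null-homotopy (as a cochain) of the `n`-th component of `f` -/
def NH (n : ℕ) : Type v :=
  { h : Cochain K (I.obj (op n)) (-1) // δ (-1) 0 h = Cochain.ofHom (f ≫ limit.π I (op n)) }

include h1 hK in
lemma exists_base : Nonempty (NH I f 0) := by
  haveI := h1 0
  obtain ⟨h₀, hh₀⟩ := exists_cochain_of_cocycle hK (-1) 0 (by simp)
    (Cochain.ofHom (f ≫ limit.π I (op 0))) (by simp)
  exact ⟨⟨h₀, hh₀⟩⟩

include h1 h2 hK in
lemma exists_succ (n : ℕ) (x : NH I f n) :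
    ∃ y : NH I f (n + 1), y.1.comp (Cochain.ofHom (p I n)) (add_zero _) = x.1 := by
  haveI := h1 n
  haveI := h1 (n + 1)
  obtain ⟨h', hh', hc⟩ := step hK (p I n) (h2 n) (f ≫ limit.π I (op (n + 1))) x.1 (by
    rw [x.2, Category.assoc, limit.w])
  exact ⟨⟨h', hh'⟩, hc⟩

/-- a compatible sequence of null-homotopies -/
noncomputable def seq : ∀ n : ℕ, NH I f n
  | 0 => (exists_base I h1 hK f).some
  | n + 1 => (exists_succ I h1 h2 hK f n (seq n)).choose

lemma seq_succ (n : ℕ) :
    (seq I h1 h2 hK f (n + 1)).1.comp (Cochain.ofHom (p I n)) (add_zero _) =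
      (seq I h1 h2 hK f n).1 :=
  (exists_succ I h1 h2 hK f n (seq I h1 h2 hK f n)).choose_spec

include h1 h2 in
theorem main : (limit I).IsKInjective where
  nonempty_homotopy_zero {K} f hK := by
    obtain ⟨H, hH⟩ := exists_cochain_limit I (-1) (fun k => (seq I h1 h2 hK f k).1)
      (seq_succ I h1 h2 hK f)
    have h3 : δ (-1) 0 H = Cochain.ofHom f := by
      apply cochain_limit_ext
      intro k
      rw [← δ_comp_ofHom, hH k, (seq I h1 h2 hK f k).2, Cochain.ofHom_comp]
    exact ⟨(Cochain.equivHomotopy f 0).symm ⟨H, by rw [h3, Cochain.ofHom_zero, add_zero]⟩⟩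

end Limit

end Groth.Agent.Lib.helper2.KInjLim
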