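import Mathlib
import Groth.Prelude.Def_KZero2

/-!
# `K₀` of a pretriangulated category: basic relations and the Eilenberg swindle
-/

namespace Groth.Agent.Lib.helper2.KZeroTri

open CategoryTheory Limits Pretriangulated ZeroObject

universe v u

variable {C : Type u} [Category.{v} C] [Preadditive C] [HasZeroObject C] [HasShift C ℤ]
  [∀ n : ℤ, (shiftFunctor C n).Additive] [Pretriangulated C]

lemma clTri_add (T : Triangle C) (hT : T ∈ distTriang C) :
    KZero.clTri T.obj₂ = KZero.clTri T.obj₁ + KZero.clTri T.obj₃ := by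
  have h0 : (QuotientAddGroup.mk (FreeAbelianGroup.of ⟨T.obj₂, trivial⟩ -
      FreeAbelianGroup.of ⟨T.obj₁, trivial⟩ - FreeAbelianGroup.of ⟨T.obj₃, trivial⟩) :
      KZero.K0tri C) = 0 :=
    (QuotientAddGroup.eq_zero_iff _).2
      (AddSubgroup.subset_closure ⟨T, trivial, trivial, trivial, hT, rfl⟩)
  rw [QuotientAddGroup.mk_sub, QuotientAddGroup.mk_sub, sub_sub, sub_eq_zero] at h0
  exact h0

lemma clTri_zero : KZero.clTri (0 : C) = 0 := by
  have := clTri_add _ (contractible_distinguished (0 : C))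
  change KZero.clTri (0 : C) = KZero.clTri (0 : C) + KZero.clTri (0 : C) at this
  exact add_eq_left.mp this.symm

lemma clTri_of_iso {X Y : C} (e : X ≅ Y) : KZero.clTri Y = KZero.clTri X := by
  let T : Triangle C := Triangle.mk e.hom (0 : Y ⟶ 0) (0 : (0 : C) ⟶ X⟦(1 : ℤ)⟧)
  have hT : T ∈ distTriang C := by
    refine isomorphic_distinguished _ (contractible_distinguished X) _
      (Triangle.isoMk _ _ (Iso.refl _) e.symm (Iso.refl _) ?_ ?_ ?_)
    · change e.hom ≫ e.inv = 𝟙 X ≫ 𝟙 X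
      rw [e.hom_inv_id, Category.comp_id]
    · exact (isZero_zero C).eq_of_tgt _ _
    · exact (isZero_zero C).eq_of_src _ _
  have := clTri_add T hT
  change KZero.clTri Y = KZero.clTri X + KZero.clTri (0 : C) at this
  rw [this, clTri_zero, add_zero]

lemma clTri_shift_one (X : C) : KZero.clTri (X⟦(1 : ℤ)⟧) = - KZero.clTri X := by
  have hT := rot_of_distTriang _ (contractible_distinguished X)
  have := clTri_add _ hT
  change KZero.clTri (0 : C) = KZero.clTri X + KZero.clTri (X⟦(1 : ℤ)⟧) at this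
  rw [clTri_zero] at this
  exact (neg_eq_of_add_eq_zero_right this.symm).symm

lemma clTri_biprod (X Y : C) : KZero.clTri (X ⊞ Y) = KZero.clTri X + KZero.clTri Y :=
  clTri_add _ (binaryBiproductTriangle_distinguished X Y)

lemma clTri_shift_succ (X : C) (k : ℤ) :
    KZero.clTri (X⟦k + 1⟧) = - KZero.clTri (X⟦k⟧) := by
  rw [clTri_of_iso ((shiftFunctorAdd' C k 1 (k + 1) rfl).app X).symm]
  exact clTri_shift_one (X⟦k⟧)

lemma clTri_shift_add_two (X : C) (k : ℤ) :
    KZero.clTri (X⟦k + 2⟧) = KZero.clTri (X⟦k⟧) := by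
  have h : k + 2 = (k + 1) + 1 := by ring
  have e : X⟦k + 2⟧ ≅ X⟦(k + 1) + 1⟧ := eqToIso (by rw [h])
  rw [clTri_of_iso e.symm, clTri_shift_succ, clTri_shift_succ, neg_neg]

lemma clTri_shift_two_mul (X : C) (n : ℤ) : KZero.clTri (X⟦2 * n⟧) = KZero.clTri X := by
  induction n using Int.induction_on with
  | zero =>
    have e : X⟦2 * (0 : ℤ)⟧ ≅ X := eqToIso (by rw [mul_zero]) ≪≫ (shiftFunctorZero C ℤ).app X
    exact clTri_of_iso e.symm
  | succ n ih =>
    have e : X⟦2 * ((n : ℤ) + 1)⟧ ≅ X⟦2 * (n : ℤ) + 2⟧ := eqToIso (by rw [mul_add, mul_one])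
    rw [clTri_of_iso e.symm, clTri_shift_add_two, ih]
  | pred n ih =>
    have e : X⟦2 * (-(n : ℤ))⟧ ≅ X⟦2 * (-(n : ℤ) - 1) + 2⟧ := eqToIso (by
      have : 2 * (-(n : ℤ) - 1) + 2 = 2 * (-(n : ℤ)) := by ring
      rw [this])
    have h := clTri_shift_add_two X (2 * (-(n : ℤ) - 1))
    rw [← h, clTri_of_iso e]
    exact ih

/-- Eilenberg swindle -/
theorem clTri_eq_zero_of_hasCoproduct (L : C) (n : ℤ)
    [HasCoproduct (fun i : ℕ => (shiftFunctor C (2 * n * (i : ℤ))).obj L)] :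
    KZero.clTri L = 0 := by
  let f : ℕ → C := fun i => (shiftFunctor C (2 * n * (i : ℤ))).obj L
  let M : C := ∐ f
  let M' : C := M⟦2 * n⟧
  have hc' : IsColimit ((shiftFunctor C (2 * n)).mapCocone (colimit.cocone (Discrete.functor f))) :=
    isColimitOfPreserves _ (colimit.isColimit _)
  let θ : ∀ j : ℕ, f (j + 1) ≅ (f j)⟦2 * n⟧ := fun j =>
    (shiftFunctorAdd' C (2 * n * (j : ℤ)) (2 * n) (2 * n * ((j + 1 : ℕ) : ℤ))
      (by push_cast; ring)).app L
  let ι' : ∀ j : ℕ, (f j)⟦2 * n⟧ ⟶ M' := fun j => (Sigma.ι f j)⟦2 * n⟧'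
  let a : ∀ i : ℕ, f i ⟶ f 0 ⊞ M' := fun i =>
    match i with
    | 0 => biprod.inl
    | (j + 1) => (θ j).hom ≫ ι' j ≫ biprod.inr
  let α : M ⟶ f 0 ⊞ M' := Sigma.desc a
  let s : Cocone (Discrete.functor f ⋙ shiftFunctor C (2 * n)) :=
    Cocone.mk M (Discrete.natTrans fun ⟨j⟩ => (θ j).inv ≫ Sigma.ι f (j + 1))
  let γ : M' ⟶ M := hc'.desc s
  have hγ : ∀ j, ι' j ≫ γ = (θ j).inv ≫ Sigma.ι f (j + 1) := fun j => hc'.fac s ⟨j⟩
  let β : f 0 ⊞ M' ⟶ M := biprod.desc (Sigma.ι f 0) γ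
  have hαβ : α ≫ β = 𝟙 M := by
    apply Sigma.hom_ext
    intro i
    rw [Sigma.ι_desc_assoc, Category.comp_id]
    cases i with
    | zero => exact biprod.inl_desc _ _
    | succ j =>
      change ((θ j).hom ≫ ι' j ≫ biprod.inr) ≫ β = _
      rw [Category.assoc, Category.assoc, biprod.inr_desc, hγ, Iso.hom_inv_id_assoc]
  have hβα : β ≫ α = 𝟙 _ := by
    apply biprod.hom_ext'
    · rw [biprod.inl_desc_assoc, Category.comp_id]
      exact Sigma.ι_desc a 0
    · rw [biprod.inr_desc_assoc, Category.comp_id]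
      apply hc'.hom_ext
      rintro ⟨j⟩
      change ι' j ≫ γ ≫ α = ι' j ≫ biprod.inr
      rw [← Category.assoc, hγ, Category.assoc, Sigma.ι_desc]
      change (θ j).inv ≫ (θ j).hom ≫ ι' j ≫ biprod.inr = _
      rw [Iso.inv_hom_id_assoc]
  let e : M ≅ f 0 ⊞ M' := ⟨α, β, hαβ, hβα⟩
  have h1 : KZero.clTri M = KZero.clTri (f 0) + KZero.clTri M' := by
    rw [clTri_of_iso e.symm, clTri_biprod]
  have h2 : KZero.clTri M' = KZero.clTri M := clTri_shift_two_mul M n
  have h3 : KZero.clTri (f 0) = KZero.clTri L := by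
    have e0 : f 0 ≅ L := eqToIso (by simp [f]) ≪≫ (shiftFunctorZero C ℤ).app L
    exact clTri_of_iso e0.symm
  rw [h2, h3] at h1
  exact (add_eq_right.mp h1.symm)

end Groth.Agent.Lib.helper2.KZeroTri
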