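import Mathlib

/-!
# Recognition of right Kan extensions computed on "resolutions" (helper2)
-/

set_option autoImplicit false
set_option linter.unusedSectionVars false

namespace Groth.Agent.Lib.helper2.KanRecog

open CategoryTheory CategoryTheory.Limits CategoryTheory.Functor

variable {C D E : Type*} [Category C] [Category D] [Category E]
  (L : C ⥤ D) (F : C ⥤ E) (G : D ⥤ E) (α : L ⋙ G ⟶ F)
  (Pr : C → Prop)
  (ha : ∀ P, Pr P → ∀ c, Function.Bijective (fun f : P ⟶ c => L.map f))
  (hb : ∀ d : D, ∃ P, Pr P ∧ Nonempty (L.obj P ≅ d))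
  (hc : ∀ P, Pr P → IsIso (α.app P))

section

variable {L F G Pr}

/-- chosen resolution -/
noncomputable def res (d : D) : C := (hb d).choose

include hb in
lemma res_mem (d : D) : Pr (res hb d) := (hb d).choose_spec.1

/-- chosen iso -/
noncomputable def resIso (d : D) : L.obj (res hb d) ≅ d := (hb d).choose_spec.2.some

variable {H : D ⥤ E} (γ : L ⋙ H ⟶ F)

include ha hc in
/-- the lift -/
noncomputable def lift : H ⟶ G where
  app d :=
    have := hc _ (res_mem hb d)
    H.map (resIso hb d).inv ≫ γ.app (res hb d) ≫ inv (α.app (res hb d)) ≫ G.map (resIso hb d).hom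
  naturality d d' g := by
    have := hc _ (res_mem hb d)
    have := hc _ (res_mem hb d')
    obtain ⟨p, hp⟩ := (ha _ (res_mem hb d) (res hb d')).surjective
      ((resIso hb d).hom ≫ g ≫ (resIso hb d').inv)
    dsimp only at hp
    have h1 : g ≫ (resIso hb d').inv = (resIso hb d).inv ≫ L.map p := by
      rw [hp, Iso.inv_hom_id_assoc]
    have h2 : L.map p ≫ (resIso hb d').hom = (resIso hb d).hom ≫ g := by
      rw [hp, Category.assoc, Category.assoc, Iso.inv_hom_id, Category.comp_id]
    have nγ := γ.naturality p
    have nα := α.naturality p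
    dsimp at nγ nα
    have h3 : F.map p ≫ inv (α.app (res hb d')) = inv (α.app (res hb d)) ≫ G.map (L.map p) := by
      rw [IsIso.eq_inv_comp, ← reassoc_of% nα, IsIso.hom_inv_id, Category.comp_id]
    calc H.map g ≫ H.map (resIso hb d').inv ≫ γ.app (res hb d') ≫ inv (α.app (res hb d')) ≫
          G.map (resIso hb d').hom
        = H.map (resIso hb d).inv ≫ (H.map (L.map p) ≫ γ.app (res hb d')) ≫
          inv (α.app (res hb d')) ≫ G.map (resIso hb d').hom := by
          rw [← H.map_comp_assoc, h1, H.map_comp]
          simp only [Category.assoc]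
      _ = H.map (resIso hb d).inv ≫ γ.app (res hb d) ≫ (F.map p ≫
          inv (α.app (res hb d'))) ≫ G.map (resIso hb d').hom := by
          rw [nγ]
          simp only [Category.assoc]
      _ = H.map (resIso hb d).inv ≫ γ.app (res hb d) ≫ inv (α.app (res hb d)) ≫
          G.map (L.map p ≫ (resIso hb d').hom) := by
          rw [h3, G.map_comp]
          simp only [Category.assoc]
      _ = (H.map (resIso hb d).inv ≫ γ.app (res hb d) ≫ inv (α.app (res hb d)) ≫
          G.map (resIso hb d).hom) ≫ G.map g := by
          rw [h2, G.map_comp]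
          simp only [Category.assoc]

include ha hc in
lemma lift_fac (c : C) : (lift α ha hb hc γ).app (L.obj c) ≫ α.app c = γ.app c := by
  have := hc _ (res_mem hb (L.obj c))
  obtain ⟨q, hq⟩ := (ha _ (res_mem hb (L.obj c)) c).surjective (resIso hb (L.obj c)).hom
  dsimp only at hq
  have nγ := γ.naturality q
  have nα := α.naturality q
  dsimp at nγ nα
  dsimp only [lift]
  rw [← hq]
  simp only [Category.assoc]
  rw [nα, IsIso.inv_hom_id_assoc, ← nγ, ← H.map_comp_assoc, hq, Iso.inv_hom_id, H.map_id,
    Category.id_comp]

include ha hc in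
lemma lift_uniq (τ : H ⟶ G) (hτ : ∀ c, τ.app (L.obj c) ≫ α.app c = γ.app c) :
    τ = lift α ha hb hc γ := by
  ext d
  have := hc _ (res_mem hb d)
  have h1 : τ.app (L.obj (res hb d)) = γ.app (res hb d) ≫ inv (α.app (res hb d)) := by
    rw [IsIso.eq_comp_inv, hτ]
  have h2 := τ.naturality (resIso hb d).hom
  dsimp only [lift]
  rw [← reassoc_of% h1, ← h2, ← H.map_comp_assoc, Iso.inv_hom_id, H.map_id, Category.id_comp]

end

include ha hb hc in
/-- recognition principle for right Kan extensions along a functor with enough "projectives" -/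
theorem isRightKanExtension : G.IsRightKanExtension α :=
  ⟨⟨IsTerminal.ofUniqueHom
    (fun Y => CostructuredArrow.homMk (lift α ha hb hc Y.hom) (by
      ext c
      exact lift_fac α ha hb hc Y.hom c))
    (fun Y m => by
      apply CostructuredArrow.hom_ext
      apply lift_uniq α ha hb hc Y.hom m.left
      intro c
      have := congr_app m.w c
      simp at this
      exact this)⟩⟩

end Groth.Agent.Lib.helper2.KanRecog
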