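import Mathlib
import Groth.Agent.Lib.helper2.DerCoprod

set_option autoImplicit false
set_option linter.unusedSectionVars false

namespace Groth.Agent.Lib.helper2.KillHom

open CategoryTheory CategoryTheory.Limits HomologicalComplex CochainComplex
open Groth.Agent.Lib.helper2.DerCoprod ZeroObject

universe v u t

variable {A : Type u} [Category.{v} A] [Abelian A]

section

variable {J : Type t} [HasColimitsOfShape (Discrete J) A] [HasExactColimitsOfShape (Discrete J) A]

lemma isZero_homology_sig (K : J → CochainComplex A ℤ)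
    (hK : ∀ j (n : ℤ), IsZero ((K j).homology n)) (n : ℤ) : IsZero ((sig K).homology n) := by
  let Z0 : CochainComplex A ℤ := (HomologicalComplex.single A (ComplexShape.up ℤ) 0).obj 0
  have hZ00 : IsZero Z0 :=
    (HomologicalComplex.single A (ComplexShape.up ℤ) 0).map_isZero (isZero_zero _)
  let Z : J → CochainComplex A ℤ := fun _ => Z0
  have hZ0 : ∀ m : ℤ, IsZero (Z0.homology m) := fun m =>
    (HomologicalComplex.homologyFunctor A (ComplexShape.up ℤ) m).map_isZero hZ00
  have hq : ∀ j, QuasiIso (0 : K j ⟶ Z j) := by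
    intro j
    rw [quasiIso_iff]
    intro m
    rw [quasiIsoAt_iff_isIso_homologyMap]
    exact ⟨0, (hK j m).eq_of_src _ _, (hZ0 m).eq_of_src _ _⟩
  have hq' : QuasiIso (sigMap (fun j => (0 : K j ⟶ Z j))) := inferInstance
  have hZ : IsZero (sig Z) := by
    rw [IsZero.iff_id_eq_zero]
    apply sig_hom_ext
    intro j
    exact hZ00.eq_of_src _ _
  have hZn : IsZero ((sig Z).homology n) :=
    (HomologicalComplex.homologyFunctor A (ComplexShape.up ℤ) n).map_isZero hZ
  have := (quasiIso_iff _).1 hq' n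
  rw [quasiIsoAt_iff_isIso_homologyMap] at this
  exact hZn.of_iso (asIso (homologyMap (sigMap (fun j => (0 : K j ⟶ Z j))) n))

end

lemma quasiIso_inr_of_acyclic {K L : CochainComplex A ℤ} (φ : K ⟶ L)
    (hK : ∀ n : ℤ, IsZero (K.homology n)) : QuasiIso (mappingCone.inr φ) := by
  change HomologicalComplex.quasiIso A (ComplexShape.up ℤ) (mappingCone.inr φ)
  rw [← HomotopyCategory.quotient_map_mem_quasiIso_iff,
    HomotopyCategory.quasiIso_eq_trW_subcategoryAcyclic, ObjectProperty.trW_iff']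
  refine ⟨_, _, _, HomotopyCategory.mappingCone_triangleh_distinguished φ, ?_⟩
  rw [HomotopyCategory.quotient_obj_mem_subcategoryAcyclic_iff_exactAt]
  intro n
  rw [exactAt_iff_isZero_homology]
  exact hK n

section Functor

variable [IsGrothendieckAbelian.{v} A] {ι : Type v} (K : ι → CochainComplex A ℤ)

/-- the index type: all maps from the members of the family to `M` -/
abbrev Idx (M : CochainComplex A ℤ) : Type v := Σ i : ι, (K i ⟶ M)

abbrev famM (M : CochainComplex A ℤ) : Idx K M → CochainComplex A ℤ := fun p => K p.1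

noncomputable def S (M : CochainComplex A ℤ) : CochainComplex A ℤ := sig (famM K M)

noncomputable def inc (M : CochainComplex A ℤ) (i : ι) (w : K i ⟶ M) : K i ⟶ S K M :=
  sigι (famM K M) ⟨i, w⟩

lemma S_hom_ext {M L : CochainComplex A ℤ} (f g : S K M ⟶ L)
    (h : ∀ i w, inc K M i w ≫ f = inc K M i w ≫ g) : f = g :=
  sig_hom_ext f g (fun p => h p.1 p.2)

noncomputable def ev (M : CochainComplex A ℤ) : S K M ⟶ M :=
  sigDesc (K := famM K M) (fun p => p.2)

@[reassoc (attr := simp)]
lemma inc_ev (M : CochainComplex A ℤ) (i : ι) (w : K i ⟶ M) : inc K M i w ≫ ev K M = w :=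
  sigι_sigDesc (K := famM K M) (fun p => p.2) ⟨i, w⟩

noncomputable def σ {M M' : CochainComplex A ℤ} (f : M ⟶ M') : S K M ⟶ S K M' :=
  sigDesc (K := famM K M) (fun p => inc K M' p.1 (p.2 ≫ f))

@[reassoc (attr := simp)]
lemma inc_σ {M M' : CochainComplex A ℤ} (f : M ⟶ M') (i : ι) (w : K i ⟶ M) :
    inc K M i w ≫ σ K f = inc K M' i (w ≫ f) :=
  sigι_sigDesc (K := famM K M) (fun p => inc K M' p.1 (p.2 ≫ f)) ⟨i, w⟩

lemma σ_ev {M M' : CochainComplex A ℤ} (f : M ⟶ M') : σ K f ≫ ev K M' = ev K M ≫ f := by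
  apply S_hom_ext
  intro i w
  simp

lemma σ_id (M : CochainComplex A ℤ) : σ K (𝟙 M) = 𝟙 _ := by
  apply S_hom_ext
  intro i w
  simp

lemma σ_comp {M M' M'' : CochainComplex A ℤ} (f : M ⟶ M') (g : M' ⟶ M'') :
    σ K (f ≫ g) = σ K f ≫ σ K g := by
  apply S_hom_ext
  intro i w
  simp

lemma cone_map_congr {K₁ L₁ K₂ L₂ : CochainComplex A ℤ} (φ₁ : K₁ ⟶ L₁) (φ₂ : K₂ ⟶ L₂)
    (a a' : K₁ ⟶ K₂) (b b' : L₁ ⟶ L₂) (comm : φ₁ ≫ b = a ≫ φ₂) (ha : a = a') (hb : b = b') :
    mappingCone.map φ₁ φ₂ a b comm = mappingCone.map φ₁ φ₂ a' b' (by rw [← ha, ← hb, comm]) := by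
  subst ha hb
  rfl

/-- the functor -/
noncomputable def N : CochainComplex A ℤ ⥤ CochainComplex A ℤ where
  obj M := mappingCone (ev K M)
  map {M M'} f := mappingCone.map (ev K M) (ev K M') (σ K f) f (σ_ev K f).symm
  map_id M := by
    rw [cone_map_congr (ev K M) (ev K M) (σ K (𝟙 M)) (𝟙 _) (𝟙 M) (𝟙 M) _ (σ_id K M) rfl]
    exact mappingCone.map_id _
  map_comp {M M' M''} f g := by
    rw [cone_map_congr (ev K M) (ev K M'') (σ K (f ≫ g)) (σ K f ≫ σ K g) (f ≫ g) (f ≫ g) _
      (σ_comp K f g) rfl]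
    exact mappingCone.map_comp _ _ _ _ _ _ _ _ _

/-- the natural transformation -/
noncomputable def j : 𝟭 (CochainComplex A ℤ) ⟶ N K where
  app M := mappingCone.inr (ev K M)
  naturality {M M'} f := by
    have := (mappingCone.triangleMap (ev K M) (ev K M') (σ K f) f (σ_ev K f).symm).comm₂
    exact this.symm

theorem main (hK : ∀ i (n : ℤ), Limits.IsZero ((K i).homology n)) (M : CochainComplex A ℤ) :
    (∀ n : ℤ, Mono (((j K).app M).f n)) ∧ QuasiIso ((j K).app M) ∧
        ∀ (i : ι) (w : K i ⟶ M), Nonempty (Homotopy (w ≫ (j K).app M) 0) := by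
  refine ⟨?_, ?_, ?_⟩
  · intro n
    have h : (mappingCone.inr (ev K M)).f n ≫ (mappingCone.snd (ev K M)).v n n (add_zero n) =
        𝟙 _ := mappingCone.inr_f_snd_v _ _
    have : Mono ((mappingCone.inr (ev K M)).f n ≫
        (mappingCone.snd (ev K M)).v n n (add_zero n)) := by rw [h]; infer_instance
    exact mono_of_mono ((mappingCone.inr (ev K M)).f n)
      ((mappingCone.snd (ev K M)).v n n (add_zero n))
  · exact quasiIso_inr_of_acyclic _ (isZero_homology_sig _ (fun p n => hK p.1 n))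
  · intro i w
    have H : Homotopy (ev K M ≫ mappingCone.inr (ev K M)) 0 :=
      homotopyCofiber.inrCompHomotopy (ev K M) (fun j => ⟨j - 1, by simp⟩)
    refine ⟨(Homotopy.ofEq ?_).trans ((H.compLeft (inc K M i w)).trans (Homotopy.ofEq ?_))⟩
    · change w ≫ mappingCone.inr (ev K M) = _
      rw [← Category.assoc, inc_ev]
    · simp
      rfl

end Functor

end Groth.Agent.Lib.helper2.KillHom
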