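import Mathlib
import Groth.Prelude.Def_DRing2
import Groth.Agent.Lib.helper2.ConeRep
import Groth.Agent.Lib.helper2.ProjAmp

set_option autoImplicit false
set_option linter.unusedSectionVars false

namespace Groth.Agent.Lib.helper2.Lefschetz

open CategoryTheory CategoryTheory.Limits DerivedCategory DRing

universe u

attribute [local instance] HasDerivedCategory.standard

variable {Λ : Type u} [CommRing Λ]

lemma tele (S : ℤ → Λ) (a : ℤ) (n : ℕ) :
    ∑ i ∈ Finset.Icc a (a + n), (S i - S (i - 1)) = S (a + n) - S (a - 1) := by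
  induction n with
  | zero => simp
  | succ n ih =>
    have : Finset.Icc a (a + ((n + 1 : ℕ) : ℤ)) = insert (a + n + 1) (Finset.Icc a (a + n)) := by
      ext x
      simp only [Finset.mem_Icc, Finset.mem_insert, Nat.cast_add, Nat.cast_one]
      omega
    rw [this, Finset.sum_insert (by simp), ih]
    push_cast
    ring_nf

/-- the Lefschetz number of an endomorphism of a complex -/
noncomputable def lef (a b : ℤ) (P : Cx Λ) (φ : P ⟶ P) : Λ :=
  ∑ i ∈ Finset.Icc a b, ((i.negOnePow : ℤˣ) : ℤ) • LinearMap.trace Λ (P.X i) (φ.f i).hom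

lemma lef_comm (a b : ℤ) (P Q : Cx Λ) (hPf : TermwiseFiniteFree P) (hQf : TermwiseFiniteFree Q)
    (u : P ⟶ Q) (v : Q ⟶ P) : lef a b P (u ≫ v) = lef a b Q (v ≫ u) := by
  apply Finset.sum_congr rfl
  intro i _
  have := (hPf i).1
  have := (hPf i).2
  have := (hQf i).1
  have := (hQf i).2
  congr 1
  rw [HomologicalComplex.comp_f, HomologicalComplex.comp_f, ModuleCat.hom_comp, ModuleCat.hom_comp]
  exact LinearMap.trace_comp_comm' _ _

lemma lef_eq_of_homotopy (a b : ℤ) (P : Cx Λ) (hP : VanishesOutside P a b)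
    (hPf : TermwiseFiniteFree P) {φ ψ : P ⟶ P} (h : Homotopy φ ψ) :
    lef a b P φ = lef a b P ψ := by
  by_cases hab : a ≤ b
  swap
  · simp [lef, Finset.Icc_eq_empty hab]
  let T : ℤ → Λ := fun i => LinearMap.trace Λ (P.X i) (P.d i (i + 1) ≫ h.hom (i + 1) i).hom
  have hT : ∀ i, LinearMap.trace Λ (P.X i) (φ.f i).hom =
      T i + T (i - 1) + LinearMap.trace Λ (P.X i) (ψ.f i).hom := by
    intro i
    have := (hPf i).1
    have := (hPf i).2
    have := (hPf (i - 1)).1
    have := (hPf (i - 1)).2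
    have hc := h.comm i
    rw [dNext_eq _ (show (ComplexShape.up ℤ).Rel i (i + 1) by simp),
      prevD_eq _ (show (ComplexShape.up ℤ).Rel (i - 1) i by simp)] at hc
    rw [hc, ModuleCat.hom_add, ModuleCat.hom_add, map_add, map_add]
    congr 2
    rw [ModuleCat.hom_comp]
    have h2 : T (i - 1) = LinearMap.trace Λ (P.X (i - 1))
        ((h.hom i (i - 1)).hom ∘ₗ (P.d (i - 1) i).hom) := by
      simp only [T]
      have e : i - 1 + 1 = i := by ring
      rw [e, ModuleCat.hom_comp]
    rw [h2]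
    exact LinearMap.trace_comp_comm' _ _
  have hTb : T b = 0 := by
    have : P.d b (b + 1) = 0 := (hP (b + 1) (Or.inr (by lia))).eq_of_tgt _ _
    simp [T, this]
  have hTa : T (a - 1) = 0 := by
    have : P.d (a - 1) (a - 1 + 1) = 0 := (hP (a - 1) (Or.inl (by lia))).eq_of_src _ _
    simp [T, this]
  have key : ∑ i ∈ Finset.Icc a b, ((i.negOnePow : ℤˣ) : ℤ) • (T i + T (i - 1)) = 0 := by
    let S : ℤ → Λ := fun i => ((i.negOnePow : ℤˣ) : ℤ) • T i
    have hS : ∀ i, ((i.negOnePow : ℤˣ) : ℤ) • (T i + T (i - 1)) = S i - S (i - 1) := by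
      intro i
      simp only [S]
      rw [Int.negOnePow_sub, Int.negOnePow_one, smul_add]
      simp
    obtain ⟨n, rfl⟩ : ∃ n : ℕ, b = a + n := ⟨(b - a).toNat, by lia⟩
    rw [Finset.sum_congr rfl (fun i _ => hS i), tele]
    simp [S, hTb, hTa]
  unfold lef
  rw [Finset.sum_congr rfl (fun i _ => by rw [hT i])]
  simp only [smul_add, Finset.sum_add_distrib]
  rw [← Finset.sum_add_distrib]
  simp only [← smul_add]
  rw [key, zero_add]

end Groth.Agent.Lib.helper2.Lefschetz
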