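import Mathlib
import Groth.Agent.Lib.helper2.ProjAmp
import Groth.Agent.Lib.helper2.ConeRep

set_option autoImplicit false
set_option linter.unusedSectionVars false

namespace Groth.Agent.Lib.helper2.LiftProj

open CategoryTheory CategoryTheory.Limits CategoryTheory.Pretriangulated DerivedCategory
  HomologicalComplex

universe w v u

variable {A : Type u} [Category.{v} A] [Abelian A] [HasDerivedCategory.{w} A]

/-- translation of `homologyMap` conditions to the derived category -/
lemma isIso_homologyFunctor_map_Q_iff {E L : CochainComplex A ℤ} (α : E ⟶ L) (i : ℤ) :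
    IsIso ((DerivedCategory.homologyFunctor A i).map (Q.map α)) ↔
      IsIso (HomologicalComplex.homologyMap α i) := by
  have h := NatIso.isIso_map_iff (DerivedCategory.homologyFunctorFactors A i) α
  exact h

lemma epi_homologyFunctor_map_Q_iff {E L : CochainComplex A ℤ} (α : E ⟶ L) (i : ℤ) :
    Epi ((DerivedCategory.homologyFunctor A i).map (Q.map α)) ↔
      Epi (HomologicalComplex.homologyMap α i) := by
  have h := (MorphismProperty.epimorphisms A).arrow_mk_iso_iff
    (Arrow.isoMk ((DerivedCategory.homologyFunctorFactors A i).app E)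
      ((DerivedCategory.homologyFunctorFactors A i).app L)
      ((DerivedCategory.homologyFunctorFactors A i).hom.naturality α).symm)
  exact h

lemma mono_homologyFunctor_map_Q_iff {E L : CochainComplex A ℤ} (α : E ⟶ L) (i : ℤ) :
    Mono ((DerivedCategory.homologyFunctor A i).map (Q.map α)) ↔
      Mono (HomologicalComplex.homologyMap α i) := by
  have h := (MorphismProperty.monomorphisms A).arrow_mk_iso_iff
    (Arrow.isoMk ((DerivedCategory.homologyFunctorFactors A i).app E)
      ((DerivedCategory.homologyFunctorFactors A i).app L)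
      ((DerivedCategory.homologyFunctorFactors A i).hom.naturality α).symm)
  exact h

/-- the cone of a morphism in `D(A)` which is an iso on `H^i` for `i > n` and epi on `H^n`
is `≤ n - 1` -/
lemma isLE_cone {X Y Z : DerivedCategory A} (f : X ⟶ Y) (g : Y ⟶ Z) (h : Z ⟶ X⟦(1 : ℤ)⟧)
    (hT : Triangle.mk f g h ∈ distTriang _) (n : ℤ)
    (hiso : ∀ i : ℤ, n < i → IsIso ((DerivedCategory.homologyFunctor A i).map f))
    (hepi : Epi ((DerivedCategory.homologyFunctor A n).map f)) : Z.IsLE (n - 1) := by
  let F := DerivedCategory.homologyFunctor A 0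
  rw [DerivedCategory.isLE_iff]
  intro i hi
  have ha : (DerivedCategory.homologyFunctor A i).map g = 0 := by
    apply (F.homologySequence_epi_shift_map_mor₁_iff _ hT i).1
    by_cases h : i = n
    · subst h; exact hepi
    · have := hiso i (by lia)
      change Epi ((DerivedCategory.homologyFunctor A i).map f)
      infer_instance
  have hb : F.homologySequenceδ (Triangle.mk f g h) i (i + 1) rfl = 0 := by
    apply (F.homologySequence_mono_shift_map_mor₁_iff _ hT i (i + 1) rfl).1
    have := hiso (i + 1) (by lia)
    change Mono ((DerivedCategory.homologyFunctor A (i + 1)).map f)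
    infer_instance
  exact (F.homologySequence_exact₃ _ hT i (i + 1) rfl).isZero_of_both_zeros ha hb

/-- S6606 in the derived category: lifting maps from bounded projective complexes. -/
theorem exists_lift (P : CochainComplex A ℤ) (n b : ℤ) [P.IsStrictlyGE n] [P.IsStrictlyLE b]
    (hP : ∀ i : ℤ, Projective (P.X i)) {X Y : DerivedCategory A} (f : X ⟶ Y)
    (hiso : ∀ i : ℤ, n < i → IsIso ((DerivedCategory.homologyFunctor A i).map f))
    (hepi : Epi ((DerivedCategory.homologyFunctor A n).map f)) (β : Q.obj P ⟶ Y) :
    ∃ γ : Q.obj P ⟶ X, γ ≫ f = β := by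
  obtain ⟨Z, g, h, hT⟩ := distinguished_cocone_triangle f
  have := isLE_cone f g h hT n hiso hepi
  have h0 : β ≫ g = 0 := ProjAmp.hom_eq_zero_of_isLE P n b (n - 1) (by lia) hP Z _
  obtain ⟨γ, hγ⟩ := Triangle.coyoneda_exact₂ _ hT β h0
  exact ⟨γ, hγ.symm⟩

end Groth.Agent.Lib.helper2.LiftProj
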