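import Mathlib
import Groth.Prelude.Def_W4c3perfectstacksMV

set_option autoImplicit false
set_option linter.unusedSectionVars false
universe v u
open CategoryTheory Limits Pretriangulated

namespace Groth.Agent.Lib.helper2.MVSqLib

section general

variable {C : Type*} [Category C] [Preadditive C] [HasZeroObject C]
    [HasShift C ℤ] [∀ n : ℤ, (shiftFunctor C n).Additive] [Pretriangulated C]

/-- third map of a distinguished triangle with split mono first map is zero -/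
lemma mor₃_eq_zero_of_retraction
    (T : Triangle C) (hT : T ∈ distTriang C) (r : T.obj₂ ⟶ T.obj₁) (hr : T.mor₁ ≫ r = 𝟙 _) :
    T.mor₃ = 0 := by
  have h := comp_distTriang_mor_zero₃₁ T hT
  have : T.mor₃ = T.mor₃ ≫ (T.mor₁⟦(1:ℤ)⟧' ≫ r⟦(1:ℤ)⟧') := by
    rw [← Functor.map_comp, hr, CategoryTheory.Functor.map_id, Category.comp_id]
  rw [this, ← Category.assoc, h, zero_comp]

/-- If `Hom(Z', T₃) = 0 = Hom(Z'[1], T₃)` then `Hom(Z', T₁) → Hom(Z', T₂)` is bijective. -/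
lemma comp_mor₁_bijective (T : Triangle C) (hT : T ∈ distTriang C) (Z' : C)
    (h0 : ∀ t : Z' ⟶ T.obj₃, t = 0) (h1 : ∀ t : Z'⟦(1:ℤ)⟧ ⟶ T.obj₃, t = 0) :
    Function.Bijective (fun x : Z' ⟶ T.obj₁ => x ≫ T.mor₁) := by
  constructor
  · intro x₁ x₂ h
    dsimp at h
    have hx : (x₁ - x₂) ≫ T.mor₁ = 0 := by rw [Preadditive.sub_comp, h, sub_self]
    obtain ⟨g, hg⟩ := Triangle.coyoneda_exact₁ T hT ((x₁ - x₂)⟦(1:ℤ)⟧')
      (by rw [← Functor.map_comp, hx, Functor.map_zero])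
    rw [h1 g, zero_comp] at hg
    have : x₁ - x₂ = 0 := (shiftFunctor C (1:ℤ)).map_injective (by rw [hg, Functor.map_zero])
    exact sub_eq_zero.mp this
  · intro y
    obtain ⟨x, hx⟩ := Triangle.coyoneda_exact₂ T hT y (h0 _)
    exact ⟨x, hx.symm⟩

/-- A triangle `X ⟶ M ⟶ C` with `M` a biproduct of `A` and `B` such that `X ⟶ A` is an iso:
then `B ⟶ M ⟶ C` is an iso. -/
lemma isIso_of_split (T : Triangle C) (hT : T ∈ distTriang C) {A B : C}
    (p₁ : T.obj₂ ⟶ A) (p₂ : T.obj₂ ⟶ B) (i₁ : A ⟶ T.obj₂) (i₂ : B ⟶ T.obj₂)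
    (h21 : i₂ ≫ p₁ = 0) (h22 : i₂ ≫ p₂ = 𝟙 B) (htot : p₁ ≫ i₁ + p₂ ≫ i₂ = 𝟙 T.obj₂)
    (hiso : IsIso (T.mor₁ ≫ p₁)) : IsIso (i₂ ≫ T.mor₂) := by
  have hc : T.mor₃ = 0 := mor₃_eq_zero_of_retraction T hT (p₁ ≫ inv (T.mor₁ ≫ p₁))
    (by rw [← Category.assoc, IsIso.hom_inv_id])
  obtain ⟨σ, hσ⟩ := Triangle.coyoneda_exact₃ T hT (𝟙 T.obj₃) (by rw [hc, comp_zero])
  set σ' := σ - σ ≫ p₁ ≫ inv (T.mor₁ ≫ p₁) ≫ T.mor₁ with hσ'
  have h1 : σ' ≫ T.mor₂ = 𝟙 _ := by
    rw [hσ', Preadditive.sub_comp, ← hσ]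
    simp only [Category.assoc, comp_distTriang_mor_zero₁₂ T hT, comp_zero, sub_zero]
  have h2 : σ' ≫ p₁ = 0 := by
    rw [hσ', Preadditive.sub_comp]
    simp only [Category.assoc, IsIso.inv_hom_id, Category.comp_id, sub_self]
  have h3 : σ' = σ' ≫ p₂ ≫ i₂ := by
    have : σ' = σ' ≫ (p₁ ≫ i₁ + p₂ ≫ i₂) := by rw [htot, Category.comp_id]
    rw [Preadditive.comp_add, ← Category.assoc, h2, zero_comp, zero_add] at this
    exact this
  have h4 : i₂ ≫ T.mor₂ ≫ σ' = i₂ := by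
    have hz : (i₂ ≫ T.mor₂ ≫ σ' - i₂) ≫ T.mor₂ = 0 := by
      rw [Preadditive.sub_comp, Category.assoc, Category.assoc, h1, Category.comp_id, sub_self]
    obtain ⟨y, hy⟩ := Triangle.coyoneda_exact₂ T hT _ hz
    have hy0 : y ≫ (T.mor₁ ≫ p₁) = 0 := by
      rw [← Category.assoc, ← hy, Preadditive.sub_comp, Category.assoc, Category.assoc, h2,
        comp_zero, comp_zero, h21, sub_self]
    have : y = 0 := by
      rw [← cancel_mono (T.mor₁ ≫ p₁), hy0, zero_comp]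
    rw [this, zero_comp] at hy
    exact sub_eq_zero.mp hy
  refine ⟨σ' ≫ p₂, ?_, ?_⟩
  · rw [Category.assoc, ← Category.assoc T.mor₂, ← Category.assoc i₂, ← Category.assoc i₂,
      Category.assoc i₂, h4, h22]
  · rw [Category.assoc, ← Category.assoc p₂, ← Category.assoc, ← h3, h1]

end general

section MV

variable {S S' R R' : Type u} [Category.{v} S] [Category.{v} S'] [Category.{v} R] [Category.{v} R']
    [Preadditive S] [Preadditive S'] [Preadditive R] [Preadditive R']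
    [HasZeroObject S] [HasZeroObject S'] [HasZeroObject R] [HasZeroObject R']
    [HasShift S ℤ] [HasShift S' ℤ] [HasShift R ℤ] [HasShift R' ℤ]
    [∀ n : ℤ, (shiftFunctor S n).Additive] [∀ n : ℤ, (shiftFunctor S' n).Additive]
    [∀ n : ℤ, (shiftFunctor R n).Additive] [∀ n : ℤ, (shiftFunctor R' n).Additive]
    [Pretriangulated S] [Pretriangulated S'] [Pretriangulated R] [Pretriangulated R']
    (q : W4c3perfectstacks.MVSq S S' R R')
    [q.jst.CommShift ℤ] [q.fst.CommShift ℤ] [q.jpst.CommShift ℤ] [q.gst.CommShift ℤ]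
    [q.jst.IsTriangulated] [q.fst.IsTriangulated] [q.jpst.IsTriangulated] [q.gst.IsTriangulated]

lemma isZero_jst_shift (Z : S) (h : IsZero (q.jst.obj Z)) (n : ℤ) : IsZero (q.jst.obj (Z⟦n⟧)) :=
  IsZero.of_iso ((shiftFunctor R n).map_isZero h) ((q.jst.commShiftIso n).app Z)

lemma isZero_jpst_fst (Z : S) (h : IsZero (q.jst.obj Z)) : IsZero (q.jpst.obj (q.fst.obj Z)) :=
  IsZero.of_iso (q.gst.map_isZero h) (q.e.symm.app Z)

lemma hom_jls_eq_zero (Z : S) (h : IsZero (q.jst.obj Z)) (P : R) (t : Z ⟶ q.jls.obj P) : t = 0 :=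
  (q.adjJ.homEquiv Z P).symm.injective (h.eq_of_src _ _)

lemma hom_fst_jls_eq_zero (hq : q.IsMV) (M : S') (h : IsZero (q.jpst.obj M)) (P : R)
    (t : M ⟶ q.fst.obj (q.jls.obj P)) : t = 0 := by
  have := hq.isIso_bc2App P
  rw [← cancel_mono (q.bc2App P), zero_comp]
  exact (q.adjJp.homEquiv _ _).symm.injective (h.eq_of_src _ _)

lemma hom_fls_fst_jls_eq_zero (hq : q.IsMV) (Z : S) (h : IsZero (q.jst.obj Z)) (P : R)
    (t : Z ⟶ q.fls.obj (q.fst.obj (q.jls.obj P))) : t = 0 := by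
  apply (q.adjF.homEquiv _ _).symm.injective
  rw [hom_fst_jls_eq_zero q hq _ (isZero_jpst_fst q Z h) P ((q.adjF.homEquiv _ _).symm t),
    hom_fst_jls_eq_zero q hq _ (isZero_jpst_fst q Z h) P ((q.adjF.homEquiv _ _).symm 0)]

lemma isIso_jst_unitJ (hq : q.IsMV) (N : S) : IsIso (q.jst.map (q.adjJ.unit.app N)) := by
  have := hq.isIso_counitJ
  have e := q.adjJ.left_triangle_components N
  have : q.jst.map (q.adjJ.unit.app N) = inv (q.adjJ.counit.app (q.jst.obj N)) :=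
    IsIso.eq_inv_of_inv_hom_id e
  rw [this]
  infer_instance

lemma exists_fiber (hq : q.IsMV) (N : S) : ∃ (Z : S) (i : Z ⟶ N)
    (δ : q.jls.obj (q.jst.obj N) ⟶ Z⟦(1:ℤ)⟧),
    Triangle.mk i (q.adjJ.unit.app N) δ ∈ distTriang S ∧ IsZero (q.jst.obj Z) := by
  obtain ⟨Z, i, δ, mem⟩ := distinguished_cocone_triangle₁ (q.adjJ.unit.app N)
  refine ⟨Z, i, δ, mem, ?_⟩
  have h := q.jst.map_distinguished _ mem
  exact Triangle.isZero₁_of_isIso₂ _ h (isIso_jst_unitJ q hq N)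

lemma comp_unitF_bijective (hq : q.IsMV) (Z' : S) (hZ' : IsZero (q.jst.obj Z')) (N : S) :
    Function.Bijective (fun x : Z' ⟶ N => x ≫ q.adjF.unit.app N) := by
  let _ : q.fls.CommShift ℤ := q.adjF.rightAdjointCommShift ℤ
  have : q.adjF.CommShift ℤ := q.adjF.commShift_of_leftAdjoint ℤ
  have : q.fls.IsTriangulated := q.adjF.isTriangulated_rightAdjoint
  obtain ⟨Z, i, δ, hT, hZ⟩ := exists_fiber q hq N
  have hGT := (q.fst ⋙ q.fls).map_distinguished _ hT
  have hZ'1 := isZero_jst_shift q Z' hZ' 1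
  have b1 := comp_mor₁_bijective _ hT Z' (fun t => hom_jls_eq_zero q Z' hZ' _ t)
    (fun t => hom_jls_eq_zero q _ hZ'1 _ t)
  have b2 := comp_mor₁_bijective _ hGT Z' (fun t => hom_fls_fst_jls_eq_zero q hq Z' hZ' _ t)
    (fun t => hom_fls_fst_jls_eq_zero q hq _ hZ'1 _ t)
  have := hq.isIso_unitF Z hZ
  have b3 : Function.Bijective (fun x : Z' ⟶ Z => x ≫ q.adjF.unit.app Z) :=
    ⟨fun x₁ x₂ h => (cancel_mono _).mp h,
      fun y => ⟨y ≫ inv (q.adjF.unit.app Z), by simp⟩⟩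
  have hcomp : Function.Bijective ((fun x : Z' ⟶ N => x ≫ q.adjF.unit.app N) ∘
      (fun x : Z' ⟶ Z => x ≫ i)) := by
    have : ((fun x : Z' ⟶ N => x ≫ q.adjF.unit.app N) ∘ (fun x : Z' ⟶ Z => x ≫ i)) =
        (fun y : Z' ⟶ q.fls.obj (q.fst.obj Z) => y ≫ q.fls.map (q.fst.map i)) ∘
          (fun x : Z' ⟶ Z => x ≫ q.adjF.unit.app Z) := by
      funext x
      dsimp
      rw [Category.assoc, Category.assoc]
      congr 1
      exact q.adjF.unit.naturality i
    rw [this]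
    exact b2.comp b3
  exact (Function.Bijective.of_comp_iff _ b1).mp hcomp


lemma bcApp_naturality {M M' : S'} (u : M ⟶ M') :
    q.jst.map (q.fls.map u) ≫ q.bcApp M' = q.bcApp M ≫ q.gls.map (q.jpst.map u) := by
  unfold W4c3perfectstacks.MVSq.bcApp
  have h1 := q.adjG.unit.naturality (q.jst.map (q.fls.map u))
  have h2 := q.e.hom.naturality (q.fls.map u)
  have h3 := q.adjF.counit.naturality u
  simp only [Functor.id_obj, Functor.comp_obj, Functor.id_map, Functor.comp_map] at h1 h2 h3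
  rw [← Category.assoc, h1]
  simp only [Category.assoc, ← Functor.map_comp]
  congr 2
  rw [← Category.assoc, h2, Category.assoc, ← Functor.map_comp, h3, Functor.map_comp]

lemma isIso_jst_fls_map (hq : q.IsMV) {M M' : S'} (u : M ⟶ M') (hu : IsIso (q.jpst.map u)) :
    IsIso (q.jst.map (q.fls.map u)) := by
  have := hq.isIso_bcApp M
  have := hq.isIso_bcApp M'
  have h := bcApp_naturality q u
  have : q.jst.map (q.fls.map u) = q.bcApp M ≫ q.gls.map (q.jpst.map u) ≫ inv (q.bcApp M') := by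
    rw [← Category.assoc, ← h, Category.assoc, IsIso.hom_inv_id, Category.comp_id]
  rw [this]
  infer_instance

lemma isIso_jpst_fst_map {A B : S} (x : A ⟶ B) (hx : IsIso (q.jst.map x)) :
    IsIso (q.jpst.map (q.fst.map x)) := by
  have h := q.e.hom.naturality x
  simp only [Functor.comp_obj, Functor.comp_map] at h
  have : q.jpst.map (q.fst.map x) = q.e.inv.app A ≫ q.gst.map (q.jst.map x) ≫ q.e.hom.app B := by
    rw [h, Iso.inv_hom_id_app_assoc]
  rw [this]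
  infer_instance

lemma isIso_jst_G_unitJ (hq : q.IsMV) (N : S) :
    IsIso (q.jst.map (q.fls.map (q.fst.map (q.adjJ.unit.app N)))) :=
  isIso_jst_fls_map q hq _ (isIso_jpst_fst_map q _ (isIso_jst_unitJ q hq N))

/-- `Hom(Z', C) = 0` for `Z'` killed by `j^*` and `C` a cone of the first MV map. -/
lemma hom_cone_eq_zero (hq : q.IsMV) (N : S) {C : S}
    (b : q.jls.obj (q.jst.obj N) ⊞ q.fls.obj (q.fst.obj N) ⟶ C) (c : C ⟶ N⟦(1:ℤ)⟧)
    (hT : Triangle.mk (biprod.lift (q.adjJ.unit.app N) (q.adjF.unit.app N)) b c ∈ distTriang S)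
    (Z' : S) (hZ' : IsZero (q.jst.obj Z')) (x : Z' ⟶ C) : x = 0 := by
  let _ : q.fls.CommShift ℤ := q.adjF.rightAdjointCommShift ℤ
  have : q.adjF.CommShift ℤ := q.adjF.commShift_of_leftAdjoint ℤ
  -- step 1
  have h31 : c ≫ (biprod.lift (q.adjJ.unit.app N) (q.adjF.unit.app N))⟦(1:ℤ)⟧' = 0 :=
    comp_distTriang_mor_zero₃₁ _ hT
  have hy : (x ≫ c) ≫ (q.adjF.unit.app N)⟦(1:ℤ)⟧' = 0 := by
    have : (q.adjF.unit.app N)⟦(1:ℤ)⟧' =
        (biprod.lift (q.adjJ.unit.app N) (q.adjF.unit.app N))⟦(1:ℤ)⟧' ≫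
          (biprod.snd : q.jls.obj (q.jst.obj N) ⊞ q.fls.obj (q.fst.obj N) ⟶ _)⟦(1:ℤ)⟧' := by
      rw [← Functor.map_comp]
      congr 1
      exact (biprod.lift_snd _ _).symm
    rw [this, Category.assoc, ← Category.assoc c, h31, zero_comp, comp_zero]
  have hxc : x ≫ c = 0 := by
    have hs := NatTrans.shift_app_comm q.adjF.unit (1:ℤ) N
    rw [Functor.commShiftIso_id_hom_app] at hs
    erw [Category.id_comp] at hs
    have hy' : (x ≫ c) ≫ q.adjF.unit.app (N⟦(1:ℤ)⟧) = 0 := by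
      rw [← cancel_mono (((q.fst ⋙ q.fls).commShiftIso (1:ℤ)).hom.app N), zero_comp,
        Category.assoc]
      erw [← hs]
      exact hy
    apply (comp_unitF_bijective q hq Z' hZ' (N⟦(1:ℤ)⟧)).1
    dsimp
    rw [hy', zero_comp]
  -- step 2
  obtain ⟨σ, hσ⟩ : ∃ σ : Z' ⟶ q.jls.obj (q.jst.obj N) ⊞ q.fls.obj (q.fst.obj N), x = σ ≫ b :=
    Triangle.coyoneda_exact₃ _ hT x hxc
  obtain ⟨y', hy'⟩ := (comp_unitF_bijective q hq Z' hZ' N).2 (σ ≫ biprod.snd)
  dsimp at hy'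
  have hσ2 : σ = y' ≫ biprod.lift (q.adjJ.unit.app N) (q.adjF.unit.app N) := by
    apply biprod.hom_ext
    · rw [hom_jls_eq_zero q Z' hZ' _ (σ ≫ biprod.fst)]
      exact (hom_jls_eq_zero q Z' hZ' _ _).symm
    · rw [Category.assoc]
      erw [biprod.lift_snd]
      exact hy'.symm
  have h12 : biprod.lift (q.adjJ.unit.app N) (q.adjF.unit.app N) ≫ b = 0 :=
    comp_distTriang_mor_zero₁₂ _ hT
  rw [hσ, hσ2, Category.assoc, h12, comp_zero]

/-- Existence of the MV triangle. -/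
theorem exists_MV_triangle (hq : q.IsMV) (N : S) :
    ∃ d : q.fls.obj (q.fst.obj (q.jls.obj (q.jst.obj N))) ⟶ N⟦(1 : ℤ)⟧,
      Triangle.mk (biprod.lift (q.adjJ.unit.app N) (q.adjF.unit.app N))
        (biprod.desc (q.adjF.unit.app (q.jls.obj (q.jst.obj N)))
          (-(q.fls.map (q.fst.map (q.adjJ.unit.app N))))) d ∈ distTriang S := by
  obtain ⟨C, b, c, hT⟩ := distinguished_cocone_triangle
    (biprod.lift (q.adjJ.unit.app N) (q.adjF.unit.app N))
  have ham : biprod.lift (q.adjJ.unit.app N) (q.adjF.unit.app N) ≫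
      biprod.desc (q.adjF.unit.app (q.jls.obj (q.jst.obj N)))
          (-(q.fls.map (q.fst.map (q.adjJ.unit.app N)))) = 0 := by
    rw [biprod.lift_desc, Preadditive.comp_neg, ← sub_eq_add_neg, sub_eq_zero]
    exact (q.adjF.unit.naturality (q.adjJ.unit.app N))
  obtain ⟨w, hw⟩ : ∃ w : C ⟶ q.fls.obj (q.fst.obj (q.jls.obj (q.jst.obj N))),
      biprod.desc (q.adjF.unit.app (q.jls.obj (q.jst.obj N)))
          (-(q.fls.map (q.fst.map (q.adjJ.unit.app N)))) = b ≫ w :=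
    Triangle.yoneda_exact₂ _ hT _ ham
  -- j^* w is an isomorphism
  have hjw : IsIso (q.jst.map w) := by
    have hjT := q.jst.map_distinguished _ hT
    have e1 : q.jst.map (biprod.inr : _ ⟶ q.jls.obj (q.jst.obj N) ⊞ q.fls.obj (q.fst.obj N)) ≫
        q.jst.map (biprod.fst : q.jls.obj (q.jst.obj N) ⊞ q.fls.obj (q.fst.obj N) ⟶ _) = 0 := by
      rw [← Functor.map_comp, biprod.inr_fst, Functor.map_zero]
    have e2 : q.jst.map (biprod.inr : _ ⟶ q.jls.obj (q.jst.obj N) ⊞ q.fls.obj (q.fst.obj N)) ≫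
        q.jst.map (biprod.snd : q.jls.obj (q.jst.obj N) ⊞ q.fls.obj (q.fst.obj N) ⟶ _) = 𝟙 _ := by
      rw [← Functor.map_comp, biprod.inr_snd, CategoryTheory.Functor.map_id]
    have e3 : q.jst.map (biprod.fst : q.jls.obj (q.jst.obj N) ⊞ q.fls.obj (q.fst.obj N) ⟶ _) ≫
        q.jst.map (biprod.inl : _ ⟶ q.jls.obj (q.jst.obj N) ⊞ q.fls.obj (q.fst.obj N)) +
        q.jst.map (biprod.snd : q.jls.obj (q.jst.obj N) ⊞ q.fls.obj (q.fst.obj N) ⟶ _) ≫
        q.jst.map (biprod.inr : _ ⟶ q.jls.obj (q.jst.obj N) ⊞ q.fls.obj (q.fst.obj N)) = 𝟙 _ := by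
      rw [← Functor.map_comp, ← Functor.map_comp, ← Functor.map_add, biprod.total,
        CategoryTheory.Functor.map_id]
    have e4 : IsIso (q.jst.map (biprod.lift (q.adjJ.unit.app N) (q.adjF.unit.app N)) ≫
        q.jst.map (biprod.fst : q.jls.obj (q.jst.obj N) ⊞ q.fls.obj (q.fst.obj N) ⟶ _)) := by
      rw [← Functor.map_comp]
      erw [biprod.lift_fst]
      exact isIso_jst_unitJ q hq N
    have h1 : IsIso (q.jst.map (biprod.inr : _ ⟶ q.jls.obj (q.jst.obj N) ⊞ q.fls.obj (q.fst.obj N)) ≫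
        q.jst.map b) := isIso_of_split _ hjT
      (q.jst.map (biprod.fst : q.jls.obj (q.jst.obj N) ⊞ q.fls.obj (q.fst.obj N) ⟶ _))
      (q.jst.map (biprod.snd : q.jls.obj (q.jst.obj N) ⊞ q.fls.obj (q.fst.obj N) ⟶ _))
      (q.jst.map (biprod.inl : _ ⟶ q.jls.obj (q.jst.obj N) ⊞ q.fls.obj (q.fst.obj N)))
      (q.jst.map (biprod.inr : _ ⟶ q.jls.obj (q.jst.obj N) ⊞ q.fls.obj (q.fst.obj N)))
      e1 e2 e3 e4
    have h2 : (q.jst.map (biprod.inr : _ ⟶ q.jls.obj (q.jst.obj N) ⊞ q.fls.obj (q.fst.obj N)) ≫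
        q.jst.map b) ≫ q.jst.map w =
        - q.jst.map (q.fls.map (q.fst.map (q.adjJ.unit.app N))) := by
      rw [Category.assoc, ← Functor.map_comp, ← Functor.map_comp, ← hw, biprod.inr_desc,
        Functor.map_neg]
    have h3 : IsIso (- q.jst.map (q.fls.map (q.fst.map (q.adjJ.unit.app N)))) := by
      have := isIso_jst_G_unitJ q hq N
      exact ⟨-inv (q.jst.map (q.fls.map (q.fst.map (q.adjJ.unit.app N)))), by simp, by simp⟩
    exact IsIso.of_isIso_fac_left h2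
  -- the fiber of w
  obtain ⟨K', k, κ, hK⟩ := distinguished_cocone_triangle₁ w
  have hK'0 : IsZero (q.jst.obj K') :=
    Triangle.isZero₁_of_isIso₂ _ (q.jst.map_distinguished _ hK) hjw
  have hk : k = 0 := hom_cone_eq_zero q hq N b c hT K' hK'0 k
  have hrot := rot_of_distTriang _ hK
  obtain ⟨s, hs⟩ : ∃ s : K'⟦(1:ℤ)⟧ ⟶ q.fls.obj (q.fst.obj (q.jls.obj (q.jst.obj N))),
      𝟙 (K'⟦(1:ℤ)⟧) = s ≫ κ :=
    Triangle.coyoneda_exact₃ _ hrot (𝟙 (K'⟦(1:ℤ)⟧)) (by
      change 𝟙 _ ≫ (-(k⟦(1:ℤ)⟧')) = 0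
      rw [hk, Functor.map_zero, neg_zero, comp_zero])
  have hs0 : s = 0 := hom_fls_fst_jls_eq_zero q hq _ (isZero_jst_shift q K' hK'0 1) _ s
  have hκ : κ = 0 := by
    have : κ = κ ≫ 𝟙 _ := (Category.comp_id _).symm
    rw [this, hs, hs0, zero_comp, comp_zero]
  have hK'z : IsZero K' := (Triangle.isZero₁_iff _ hK).mpr ⟨hk, hκ⟩
  have hwiso : IsIso w := (Triangle.isZero₁_iff_isIso₂ _ hK).mp hK'z
  refine ⟨inv w ≫ c, ?_⟩
  refine isomorphic_distinguished _ hT _ ?_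
  refine Triangle.isoMk _ _ (Iso.refl _) (Iso.refl _) (asIso w).symm ?_ ?_ ?_
  · change biprod.lift (q.adjJ.unit.app N) (q.adjF.unit.app N) ≫ 𝟙 _ =
      𝟙 _ ≫ biprod.lift (q.adjJ.unit.app N) (q.adjF.unit.app N)
    erw [Category.comp_id, Category.id_comp]
  · change biprod.desc (q.adjF.unit.app (q.jls.obj (q.jst.obj N)))
          (-(q.fls.map (q.fst.map (q.adjJ.unit.app N)))) ≫ inv w = 𝟙 _ ≫ b
    rw [hw, Category.assoc, IsIso.hom_inv_id, Category.comp_id]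
    erw [Category.id_comp]
  · change (inv w ≫ c) ≫ (𝟙 _)⟦(1:ℤ)⟧' = inv w ≫ c
    rw [CategoryTheory.Functor.map_id]
    erw [Category.comp_id]

/-- `j^*` kills the connecting map of an MV triangle -/
lemma jst_map_d (N : S) {X Y : S} (m : q.jls.obj (q.jst.obj N) ⊞ X ⟶ Y)
    (a₂ : N ⟶ X)
    (d : Y ⟶ N⟦(1 : ℤ)⟧)
    (h : Triangle.mk (biprod.lift (q.adjJ.unit.app N) a₂) m d ∈ distTriang S) :
    q.jst.map d = 0 := by
  have hT := q.jst.map_distinguished _ h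
  have hr : q.jst.map (biprod.lift (q.adjJ.unit.app N) a₂) ≫
      (q.jst.map (biprod.fst : q.jls.obj (q.jst.obj N) ⊞ X ⟶ _) ≫
        q.adjJ.counit.app (q.jst.obj N)) = 𝟙 (q.jst.obj N) := by
    rw [← Category.assoc, ← Functor.map_comp, biprod.lift_fst]
    exact q.adjJ.left_triangle_components N
  have h3 : q.jst.map d ≫ (q.jst.commShiftIso (1:ℤ)).hom.app N = 0 :=
    mor₃_eq_zero_of_retraction _ hT
    (q.jst.map (biprod.fst : q.jls.obj (q.jst.obj N) ⊞ X ⟶ _) ≫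
        q.adjJ.counit.app (q.jst.obj N)) hr
  have : q.jst.map d = (q.jst.map d ≫ (q.jst.commShiftIso (1:ℤ)).hom.app N) ≫
      (q.jst.commShiftIso (1:ℤ)).inv.app N := by simp
  rw [this, h3, zero_comp]

/-- `j'^* f^*` kills any map killed by `j^*` -/
lemma jpst_fst_map_zero {A B : S} (d : A ⟶ B) (hd : q.jst.map d = 0) :
    q.jpst.map (q.fst.map d) = 0 := by
  have nat := q.e.hom.naturality d
  simp only [Functor.comp_map] at nat
  rw [hd, Functor.map_zero, zero_comp] at nat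
  have : q.jpst.map (q.fst.map d) = q.e.inv.app A ≫ (q.e.hom.app A ≫ q.jpst.map (q.fst.map d)) := by
    simp
  rw [this, ← nat, comp_zero]

/-- a map killed by `j^*` composes to zero with anything into `f_* f^* j_* P`. -/
lemma comp_eq_zero_of_jst (hq : q.IsMV) {A B : S} (d : A ⟶ B) (hd : q.jst.map d = 0) (P : R)
    (t : B ⟶ q.fls.obj (q.fst.obj (q.jls.obj P))) : d ≫ t = 0 := by
  apply (q.adjF.homEquiv _ _).symm.injective
  rw [Adjunction.homEquiv_naturality_left_symm]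
  have := hq.isIso_bc2App P
  rw [← cancel_mono (q.bc2App P)]
  apply (q.adjJp.homEquiv _ _).symm.injective
  rw [Category.assoc, Adjunction.homEquiv_naturality_left_symm, jpst_fst_map_zero q d hd]
  simp

theorem MV_naturality
    (hq : q.IsMV) (N₁ N₂ : S) (φ : N₁ ⟶ N₂)
    (d₁ : q.fls.obj (q.fst.obj (q.jls.obj (q.jst.obj N₁))) ⟶ N₁⟦(1 : ℤ)⟧)
    (d₂ : q.fls.obj (q.fst.obj (q.jls.obj (q.jst.obj N₂))) ⟶ N₂⟦(1 : ℤ)⟧)
    (h₁ : Triangle.mk (biprod.lift (q.adjJ.unit.app N₁) (q.adjF.unit.app N₁))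
        (biprod.desc (q.adjF.unit.app (q.jls.obj (q.jst.obj N₁)))
          (-(q.fls.map (q.fst.map (q.adjJ.unit.app N₁))))) d₁ ∈ distTriang S)
    (h₂ : Triangle.mk (biprod.lift (q.adjJ.unit.app N₂) (q.adjF.unit.app N₂))
        (biprod.desc (q.adjF.unit.app (q.jls.obj (q.jst.obj N₂)))
          (-(q.fls.map (q.fst.map (q.adjJ.unit.app N₂))))) d₂ ∈ distTriang S) :
    d₁ ≫ (shiftFunctor S (1 : ℤ)).map φ = q.fls.map (q.fst.map (q.jls.map (q.jst.map φ))) ≫ d₂ := by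
  have hjd₁ : q.jst.map d₁ = 0 := jst_map_d q N₁ _ _ d₁ h₁
  have comm : biprod.lift (q.adjJ.unit.app N₁) (q.adjF.unit.app N₁) ≫
      biprod.map (q.jls.map (q.jst.map φ)) (q.fls.map (q.fst.map φ)) =
      φ ≫ biprod.lift (q.adjJ.unit.app N₂) (q.adjF.unit.app N₂) := by
    apply biprod.hom_ext
    · rw [Category.assoc, Category.assoc, biprod.map_fst, biprod.lift_fst_assoc]
      erw [biprod.lift_fst]
      exact (q.adjJ.unit.naturality φ).symm
    · rw [Category.assoc, Category.assoc, biprod.map_snd, biprod.lift_snd_assoc]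
      erw [biprod.lift_snd]
      exact (q.adjF.unit.naturality φ).symm
  -- TR3
  have key : ∃ c : q.fls.obj (q.fst.obj (q.jls.obj (q.jst.obj N₁))) ⟶
        q.fls.obj (q.fst.obj (q.jls.obj (q.jst.obj N₂))),
      biprod.desc (q.adjF.unit.app (q.jls.obj (q.jst.obj N₁)))
          (-(q.fls.map (q.fst.map (q.adjJ.unit.app N₁)))) ≫ c =
        biprod.map (q.jls.map (q.jst.map φ)) (q.fls.map (q.fst.map φ)) ≫
          biprod.desc (q.adjF.unit.app (q.jls.obj (q.jst.obj N₂)))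
          (-(q.fls.map (q.fst.map (q.adjJ.unit.app N₂)))) ∧
      d₁ ≫ (shiftFunctor S (1 : ℤ)).map φ = c ≫ d₂ :=
    complete_distinguished_triangle_morphism _ _ h₁ h₂ φ
      (biprod.map (q.jls.map (q.jst.map φ)) (q.fls.map (q.fst.map φ))) comm
  obtain ⟨c, hc₁, hc₂⟩ := key
  set ψ := q.fls.map (q.fst.map (q.jls.map (q.jst.map φ))) with hψ
  -- ψ also satisfies the middle square
  have hψ₁ : biprod.desc (q.adjF.unit.app (q.jls.obj (q.jst.obj N₁)))
          (-(q.fls.map (q.fst.map (q.adjJ.unit.app N₁)))) ≫ ψ =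
      biprod.map (q.jls.map (q.jst.map φ)) (q.fls.map (q.fst.map φ)) ≫
        biprod.desc (q.adjF.unit.app (q.jls.obj (q.jst.obj N₂)))
          (-(q.fls.map (q.fst.map (q.adjJ.unit.app N₂)))) := by
    apply biprod.hom_ext'
    · simp only [biprod.inl_desc_assoc, biprod.inl_map_assoc, biprod.inl_desc]
      exact (q.adjF.unit.naturality (q.jls.map (q.jst.map φ))).symm
    · simp only [biprod.inr_desc_assoc, biprod.inr_map_assoc, biprod.inr_desc,
        Preadditive.neg_comp, Preadditive.comp_neg, neg_inj]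
      rw [hψ, ← Functor.map_comp, ← Functor.map_comp, ← Functor.map_comp, ← Functor.map_comp]
      congr 2
      exact (q.adjJ.unit.naturality φ).symm
  -- c - ψ factors through d₁
  have hdiff : biprod.desc (q.adjF.unit.app (q.jls.obj (q.jst.obj N₁)))
          (-(q.fls.map (q.fst.map (q.adjJ.unit.app N₁)))) ≫ (c - ψ) = 0 := by
    rw [Preadditive.comp_sub, hc₁, hψ₁, sub_self]
  obtain ⟨t, ht⟩ := Triangle.yoneda_exact₃ _ h₁ (c - ψ) hdiff
  dsimp at t ht
  have hz : c - ψ = 0 := by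
    rw [ht]
    exact comp_eq_zero_of_jst q hq d₁ hjd₁ _ t
  have hcψ : c = ψ := sub_eq_zero.mp hz
  rw [← hcψ]
  exact hc₂


end MV

end Groth.Agent.Lib.helper2.MVSqLib
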