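import Mathlib
import Groth.Prelude.Def_W4c5suslinpi1abAdj

set_option autoImplicit false
set_option linter.unusedSectionVars false
universe v u
open CategoryTheory MonoidalCategory Functor.LaxMonoidal Functor.OplaxMonoidal
open W4c5suslinpi1ab

namespace Groth.Agent.Lib.helper2.MonAdj

variable {C : Type u} [Category.{v} C] [MonoidalCategory C]
variable {D : Type u} [Category.{v} D] [MonoidalCategory D]

section One

variable {L : C ⥤ D} {R : D ⥤ C} (adj : L ⊣ R) [L.OplaxMonoidal] [R.LaxMonoidal] [adj.IsMonoidal]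

lemma map_projR_counit (A : D) (B : C) :
    L.map (projR adj A B) ≫ adj.counit.app (A ⊗ L.obj B) =
      δ L (R.obj A) B ≫ (adj.counit.app A ▷ L.obj B) := by
  unfold projR
  rw [Functor.map_comp, Category.assoc, adj.map_μ_comp_counit_app_tensor]
  have h := δ_natural_right L (R.obj A) (adj.unit.app B)
  dsimp only [Functor.id_obj, Functor.comp_obj] at h ⊢
  rw [← reassoc_of% h, tensorHom_def', ← MonoidalCategory.whiskerLeft_comp_assoc,
    adj.left_triangle_components, MonoidalCategory.whiskerLeft_id, Category.id_comp]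

lemma map_projL_counit (A : C) (B : D) :
    L.map (projL adj A B) ≫ adj.counit.app (L.obj A ⊗ B) =
      δ L A (R.obj B) ≫ (L.obj A ◁ adj.counit.app B) := by
  unfold projL
  rw [Functor.map_comp, Category.assoc, adj.map_μ_comp_counit_app_tensor]
  have h := δ_natural_left L (adj.unit.app A) (R.obj B)
  dsimp only [Functor.id_obj, Functor.comp_obj] at h ⊢
  rw [← reassoc_of% h, MonoidalCategory.tensorHom_def, ← MonoidalCategory.comp_whiskerRight_assoc,
    adj.left_triangle_components, MonoidalCategory.id_whiskerRight, Category.id_comp]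

omit [L.OplaxMonoidal] [adj.IsMonoidal] in
lemma projR_natural_right (A : D) {B B' : C} (h : B ⟶ B') :
    (R.obj A ◁ h) ≫ projR adj A B' = projR adj A B ≫ R.map (A ◁ L.map h) := by
  unfold projR
  have h1 := adj.unit_naturality h
  have h2 := μ_natural_right R A (L.map h)
  dsimp only [Functor.comp_obj, Functor.id_obj] at h1 h2 ⊢
  rw [Category.assoc, ← h2, ← MonoidalCategory.whiskerLeft_comp_assoc,
    ← MonoidalCategory.whiskerLeft_comp_assoc, h1]

omit [L.OplaxMonoidal] [adj.IsMonoidal] in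
lemma projR_natural_left {A A' : D} (a : A ⟶ A') (B : C) :
    (R.map a ▷ B) ≫ projR adj A' B = projR adj A B ≫ R.map (a ▷ L.obj B) := by
  unfold projR
  have h2 := μ_natural_left R a (L.obj B)
  dsimp only [Functor.comp_obj, Functor.id_obj] at h2 ⊢
  rw [Category.assoc, ← h2, whisker_exchange_assoc]

omit [L.OplaxMonoidal] [adj.IsMonoidal] in
lemma projL_natural_right (A : C) {B B' : D} (b : B ⟶ B') :
    (A ◁ R.map b) ≫ projL adj A B' = projL adj A B ≫ R.map (L.obj A ◁ b) := by
  unfold projL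
  have h2 := μ_natural_right R (L.obj A) b
  dsimp only [Functor.comp_obj, Functor.id_obj] at h2 ⊢
  rw [Category.assoc, ← h2, ← whisker_exchange_assoc]

omit [L.OplaxMonoidal] [adj.IsMonoidal] in
lemma projL_natural_left {A A' : C} (a : A ⟶ A') (B : D) :
    (a ▷ R.obj B) ≫ projL adj A' B = projL adj A B ≫ R.map (L.map a ▷ B) := by
  unfold projL
  have h1 := adj.unit_naturality a
  have h2 := μ_natural_left R (L.map a) B
  dsimp only [Functor.comp_obj, Functor.id_obj] at h1 h2 ⊢
  rw [Category.assoc, ← h2, ← MonoidalCategory.comp_whiskerRight_assoc,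
    ← MonoidalCategory.comp_whiskerRight_assoc, h1]

end One

section Square

variable {S₀ : Type u} [Category.{v} S₀] [MonoidalCategory S₀]
variable {Y₁ : Type u} [Category.{v} Y₁] [MonoidalCategory Y₁]
variable {Y₂ : Type u} [Category.{v} Y₂] [MonoidalCategory Y₂]
variable {X : Type u} [Category.{v} X] [MonoidalCategory X]
variable {fL : S₀ ⥤ Y₁} {fR : Y₁ ⥤ S₀} (adjf : fL ⊣ fR) [fL.OplaxMonoidal] [fR.LaxMonoidal]
  [adjf.IsMonoidal] {gR : Y₂ ⥤ S₀}
  {pL : Y₁ ⥤ X} {pR : X ⥤ Y₁} (adjp : pL ⊣ pR) [pL.OplaxMonoidal] [pR.LaxMonoidal]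
  [adjp.IsMonoidal] {qL : Y₂ ⥤ X} {qR : X ⥤ Y₂} (adjq : qL ⊣ qR)
  (ν : qR ⋙ gR ⟶ pR ⋙ fR)

theorem homEquiv_symm_extProd (A : Y₁) (B : Y₂) :
    ((adjf.comp adjp).homEquiv _ _).symm (extProd adjf adjp adjq ν A B) =
      δ (fL ⋙ pL) (fR.obj A) (gR.obj B) ≫
        (pL.map (adjf.counit.app A) ⊗ₘ
          (pL.map ((bcMor adjf adjq ν).app B) ≫ adjp.counit.app (qL.obj B))) := by
  rw [Adjunction.homEquiv_counit, Adjunction.comp_counit_app]
  unfold extProd
  dsimp only [Functor.comp_obj, Functor.comp_map, Functor.id_obj]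
  have h1 : fL.map (projR adjf A (gR.obj B) ≫ fR.map (A ◁ (bcMor adjf adjq ν).app B) ≫
      fR.map (projL adjp A (qL.obj B))) ≫ adjf.counit.app (pR.obj (pL.obj A ⊗ qL.obj B)) =
      δ fL (fR.obj A) (gR.obj B) ≫ (adjf.counit.app A ▷ fL.obj (gR.obj B)) ≫
        (A ◁ (bcMor adjf adjq ν).app B) ≫ projL adjp A (qL.obj B) := by
    dsimp only [Functor.comp_obj, Functor.id_obj]
    rw [Functor.map_comp, Functor.map_comp, Category.assoc, Category.assoc,
      adjf.counit_naturality, adjf.counit_naturality_assoc]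
    have := map_projR_counit adjf A (gR.obj B)
    dsimp only [Functor.comp_obj, Functor.id_obj] at this
    rw [reassoc_of% this]
  rw [← Functor.map_comp_assoc, h1]
  have h2 := map_projL_counit adjp A (qL.obj B)
  have h3 := δ_natural_right pL A ((bcMor adjf adjq ν).app B)
  have h4 := δ_natural_left pL (adjf.counit.app A) (fL.obj (gR.obj B))
  dsimp only [Functor.comp_obj, Functor.id_obj] at h2 h3 h4
  rw [Functor.map_comp, Functor.map_comp, Functor.map_comp, Category.assoc, Category.assoc,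
    Category.assoc, h2, ← reassoc_of% h3, ← reassoc_of% h4, comp_δ, MonoidalCategory.tensorHom_def,
    MonoidalCategory.whiskerLeft_comp, Category.assoc]

omit [fL.OplaxMonoidal] [adjf.IsMonoidal] [pL.OplaxMonoidal] [adjp.IsMonoidal] in
lemma extProd_natural {A₁ A₂ : Y₁} (a : A₁ ⟶ A₂) {B₁ B₂ : Y₂} (b : B₁ ⟶ B₂) :
    (fR.map a ⊗ₘ gR.map b) ≫ extProd adjf adjp adjq ν A₂ B₂ =
      extProd adjf adjp adjq ν A₁ B₁ ≫ fR.map (pR.map (pL.map a ⊗ₘ qL.map b)) := by
  unfold extProd
  have h1 := projR_natural_right adjf A₂ (gR.map b)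
  have h2 := projR_natural_left adjf a (gR.obj B₁)
  have h3 := (bcMor adjf adjq ν).naturality b
  have h4 := projL_natural_right adjp A₂ (qL.map b)
  have h5 := projL_natural_left adjp a (qL.obj B₁)
  dsimp only [Functor.comp_obj, Functor.id_obj, Functor.comp_map] at h1 h2 h3 h4 h5 ⊢
  rw [MonoidalCategory.tensorHom_def, Category.assoc, reassoc_of% h1, reassoc_of% h2]
  simp only [← Functor.map_comp, Category.assoc]
  congr 2
  rw [← MonoidalCategory.whiskerLeft_comp_assoc, h3, MonoidalCategory.whiskerLeft_comp_assoc,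
    h4, ← whisker_exchange_assoc, reassoc_of% h5, ← Functor.map_comp,
    ← MonoidalCategory.tensorHom_def]

section Shriek

variable {fS : S₀ ⥤ Y₁} (adjf' : fR ⊣ fS) {gS : S₀ ⥤ Y₂} (adjg' : gR ⊣ gS)
  {pS : Y₁ ⥤ X} (adjp' : pR ⊣ pS)
  [∀ (A : Y₁) (B : S₀), IsIso (projR adjf A B)]
  [∀ (A : Y₁) (B : X), IsIso (projL adjp A B)]
  [∀ B : Y₂, IsIso ((bcMor adjf adjq ν).app B)]

omit [fL.OplaxMonoidal] [adjf.IsMonoidal] in
lemma map_cupShriek_counit (A C : S₀) :
    fR.map (cupShriek adjf adjf' A C) ≫ adjf'.counit.app (A ⊗ C) =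
      inv (projR adjf (fS.obj A) C) ≫ (adjf'.counit.app A ▷ C) := by
  unfold cupShriek
  have := (adjf'.homEquiv _ _).symm_apply_apply
    (inv (projR adjf (fS.obj A) C) ≫ (adjf'.counit.app A ▷ C))
  rw [Adjunction.homEquiv_counit] at this
  exact this

/-- the map whose adjoint is `prodShriek` -/
noncomputable def phi (A B : S₀) :
    pR.obj (pL.obj (fS.obj A) ⊗ qL.obj (gS.obj B)) ⟶ fS.obj (A ⊗ B) :=
  inv (projL adjp (fS.obj A) (qL.obj (gS.obj B))) ≫
    (fS.obj A ◁ inv ((bcMor adjf adjq ν).app (gS.obj B))) ≫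
    cupShriek adjf adjf' A (gR.obj (gS.obj B)) ≫ fS.map (A ◁ adjg'.counit.app B)

omit [fL.OplaxMonoidal] [adjf.IsMonoidal] [pL.OplaxMonoidal] [adjp.IsMonoidal] in
lemma map_prodShriek_counit (A B : S₀) :
    pR.map (prodShriek adjf adjf' adjg' adjp adjp' adjq ν A B) ≫
      adjp'.counit.app (fS.obj (A ⊗ B)) = phi adjf adjp adjq ν adjf' adjg' A B := by
  unfold prodShriek phi
  have := (adjp'.homEquiv _ _).symm_apply_apply
    (inv (projL adjp (fS.obj A) (qL.obj (gS.obj B))) ≫
    (fS.obj A ◁ inv ((bcMor adjf adjq ν).app (gS.obj B))) ≫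
    cupShriek adjf adjf' A (gR.obj (gS.obj B)) ≫ fS.map (A ◁ adjg'.counit.app B))
  rw [Adjunction.homEquiv_counit] at this
  exact this

omit [fL.OplaxMonoidal] [adjf.IsMonoidal] [pL.OplaxMonoidal] [adjp.IsMonoidal] in
lemma extProd_map_phi (A B : S₀) :
    extProd adjf adjp adjq ν (fS.obj A) (gS.obj B) ≫
      fR.map (phi adjf adjp adjq ν adjf' adjg' A B) =
    projR adjf (fS.obj A) (gR.obj (gS.obj B)) ≫
      fR.map (cupShriek adjf adjf' A (gR.obj (gS.obj B)) ≫ fS.map (A ◁ adjg'.counit.app B)) := by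
  unfold extProd phi
  simp only [Category.assoc, ← Functor.map_comp]
  congr 2
  simp only [IsIso.hom_inv_id_assoc, ← MonoidalCategory.whiskerLeft_comp_assoc,
    IsIso.hom_inv_id, MonoidalCategory.whiskerLeft_id, Category.id_comp]

omit [fL.OplaxMonoidal] [adjf.IsMonoidal] [pL.OplaxMonoidal] [adjp.IsMonoidal] in
/-- the common value of `extProd ≫ fR pR prodShriek ≫ fR counit` -/
lemma extProd_map_prodShriek (A B : S₀) :
    extProd adjf adjp adjq ν (fS.obj A) (gS.obj B) ≫
      fR.map (pR.map (prodShriek adjf adjf' adjg' adjp adjp' adjq ν A B)) ≫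
        fR.map (adjp'.counit.app (fS.obj (A ⊗ B))) =
    projR adjf (fS.obj A) (gR.obj (gS.obj B)) ≫
      fR.map (cupShriek adjf adjf' A (gR.obj (gS.obj B)) ≫ fS.map (A ◁ adjg'.counit.app B)) := by
  rw [← Functor.map_comp, map_prodShriek_counit, extProd_map_phi]

omit [fL.OplaxMonoidal] [adjf.IsMonoidal] [pL.OplaxMonoidal] [adjp.IsMonoidal] in
theorem extProd_comp_symm_prodShriek (A B : S₀) :
    extProd adjf adjp adjq ν (fS.obj A) (gS.obj B) ≫
      ((adjp'.comp adjf').homEquiv _ _).symm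
        (prodShriek adjf adjf' adjg' adjp adjp' adjq ν A B) =
      (adjf'.counit.app A ⊗ₘ adjg'.counit.app B) := by
  rw [Adjunction.homEquiv_counit, Adjunction.comp_counit_app]
  dsimp only [Functor.comp_obj, Functor.comp_map, Functor.id_obj]
  have h := extProd_map_prodShriek adjf adjp adjq ν adjf' adjg' adjp' A B
  rw [← Category.assoc, ← Category.assoc, Category.assoc (extProd adjf adjp adjq ν _ _), h,
    Functor.map_comp, Category.assoc, Category.assoc]
  have h2 := adjf'.counit_naturality (A ◁ adjg'.counit.app B)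
  have h3 := map_cupShriek_counit adjf adjf' A (gR.obj (gS.obj B))
  dsimp only [Functor.comp_obj, Functor.id_obj] at h2 h3 ⊢
  rw [h2, reassoc_of% h3, IsIso.hom_inv_id_assoc, MonoidalCategory.tensorHom_def]

omit [fL.OplaxMonoidal] [adjf.IsMonoidal] in
lemma inv_projR_natural_right (A : Y₁) {B B' : S₀} (h : B ⟶ B') :
    fR.map (A ◁ fL.map h) ≫ inv (projR adjf A B') = inv (projR adjf A B) ≫ (fR.obj A ◁ h) := by
  rw [← cancel_epi (projR adjf A B), IsIso.hom_inv_id_assoc, ← Category.assoc,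
    ← projR_natural_right, Category.assoc, IsIso.hom_inv_id, Category.comp_id]

omit [fL.OplaxMonoidal] [adjf.IsMonoidal] in
lemma cupShriek_natural_right (A : S₀) {B B' : S₀} (h : B ⟶ B') :
    (fS.obj A ◁ fL.map h) ≫ cupShriek adjf adjf' A B' =
      cupShriek adjf adjf' A B ≫ fS.map (A ◁ h) := by
  unfold cupShriek
  rw [← adjf'.homEquiv_naturality_left, ← adjf'.homEquiv_naturality_right]
  congr 1
  rw [← Category.assoc, inv_projR_natural_right, Category.assoc, Category.assoc,
    whisker_exchange]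
  rfl

omit [fL.OplaxMonoidal] [adjf.IsMonoidal] [pL.OplaxMonoidal] [adjp.IsMonoidal] in
theorem shriek_square (A B : S₀) :
    extProd adjf adjp adjq ν (fS.obj A) (gS.obj B) ≫
      fR.map (pR.map (prodShriek adjf adjf' adjg' adjp adjp' adjq ν A B)) ≫
        fR.map (adjp'.counit.app (fS.obj (A ⊗ B))) =
      (fR.obj (fS.obj A) ◁ adjg'.counit.app B) ≫ projR adjf (fS.obj A) B ≫
        fR.map (cupShriek adjf adjf' A B) := by
  rw [extProd_map_prodShriek]
  have h1 := cupShriek_natural_right adjf adjf' A (adjg'.counit.app B)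
  have h2 := projR_natural_right adjf (fS.obj A) (adjg'.counit.app B)
  dsimp only [Functor.comp_obj, Functor.id_obj] at h1 h2 ⊢
  rw [← h1, Functor.map_comp, reassoc_of% h2]

omit [fL.OplaxMonoidal] [adjf.IsMonoidal] [pL.OplaxMonoidal] [adjp.IsMonoidal] in
lemma isIso_extProd (A' : Y₁) (B' : Y₂) : IsIso (extProd adjf adjp adjq ν A' B') := by
  unfold extProd
  infer_instance

omit [fL.OplaxMonoidal] [adjf.IsMonoidal] [pL.OplaxMonoidal] [adjp.IsMonoidal] in
theorem fubini_iff (A B : S₀) (A' : Y₁) (B' : Y₂) (C' : X)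
    (trA : A' ⟶ fS.obj A) (trB : B' ⟶ gS.obj B) (trC : C' ⟶ pS.obj (fS.obj (A ⊗ B)))
    (m : pL.obj A' ⊗ qL.obj B' ⟶ C') :
    ((pL.map trA ⊗ₘ qL.map trB) ≫ prodShriek adjf adjf' adjg' adjp adjp' adjq ν A B =
        m ≫ trC) ↔
      (((adjf'.homEquiv _ _).symm trA ⊗ₘ (adjg'.homEquiv _ _).symm trB) =
        extProd adjf adjp adjq ν A' B' ≫ fR.map (pR.map m) ≫
          ((adjp'.comp adjf').homEquiv _ _).symm trC) := by
  have hiso := isIso_extProd adjf adjp adjq ν A' B'
  have key : extProd adjf adjp adjq ν A' B' ≫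
      fR.map (pR.map (pL.map trA ⊗ₘ qL.map trB)) ≫
        ((adjp'.comp adjf').homEquiv _ _).symm
          (prodShriek adjf adjf' adjg' adjp adjp' adjq ν A B) =
      ((adjf'.homEquiv _ _).symm trA ⊗ₘ (adjg'.homEquiv _ _).symm trB) := by
    rw [← Category.assoc, ← extProd_natural, Category.assoc, extProd_comp_symm_prodShriek,
      Adjunction.homEquiv_counit, Adjunction.homEquiv_counit, MonoidalCategory.tensorHom_comp_tensorHom]
  rw [← ((adjp'.comp adjf').homEquiv _ _).symm.injective.eq_iff,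
    Adjunction.homEquiv_naturality_left_symm, Adjunction.homEquiv_naturality_left_symm]
  dsimp only [Functor.comp_obj, Functor.comp_map]
  rw [← cancel_epi (extProd adjf adjp adjq ν A' B'), key]

end Shriek

end Square

end Groth.Agent.Lib.helper2.MonAdj
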