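import Mathlib
import Groth.Prelude.Def_DRing2
import Groth.Prelude.Def_DDual2
import Groth.Agent.Lib.helper2.KPc2
import Groth.Agent.Lib.helper17.PCohAll
import Groth.Agent.Lib.helper17.DRingTA

set_option autoImplicit false

namespace Groth.Agent.Lib.helper2.PCBC

open CategoryTheory CategoryTheory.Limits DerivedCategory HomologicalComplex
open Groth.Agent.Lib.helper2.KPc Groth.Agent.Lib.helper17.DRingTA
open Groth.Agent.Lib.helper17.PCohSeq Groth.Agent.Lib.helper17.DRingBC

attribute [local instance] HasDerivedCategory.standard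

universe u

section General

variable {C : Type*} [Category C] [Abelian C]

lemma epi_homologyMap_of_isIso_f {K L : CochainComplex C ℤ} (φ : K ⟶ L) (j : ℤ)
    (h1 : IsIso (φ.f j)) (h2 : IsIso (φ.f (j + 1))) : Epi (homologyMap φ j) := by
  have h2' : IsIso (φ.f ((ComplexShape.up ℤ).next j)) := by rw [CochainComplex.next]; exact h2
  let ψ := (HomologicalComplex.shortComplexFunctor C (ComplexShape.up ℤ) j).map φ
  have i2 : IsIso ψ.τ₂ := h1
  have i3 : IsIso ψ.τ₃ := h2'
  have i4 : IsIso (ShortComplex.cyclesMap ψ) := inferInstance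
  have nat : (K.sc j).homologyπ ≫ ShortComplex.homologyMap ψ =
      ShortComplex.cyclesMap ψ ≫ (L.sc j).homologyπ := ShortComplex.homologyπ_naturality ψ
  have i5 : Epi ((L.sc j).homologyπ) := inferInstance
  have : Epi (ShortComplex.cyclesMap ψ ≫ (L.sc j).homologyπ) := epi_comp _ _
  exact @epi_of_epi_fac _ _ _ _ _ _ _ _ this nat

lemma epi_map_of_natIso {C D : Type*} [Category C] [Category D] {F G : C ⥤ D} (e : F ≅ G)
    {X Y : C} (f : X ⟶ Y) (h : Epi (F.map f)) : Epi (G.map f) := by
  have : G.map f = e.inv.app X ≫ F.map f ≫ e.hom.app Y := by simp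
  rw [this]; infer_instance

end General

section Main

variable {A B : Type u} [CommRing A] [CommRing B] (φ : A →+* B)

theorem pc_lBaseChange [DRing.HasLBaseChange φ] (K : Dual.D A) (m : ℤ)
    (hK : DRing.IsPseudoCoherent A m K) :
    DRing.IsPseudoCoherent B m ((DRing.LBaseChange φ).obj K) := by
  obtain ⟨E, a, b, α, hz, hff, hiso, hepi⟩ := hK
  have hBFP : KZeroPerf.BFP E :=
    ⟨fun i => ⟨(hff i).1, by have := (hff i).2; exact Module.Projective.of_free⟩, a, b, hz⟩
  have := hBFP.isKProjective
  let F := Q.objPreimage K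
  let e : Q.obj F ≅ K := Q.objObjPreimageIso K
  obtain ⟨g, hg⟩ := (CochainComplex.IsKProjective.Qh_map_bijective E
    ((HomotopyCategory.quotient _ _).obj F)).surjective (α ≫ e.inv)
  obtain ⟨u, rfl⟩ := (HomotopyCategory.quotient _ _).map_surjective g
  have hu : Q.map u = α ≫ e.inv := hg
  -- homology of `u`
  have hisoQ : ∀ j, m < j → IsIso ((homologyFunctor (ModuleCat.{u} A) j).map (Q.map u)) := by
    intro j hj
    rw [hu, Functor.map_comp]
    have := hiso j hj
    infer_instance
  have hepiQ : Epi ((homologyFunctor (ModuleCat.{u} A) m).map (Q.map u)) := by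
    rw [hu, Functor.map_comp]
    infer_instance
  have hiso' : ∀ j, m < j → IsIso (homologyMap u j) := fun j hj =>
    (NatIso.isIso_map_iff (homologyFunctorFactors (ModuleCat.{u} A) j) u).1 (hisoQ j hj)
  have hepi' : Epi (homologyMap u m) :=
    epi_map_of_natIso (homologyFunctorFactors (ModuleCat.{u} A) m) u hepiQ
  -- bounded cohomology
  have hb : ∀ i, max b m < i → IsZero ((homologyFunctor (ModuleCat.{u} A) i).obj (Q.obj F)) := by
    intro i hi
    have h1 : m < i := lt_of_le_of_lt (le_max_right _ _) hi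
    have h2 : b < i := lt_of_le_of_lt (le_max_left _ _) hi
    have := hisoQ i h1
    refine IsZero.of_iso ?_ (asIso ((homologyFunctor (ModuleCat.{u} A) i).map (Q.map u))).symm
    refine IsZero.of_iso ?_ ((homologyFunctorFactors _ i).app E)
    exact isZero_homology_of_isZero_X E i (hz i (Or.inr h2))
  have hPC : PCoh.IsPC (Fr A) (Q.obj F) := isPC_Fr A (Q.obj F) (max b m) hb
  obtain ⟨E', v, u', hvu, hE', hq, _, hviso⟩ :=
    exists_strictPCAll_factorisation (Fr A) m F (Fr_prod A) (Fr_hqs A) (Fr_hql A) hPC E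
      ⟨⟨b, fun i hi => hz i (Or.inr hi)⟩, fun i => (hff i).2⟩ u hiso' hepi'
  obtain ⟨⟨bE', hbE'⟩, hE'free⟩ := hE'
  have hP1 : E'.IsStrictlyLE bE' := by
    rw [CochainComplex.isStrictlyLE_iff]
    exact hbE'
  have hP2 : ∀ n, Projective (E'.X n) := fun n => by
    have : Module.Free A (E'.X n) := hE'free n
    rw [← IsProjective.iff_projective]
    exact Module.Projective.of_free
  have hP3 : E'.IsKProjective := CochainComplex.isKProjective_of_projective E' bE'
  have hu'iso : IsIso (Q.map u') :=
    (DerivedCategory.isIso_Q_map_iff_quasiIso (C := ModuleCat.{u} A) u').2 hq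
  let eK : Q.obj E' ≅ K := asIso (Q.map u') ≪≫ e
  let _ := φ.toAlgebra
  have hbv : ∀ j, m ≤ j → IsIso (((bcCx φ).map v).f j) := by
    intro j hj
    have := hviso j hj
    exact inferInstanceAs (IsIso ((ModuleCat.extendScalars.{u, u, u} φ).map (v.f j)))
  refine ⟨(bcCx φ).obj E, a, b, Q.map ((bcCx φ).map v) ≫ (LBaseChangeIso φ E').inv ≫
    (DRing.LBaseChange φ).map eK.hom,
    fun i hi => (ModuleCat.extendScalars.{u, u, u} φ).map_isZero (hz i hi), fun i => ?_,
    fun j hj => ?_, ?_⟩
  · have h1 : Module.Finite A (E.X i) := (hff i).1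
    have h2 : Module.Free A (E.X i) := (hff i).2
    let l : ((ModuleCat.extendScalars.{u, u, u} (algebraMap A B)).obj (E.X i)) ≃ₗ[B]
      (TensorProduct A B (E.X i)) := extendScalarsObjEquiv (E.X i)
    exact ⟨Module.Finite.equiv l.symm, Module.Free.of_equiv l.symm⟩
  · rw [Functor.map_comp, Functor.map_comp]
    have : IsIso ((homologyFunctor (ModuleCat.{u} B) j).map (Q.map ((bcCx φ).map v))) := by
      refine (NatIso.isIso_map_iff (homologyFunctorFactors (ModuleCat.{u} B) j) _).2 ?_
      exact isIso_homologyMap_of_isIso_f _ j (hbv _ (by lia)) (hbv _ (by lia)) (hbv _ (by lia))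
    infer_instance
  · rw [Functor.map_comp, Functor.map_comp]
    have : Epi ((homologyFunctor (ModuleCat.{u} B) m).map (Q.map ((bcCx φ).map v))) := by
      refine epi_map_of_natIso (homologyFunctorFactors (ModuleCat.{u} B) m).symm _ ?_
      exact epi_homologyMap_of_isIso_f _ m (hbv _ le_rfl) (hbv _ (by lia))
    infer_instance

end Main

end Groth.Agent.Lib.helper2.PCBC
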