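import Mathlib
import Groth.Prelude.Def_ega3
import Groth.Agent.Lib.helper2.NilDev
import Groth.Agent.Lib.helper17.DRingPC
import Groth.Agent.Lib.helper17.DRingBC
import Groth.Agent.Lib.helper17.PCohTri
import Groth.Agent.Lib.helper17.PCohT1
import Groth.Agent.Lib.helper17.PCohCore
import Groth.Agent.Lib.helper17.PerfLift
import Groth.Agent.Lib.helper17.DRingTA

/-!
# Pseudo-coherence along a surjection with nilpotent kernel (helper2)
-/

set_option autoImplicit false
set_option linter.unusedSectionVars false

namespace Groth.Agent.Lib.helper2.PCNil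

open CategoryTheory CategoryTheory.Limits DerivedCategory MonoidalCategory CohIII
open Groth.Agent.Lib.helper17.DRingPC Groth.Agent.Lib.helper17.PCohBasic
open TensorProduct

attribute [local instance] HasDerivedCategory.standard

universe u

section Nakayama

variable {A B : Type u} [CommRing A] [CommRing B] [Algebra A B]

/-- (N1) nilpotent Nakayama for base change -/
lemma isZero_of_isZero_extendScalars (hφ : Function.Surjective (algebraMap A B))
    (hnil : IsNilpotent (RingHom.ker (algebraMap A B))) (X : ModuleCat.{u} A)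
    (h : IsZero ((ModuleCat.extendScalars.{u, u, u} (algebraMap A B)).obj X)) : IsZero X := by
  let I := RingHom.ker (algebraMap A B)
  let N : Submodule A X := I • (⊤ : Submodule A X)
  have hX' : ∀ r ∈ I, ∀ x : X ⧸ N, r • x = 0 := by
    intro r hr x
    obtain ⟨y, rfl⟩ := N.mkQ_surjective x
    rw [← map_smul]
    exact (Submodule.Quotient.mk_eq_zero N).2 (Submodule.smul_mem_smul hr Submodule.mem_top)
  obtain ⟨Y, ⟨e⟩⟩ := NilDev.exists_res_iso hφ (X ⧸ N) hX'
  let π : X ⟶ (ModuleCat.restrictScalars.{u} (algebraMap A B)).obj Y :=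
    ModuleCat.ofHom N.mkQ ≫ e.inv
  have hπ : π = 0 := by
    let adj := ModuleCat.extendRestrictScalarsAdj.{u, u, u} (algebraMap A B)
    have h1 : π = adj.homEquiv X Y ((adj.homEquiv X Y).symm π) := by simp
    rw [h1, h.eq_of_src ((adj.homEquiv X Y).symm π) 0, Adjunction.homEquiv_unit,
      Functor.map_zero, comp_zero]
  have hepi : Epi (ModuleCat.ofHom N.mkQ) := by
    rw [ModuleCat.epi_iff_surjective]
    exact N.mkQ_surjective
  have hepi' : Epi π := epi_comp _ _
  have hY : IsZero ((ModuleCat.restrictScalars.{u} (algebraMap A B)).obj Y) := by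
    rw [IsZero.iff_id_eq_zero, ← cancel_epi π, hπ, zero_comp, zero_comp]
  have hsub : Subsingleton (X ⧸ N) :=
    ModuleCat.subsingleton_of_isZero (hY.of_iso e.symm)
  have htop : I • (⊤ : Submodule A X) = ⊤ := Submodule.Quotient.subsingleton_iff.mp hsub
  obtain ⟨n, hn⟩ := hnil
  have hpow : ∀ k : ℕ, I ^ k • (⊤ : Submodule A X) = ⊤ := by
    intro k
    induction k with
    | zero => simp
    | succ k ih => rw [pow_succ, mul_smul, htop, ih]
  have h2 : (⊤ : Submodule A X) = ⊥ := by
    rw [← hpow n]
    change RingHom.ker (algebraMap A B) ^ n • (⊤ : Submodule A X) = ⊥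
    rw [hn]
    simp
  have : Subsingleton X := by
    refine ⟨fun x y => ?_⟩
    have hx : x ∈ (⊤ : Submodule A X) := Submodule.mem_top
    have hy : y ∈ (⊤ : Submodule A X) := Submodule.mem_top
    rw [h2, Submodule.mem_bot] at hx hy
    rw [hx, hy]
  exact ModuleCat.isZero_of_subsingleton X

/-- (N1') module-level form -/
lemma subsingleton_of_subsingleton_tensor (hφ : Function.Surjective (algebraMap A B))
    (hnil : IsNilpotent (RingHom.ker (algebraMap A B))) (X : Type u) [AddCommGroup X] [Module A X]
    (h : Subsingleton (B ⊗[A] X)) : Subsingleton X := by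
  have h1 : IsZero ((ModuleCat.extendScalars.{u, u, u} (algebraMap A B)).obj (ModuleCat.of A X)) :=
    (ModuleCat.isZero_of_subsingleton (ModuleCat.of B (B ⊗[A] X))).of_iso
      (Groth.Agent.Lib.helper17.DRingBC.extendScalarsObjIso (ModuleCat.of A X))
  exact ModuleCat.subsingleton_of_isZero
    (isZero_of_isZero_extendScalars hφ hnil (ModuleCat.of A X) h1)

/-- (N3') surjectivity is detected after base change -/
lemma surjective_of_surjective_baseChange (hφ : Function.Surjective (algebraMap A B))
    (hnil : IsNilpotent (RingHom.ker (algebraMap A B))) {F M : Type u} [AddCommGroup F]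
    [Module A F] [AddCommGroup M] [Module A M] (v : F →ₗ[A] M)
    (h : Function.Surjective (LinearMap.baseChange B v)) : Function.Surjective v := by
  have hsub : Subsingleton (B ⊗[A] (M ⧸ LinearMap.range v)) := by
    refine ⟨fun y z => ?_⟩
    have key : ∀ w : B ⊗[A] (M ⧸ LinearMap.range v), w = 0 := by
      intro w
      induction w using TensorProduct.induction_on with
      | zero => rfl
      | tmul b m =>
        obtain ⟨m, rfl⟩ := (LinearMap.range v).mkQ_surjective m
        obtain ⟨z, hz⟩ := h (b ⊗ₜ[A] m)
        have h1 : b ⊗ₜ[A] ((LinearMap.range v).mkQ m) =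
            LinearMap.baseChange B (LinearMap.range v).mkQ (b ⊗ₜ[A] m) := by
          rw [LinearMap.baseChange_tmul]
        rw [h1, ← hz, ← LinearMap.comp_apply, ← LinearMap.baseChange_comp]
        have h2 : (LinearMap.range v).mkQ ∘ₗ v = 0 := by
          ext x
          simp
        rw [h2, LinearMap.baseChange_zero, LinearMap.zero_apply]
      | add y z hy hz => rw [hy, hz, add_zero]
    rw [key y, key z]
  have h3 := subsingleton_of_subsingleton_tensor hφ hnil _ hsub
  rw [← LinearMap.range_eq_top]
  exact Submodule.Quotient.subsingleton_iff.mp h3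

lemma exists_one_tmul (hφ : Function.Surjective (algebraMap A B)) (M : Type u) [AddCommGroup M]
    [Module A M] (y : B ⊗[A] M) : ∃ x : M, (1 : B) ⊗ₜ[A] x = y := by
  induction y using TensorProduct.induction_on with
  | zero => exact ⟨0, by simp⟩
  | tmul b m =>
    obtain ⟨a, rfl⟩ := hφ b
    exact ⟨a • m, by rw [Algebra.algebraMap_eq_smul_one, TensorProduct.smul_tmul]⟩
  | add y z hy hz =>
    obtain ⟨x, rfl⟩ := hy
    obtain ⟨x', rfl⟩ := hz
    exact ⟨x + x', by rw [TensorProduct.tmul_add]⟩

/-- finite generation descends along a surjection with nilpotent kernel -/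
lemma finite_of_finite_tensor (hφ : Function.Surjective (algebraMap A B))
    (hnil : IsNilpotent (RingHom.ker (algebraMap A B))) (M : Type u) [AddCommGroup M] [Module A M]
    (h : Module.Finite B (B ⊗[A] M)) : Module.Finite A M := by
  obtain ⟨n, s, hs⟩ := Module.Finite.exists_fin (R := B) (M := B ⊗[A] M)
  choose x hx using fun j => exists_one_tmul hφ M (s j)
  let v : (Fin n → A) →ₗ[A] M := Fintype.linearCombination A x
  have hsurj : Function.Surjective (LinearMap.baseChange B v) := by
    rw [← LinearMap.range_eq_top, eq_top_iff, ← hs, Submodule.span_le]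
    rintro _ ⟨j, rfl⟩
    refine ⟨(1 : B) ⊗ₜ[A] (Pi.single j 1 : Fin n → A), ?_⟩
    rw [← hx j, LinearMap.baseChange_tmul]
    congr 1
    simp [v]
  exact Module.Finite.of_surjective v (surjective_of_surjective_baseChange hφ hnil v hsurj)

lemma finite_of_finite_extendScalars (hφ : Function.Surjective (algebraMap A B))
    (hnil : IsNilpotent (RingHom.ker (algebraMap A B))) (M : ModuleCat.{u} A)
    (h : Module.Finite B ((ModuleCat.extendScalars.{u, u, u} (algebraMap A B)).obj M)) :
    Module.Finite A M := by
  have : Module.Finite B (B ⊗[A] M) :=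
    Module.Finite.equiv (Groth.Agent.Lib.helper17.DRingBC.extendScalarsObjEquiv M)
  exact finite_of_finite_tensor hφ hnil M this

end Nakayama

section Top

variable {A B : Type u} [CommRing A] [CommRing B] (φ : A →+* B)

/-- base change commutes with opcycles -/
noncomputable def opcyclesBcIso (P : DRing.Cx A) (j : ℤ) :
    (ModuleCat.extendScalars.{u, u, u} φ).obj (P.opcycles j) ≅
      ((KPc.bcCx φ).obj P).opcycles j := by
  have : PreservesColimits (ModuleCat.extendScalars.{u, u, u} φ) :=
    (ModuleCat.extendRestrictScalarsAdj.{u, u, u} φ).leftAdjoint_preservesColimits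
  let c1 := P.opcyclesIsCokernel (j - 1) j (by simp)
  let c1' := CokernelCofork.mapIsColimit _ c1 (ModuleCat.extendScalars.{u, u, u} φ)
  let c2 := ((KPc.bcCx φ).obj P).opcyclesIsCokernel (j - 1) j (by simp)
  exact IsColimit.coconePointUniqueUpToIso c1' c2

end Top

section TopFinite

variable {A B : Type u} [CommRing A] [CommRing B] [Algebra A B]

/-- finiteness of the top cohomology descends -/
lemma finite_homology_top (hφ : Function.Surjective (algebraMap A B))
    (hnil : IsNilpotent (RingHom.ker (algebraMap A B))) (P : DRing.Cx A) (b : ℤ)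
    (hz : ∀ i, b < i → IsZero (P.X i))
    (hfin : Module.Finite B (((KPc.bcCx (algebraMap A B)).obj P).homology b)) :
    Module.Finite A (P.homology b) := by
  have hd : P.d b (b + 1) = 0 := (hz (b + 1) (by omega)).eq_of_tgt _ _
  have hd' : ((KPc.bcCx (algebraMap A B)).obj P).d b (b + 1) = 0 :=
    ((ModuleCat.extendScalars.{u, u, u} (algebraMap A B)).map_isZero
      (hz (b + 1) (by omega))).eq_of_tgt _ _
  let e1 := P.isoHomologyι b (b + 1) (by simp) hd
  let e2 := ((KPc.bcCx (algebraMap A B)).obj P).isoHomologyι b (b + 1) (by simp) hd'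
  let e3 := opcyclesBcIso (algebraMap A B) P b
  have h1 : Module.Finite B
      ((ModuleCat.extendScalars.{u, u, u} (algebraMap A B)).obj (P.opcycles b)) :=
    Module.Finite.equiv (e2 ≪≫ e3.symm).toLinearEquiv
  have h2 := finite_of_finite_extendScalars hφ hnil _ h1
  exact Module.Finite.equiv e1.symm.toLinearEquiv

end TopFinite

section Main

variable {A B : Type u} [CommRing A] [CommRing B] [Algebra A B]

open Groth.Agent.Lib.helper17.PCohTri Groth.Agent.Lib.helper17.PCohD
  Groth.Agent.Lib.helper17.PCohT1 Groth.Agent.Lib.helper17.DRingBC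
open HomologicalComplex

lemma nonempty_bcIso (φ : A →+* B) {P' P : DRing.Cx A} [P'.IsKProjective] [P.IsKProjective]
    (e : Q.obj P' ≅ Q.obj P) :
    Nonempty (Q.obj ((KPc.bcCx φ).obj P') ≅ Q.obj ((KPc.bcCx φ).obj P)) := by
  obtain ⟨g, hg⟩ := ConeRep.exists_chain_map P' P e.hom
  have : QuasiIso g := by
    rw [← isIso_Q_map_iff_quasiIso, hg]
    infer_instance
  obtain ⟨he, _⟩ := (CochainComplex.IsKProjective.quasiIso_iff g).1 inferInstance
  let he' := (ModuleCat.extendScalars.{u, u, u} φ).mapHomotopyEquiv he
  have : IsIso (Q.map he'.hom) := (isIso_Q_map_iff_quasiIso (φ := he'.hom)).2 inferInstance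
  exact ⟨asIso (Q.map he'.hom)⟩

lemma FF_bc (M : ModuleCat.{u} A) (h : FF A M) :
    FF B ((ModuleCat.extendScalars.{u, u, u} (algebraMap A B)).obj M) := by
  obtain ⟨h1, h2⟩ := h
  exact (FF B).prop_of_iso (extendScalarsObjIso M).symm
    (⟨inferInstance, inferInstance⟩ : FF B (ModuleCat.of B (B ⊗[A] M)))

variable (A B) in
lemma strictPC_bc (m : ℤ) (E : DRing.Cx A) (h : PCoh.IsStrictPC (FF A) m E) :
    PCoh.IsStrictPC (FF B) m ((KPc.bcCx (algebraMap A B)).obj E) := by
  obtain ⟨⟨b, hb⟩, hP⟩ := h
  exact ⟨⟨b, fun i hi => (ModuleCat.extendScalars.{u, u, u} (algebraMap A B)).map_isZero (hb i hi)⟩,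
    fun i hi => FF_bc _ (hP i hi)⟩

/-- finiteness of the top cohomology from pseudo-coherence of the base change -/
lemma top_finite (hφ : Function.Surjective (algebraMap A B))
    (hnil : IsNilpotent (RingHom.ker (algebraMap A B))) (P : DRing.Cx A) (b : ℤ)
    (hz : ∀ i, b < i → IsZero (P.X i))
    (h : NPC (FF B) b (Q.obj ((KPc.bcCx (algebraMap A B)).obj P))) :
    Module.Finite A (P.homology b) := by
  have hac : ∀ i : ℤ, b < i → IsZero ((DerivedCategory.homologyFunctor (ModuleCat.{u} B) i).obj
      (Q.obj ((KPc.bcCx (algebraMap A B)).obj P))) := fun i hi =>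
    (Groth.Agent.Lib.helper17.DRingTA.isZero_homology_of_isZero_X
      ((KPc.bcCx (algebraMap A B)).obj P) i
      ((ModuleCat.extendScalars.{u, u, u} (algebraMap A B)).map_isZero (hz i hi))).of_iso
      ((DerivedCategory.homologyFunctorFactors (ModuleCat.{u} B) i).app
        ((KPc.bcCx (algebraMap A B)).obj P))
  have h1 := (NPC_iff_isOfFiniteType (FF B) (FF_hqs B) (FF_hql B) b _ hac).1 h
  have h2 : Module.Finite B ((DerivedCategory.homologyFunctor (ModuleCat.{u} B) b).obj
      (Q.obj ((KPc.bcCx (algebraMap A B)).obj P))) := (isOfFiniteType_FF_iff B _).1 h1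
  have h2' : Module.Finite B ((Q ⋙ DerivedCategory.homologyFunctor (ModuleCat.{u} B) b).obj
      ((KPc.bcCx (algebraMap A B)).obj P)) := h2
  have h3 : Module.Finite B (((KPc.bcCx (algebraMap A B)).obj P).homology b) :=
    Module.Finite.equiv ((DerivedCategory.homologyFunctorFactors (ModuleCat.{u} B) b).app
      ((KPc.bcCx (algebraMap A B)).obj P)).toLinearEquiv
  exact finite_homology_top hφ hnil P b hz h3

/-- `b`-pseudo-coherence from finiteness of the top cohomology -/
lemma npc_top (P : DRing.Cx A) (b : ℤ) (hz : ∀ i, b < i → IsZero (P.X i))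
    (h : Module.Finite A (P.homology b)) : NPC (FF A) b (Q.obj P) := by
  have hac : ∀ i : ℤ, b < i →
      IsZero ((DerivedCategory.homologyFunctor (ModuleCat.{u} A) i).obj (Q.obj P)) :=
    fun i hi => (Groth.Agent.Lib.helper17.DRingTA.isZero_homology_of_isZero_X P i (hz i hi)).of_iso
      ((DerivedCategory.homologyFunctorFactors (ModuleCat.{u} A) i).app P)
  refine (NPC_iff_isOfFiniteType (FF A) (FF_hqs A) (FF_hql A) b _ hac).2 ?_
  refine (isOfFiniteType_FF_iff A _).2 ?_
  have h' : Module.Finite A ((HomologicalComplex.homologyFunctor (ModuleCat.{u} A)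
      (ComplexShape.up ℤ) b).obj P) := h
  exact Module.Finite.equiv
    ((DerivedCategory.homologyFunctorFactors (ModuleCat.{u} A) b).app P).symm.toLinearEquiv

set_option maxHeartbeats 1600000 in
/-- pseudo-coherence descends along a surjection with nilpotent kernel (complex level) -/
theorem npc_of_bc (hφ : Function.Surjective (algebraMap A B))
    (hnil : IsNilpotent (RingHom.ker (algebraMap A B))) (n : ℕ) :
    ∀ (b : ℤ) (P : DRing.Cx A), P.IsKProjective → (∀ i, b < i → IsZero (P.homology i)) →
      (∀ m : ℤ, NPC (FF B) m (Q.obj ((KPc.bcCx (algebraMap A B)).obj P))) →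
      NPC (FF A) (b - n) (Q.obj P) := by
  induction n with
  | zero =>
    intro b P hK hP hPC
    obtain ⟨P', hz, hfree, hK', ⟨e⟩⟩ := NilDev.exists_res_vanishing (Q.obj P) (b + 1)
      (fun i hi => (hP i (by omega)).of_iso ((DerivedCategory.homologyFunctorFactors _ i).app P))
    obtain ⟨e'⟩ := nonempty_bcIso (algebraMap A B) e
    have hz' : ∀ i, b < i → IsZero (P'.X i) := fun i hi => hz i (by omega)
    have hfin := top_finite hφ hnil P' b hz' ((hPC b).of_iso (FF B) e'.symm)
    refine NPC.of_iso (FF A) ?_ e
    simpa using npc_top P' b hz' hfin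
  | succ n ih =>
    intro b P hK hP hPC
    obtain ⟨P', hz, hfree, hK', ⟨e⟩⟩ := NilDev.exists_res_vanishing (Q.obj P) (b + 1)
      (fun i hi => (hP i (by omega)).of_iso ((DerivedCategory.homologyFunctorFactors _ i).app P))
    obtain ⟨e'⟩ := nonempty_bcIso (algebraMap A B) e
    have hz' : ∀ i, b < i → IsZero (P'.X i) := fun i hi => hz i (by omega)
    have hPC' : ∀ m : ℤ, NPC (FF B) m (Q.obj ((KPc.bcCx (algebraMap A B)).obj P')) :=
      fun m => (hPC m).of_iso (FF B) e'.symm
    have hfin := top_finite hφ hnil P' b hz' (hPC' b)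
    refine NPC.of_iso (FF A) ?_ e
    have hd : P'.d b (b + 1) = 0 := (hz' (b + 1) (by omega)).eq_of_tgt _ _
    have hfin' : Module.Finite A (P'.opcycles b) :=
      Module.Finite.equiv (P'.isoHomologyι b (b + 1) (by simp) hd).toLinearEquiv
    obtain ⟨k, s, hs⟩ := Module.Finite.exists_fin (R := A) (M := P'.opcycles b)
    let E : ModuleCat.{u} A := ModuleCat.of A (Fin k → A)
    have hE : FF A E := ⟨(inferInstance : Module.Finite A (Fin k → A)),
      (inferInstance : Module.Free A (Fin k → A))⟩
    let u : E ⟶ P'.opcycles b := ModuleCat.ofHom (Fintype.linearCombination A s)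
    have hu : Epi u := by
      rw [ModuleCat.epi_iff_surjective]
      intro y
      have hy : y ∈ Submodule.span A (Set.range s) := by rw [hs]; trivial
      rw [← Fintype.range_linearCombination] at hy
      exact hy
    have hEproj : Projective E :=
      (IsProjective.iff_projective (R := A) (Fin k → A)).1 inferInstance
    let v : E ⟶ P'.X b := Projective.factorThru u (P'.pOpcycles b)
    have hv : v ≫ P'.pOpcycles b = u := Projective.factorThru_comp _ _
    let S : DRing.Cx A := (HomologicalComplex.single _ (ComplexShape.up ℤ) b).obj E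
    let f : S ⟶ P' := HomologicalComplex.mkHomFromSingle v
      (fun j hj => (hz' j (by simp at hj; omega)).eq_of_tgt _ _)
    have hSPC : ∀ m : ℤ, PCoh.IsStrictPC (FF A) m S := fun m => isStrictPC_single (FF A) b m hE
    -- surjectivity on `H^b`
    have hepi1 : Epi (f.f b ≫ P'.pOpcycles b) := by
      rw [HomologicalComplex.mkHomFromSingle_f, Category.assoc, hv]
      infer_instance
    have hepi2 : Epi (HomologicalComplex.opcyclesMap f b) := by
      have : Epi (S.pOpcycles b ≫ HomologicalComplex.opcyclesMap f b) := by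
        rw [HomologicalComplex.p_opcyclesMap]
        exact hepi1
      exact epi_of_epi (S.pOpcycles b) _
    have hSd : S.d b (b + 1) = 0 := HomologicalComplex.single_obj_d _ _ _ _ _
    have hepi3 : Epi (HomologicalComplex.homologyMap f b) := by
      have h1 := HomologicalComplex.homologyι_naturality f b
      have i1 : IsIso (P'.homologyι b) := P'.isIso_homologyι b (b + 1) (by simp) hd
      have i2 : IsIso (S.homologyι b) := S.isIso_homologyι b (b + 1) (by simp) hSd
      have h2 : HomologicalComplex.homologyMap f b =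
          (S.homologyι b ≫ HomologicalComplex.opcyclesMap f b) ≫ inv (P'.homologyι b) := by
        rw [← h1, Category.assoc, IsIso.hom_inv_id, Category.comp_id]
      rw [h2]
      infer_instance
    have hmono : Mono (HomologicalComplex.homologyMap f (b + 1)) := by
      have hz1 : IsZero (S.homology (b + 1)) :=
        Groth.Agent.Lib.helper17.DRingTA.isZero_homology_of_isZero_X _ _
          (HomologicalComplex.isZero_single_obj_X _ _ _ _ (by omega))
      exact ⟨fun _ _ _ => hz1.eq_of_tgt _ _⟩
    have hCb : IsZero ((CochainComplex.mappingCone f).homology b) :=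
      Groth.Agent.Lib.helper17.PCohCore.isZero_homology_mappingCone f b hepi3 hmono
    have hCz : ∀ i, b - 1 < i → IsZero ((CochainComplex.mappingCone f).homology i) := by
      intro i hi
      by_cases hib : i = b
      · subst hib
        exact hCb
      · apply Groth.Agent.Lib.helper17.DRingTA.isZero_homology_of_isZero_X
        exact Groth.Agent.Lib.helper17.PerfLift.isZero_mappingCone_X f i
          (HomologicalComplex.isZero_single_obj_X _ _ _ _ (by omega)) (hz' i (by omega))
    -- K-projectivity
    have hSK : S.IsKProjective := by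
      have h1 : S.IsStrictlyLE b := by
        rw [CochainComplex.isStrictlyLE_iff]
        intro i hi
        exact HomologicalComplex.isZero_single_obj_X _ _ _ _ (by omega)
      have h2 : ∀ i, Projective (S.X i) := fun i => by
        by_cases hib : i = b
        · subst hib
          exact Projective.of_iso (HomologicalComplex.singleObjXSelf (ComplexShape.up ℤ) i E).symm
            hEproj
        · exact (HomologicalComplex.isZero_single_obj_X _ _ _ _ hib).projective
      exact CochainComplex.isKProjective_of_projective S b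
    have hCK : (CochainComplex.mappingCone f).IsKProjective := KProjRes.isKProjective_mappingCone f
    -- the base change of the cone
    have hCPC : ∀ m : ℤ, NPC (FF B) m
        (Q.obj ((KPc.bcCx (algebraMap A B)).obj (CochainComplex.mappingCone f))) := by
      intro m
      have hT := ConeRep.mapTriangle_distinguished ((KPc.bcCx (algebraMap A B)).map f)
      have h1 : NPC (FF B) (m + 1) (Q.obj ((KPc.bcCx (algebraMap A B)).obj S)) :=
        ⟨_, strictPC_bc A B (m + 1) S (hSPC (m + 1)), ⟨Iso.refl _⟩⟩
      have h3 := (NPC_triangle (FF B) (FF_prod B) (FF_hqs B) (FF_hql B) m _ hT).1 h1 (hPC' m)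
      exact h3.of_iso (FF B) (Q.mapIso (CochainComplex.mappingCone.mapHomologicalComplexIso f
        (ModuleCat.extendScalars.{u, u, u} (algebraMap A B))).symm)
    have hC := ih (b - 1) (CochainComplex.mappingCone f) hCK hCz hCPC
    have hT := ConeRep.mapTriangle_distinguished f
    have hS : NPC (FF A) (b - 1 - n) (Q.obj S) := ⟨S, hSPC _, ⟨Iso.refl _⟩⟩
    have h4 := (NPC_triangle (FF A) (FF_prod A) (FF_hqs A) (FF_hql A) (b - 1 - n) _ hT).2.1 hS hC
    have hcast : b - ((n + 1 : ℕ) : ℤ) = b - 1 - n := by push_cast; ring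
    rw [hcast]
    exact h4

end Main

section Final

variable {A B : Type u} [CommRing A] [CommRing B] [Algebra A B]

open Groth.Agent.Lib.helper17.PCohD Groth.Agent.H4FlatCx

/-- `T_i` vanishing descends along a surjection with nilpotent kernel -/
lemma isZero_T_of_nilpotent (hφ : Function.Surjective (algebraMap A B))
    (hnil : IsNilpotent (RingHom.ker (algebraMap A B))) (P : DRing.Cx A)
    (hP : ∀ j, Module.Flat A (P.X j)) (i : ℤ)
    (h : ∀ M' : ModuleCat.{u} B, IsZero ((TFun ((KPc.bcCx (algebraMap A B)).obj P) i).obj M'))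
    (M : ModuleCat.{u} A) : IsZero ((TFun P i).obj M) := by
  obtain ⟨n, hn⟩ := hnil
  exact NilDev.isZero_T_of_pow (RingHom.ker (algebraMap A B)) P hP i
    (fun M' _ _ hM' => NilDev.isZero_T_of_killed hφ P i h M' hM') n M
    (fun r hr x => by
      rw [hn] at hr
      have : r = 0 := hr
      rw [this, zero_smul])

/-- pseudo-coherence descends along a surjection with nilpotent kernel -/
theorem isPC_of_bc (hφ : Function.Surjective (algebraMap A B))
    (hnil : IsNilpotent (RingHom.ker (algebraMap A B))) (P : DRing.Cx A) [P.IsKProjective]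
    (hP : ∀ j, Module.Flat A (P.X j))
    (h : PCoh.IsPC (FF B) (Q.obj ((KPc.bcCx (algebraMap A B)).obj P))) :
    PCoh.IsPC (FF A) (Q.obj P) := by
  -- the base change is bounded above
  obtain ⟨E, ⟨⟨b, hb⟩, _⟩, ⟨e⟩⟩ := h 0
  have hbc : ∀ i, b + 1 ≤ i → IsZero (((KPc.bcCx (algebraMap A B)).obj P).homology i) := by
    intro i hi
    have h1 : IsZero (E.homology i) :=
      Groth.Agent.Lib.helper17.DRingTA.isZero_homology_of_isZero_X E i (hb i (by omega))
    exact h1.of_iso (((DerivedCategory.homologyFunctorFactors (ModuleCat.{u} B) i).app _).symm ≪≫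
      (DerivedCategory.homologyFunctor (ModuleCat.{u} B) i).mapIso e.symm ≪≫
      (DerivedCategory.homologyFunctorFactors (ModuleCat.{u} B) i).app E)
  have := NilDev.isKProjective_bcCx (algebraMap A B) P
  have hPb : ∀ i, b < i → IsZero (P.homology i) := by
    intro i hi
    have h1 := isZero_T_of_nilpotent hφ hnil P hP i
      (fun M' => NilDev.isZero_T_of_homology_vanishing _ (b + 1) hbc M' i (by omega))
      (ModuleCat.of A A)
    exact h1.of_iso (TUnitIso P i).symm
  intro m
  have h2 := npc_of_bc hφ hnil (b - m).toNat b P inferInstance hPb h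
  exact NPC.of_le (FF A) (by have := Int.self_le_toNat (b - m); omega) h2

end Final

end Groth.Agent.Lib.helper2.PCNil
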