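import Mathlib
import Groth.Prelude.Def_ega3
import Groth.Agent.Lib.helper2.PCNil

/-!
# Pseudo-coherence / tor amplitude along a pair of surjections whose kernels multiply to zero
(helper2)
-/

set_option autoImplicit false
set_option linter.unusedSectionVars false

namespace Groth.Agent.Lib.helper2.PCTwo

open CategoryTheory CategoryTheory.Limits DerivedCategory MonoidalCategory CohIII
open Groth.Agent.Lib.helper17.DRingPC Groth.Agent.Lib.helper17.PCohBasic
open TensorProduct

attribute [local instance] HasDerivedCategory.standard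

universe u

section One

variable {A B : Type u} [CommRing A] [CommRing B] [Algebra A B]

/-- if `B ⊗ X = 0` then `X = I X` -/
lemma smul_top_eq_top (hφ : Function.Surjective (algebraMap A B))
    (X : Type u) [AddCommGroup X] [Module A X]
    (h : Subsingleton (B ⊗[A] X)) :
    RingHom.ker (algebraMap A B) • (⊤ : Submodule A X) = ⊤ := by
  let f : A →ₐ[A] B := Algebra.ofId A B
  have hf : Function.Surjective f := hφ
  let e1 : (A ⧸ RingHom.ker f) ≃ₗ[A] B := (Ideal.quotientKerAlgEquivOfSurjective hf).toLinearEquiv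
  let e2 : (A ⧸ RingHom.ker f) ⊗[A] X ≃ₗ[A] B ⊗[A] X :=
    TensorProduct.congr e1 (LinearEquiv.refl A X)
  let e3 := TensorProduct.quotTensorEquivQuotSMul X (RingHom.ker f)
  have hsub : Subsingleton (X ⧸ (RingHom.ker f) • (⊤ : Submodule A X)) :=
    (e3.symm.trans e2).toEquiv.subsingleton
  exact Submodule.Quotient.subsingleton_iff.mp hsub

end One

section Two

variable {A B₁ B₂ : Type u} [CommRing A] [CommRing B₁] [CommRing B₂] [Algebra A B₁] [Algebra A B₂]

lemma subsingleton_of_subsingleton_tensor (h₁ : Function.Surjective (algebraMap A B₁))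
    (h₂ : Function.Surjective (algebraMap A B₂))
    (h12 : RingHom.ker (algebraMap A B₁) * RingHom.ker (algebraMap A B₂) = ⊥)
    (X : Type u) [AddCommGroup X] [Module A X]
    (hX₁ : Subsingleton (B₁ ⊗[A] X)) (hX₂ : Subsingleton (B₂ ⊗[A] X)) : Subsingleton X := by
  have e1 := smul_top_eq_top h₁ X hX₁
  have e2 := smul_top_eq_top h₂ X hX₂
  have h3 : (⊤ : Submodule A X) = ⊥ := by
    rw [← e1, ← e2, ← mul_smul, h12, Submodule.bot_smul]
  refine ⟨fun x y => ?_⟩
  have hx : x ∈ (⊤ : Submodule A X) := Submodule.mem_top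
  have hy : y ∈ (⊤ : Submodule A X) := Submodule.mem_top
  rw [h3, Submodule.mem_bot] at hx hy
  rw [hx, hy]

lemma subsingleton_tensor_quot {B : Type u} [CommRing B] [Algebra A B]
    {F M : Type u} [AddCommGroup F]
    [Module A F] [AddCommGroup M] [Module A M] (v : F →ₗ[A] M)
    (h : Function.Surjective (LinearMap.baseChange B v)) :
    Subsingleton (B ⊗[A] (M ⧸ LinearMap.range v)) := by
  refine ⟨fun y z => ?_⟩
  have key : ∀ w : B ⊗[A] (M ⧸ LinearMap.range v), w = 0 := by
    intro w
    induction w using TensorProduct.induction_on with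
    | zero => rfl
    | tmul b m =>
      obtain ⟨m, rfl⟩ := (LinearMap.range v).mkQ_surjective m
      obtain ⟨z, hz⟩ := h (b ⊗ₜ[A] m)
      have h1 : b ⊗ₜ[A] ((LinearMap.range v).mkQ m) =
          LinearMap.baseChange B (LinearMap.range v).mkQ (b ⊗ₜ[A] m) := by
        rw [LinearMap.baseChange_tmul]
      rw [h1, ← hz, ← LinearMap.comp_apply, ← LinearMap.baseChange_comp]
      have h2 : (LinearMap.range v).mkQ ∘ₗ v = 0 := by
        ext x
        simp
      rw [h2, LinearMap.baseChange_zero, LinearMap.zero_apply]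
    | add y z hy hz => rw [hy, hz, add_zero]
  rw [key y, key z]

lemma surjective_of_surjective_baseChange (h₁ : Function.Surjective (algebraMap A B₁))
    (h₂ : Function.Surjective (algebraMap A B₂))
    (h12 : RingHom.ker (algebraMap A B₁) * RingHom.ker (algebraMap A B₂) = ⊥)
    {F M : Type u} [AddCommGroup F]
    [Module A F] [AddCommGroup M] [Module A M] (v : F →ₗ[A] M)
    (hv₁ : Function.Surjective (LinearMap.baseChange B₁ v))
    (hv₂ : Function.Surjective (LinearMap.baseChange B₂ v)) : Function.Surjective v := by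
  have h3 := subsingleton_of_subsingleton_tensor h₁ h₂ h12 _
    (subsingleton_tensor_quot v hv₁) (subsingleton_tensor_quot v hv₂)
  rw [← LinearMap.range_eq_top]
  exact Submodule.Quotient.subsingleton_iff.mp h3

/-- finite generation descends along a pair of surjections with `I₁ I₂ = 0` -/
lemma finite_of_finite_tensor (h₁ : Function.Surjective (algebraMap A B₁))
    (h₂ : Function.Surjective (algebraMap A B₂))
    (h12 : RingHom.ker (algebraMap A B₁) * RingHom.ker (algebraMap A B₂) = ⊥)
    (M : Type u) [AddCommGroup M] [Module A M]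
    (hM₁ : Module.Finite B₁ (B₁ ⊗[A] M)) (hM₂ : Module.Finite B₂ (B₂ ⊗[A] M)) :
    Module.Finite A M := by
  obtain ⟨n₁, s₁, hs₁⟩ := Module.Finite.exists_fin (R := B₁) (M := B₁ ⊗[A] M)
  obtain ⟨n₂, s₂, hs₂⟩ := Module.Finite.exists_fin (R := B₂) (M := B₂ ⊗[A] M)
  choose x₁ hx₁ using fun j => PCNil.exists_one_tmul h₁ M (s₁ j)
  choose x₂ hx₂ using fun j => PCNil.exists_one_tmul h₂ M (s₂ j)
  let v : (Fin n₁ ⊕ Fin n₂ → A) →ₗ[A] M := Fintype.linearCombination A (Sum.elim x₁ x₂)
  have hsurj₁ : Function.Surjective (LinearMap.baseChange B₁ v) := by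
    rw [← LinearMap.range_eq_top, eq_top_iff, ← hs₁, Submodule.span_le]
    rintro _ ⟨j, rfl⟩
    refine ⟨(1 : B₁) ⊗ₜ[A] (Pi.single (Sum.inl j) 1 : Fin n₁ ⊕ Fin n₂ → A), ?_⟩
    rw [← hx₁ j, LinearMap.baseChange_tmul]
    congr 1
    simp [v]
  have hsurj₂ : Function.Surjective (LinearMap.baseChange B₂ v) := by
    rw [← LinearMap.range_eq_top, eq_top_iff, ← hs₂, Submodule.span_le]
    rintro _ ⟨j, rfl⟩
    refine ⟨(1 : B₂) ⊗ₜ[A] (Pi.single (Sum.inr j) 1 : Fin n₁ ⊕ Fin n₂ → A), ?_⟩
    rw [← hx₂ j, LinearMap.baseChange_tmul]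
    congr 1
    simp [v]
  exact Module.Finite.of_surjective v
    (surjective_of_surjective_baseChange h₁ h₂ h12 v hsurj₁ hsurj₂)

lemma finite_of_finite_extendScalars (h₁ : Function.Surjective (algebraMap A B₁))
    (h₂ : Function.Surjective (algebraMap A B₂))
    (h12 : RingHom.ker (algebraMap A B₁) * RingHom.ker (algebraMap A B₂) = ⊥)
    (M : ModuleCat.{u} A)
    (hM₁ : Module.Finite B₁ ((ModuleCat.extendScalars.{u, u, u} (algebraMap A B₁)).obj M))
    (hM₂ : Module.Finite B₂ ((ModuleCat.extendScalars.{u, u, u} (algebraMap A B₂)).obj M)) :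
    Module.Finite A M := by
  have i1 : Module.Finite B₁ (B₁ ⊗[A] M) :=
    Module.Finite.equiv (Groth.Agent.Lib.helper17.DRingBC.extendScalarsObjEquiv M)
  have i2 : Module.Finite B₂ (B₂ ⊗[A] M) :=
    Module.Finite.equiv (Groth.Agent.Lib.helper17.DRingBC.extendScalarsObjEquiv M)
  exact finite_of_finite_tensor h₁ h₂ h12 M i1 i2

end Two

section Top

variable {A B : Type u} [CommRing A] [CommRing B] [Algebra A B]

open Groth.Agent.Lib.helper17.PCohTri Groth.Agent.Lib.helper17.PCohD
  Groth.Agent.Lib.helper17.PCohT1 Groth.Agent.Lib.helper17.DRingBC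

/-- finiteness of `B ⊗ opcycles` in the top degree from pseudo-coherence of the base change -/
lemma finite_bc_opcycles (P : DRing.Cx A) (b : ℤ)
    (hz : ∀ i, b < i → IsZero (P.X i))
    (h : NPC (FF B) b (Q.obj ((KPc.bcCx (algebraMap A B)).obj P))) :
    Module.Finite B ((ModuleCat.extendScalars.{u, u, u} (algebraMap A B)).obj (P.opcycles b)) := by
  have hac : ∀ i : ℤ, b < i → IsZero ((DerivedCategory.homologyFunctor (ModuleCat.{u} B) i).obj
      (Q.obj ((KPc.bcCx (algebraMap A B)).obj P))) := fun i hi =>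
    (Groth.Agent.Lib.helper17.DRingTA.isZero_homology_of_isZero_X
      ((KPc.bcCx (algebraMap A B)).obj P) i
      ((ModuleCat.extendScalars.{u, u, u} (algebraMap A B)).map_isZero (hz i hi))).of_iso
      ((DerivedCategory.homologyFunctorFactors (ModuleCat.{u} B) i).app
        ((KPc.bcCx (algebraMap A B)).obj P))
  have h1 := (NPC_iff_isOfFiniteType (FF B) (FF_hqs B) (FF_hql B) b _ hac).1 h
  have h2 : Module.Finite B ((DerivedCategory.homologyFunctor (ModuleCat.{u} B) b).obj
      (Q.obj ((KPc.bcCx (algebraMap A B)).obj P))) := (isOfFiniteType_FF_iff B _).1 h1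
  have h2' : Module.Finite B ((Q ⋙ DerivedCategory.homologyFunctor (ModuleCat.{u} B) b).obj
      ((KPc.bcCx (algebraMap A B)).obj P)) := h2
  have h3 : Module.Finite B (((KPc.bcCx (algebraMap A B)).obj P).homology b) :=
    Module.Finite.equiv ((DerivedCategory.homologyFunctorFactors (ModuleCat.{u} B) b).app
      ((KPc.bcCx (algebraMap A B)).obj P)).toLinearEquiv
  have hd' : ((KPc.bcCx (algebraMap A B)).obj P).d b (b + 1) = 0 :=
    ((ModuleCat.extendScalars.{u, u, u} (algebraMap A B)).map_isZero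
      (hz (b + 1) (by omega))).eq_of_tgt _ _
  let e2 := ((KPc.bcCx (algebraMap A B)).obj P).isoHomologyι b (b + 1) (by simp) hd'
  let e3 := PCNil.opcyclesBcIso (algebraMap A B) P b
  exact Module.Finite.equiv (e2 ≪≫ e3.symm).toLinearEquiv

end Top

section Main

variable {A B₁ B₂ : Type u} [CommRing A] [CommRing B₁] [CommRing B₂] [Algebra A B₁] [Algebra A B₂]

open Groth.Agent.Lib.helper17.PCohTri Groth.Agent.Lib.helper17.PCohD
  Groth.Agent.Lib.helper17.PCohT1 Groth.Agent.Lib.helper17.DRingBC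
open HomologicalComplex

lemma opcycles_finite (h₁ : Function.Surjective (algebraMap A B₁))
    (h₂ : Function.Surjective (algebraMap A B₂))
    (h12 : RingHom.ker (algebraMap A B₁) * RingHom.ker (algebraMap A B₂) = ⊥)
    (P : DRing.Cx A) (b : ℤ) (hz : ∀ i, b < i → IsZero (P.X i))
    (hP₁ : NPC (FF B₁) b (Q.obj ((KPc.bcCx (algebraMap A B₁)).obj P)))
    (hP₂ : NPC (FF B₂) b (Q.obj ((KPc.bcCx (algebraMap A B₂)).obj P))) :
    Module.Finite A (P.opcycles b) :=
  finite_of_finite_extendScalars h₁ h₂ h12 _ (finite_bc_opcycles P b hz hP₁)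
    (finite_bc_opcycles P b hz hP₂)

lemma cone_bc_npc {B : Type u} [CommRing B] [Algebra A B] {S P' : DRing.Cx A} (f : S ⟶ P')
    (hSPC : ∀ m : ℤ, PCoh.IsStrictPC (FF A) m S)
    (hPC' : ∀ m : ℤ, NPC (FF B) m (Q.obj ((KPc.bcCx (algebraMap A B)).obj P'))) (m : ℤ) :
    NPC (FF B) m
        (Q.obj ((KPc.bcCx (algebraMap A B)).obj (CochainComplex.mappingCone f))) := by
  have hT := ConeRep.mapTriangle_distinguished ((KPc.bcCx (algebraMap A B)).map f)
  have h1 : NPC (FF B) (m + 1) (Q.obj ((KPc.bcCx (algebraMap A B)).obj S)) :=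
    ⟨_, PCNil.strictPC_bc A B (m + 1) S (hSPC (m + 1)), ⟨Iso.refl _⟩⟩
  have h3 := (NPC_triangle (FF B) (FF_prod B) (FF_hqs B) (FF_hql B) m _ hT).1 h1 (hPC' m)
  exact h3.of_iso (FF B) (Q.mapIso (CochainComplex.mappingCone.mapHomologicalComplexIso f
    (ModuleCat.extendScalars.{u, u, u} (algebraMap A B))).symm)

set_option maxHeartbeats 1600000 in
/-- pseudo-coherence descends along a pair of surjections with `I₁ I₂ = 0` (complex level) -/
theorem npc_of_bc (h₁ : Function.Surjective (algebraMap A B₁))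
    (h₂ : Function.Surjective (algebraMap A B₂))
    (h12 : RingHom.ker (algebraMap A B₁) * RingHom.ker (algebraMap A B₂) = ⊥) (n : ℕ) :
    ∀ (b : ℤ) (P : DRing.Cx A), P.IsKProjective → (∀ i, b < i → IsZero (P.homology i)) →
      (∀ m : ℤ, NPC (FF B₁) m (Q.obj ((KPc.bcCx (algebraMap A B₁)).obj P))) →
      (∀ m : ℤ, NPC (FF B₂) m (Q.obj ((KPc.bcCx (algebraMap A B₂)).obj P))) →
      NPC (FF A) (b - n) (Q.obj P) := by
  induction n with
  | zero =>
    intro b P hK hP hPC₁ hPC₂
    obtain ⟨P', hz, hfree, hK', ⟨e⟩⟩ := NilDev.exists_res_vanishing (Q.obj P) (b + 1)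
      (fun i hi => (hP i (by omega)).of_iso ((DerivedCategory.homologyFunctorFactors _ i).app P))
    obtain ⟨e₁⟩ := PCNil.nonempty_bcIso (algebraMap A B₁) e
    obtain ⟨e₂⟩ := PCNil.nonempty_bcIso (algebraMap A B₂) e
    have hz' : ∀ i, b < i → IsZero (P'.X i) := fun i hi => hz i (by omega)
    have hfin' := opcycles_finite h₁ h₂ h12 P' b hz' ((hPC₁ b).of_iso (FF B₁) e₁.symm)
      ((hPC₂ b).of_iso (FF B₂) e₂.symm)
    have hd : P'.d b (b + 1) = 0 := (hz' (b + 1) (by omega)).eq_of_tgt _ _
    have hfin : Module.Finite A (P'.homology b) :=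
      Module.Finite.equiv (P'.isoHomologyι b (b + 1) (by simp) hd).symm.toLinearEquiv
    refine NPC.of_iso (FF A) ?_ e
    simpa using PCNil.npc_top P' b hz' hfin
  | succ n ih =>
    intro b P hK hP hPC₁ hPC₂
    obtain ⟨P', hz, hfree, hK', ⟨e⟩⟩ := NilDev.exists_res_vanishing (Q.obj P) (b + 1)
      (fun i hi => (hP i (by omega)).of_iso ((DerivedCategory.homologyFunctorFactors _ i).app P))
    obtain ⟨e₁⟩ := PCNil.nonempty_bcIso (algebraMap A B₁) e
    obtain ⟨e₂⟩ := PCNil.nonempty_bcIso (algebraMap A B₂) e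
    have hz' : ∀ i, b < i → IsZero (P'.X i) := fun i hi => hz i (by omega)
    have hPC₁' : ∀ m : ℤ, NPC (FF B₁) m (Q.obj ((KPc.bcCx (algebraMap A B₁)).obj P')) :=
      fun m => (hPC₁ m).of_iso (FF B₁) e₁.symm
    have hPC₂' : ∀ m : ℤ, NPC (FF B₂) m (Q.obj ((KPc.bcCx (algebraMap A B₂)).obj P')) :=
      fun m => (hPC₂ m).of_iso (FF B₂) e₂.symm
    have hfin' := opcycles_finite h₁ h₂ h12 P' b hz' (hPC₁' b) (hPC₂' b)
    refine NPC.of_iso (FF A) ?_ e
    have hd : P'.d b (b + 1) = 0 := (hz' (b + 1) (by omega)).eq_of_tgt _ _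
    obtain ⟨k, s, hs⟩ := Module.Finite.exists_fin (R := A) (M := P'.opcycles b)
    let E : ModuleCat.{u} A := ModuleCat.of A (Fin k → A)
    have hE : FF A E := ⟨(inferInstance : Module.Finite A (Fin k → A)),
      (inferInstance : Module.Free A (Fin k → A))⟩
    let u : E ⟶ P'.opcycles b := ModuleCat.ofHom (Fintype.linearCombination A s)
    have hu : Epi u := by
      rw [ModuleCat.epi_iff_surjective]
      intro y
      have hy : y ∈ Submodule.span A (Set.range s) := by rw [hs]; trivial
      rw [← Fintype.range_linearCombination] at hy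
      exact hy
    have hEproj : Projective E :=
      (IsProjective.iff_projective (R := A) (Fin k → A)).1 inferInstance
    let v : E ⟶ P'.X b := Projective.factorThru u (P'.pOpcycles b)
    have hv : v ≫ P'.pOpcycles b = u := Projective.factorThru_comp _ _
    let S : DRing.Cx A := (HomologicalComplex.single _ (ComplexShape.up ℤ) b).obj E
    let f : S ⟶ P' := HomologicalComplex.mkHomFromSingle v
      (fun j hj => (hz' j (by simp at hj; omega)).eq_of_tgt _ _)
    have hSPC : ∀ m : ℤ, PCoh.IsStrictPC (FF A) m S := fun m => isStrictPC_single (FF A) b m hE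
    -- surjectivity on `H^b`
    have hepi1 : Epi (f.f b ≫ P'.pOpcycles b) := by
      rw [HomologicalComplex.mkHomFromSingle_f, Category.assoc, hv]
      infer_instance
    have hepi2 : Epi (HomologicalComplex.opcyclesMap f b) := by
      have : Epi (S.pOpcycles b ≫ HomologicalComplex.opcyclesMap f b) := by
        rw [HomologicalComplex.p_opcyclesMap]
        exact hepi1
      exact epi_of_epi (S.pOpcycles b) _
    have hSd : S.d b (b + 1) = 0 := HomologicalComplex.single_obj_d _ _ _ _ _
    have hepi3 : Epi (HomologicalComplex.homologyMap f b) := by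
      have h1 := HomologicalComplex.homologyι_naturality f b
      have i1 : IsIso (P'.homologyι b) := P'.isIso_homologyι b (b + 1) (by simp) hd
      have i2 : IsIso (S.homologyι b) := S.isIso_homologyι b (b + 1) (by simp) hSd
      have h2 : HomologicalComplex.homologyMap f b =
          (S.homologyι b ≫ HomologicalComplex.opcyclesMap f b) ≫ inv (P'.homologyι b) := by
        rw [← h1, Category.assoc, IsIso.hom_inv_id, Category.comp_id]
      rw [h2]
      infer_instance
    have hmono : Mono (HomologicalComplex.homologyMap f (b + 1)) := by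
      have hz1 : IsZero (S.homology (b + 1)) :=
        Groth.Agent.Lib.helper17.DRingTA.isZero_homology_of_isZero_X _ _
          (HomologicalComplex.isZero_single_obj_X _ _ _ _ (by omega))
      exact ⟨fun _ _ _ => hz1.eq_of_tgt _ _⟩
    have hCb : IsZero ((CochainComplex.mappingCone f).homology b) :=
      Groth.Agent.Lib.helper17.PCohCore.isZero_homology_mappingCone f b hepi3 hmono
    have hCz : ∀ i, b - 1 < i → IsZero ((CochainComplex.mappingCone f).homology i) := by
      intro i hi
      by_cases hib : i = b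
      · subst hib
        exact hCb
      · apply Groth.Agent.Lib.helper17.DRingTA.isZero_homology_of_isZero_X
        exact Groth.Agent.Lib.helper17.PerfLift.isZero_mappingCone_X f i
          (HomologicalComplex.isZero_single_obj_X _ _ _ _ (by omega)) (hz' i (by omega))
    -- K-projectivity
    have hSK : S.IsKProjective := by
      have h1 : S.IsStrictlyLE b := by
        rw [CochainComplex.isStrictlyLE_iff]
        intro i hi
        exact HomologicalComplex.isZero_single_obj_X _ _ _ _ (by omega)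
      have h2 : ∀ i, Projective (S.X i) := fun i => by
        by_cases hib : i = b
        · subst hib
          exact Projective.of_iso (HomologicalComplex.singleObjXSelf (ComplexShape.up ℤ) i E).symm
            hEproj
        · exact (HomologicalComplex.isZero_single_obj_X _ _ _ _ hib).projective
      exact CochainComplex.isKProjective_of_projective S b
    have hCK : (CochainComplex.mappingCone f).IsKProjective := KProjRes.isKProjective_mappingCone f
    have hC := ih (b - 1) (CochainComplex.mappingCone f) hCK hCz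
      (cone_bc_npc f hSPC hPC₁') (cone_bc_npc f hSPC hPC₂')
    have hT := ConeRep.mapTriangle_distinguished f
    have hS : NPC (FF A) (b - 1 - n) (Q.obj S) := ⟨S, hSPC _, ⟨Iso.refl _⟩⟩
    have h4 := (NPC_triangle (FF A) (FF_prod A) (FF_hqs A) (FF_hql A) (b - 1 - n) _ hT).2.1 hS hC
    have hcast : b - ((n + 1 : ℕ) : ℤ) = b - 1 - n := by push_cast; ring
    rw [hcast]
    exact h4

end Main

section Final

variable {A B₁ B₂ : Type u} [CommRing A] [CommRing B₁] [CommRing B₂] [Algebra A B₁] [Algebra A B₂]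

open Groth.Agent.Lib.helper17.PCohD Groth.Agent.H4FlatCx

/-- `T_i` vanishing descends along a pair of surjections with `I₁ I₂ = 0` -/
lemma isZero_T_of_two (h₁ : Function.Surjective (algebraMap A B₁))
    (h₂ : Function.Surjective (algebraMap A B₂))
    (h12 : RingHom.ker (algebraMap A B₁) * RingHom.ker (algebraMap A B₂) = ⊥)
    (P : DRing.Cx A) (hP : ∀ j, Module.Flat A (P.X j)) (i : ℤ)
    (hT₁ : ∀ M' : ModuleCat.{u} B₁,
      IsZero ((TFun ((KPc.bcCx (algebraMap A B₁)).obj P) i).obj M'))
    (hT₂ : ∀ M' : ModuleCat.{u} B₂,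
      IsZero ((TFun ((KPc.bcCx (algebraMap A B₂)).obj P) i).obj M'))
    (M : ModuleCat.{u} A) : IsZero ((TFun P i).obj M) := by
  let N' : Submodule A M := RingHom.ker (algebraMap A B₁) • (⊤ : Submodule A M)
  have hk1 : ∀ r ∈ RingHom.ker (algebraMap A B₂), ∀ x : N', r • x = 0 := by
    intro r hr ⟨x, hx⟩
    apply Subtype.ext
    change r • x = 0
    refine Submodule.smul_induction_on hx ?_ ?_
    · intro s hs y _
      rw [← mul_smul]
      have : r * s = 0 := by
        have h3 : s * r ∈ RingHom.ker (algebraMap A B₁) * RingHom.ker (algebraMap A B₂) :=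
          Ideal.mul_mem_mul hs hr
        rw [h12] at h3
        rw [mul_comm]
        exact h3
      rw [this, zero_smul]
    · intro x y hx hy
      rw [smul_add, hx, hy, add_zero]
  have hk2 : ∀ r ∈ RingHom.ker (algebraMap A B₁), ∀ x : M ⧸ N', r • x = 0 := by
    intro r hr x
    obtain ⟨y, rfl⟩ := N'.mkQ_surjective x
    rw [← map_smul]
    exact (Submodule.Quotient.mk_eq_zero N').2 (Submodule.smul_mem_smul hr Submodule.mem_top)
  have hex := exact₂ P hP _ (NilDev.shortExact_sub N') i
  exact hex.isZero_X₂ ((NilDev.isZero_T_of_killed h₂ P i hT₂ N' hk1).eq_of_src _ _)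
    ((NilDev.isZero_T_of_killed h₁ P i hT₁ (M ⧸ N') hk2).eq_of_tgt _ _)

/-- tor amplitude descends along a pair of surjections with `I₁ I₂ = 0` -/
theorem torAmp_of_bc (h₁ : Function.Surjective (algebraMap A B₁))
    (h₂ : Function.Surjective (algebraMap A B₂))
    (h12 : RingHom.ker (algebraMap A B₁) * RingHom.ker (algebraMap A B₂) = ⊥)
    (P : DRing.Cx A) [P.IsKProjective]
    (hP : ∀ j, Module.Flat A (P.X j)) (a₁ b₁ a₂ b₂ : ℤ)
    (hA₁ : DRing.HasTorAmplitudeIn B₁ a₁ b₁ (Q.obj ((KPc.bcCx (algebraMap A B₁)).obj P)))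
    (hA₂ : DRing.HasTorAmplitudeIn B₂ a₂ b₂ (Q.obj ((KPc.bcCx (algebraMap A B₂)).obj P))) :
    DRing.HasTorAmplitudeIn A (min a₁ a₂) (max b₁ b₂) (Q.obj P) := by
  have := NilDev.isKProjective_bcCx (algebraMap A B₁) P
  have := NilDev.isKProjective_bcCx (algebraMap A B₂) P
  apply NilDev.torAmp_of_isZero_T
  intro M i hi
  have hi₁ : i < a₁ ∨ b₁ < i := by
    rcases hi with hi | hi
    · exact Or.inl (lt_of_lt_of_le hi (min_le_left _ _))
    · exact Or.inr (lt_of_le_of_lt (le_max_left _ _) hi)
  have hi₂ : i < a₂ ∨ b₂ < i := by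
    rcases hi with hi | hi
    · exact Or.inl (lt_of_lt_of_le hi (min_le_right _ _))
    · exact Or.inr (lt_of_le_of_lt (le_max_right _ _) hi)
  exact isZero_T_of_two h₁ h₂ h12 P hP i
    (fun M'' => NilDev.isZero_T_of_torAmp _ a₁ b₁ hA₁ M'' i hi₁)
    (fun M'' => NilDev.isZero_T_of_torAmp _ a₂ b₂ hA₂ M'' i hi₂) M

lemma bounded_of_npc {B : Type u} [CommRing B] [Algebra A B] (P : DRing.Cx A)
    (h : PCoh.IsPC (FF B) (Q.obj ((KPc.bcCx (algebraMap A B)).obj P))) :
    ∃ b : ℤ, ∀ i, b + 1 ≤ i → IsZero (((KPc.bcCx (algebraMap A B)).obj P).homology i) := by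
  obtain ⟨E, ⟨⟨b, hb⟩, _⟩, ⟨e⟩⟩ := h 0
  refine ⟨b, ?_⟩
  intro i hi
  have h1 : IsZero (E.homology i) :=
    Groth.Agent.Lib.helper17.DRingTA.isZero_homology_of_isZero_X E i (hb i (by omega))
  exact h1.of_iso (((DerivedCategory.homologyFunctorFactors (ModuleCat.{u} B) i).app _).symm ≪≫
    (DerivedCategory.homologyFunctor (ModuleCat.{u} B) i).mapIso e.symm ≪≫
    (DerivedCategory.homologyFunctorFactors (ModuleCat.{u} B) i).app E)

/-- pseudo-coherence descends along a pair of surjections with `I₁ I₂ = 0` -/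
theorem isPC_of_bc (h₁ : Function.Surjective (algebraMap A B₁))
    (h₂ : Function.Surjective (algebraMap A B₂))
    (h12 : RingHom.ker (algebraMap A B₁) * RingHom.ker (algebraMap A B₂) = ⊥)
    (P : DRing.Cx A) [P.IsKProjective]
    (hP : ∀ j, Module.Flat A (P.X j))
    (hC₁ : PCoh.IsPC (FF B₁) (Q.obj ((KPc.bcCx (algebraMap A B₁)).obj P)))
    (hC₂ : PCoh.IsPC (FF B₂) (Q.obj ((KPc.bcCx (algebraMap A B₂)).obj P))) :
    PCoh.IsPC (FF A) (Q.obj P) := by
  obtain ⟨b₁, hb₁⟩ := bounded_of_npc P hC₁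
  obtain ⟨b₂, hb₂⟩ := bounded_of_npc P hC₂
  have := NilDev.isKProjective_bcCx (algebraMap A B₁) P
  have := NilDev.isKProjective_bcCx (algebraMap A B₂) P
  have hPb : ∀ i, max b₁ b₂ < i → IsZero (P.homology i) := by
    intro i hi
    have h1 := isZero_T_of_two h₁ h₂ h12 P hP i
      (fun M' => NilDev.isZero_T_of_homology_vanishing _ (b₁ + 1) hb₁ M' i
        (by have := le_max_left b₁ b₂; omega))
      (fun M' => NilDev.isZero_T_of_homology_vanishing _ (b₂ + 1) hb₂ M' i
        (by have := le_max_right b₁ b₂; omega))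
      (ModuleCat.of A A)
    exact h1.of_iso (TUnitIso P i).symm
  intro m
  have h2 := npc_of_bc h₁ h₂ h12 (max b₁ b₂ - m).toNat (max b₁ b₂) P inferInstance hPb hC₁ hC₂
  exact NPC.of_le (FF A) (by have := Int.self_le_toNat (max b₁ b₂ - m); omega) h2

end Final

section Comp

variable {A B C : Type u} [CommRing A] [CommRing B] [CommRing C]

/-- transitivity of termwise base change -/
noncomputable def bcCompIso (φ : A →+* B) (ψ : B →+* C) (χ : A →+* C) (h : ψ.comp φ = χ)
    (P : DRing.Cx A) : (KPc.bcCx ψ).obj ((KPc.bcCx φ).obj P) ≅ (KPc.bcCx χ).obj P := by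
  let e : ModuleCat.extendScalars.{u, u, u} φ ⋙ ModuleCat.extendScalars.{u, u, u} ψ ≅
      ModuleCat.extendScalars.{u, u, u} χ :=
    (ModuleCat.extendScalarsComp φ ψ).symm ≪≫
      eqToIso (congrArg ModuleCat.extendScalars.{u, u, u} h)
  exact HomologicalComplex.Hom.isoOfComponents (fun i => e.app (P.X i))
    (fun i j _ => (e.hom.naturality (P.d i j)).symm)

lemma flat_bcCx (φ : A →+* B) (P : DRing.Cx A) (hP : ∀ j, Module.Flat A (P.X j)) (j : ℤ) :
    Module.Flat B (((KPc.bcCx φ).obj P).X j) := by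
  letI := φ.toAlgebra
  have := hP j
  exact Module.Flat.of_linearEquiv
    (Groth.Agent.Lib.helper17.DRingBC.extendScalarsObjEquiv (A := A) (B := B) (P.X j))

end Comp

end Groth.Agent.Lib.helper2.PCTwo
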