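import Mathlib
import Groth.Prelude.Def_DRing2
import Groth.Agent.Lib.helper2.ProjAmp

/-!
# A criterion for perfectness of pseudo-coherent objects (helper2)
-/

set_option autoImplicit false
set_option linter.unusedSectionVars false

namespace Groth.Agent.Lib.helper2.PerfCrit

open CategoryTheory CategoryTheory.Limits DerivedCategory

universe u

attribute [local instance] HasDerivedCategory.standard

variable {R : Type u} [CommRing R]

lemma finite_truncGE_X (P : CochainComplex (ModuleCat.{u} R) ℤ) (a : ℤ)
    (hP : ∀ n, Module.Finite R (P.X n)) (q : ℤ) : Module.Finite R ((P.truncGE a).X q) := by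
  obtain h | rfl | h := lt_trichotomy a q
  · have := hP q
    exact Module.Finite.equiv (P.truncGEXIso a q h).symm.toLinearEquiv
  · have := hP a
    have hs : Function.Surjective (P.pOpcycles a ≫ (P.truncGEXIsoOpcycles a).inv) := by
      rw [← ModuleCat.epi_iff_surjective]
      infer_instance
    exact Module.Finite.of_surjective (P.pOpcycles a ≫ (P.truncGEXIsoOpcycles a).inv).hom hs
  · have : Subsingleton ((P.truncGE a).X q) :=
      ModuleCat.subsingleton_of_isZero (CochainComplex.isZero_of_isStrictlyGE _ a _ h)
    infer_instance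

/-- a pseudo-coherent object `K` with `H^i(K) = 0` for `i < c` and `Hom(K, G[-c]) = 0` for all
modules `G` is perfect, with a finite projective model in degrees `≥ c + 1`. -/
theorem perfect_of_pc (K : DerivedCategory (ModuleCat.{u} R)) (hK : DRing.IsPseudoCoherent' R K)
    (c : ℤ) (h1 : ∀ i : ℤ, i < c → IsZero ((homologyFunctor (ModuleCat.{u} R) i).obj K))
    (H : ∀ (G : ModuleCat.{u} R) (ψ : K ⟶ (singleFunctor (ModuleCat.{u} R) c).obj G), ψ = 0) :
    ∃ (E : CochainComplex (ModuleCat.{u} R) ℤ) (b : ℤ), DRing.VanishesOutside E (c + 1) b ∧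
      DRing.TermwiseFiniteProjective E ∧ Nonempty (DRing.toD E ≅ K) := by
  obtain ⟨F, b, hFb, hFf, ⟨e⟩⟩ := hK
  have hle : F.IsStrictlyLE b := by
    rw [CochainComplex.isStrictlyLE_iff]
    exact hFb
  have hP : ∀ n, Projective (F.X n) := by
    intro n
    have := (hFf n).2
    have : Module.Projective R (F.X n) := Module.Projective.of_free
    rw [← IsProjective.iff_projective]
    exact this
  obtain ⟨hGE, hopc⟩ := ProjAmp.core' F (c + 1) b c rfl hP (fun n hn => (h1 n hn).of_iso
      ((homologyFunctorFactors (ModuleCat.{u} R) n).symm.app F ≪≫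
        (homologyFunctor (ModuleCat.{u} R) n).mapIso e)) (fun G ψ => by
    rw [← cancel_epi e.inv, comp_zero]
    exact H G _)
  have : IsIso (Q.map (F.πTruncGE (c + 1))) := by
    rw [isIso_Q_map_iff_quasiIso]
    infer_instance
  refine ⟨F.truncGE (c + 1), b, ?_, ?_, ⟨(asIso (Q.map (F.πTruncGE (c + 1)))).symm ≪≫ e⟩⟩
  · intro i hi
    rcases hi with hi | hi
    · exact CochainComplex.isZero_of_isStrictlyGE _ (c + 1) _ hi
    · have := ProjAmp.isStrictlyLE_truncGE F (c + 1) b
      exact CochainComplex.isZero_of_isStrictlyLE _ b _ hi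
  · intro i
    refine ⟨finite_truncGE_X F (c + 1) (fun n => (hFf n).1) i, ?_⟩
    have := ProjAmp.projective_truncGE_X F (c + 1) hP hopc i
    rw [← IsProjective.iff_projective] at this
    exact this

end Groth.Agent.Lib.helper2.PerfCrit
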