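import Mathlib
import Groth.Prelude.Def_DDual2
import Groth.Agent.Lib.helper2.NilDev
import Groth.Agent.Lib.helper17.DRingRes

set_option autoImplicit false

namespace Groth.Agent.Lib.helper2.PolyEv

open CategoryTheory CategoryTheory.Limits Polynomial TensorProduct

universe u

variable (R : Type u) [CommRing R]

/-- the inclusion `R → R[X]` -/
noncomputable abbrev ι : R →+* R[X] := Polynomial.C
/-- evaluation at zero `R[X] → R` -/
noncomputable abbrev ev : R[X] →+* R := Polynomial.evalRingHom (0 : R)

lemma ev_comp_ι : (ev R).comp (ι R) = RingHom.id R := by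
  ext r; simp

/-- `M ≅ res_ι res_ev M` -/
noncomputable def eIso : 𝟭 (ModuleCat.{u} R) ≅
    ModuleCat.restrictScalars (ev R) ⋙ ModuleCat.restrictScalars (ι R) :=
  (ModuleCat.restrictScalarsId' ((ev R).comp (ι R)) (ev_comp_ι R)).symm ≪≫
    ModuleCat.restrictScalarsComp' (ι R) (ev R) _ rfl

/-- the natural map `R[X] ⊗_R M → M` (with `X` acting by zero on the target). -/
noncomputable def τ : ModuleCat.extendScalars.{u, u, u} (ι R) ⟶ ModuleCat.restrictScalars (ev R) :=
  Functor.whiskerRight (eIso R).hom (ModuleCat.extendScalars.{u, u, u} (ι R)) ≫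
    (Functor.associator _ _ _).hom ≫
    Functor.whiskerLeft (ModuleCat.restrictScalars (ev R))
      (ModuleCat.extendRestrictScalarsAdj.{u, u, u} (ι R)).counit ≫ (Functor.rightUnitor _).hom

open ChangeOfRings in
lemma τ_app_tmul (M : ModuleCat.{u} R) (s : R[X]) (m : M) :
    ((τ R).app M).hom (s ⊗ₜ[R, ι R] m) = (s.eval 0) • m := by
  rfl

/-- `R[X]` as an `R`-module, in the form used by `extendScalars`. -/
noncomputable abbrev SR : ModuleCat.{u} R :=
  (ModuleCat.restrictScalars (ι R)).obj (ModuleCat.of R[X] R[X])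

/-- underlying polynomial -/
def toP (p : SR R) : R[X] := p
/-- back -/
def ofP (p : R[X]) : SR R := p

lemma toP_add (p q : SR R) : toP R (p + q) = toP R p + toP R q := rfl
lemma toP_smul (r : R) (p : SR R) : toP R (r • p) = C r * toP R p := rfl
lemma ofP_add (p q : R[X]) : ofP R (p + q) = ofP R p + ofP R q := rfl
lemma ofP_C_mul (r : R) (p : R[X]) : ofP R (C r * p) = r • ofP R p := rfl
lemma ofP_toP (p : SR R) : ofP R (toP R p) = p := rfl
lemma toP_ofP (p : R[X]) : toP R (ofP R p) = p := rfl

noncomputable def mX : SR R →ₗ[R] SR R where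
  toFun p := ofP R (X * toP R p)
  map_add' p q := by rw [toP_add, mul_add, ofP_add]
  map_smul' r p := by
    rw [toP_smul, RingHom.id_apply, ← ofP_C_mul]
    congr 1
    ring

noncomputable def dX : SR R →ₗ[R] SR R where
  toFun p := ofP R (divX (toP R p))
  map_add' p q := by rw [toP_add, divX_add, ofP_add]
  map_smul' r p := by
    rw [toP_smul, RingHom.id_apply, ← ofP_C_mul, divX_C_mul]

noncomputable def evL : SR R →ₗ[R] R where
  toFun p := (toP R p).eval 0
  map_add' p q := by rw [toP_add, eval_add]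
  map_smul' r p := by
    rw [toP_smul, RingHom.id_apply]
    simp

noncomputable def cc : R →ₗ[R] SR R where
  toFun r := ofP R (C r)
  map_add' p q := by rw [C_add, ofP_add]
  map_smul' r p := by
    rw [RingHom.id_apply, ← ofP_C_mul, smul_eq_mul, C_mul]

lemma dX_mX : (dX R).comp (mX R) = LinearMap.id := by
  ext p
  change ofP R (divX (toP R (ofP R (X * toP R p)))) = p
  rw [toP_ofP]
  have h : divX (X * toP R p) = toP R p := by
    ext n
    rw [coeff_divX, coeff_X_mul]
  rw [h, ofP_toP]

lemma evL_mX : (evL R).comp (mX R) = 0 := by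
  ext p
  change (toP R (ofP R (X * toP R p))).eval 0 = 0
  rw [toP_ofP]
  simp

lemma mX_dX_add : (mX R).comp (dX R) + (cc R).comp (evL R) = LinearMap.id := by
  ext p
  change ofP R (X * toP R (ofP R (divX (toP R p)))) + ofP R (C ((toP R p).eval 0)) = p
  rw [toP_ofP, ← ofP_add, ← coeff_zero_eq_eval_zero, X_mul_divX_add, ofP_toP]

variable (M : ModuleCat.{u} R)

/-- the carrier of the base change -/
abbrev E : Type u := (ModuleCat.extendScalars.{u, u, u} (ι R)).obj M

lemma X_smul_eq (z : SR R ⊗[R] M) :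
    (X : R[X]) • (show E R M from z) = LinearMap.rTensor M (mX R) z := by
  induction z using TensorProduct.induction_on with
  | zero => exact smul_zero (A := E R M) _
  | tmul s m => rfl
  | add a b ha hb =>
    exact (smul_add (X : R[X]) (show E R M from a) (show E R M from b)).trans
      ((congrArg₂ (· + ·) ha hb).trans (map_add (LinearMap.rTensor M (mX R)) a b).symm)

lemma τ_eq (z : SR R ⊗[R] M) :
    ((τ R).app M).hom (show E R M from z) =
      TensorProduct.lid R M (LinearMap.rTensor M (evL R) z) := by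
  induction z using TensorProduct.induction_on with
  | zero => exact map_zero ((τ R).app M).hom
  | tmul s m => rfl
  | add a b ha hb =>
    exact (map_add ((τ R).app M).hom (show E R M from a) (show E R M from b)).trans
      ((congrArg₂ (· + ·) ha hb).trans (by rw [map_add, map_add]; rfl))

lemma X_smul_injective :
    Function.Injective (fun z : E R M => (X : R[X]) • z) := by
  intro a b hab
  have hab' : LinearMap.rTensor M (mX R) (show SR R ⊗[R] M from a) =
      LinearMap.rTensor M (mX R) (show SR R ⊗[R] M from b) :=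
    (X_smul_eq R M a).symm.trans (hab.trans (X_smul_eq R M b))
  have h := congrArg (LinearMap.rTensor M (dX R)) hab'
  rw [← LinearMap.comp_apply, ← LinearMap.comp_apply, ← LinearMap.rTensor_comp, dX_mX,
    LinearMap.rTensor_id] at h
  exact h

lemma τ_X_smul (z : E R M) :
    ((τ R).app M).hom ((X : R[X]) • z) = 0 := by
  have h1 := X_smul_eq R M z
  have h2 := τ_eq R M (LinearMap.rTensor M (mX R) (show SR R ⊗[R] M from z))
  rw [← LinearMap.comp_apply, ← LinearMap.rTensor_comp, evL_mX] at h2
  refine (congrArg ((τ R).app M).hom h1).trans (h2.trans ?_)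
  rw [LinearMap.rTensor_zero, LinearMap.zero_apply, map_zero]
  rfl

lemma exists_of_τ_eq_zero (z : E R M)
    (hz : ((τ R).app M).hom z = 0) : ∃ w : E R M, (X : R[X]) • w = z := by
  have hz1 := (τ_eq R M z).symm.trans hz
  have hz' : LinearMap.rTensor M (evL R) (show SR R ⊗[R] M from z) = 0 :=
    (TensorProduct.lid R M).injective (hz1.trans (map_zero _).symm)
  refine ⟨show E R M from LinearMap.rTensor M (dX R) (show SR R ⊗[R] M from z), ?_⟩
  refine (X_smul_eq R M _).trans ?_
  have h := congrArg (fun f => LinearMap.rTensor M f (show SR R ⊗[R] M from z)) (mX_dX_add R)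
  simp only [LinearMap.rTensor_add, LinearMap.add_apply, LinearMap.rTensor_comp,
    LinearMap.comp_apply, hz', map_zero, add_zero, LinearMap.rTensor_id, LinearMap.id_apply] at h
  exact h

open ChangeOfRings in
lemma τ_surjective : Function.Surjective ((τ R).app M).hom := by
  intro m
  refine ⟨(1 : R[X]) ⊗ₜ[R, ι R] (show M from m), ?_⟩
  rw [τ_app_tmul]
  simp


section Cx

open DerivedCategory

attribute [local instance] HasDerivedCategory.standard

variable (P : DRing.Cx R)

/-- `P ⊗_R R[X]` -/
noncomputable abbrev PS : DRing.Cx R[X] := (KPc.bcCx (ι R)).obj P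

/-- multiplication by `X` on `P[X]` -/
noncomputable def gX : PS R P ⟶ PS R P := (X : R[X]) • 𝟙 _

/-- the projection `P[X] → P` -/
noncomputable def pX : PS R P ⟶ (NilDev.resCx (ev R)).obj P :=
  (NatTrans.mapHomologicalComplex (τ R) (ComplexShape.up ℤ)).app P

lemma gX_f_apply (i : ℤ) (z : E R (P.X i)) : ((gX R P).f i).hom z = (X : R[X]) • z := rfl

lemma gX_pX : gX R P ≫ pX R P = 0 := by
  ext i z
  exact τ_X_smul R (P.X i) z

/-- the short complex `0 → P[X] → P[X] → P → 0` -/
noncomputable def sc : ShortComplex (DRing.Cx R[X]) := ShortComplex.mk (gX R P) (pX R P) (gX_pX R P)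

lemma sc_shortExact : (sc R P).ShortExact := by
  refine HomologicalComplex.shortExact_of_degreewise_shortExact _ (fun i => ?_)
  have hm : Mono ((sc R P).map (HomologicalComplex.eval _ _ i)).f := by
    rw [ModuleCat.mono_iff_injective]
    exact X_smul_injective R (P.X i)
  have he : Epi ((sc R P).map (HomologicalComplex.eval _ _ i)).g := by
    rw [ModuleCat.epi_iff_surjective]
    exact τ_surjective R (P.X i)
  refine ShortComplex.ShortExact.mk ?_
  rw [ShortComplex.moduleCat_exact_iff]
  intro x hx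
  exact exists_of_τ_eq_zero R (P.X i) x hx

/-- `cone(X : P[X] → P[X]) ≅ P` in `D(R[X])` -/
noncomputable def coneIso :
    Q.obj (CochainComplex.mappingCone (gX R P)) ≅ Q.obj ((NilDev.resCx (ev R)).obj P) := by
  have h : QuasiIso (CochainComplex.mappingCone.descShortComplex (sc R P)) :=
    CochainComplex.mappingCone.quasiIso_descShortComplex (sc_shortExact R P)
  have h' : IsIso (Q.map (CochainComplex.mappingCone.descShortComplex (sc R P))) := inferInstance
  exact @asIso _ _ _ _ _ h'

open ChangeOfRings in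
lemma bc_gX : (KPc.bcCx (ev R)).map (gX R P) = 0 := by
  ext i : 1
  apply ModuleCat.ExtendScalars.hom_ext
  intro z
  change (1 : R) ⊗ₜ[R[X], ev R] ((X : R[X]) • z) = 0
  let _ : Module R[X] R := Module.compHom R (ev R)
  have h : ((X : R[X]) • (1 : R)) ⊗ₜ[R[X]] z = (1 : R) ⊗ₜ[R[X]] ((X : R[X]) • z) :=
    TensorProduct.smul_tmul (R := R[X]) (R' := R[X]) (X : R[X]) (1 : R) z
  have h2 : ((X : R[X]) • (1 : R)) = 0 := by
    change (ev R) X • (1 : R) = 0
    simp
  rw [h2, TensorProduct.zero_tmul] at h
  exact h.symm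

/-- `(P[X]) ⊗_{R[X]} R ≅ P` -/
noncomputable def bcbcIso : (KPc.bcCx (ev R)).obj (PS R P) ≅ P := by
  let e : ModuleCat.extendScalars.{u, u, u} (ι R) ⋙ ModuleCat.extendScalars.{u, u, u} (ev R) ≅
      𝟭 (ModuleCat.{u} R) :=
    (ModuleCat.extendScalarsComp (ι R) (ev R)).symm ≪≫
      eqToIso (congrArg ModuleCat.extendScalars.{u, u, u} (ev_comp_ι R)) ≪≫
      ModuleCat.extendScalarsId R
  exact HomologicalComplex.Hom.isoOfComponents (fun i => e.app (P.X i))
    (fun i j _ => (e.hom.naturality (P.d i j)).symm)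

end Cx

section ConeZero

open DerivedCategory Pretriangulated

variable {C : Type*} [Category C] [Abelian C] [HasDerivedCategory C]

lemma coneZeroIso (B : CochainComplex C ℤ) :
    Nonempty (Q.obj (CochainComplex.mappingCone (0 : B ⟶ B)) ≅
      Q.obj B ⊞ (shiftFunctor (DerivedCategory C) (1 : ℤ)).obj (Q.obj B)) := by
  have hT := ConeRep.mapTriangle_distinguished (0 : B ⟶ B)
  have hT' := rot_of_distTriang _ hT
  obtain ⟨e, -, -⟩ := exists_iso_binaryBiproduct_of_distTriang _ hT' (by
    change -(shiftFunctor (DerivedCategory C) (1 : ℤ)).map (Q.map (0 : B ⟶ B)) = 0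
    rw [Functor.map_zero, Functor.map_zero, neg_zero])
  exact ⟨e⟩

end ConeZero

section Main

open DerivedCategory

attribute [local instance] HasDerivedCategory.standard

theorem main [DRing.HasLBaseChange (ev R)] (K : Dual.D R)
    [HasBinaryBiproduct K ((shiftFunctor (Dual.D R) (1 : ℤ)).obj K)] :
    Nonempty ((DRing.LBaseChange (ev R)).obj ((DRing.restrictD (ev R)).obj K) ≅
      K ⊞ (shiftFunctor (Dual.D R) (1 : ℤ)).obj K) := by
  obtain ⟨P, hP, ⟨e⟩⟩ := KProjRes.exists_kprojective R K
  have h1 : (PS R P).IsKProjective := NilDev.isKProjective_bcCx (ι R) P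
  have h2 : (CochainComplex.mappingCone (gX R P)).IsKProjective :=
    KProjRes.isKProjective_mappingCone _
  let i1 : (DRing.restrictD (ev R)).obj K ≅ Q.obj (CochainComplex.mappingCone (gX R P)) :=
    (DRing.restrictD (ev R)).mapIso e.symm ≪≫
      Groth.Agent.Lib.helper17.DRingRes.resDQ (ev R) P ≪≫ (coneIso R P).symm
  let i2 := KPc.LBaseChangeIso (ev R) (CochainComplex.mappingCone (gX R P))
  let i3 := CochainComplex.mappingCone.mapHomologicalComplexIso (gX R P)
    (ModuleCat.extendScalars.{u, u, u} (ev R))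
  have key : ∀ (f : (KPc.bcCx (ev R)).obj (PS R P) ⟶ (KPc.bcCx (ev R)).obj (PS R P)), f = 0 →
      Nonempty (Q.obj (CochainComplex.mappingCone f) ≅
        Q.obj ((KPc.bcCx (ev R)).obj (PS R P)) ⊞
          (shiftFunctor (Dual.D R) (1 : ℤ)).obj (Q.obj ((KPc.bcCx (ev R)).obj (PS R P)))) := by
    rintro f rfl
    exact coneZeroIso _
  obtain ⟨i4⟩ := key _ (bc_gX R P)
  let i5 : Q.obj ((KPc.bcCx (ev R)).obj (PS R P)) ≅ K := Q.mapIso (bcbcIso R P) ≪≫ e
  exact ⟨(DRing.LBaseChange (ev R)).mapIso i1 ≪≫ i2 ≪≫ Q.mapIso i3 ≪≫ i4 ≪≫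
    biprod.mapIso i5 ((shiftFunctor (Dual.D R) (1 : ℤ)).mapIso i5)⟩

end Main

end Groth.Agent.Lib.helper2.PolyEv
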