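import Mathlib
import Groth.Prelude.Def_ClSub2

/-!
# Closed subsets proper over a base: basic API (helper2)
-/

set_option autoImplicit false
universe u

open CategoryTheory CategoryTheory.Limits AlgebraicGeometry

namespace Groth.Agent.Lib.helper2.ProperOver

variable {T' T S : Scheme.{u}}

/-- Stacks 09MQ: if `g : T' ⟶ T` is surjective and universally closed and `g ≫ h` is separated,
then `h` is separated. -/
theorem isSeparated_of_comp_surjective (g : T' ⟶ T) (h : T ⟶ S) [Surjective g]
    [UniversallyClosed g] [IsSeparated (g ≫ h)] : IsSeparated h := by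
  constructor
  apply IsClosedImmersion.of_isPreimmersion
  let gg : pullback (g ≫ h) (g ≫ h) ⟶ pullback h h :=
    pullback.map (g ≫ h) (g ≫ h) h h g g (𝟙 _) (by simp) (by simp)
  have hgg : UniversallyClosed gg :=
    MorphismProperty.pullbackMap (P := @UniversallyClosed) (f := g ≫ h) (g := g ≫ h) (f' := h)
      (g' := h) (i₁ := g) (i₂ := g) inferInstance inferInstance rfl rfl
  have hcomm : g ≫ pullback.diagonal h = pullback.diagonal (g ≫ h) ≫ gg := by
    apply pullback.hom_ext
    · simp only [Category.assoc, gg, pullback.map]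
      rw [pullback.lift_fst, pullback.diagonal_fst, pullback.diagonal_fst_assoc, Category.comp_id]
    · simp only [Category.assoc, gg, pullback.map]
      rw [pullback.lift_snd, pullback.diagonal_snd, pullback.diagonal_snd_assoc, Category.comp_id]
  have hrange : Set.range (pullback.diagonal h) =
      gg '' Set.range (pullback.diagonal (g ≫ h)) := by
    have h1 : Set.range (pullback.diagonal h) = Set.range (g ≫ pullback.diagonal h) := by
      rw [Scheme.Hom.comp_base, TopCat.coe_comp, Set.range_comp,
        (Surjective.surj (f := g)).range_eq, Set.image_univ]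
    rw [h1, hcomm, Scheme.Hom.comp_base, TopCat.coe_comp, Set.range_comp]
  rw [hrange]
  exact gg.isClosedMap _ (pullback.diagonal (g ≫ h)).isClosedEmbedding.isClosed_range

/-- If `g : T' ⟶ T` is surjective and universally closed, `h` is locally of finite type and
`g ≫ h` is proper, then `h` is proper. -/
theorem isProper_of_comp_surjective (g : T' ⟶ T) (h : T ⟶ S) [Surjective g]
    [UniversallyClosed g] [LocallyOfFiniteType h] [IsProper (g ≫ h)] : IsProper h := by
  have := isSeparated_of_comp_surjective g h
  have := UniversallyClosed.of_comp_surjective g h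
  exact {}


open Scheme.IdealSheafData in
/-- Properness of a closed subscheme over `S` only depends on the underlying closed set. -/
theorem isProper_subschemeι_comp_iff {X : Scheme.{u}} (f : X ⟶ S) [LocallyOfFiniteType f]
    {I J : X.IdealSheafData} (hIJ : I ≤ J) (hsupp : I.support = J.support) :
    IsProper (I.subschemeι ≫ f) ↔ IsProper (J.subschemeι ≫ f) := by
  have hci : IsClosedImmersion (inclusion hIJ) := by
    have : IsClosedImmersion (inclusion hIJ ≫ I.subschemeι) := by
      rw [inclusion_subschemeι]; infer_instance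
    exact IsClosedImmersion.of_comp (inclusion hIJ) I.subschemeι
  have hsurj : Surjective (inclusion hIJ) := by
    constructor
    intro x
    have hx : I.subschemeι x ∈ Set.range J.subschemeι := by
      rw [range_subschemeι, ← hsupp, ← range_subschemeι]; exact ⟨x, rfl⟩
    obtain ⟨y, hy⟩ := hx
    refine ⟨y, I.subschemeι.isEmbedding.injective ?_⟩
    rw [← hy, ← Scheme.Hom.comp_apply, inclusion_subschemeι]
  have e : J.subschemeι ≫ f = inclusion hIJ ≫ (I.subschemeι ≫ f) := by
    rw [inclusion_subschemeι_assoc]
  constructor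
  · intro h
    rw [e]; infer_instance
  · intro h
    rw [e] at h
    exact isProper_of_comp_surjective (inclusion hIJ) (I.subschemeι ≫ f)

/-- For a closed immersion `i : T ⟶ X`, the range of `i` is proper over `S` (reduced structure)
iff `T` is proper over `S`. -/
theorem isProperOver_range_iff {X T : Scheme.{u}} (f : X ⟶ S) [LocallyOfFiniteType f]
    (i : T ⟶ X) [IsClosedImmersion i] :
    ClSub.IsProperOver f (Set.range i) ↔ IsProper (i ≫ f) := by
  have hcl : IsClosed (Set.range i) := i.isClosedEmbedding.isClosed_range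
  have h1 : IsProper (i ≫ f) ↔ IsProper (i.ker.subschemeι ≫ f) := by
    conv_lhs => rw [← i.toImage_imageι, Category.assoc]
    exact MorphismProperty.cancel_left_of_respectsIso @IsProper i.toImage _
  have hsupp : (i.ker.support : Set X) = Set.range i := by
    rw [Scheme.Hom.support_ker, hcl.closure_eq]
  have hle : i.ker ≤ Scheme.IdealSheafData.vanishingIdeal ⟨Set.range i, hcl⟩ := by
    rw [← Scheme.IdealSheafData.le_support_iff_le_vanishingIdeal]
    intro x hx
    show x ∈ (i.ker.support : Set X)
    rw [hsupp]; exact hx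
  have hs2 : i.ker.support = (Scheme.IdealSheafData.vanishingIdeal ⟨Set.range i, hcl⟩).support := by
    ext1
    rw [hsupp, Scheme.IdealSheafData.coe_support_vanishingIdeal]
    rfl
  rw [h1, isProper_subschemeι_comp_iff f hle hs2]
  exact ⟨fun ⟨_, h⟩ => h, fun h => ⟨hcl, h⟩⟩


/-- `toImage` of a universally closed morphism is surjective. -/
theorem surjective_toImage {X Y : Scheme.{u}} (k : X ⟶ Y) [UniversallyClosed k] :
    Surjective k.toImage := by
  constructor
  have hcl : IsClosed (Set.range k.toImage) := k.toImage.isClosedMap.isClosed_range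
  have hd : DenseRange k.toImage := k.toImage.denseRange
  intro y
  have : Set.range k.toImage = Set.univ := by
    rw [← hcl.closure_eq]; exact hd.closure_eq
  exact Set.range_eq_univ.mp this y

/-- Image of a closed subset proper over `S`, under an `S`-morphism which is universally closed
on the subset. -/
theorem isProperOver_image {X Y : Scheme.{u}} (p : X ⟶ S) (q : Y ⟶ S) [LocallyOfFiniteType q]
    (f : X ⟶ Y) (w : f ≫ q = p) (Z : Set X) (hZ : ClSub.IsProperOver p Z)
    (huc : ∀ h : IsClosed Z,
      UniversallyClosed ((Scheme.IdealSheafData.vanishingIdeal ⟨Z, h⟩).subschemeι ≫ f)) :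
    ClSub.IsProperOver q (f '' Z) := by
  obtain ⟨hcl, hprop⟩ := hZ
  have := huc hcl
  set I := Scheme.IdealSheafData.vanishingIdeal ⟨Z, hcl⟩ with hI
  set k := I.subschemeι ≫ f with hk
  have hrange : Set.range k = f '' Z := by
    rw [hk, Scheme.Hom.comp_base, TopCat.coe_comp, Set.range_comp,
      Scheme.IdealSheafData.range_subschemeι, Scheme.IdealSheafData.coe_support_vanishingIdeal]
    rfl
  have hsurj := surjective_toImage k
  have hr2 : Set.range k.imageι = f '' Z := by
    rw [← hrange]
    conv_rhs => rw [← k.toImage_imageι, Scheme.Hom.comp_base, TopCat.coe_comp, Set.range_comp,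
      (Surjective.surj (f := k.toImage)).range_eq, Set.image_univ]
  have hpr : IsProper (k.toImage ≫ (k.imageι ≫ q)) := by
    rw [k.toImage_imageι_assoc, hk, Category.assoc, w]; exact hprop
  have : IsProper (k.imageι ≫ q) := isProper_of_comp_surjective k.toImage (k.imageι ≫ q)
  rw [← hr2]
  exact (isProperOver_range_iff q k.imageι).2 this


/-- Universal closedness can be checked on a finite jointly surjective family of closed
subschemes. -/
theorem universallyClosed_of_finite_closed_cover {W : Scheme.{u}} (h : W ⟶ S) {ι : Type*}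
    [Finite ι] (V : ι → Scheme.{u}) (i : ∀ j, V j ⟶ W) [∀ j, IsClosedImmersion (i j)]
    (hsurj : ⋃ j, Set.range (i j) = Set.univ) (hp : ∀ j, UniversallyClosed (i j ≫ h)) :
    UniversallyClosed h := by
  constructor
  intro W' S' k s h' sq C hC
  -- `sq : IsPullback h' k s h`
  have hcov : ⋃ j, Set.range (pullback.fst k (i j)) = Set.univ := by
    simp_rw [Scheme.Pullback.range_fst, ← Set.preimage_iUnion, hsurj, Set.preimage_univ]
  have hcl : ∀ j, IsClosedMap (pullback.fst k (i j) ≫ h') := by
    intro j
    have sq2 : IsPullback (pullback.fst k (i j) ≫ h') (pullback.snd k (i j)) s (i j ≫ h) :=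
      (IsPullback.of_hasPullback k (i j)).flip.paste_vert sq.flip |>.flip
    exact (hp j).universally_isClosedMap _ _ _ sq2
  have himg : h' '' C = ⋃ j, (pullback.fst k (i j) ≫ h') '' ((pullback.fst k (i j)) ⁻¹' C) := by
    ext y
    simp only [Set.mem_image, Set.mem_iUnion, Set.mem_preimage]
    constructor
    · rintro ⟨x, hxC, rfl⟩
      have hx : x ∈ ⋃ j, Set.range (pullback.fst k (i j)) := hcov ▸ Set.mem_univ x
      obtain ⟨j, z, rfl⟩ := Set.mem_iUnion.mp hx
      exact ⟨j, z, hxC, rfl⟩
    · rintro ⟨j, z, hz, rfl⟩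
      exact ⟨_, hz, rfl⟩
  rw [himg]
  exact isClosed_iUnion_of_finite fun j =>
    hcl j _ (hC.preimage (pullback.fst k (i j)).continuous)


/-- The map `T' ×_S T' ⟶ T ×_S T` induced by `g : T' ⟶ T`. -/
noncomputable abbrev diagMap (g : T' ⟶ T) (h : T ⟶ S) : pullback (g ≫ h) (g ≫ h) ⟶ pullback h h :=
  pullback.map (g ≫ h) (g ≫ h) h h g g (𝟙 _) (by simp) (by simp)

theorem comp_diagonal (g : T' ⟶ T) (h : T ⟶ S) :
    g ≫ pullback.diagonal h = pullback.diagonal (g ≫ h) ≫ diagMap g h := by
  apply pullback.hom_ext
  · simp only [Category.assoc, diagMap, pullback.map]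
    rw [pullback.lift_fst, pullback.diagonal_fst, pullback.diagonal_fst_assoc, Category.comp_id]
  · simp only [Category.assoc, diagMap, pullback.map]
    rw [pullback.lift_snd, pullback.diagonal_snd, pullback.diagonal_snd_assoc, Category.comp_id]

/-- Separatedness can be checked on a finite jointly surjective family of closed subschemes. -/
theorem isSeparated_of_finite_closed_cover {W : Scheme.{u}} (h : W ⟶ S) {ι : Type*}
    [Finite ι] (V : ι → Scheme.{u}) (i : ∀ j, V j ⟶ W) [∀ j, IsClosedImmersion (i j)]
    (hsurj : ⋃ j, Set.range (i j) = Set.univ) (hp : ∀ j, IsSeparated (i j ≫ h)) :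
    IsSeparated h := by
  constructor
  apply IsClosedImmersion.of_isPreimmersion
  have hd : ∀ j, IsClosedImmersion (diagMap (i j) h) := fun j =>
    MorphismProperty.pullbackMap (P := @IsClosedImmersion) (f := i j ≫ h) (g := i j ≫ h) (f' := h)
      (g' := h) (i₁ := i j) (i₂ := i j) inferInstance inferInstance rfl rfl
  have hrange : Set.range (pullback.diagonal h) =
      ⋃ j, diagMap (i j) h '' Set.range (pullback.diagonal (i j ≫ h)) := by
    ext y
    simp only [Set.mem_range, Set.mem_iUnion, Set.mem_image]
    constructor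
    · rintro ⟨x, rfl⟩
      have hx : x ∈ ⋃ j, Set.range (i j) := hsurj ▸ Set.mem_univ x
      obtain ⟨j, z, rfl⟩ := Set.mem_iUnion.mp hx
      refine ⟨j, _, ⟨z, rfl⟩, ?_⟩
      rw [← Scheme.Hom.comp_apply, ← comp_diagonal, Scheme.Hom.comp_apply]
    · rintro ⟨j, _, ⟨z, rfl⟩, rfl⟩
      refine ⟨i j z, ?_⟩
      rw [← Scheme.Hom.comp_apply, comp_diagonal, Scheme.Hom.comp_apply]
  rw [hrange]
  exact isClosed_iUnion_of_finite fun j =>
    (diagMap (i j) h).isClosedEmbedding.isClosedMap _
      (pullback.diagonal (i j ≫ h)).isClosedEmbedding.isClosed_range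

/-- Properness can be checked on a finite jointly surjective family of closed subschemes. -/
theorem isProper_of_finite_closed_cover {W : Scheme.{u}} (h : W ⟶ S) [LocallyOfFiniteType h]
    {ι : Type*} [Finite ι] (V : ι → Scheme.{u}) (i : ∀ j, V j ⟶ W) [∀ j, IsClosedImmersion (i j)]
    (hsurj : ⋃ j, Set.range (i j) = Set.univ) (hp : ∀ j, IsProper (i j ≫ h)) :
    IsProper h := by
  have := isSeparated_of_finite_closed_cover h V i hsurj (fun j => inferInstance)
  have := universallyClosed_of_finite_closed_cover h V i hsurj (fun j => inferInstance)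
  exact {}


instance isClosedImmersion_inclusion {X : Scheme.{u}} {I J : X.IdealSheafData} (hIJ : I ≤ J) :
    IsClosedImmersion (Scheme.IdealSheafData.inclusion hIJ) := by
  have : IsClosedImmersion (Scheme.IdealSheafData.inclusion hIJ ≫ I.subschemeι) := by
    rw [Scheme.IdealSheafData.inclusion_subschemeι]; infer_instance
  exact IsClosedImmersion.of_comp (Scheme.IdealSheafData.inclusion hIJ) I.subschemeι

theorem range_subschemeι_vanishingIdeal {X : Scheme.{u}} (Z : Set X) (hZ : IsClosed Z) :
    Set.range (Scheme.IdealSheafData.vanishingIdeal ⟨Z, hZ⟩).subschemeι = Z := by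
  rw [Scheme.IdealSheafData.range_subschemeι, Scheme.IdealSheafData.coe_support_vanishingIdeal]
  rfl

/-- A finite union of closed subsets proper over `S` is proper over `S`. -/
theorem isProperOver_iUnion {X : Scheme.{u}} (f : X ⟶ S) [LocallyOfFiniteType f]
    {ι : Type*} [Finite ι] (Z : ι → Set X) (hZ : ∀ i, ClSub.IsProperOver f (Z i)) :
    ClSub.IsProperOver f (Set.iUnion Z) := by
  have hcl : ∀ i, IsClosed (Z i) := fun i => (hZ i).choose
  have hU : IsClosed (⋃ i, Z i) := isClosed_iUnion_of_finite hcl
  refine ⟨hU, ?_⟩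
  set I := Scheme.IdealSheafData.vanishingIdeal ⟨⋃ i, Z i, hU⟩ with hI
  have hle : ∀ j, I ≤ Scheme.IdealSheafData.vanishingIdeal ⟨Z j, hcl j⟩ := fun j =>
    Scheme.IdealSheafData.vanishingIdeal_antimono (Set.subset_iUnion Z j)
  refine isProper_of_finite_closed_cover (I.subschemeι ≫ f)
    (fun j => (Scheme.IdealSheafData.vanishingIdeal ⟨Z j, hcl j⟩).subscheme)
    (fun j => Scheme.IdealSheafData.inclusion (hle j)) ?_ ?_
  · rw [Set.eq_univ_iff_forall]
    intro w
    have hw : I.subschemeι w ∈ ⋃ i, Z i := by
      rw [← range_subschemeι_vanishingIdeal _ hU]; exact ⟨w, rfl⟩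
    obtain ⟨j, hj⟩ := Set.mem_iUnion.mp hw
    rw [← range_subschemeι_vanishingIdeal _ (hcl j)] at hj
    obtain ⟨y, hy⟩ := hj
    refine Set.mem_iUnion.mpr ⟨j, y, I.subschemeι.isEmbedding.injective ?_⟩
    rw [← hy, ← Scheme.Hom.comp_apply, Scheme.IdealSheafData.inclusion_subschemeι]
  · intro j
    rw [Scheme.IdealSheafData.inclusion_subschemeι_assoc]
    exact (hZ j).choose_spec

end Groth.Agent.Lib.helper2.ProperOver
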