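import Mathlib
import Groth.Agent.S5804
import Groth.Agent.S0563
import Groth.Agent.Lib.helper5.RegLoc

/-!
# Regular rings of finite Krull dimension have finite global dimension (helper2)
-/

set_option autoImplicit false

namespace Groth.Agent.Lib.helper2.RegGlDim

open CategoryTheory

universe u

theorem hasProjectiveDimensionLT_of_finite (R : Type u) [CommRing R] [IsNoetherianRing R]
    (hreg : ∀ p : PrimeSpectrum R, IsRegularLocalRing (Localization.AtPrime p.asIdeal)) (n : ℕ)
    (hn : ringKrullDim R ≤ n) (M : Type u) [AddCommGroup M] [Module R M] [Module.Finite R M] :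
    HasProjectiveDimensionLT (ModuleCat.of R M) (n + 1) := by
  have hfin : HasProjectiveDimensionLE (ModuleCat.of R M) n := by
    rw [ModuleCat.hasProjectiveDimensionLE_iff_forall_maximalSpectrum]
    intro m
    haveI := hreg ⟨m.asIdeal, m.isMaximal.isPrime⟩
    obtain ⟨e, he⟩ := Groth.Agent.H5.RegLoc.exists_nat_dim (Localization.AtPrime m.asIdeal)
    have h1 : ringKrullDim (Localization.AtPrime m.asIdeal) ≤ ringKrullDim R := by
      rw [IsLocalization.AtPrime.ringKrullDim_eq_height m.asIdeal]
      exact Ideal.height_le_ringKrullDim_of_ne_top m.isMaximal.ne_top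
    have h2 : e ≤ n := by
      have := (he ▸ h1).trans hn
      exact_mod_cast this
    have h3 := Groth.Agent.S0563.result (Localization.AtPrime m.asIdeal) e he
      ((ModuleCat.of R M).localizedModule m.asIdeal.primeCompl)
    exact hasProjectiveDimensionLT_of_ge _ (e + 1) (n + 1) (by omega)
  exact hfin

theorem hasProjectiveDimensionLT (R : Type u) [CommRing R] [IsNoetherianRing R]
    (hreg : ∀ p : PrimeSpectrum R, IsRegularLocalRing (Localization.AtPrime p.asIdeal)) (n : ℕ)
    (hn : ringKrullDim R ≤ n) (M : ModuleCat.{u} R) :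
    HasProjectiveDimensionLT M (n + 1) :=
  Groth.Agent.S5804.result R n
    (fun I => hasProjectiveDimensionLT_of_finite R hreg n hn (R ⧸ I)) M

end Groth.Agent.Lib.helper2.RegGlDim
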