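import Mathlib
import Groth.Prelude.Def_DualSh
import Groth.Agent.Lib.helper2.KPc2
import Groth.Agent.Lib.helper2.BCSquare
import Groth.Agent.Lib.helper17.DRingRes

set_option autoImplicit false

namespace Groth.Agent.Lib.helper2.RelPerfBC

open CategoryTheory CategoryTheory.Limits DerivedCategory TensorProduct
open Groth.Agent.Lib.helper2.KPc Groth.Agent.Lib.helper17.DRingBC
open Groth.Agent.Lib.helper17.DRingTA Groth.Agent.Lib.helper17.DRingTor

attribute [local instance] HasDerivedCategory.standard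

universe u

section TorAmp

variable {A : Type u} (B : Type u) [CommRing A] [CommRing B] [Algebra A B]

/-- tor amplitude passes to the termwise base change of a bounded above complex of flat modules -/
theorem torAmp_bcCx (C : DRing.Cx A) (hC : ∀ i, Module.Flat A (C.X i))
    (bC : ∃ b : ℤ, ∀ i, b < i → IsZero (C.X i)) (a b : ℤ)
    (h : DRing.HasTorAmplitudeIn A a b (Q.obj C)) :
    DRing.HasTorAmplitudeIn B a b (Q.obj ((bcCx (algebraMap A B)).obj C)) := by
  obtain ⟨G, hz, hfl, ⟨e⟩⟩ := h
  obtain ⟨c, hc⟩ := bC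
  have hb : ∀ i : ℤ, c < i → IsZero ((DerivedCategory.homologyFunctor _ i).obj (Q.obj C)) := by
    intro i hi
    refine IsZero.of_iso ?_ ((DerivedCategory.homologyFunctorFactors _ i).app C)
    exact isZero_homology_of_isZero_X C i (hc i hi)
  obtain ⟨P, ⟨⟨bP, hbP⟩, hPfree⟩, ⟨eP⟩⟩ := exists_free_resolution A (Q.obj C) c hb
  have hP1 : P.IsStrictlyLE bP := by
    rw [CochainComplex.isStrictlyLE_iff]
    exact hbP
  have hP2 : ∀ n, Projective (P.X n) := fun n => by
    have : Module.Free A (P.X n) := hPfree n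
    rw [← IsProjective.iff_projective]
    exact Module.Projective.of_free
  have hP3 : P.IsKProjective := CochainComplex.isKProjective_of_projective P bP
  have hPfl : ∀ i, Module.Flat A (P.X i) := fun i => by
    have : Module.Free A (P.X i) := hPfree i
    infer_instance
  -- the map to `C`
  obtain ⟨g, hg⟩ := (CochainComplex.IsKProjective.Qh_map_bijective P
    ((HomotopyCategory.quotient _ _).obj C)).surjective eP.hom
  obtain ⟨f, rfl⟩ := (HomotopyCategory.quotient _ _).map_surjective g
  have hf : IsIso (Q.map f) := by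
    have : Q.map f = eP.hom := hg
    rw [this]
    infer_instance
  have hf' : QuasiIso f := (DerivedCategory.isIso_Q_map_iff_quasiIso (C := ModuleCat.{u} A) f).1 hf
  -- the map to `G`
  obtain ⟨g2, hg2⟩ := (CochainComplex.IsKProjective.Qh_map_bijective P
    ((HomotopyCategory.quotient _ _).obj G)).surjective (eP.hom ≫ e.inv)
  obtain ⟨f2, rfl⟩ := (HomotopyCategory.quotient _ _).map_surjective g2
  have hf2 : IsIso (Q.map f2) := by
    have : Q.map f2 = eP.hom ≫ e.inv := hg2
    rw [this]
    infer_instance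
  have hf2' : QuasiIso f2 := (DerivedCategory.isIso_Q_map_iff_quasiIso (C := ModuleCat.{u} A) f2).1 hf2
  have hq : QuasiIso ((bcCx (algebraMap A B)).map f) :=
    quasiIso_bcCx B f hPfl hC ⟨bP, hbP⟩ ⟨c, hc⟩
  have hq2 : QuasiIso ((bcCx (algebraMap A B)).map f2) :=
    quasiIso_bcCx B f2 hPfl hfl ⟨bP, hbP⟩ ⟨b, fun i hi => hz i (Or.inr hi)⟩
  have hq' : IsIso (Q.map ((bcCx (algebraMap A B)).map f)) :=
    (DerivedCategory.isIso_Q_map_iff_quasiIso (C := ModuleCat.{u} B) _).2 hq
  have hq2' : IsIso (Q.map ((bcCx (algebraMap A B)).map f2)) :=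
    (DerivedCategory.isIso_Q_map_iff_quasiIso (C := ModuleCat.{u} B) _).2 hq2
  refine ⟨(bcCx (algebraMap A B)).obj G,
    fun i hi => (ModuleCat.extendScalars.{u, u, u} (algebraMap A B)).map_isZero (hz i hi),
    fun i => ?_, ⟨(asIso (Q.map ((bcCx (algebraMap A B)).map f2))).symm ≪≫
      asIso (Q.map ((bcCx (algebraMap A B)).map f))⟩⟩
  have h1 : Module.Flat A (G.X i) := hfl i
  exact (Fl B).prop_of_iso (extendScalarsObjIso (G.X i)).symm
    ((inferInstance : Module.Flat B (TensorProduct A B (G.X i))) :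
      Fl B (ModuleCat.of B (TensorProduct A B (G.X i))))

end TorAmp

section Main

open Groth.Agent.Lib.helper17.DRingRes

attribute [local instance] Algebra.TensorProduct.rightAlgebra

variable (R A R' : Type u) [CommRing R] [CommRing A] [Algebra R A] [CommRing R'] [Algebra R R']

theorem isRelPerfect_LBaseChange [Module.Flat R A]
    [DRing.HasLBaseChange (Algebra.TensorProduct.includeRight.toRingHom : A →+* R' ⊗[R] A)]
    (K : Dual.D A) (hK : Dual2.IsRelPerfect R A K) :
    Dual2.IsRelPerfect R' (R' ⊗[R] A)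
      ((DRing.LBaseChange
        (Algebra.TensorProduct.includeRight.toRingHom : A →+* R' ⊗[R] A)).obj K) := by
  obtain ⟨⟨E, b, hb, hff, ⟨e⟩⟩, ⟨a', b', hta⟩⟩ := hK
  have hP1 : E.IsStrictlyLE b := by
    rw [CochainComplex.isStrictlyLE_iff]
    exact hb
  have hP2 : ∀ n, Projective (E.X n) := fun n => by
    have : Module.Free A (E.X n) := (hff n).2
    rw [← IsProjective.iff_projective]
    exact Module.Projective.of_free
  have hP3 : E.IsKProjective := CochainComplex.isKProjective_of_projective E b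
  let ψ : A →+* R' ⊗[R] A := Algebra.TensorProduct.includeRight.toRingHom
  let E' : DRing.Cx (R' ⊗[R] A) := (bcCx ψ).obj E
  have eL : (DRing.LBaseChange ψ).obj K ≅ Q.obj E' :=
    (DRing.LBaseChange ψ).mapIso e.symm ≪≫ LBaseChangeIso ψ E
  constructor
  · refine ⟨E', b, fun i hi => (ModuleCat.extendScalars.{u, u, u} ψ).map_isZero (hb i hi),
      fun i => ?_, ⟨eL.symm⟩⟩
    have h1 : Module.Finite A (E.X i) := (hff i).1
    have h2 : Module.Free A (E.X i) := (hff i).2
    let l : ((ModuleCat.extendScalars.{u, u, u} (algebraMap A (R' ⊗[R] A))).obj (E.X i)) ≃ₗ[R' ⊗[R] A]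
      (TensorProduct A (R' ⊗[R] A) (E.X i)) := extendScalarsObjEquiv (E.X i)
    exact ⟨Module.Finite.equiv l.symm, Module.Free.of_equiv l.symm⟩
  · -- tor amplitude
    have hE_R : DRing.HasTorAmplitudeIn R a' b' (Q.obj ((resC (algebraMap R A)).obj E)) := by
      obtain ⟨G, hz, hfl, ⟨eG⟩⟩ := hta
      exact ⟨G, hz, hfl, ⟨eG ≪≫ (DRing.restrictD (algebraMap R A)).mapIso e.symm ≪≫
        resDQ (algebraMap R A) E⟩⟩
    have hflat : ∀ i, Module.Flat R (((resC (algebraMap R A)).obj E).X i) := by
      intro i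
      have : Module.Free A (E.X i) := (hff i).2
      letI : Module R (E.X i) := Module.compHom (E.X i) (algebraMap R A)
      haveI : IsScalarTower R A (E.X i) := IsScalarTower.of_algebraMap_smul fun _ _ => rfl
      exact Module.Flat.trans R A (E.X i)
    have hbdd : ∃ c : ℤ, ∀ i, c < i → IsZero (((resC (algebraMap R A)).obj E).X i) :=
      ⟨b, fun i hi => (ModuleCat.restrictScalars (algebraMap R A)).map_isZero (hb i hi)⟩
    obtain ⟨G, hz, hfl, ⟨eG⟩⟩ :=
      torAmp_bcCx R' ((resC (algebraMap R A)).obj E) hflat hbdd a' b' hE_R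
    let cI : (bcCx (algebraMap R R')).obj ((resC (algebraMap R A)).obj E) ≅
        (resC (algebraMap R' (R' ⊗[R] A))).obj E' :=
      (NatIso.mapHomologicalComplex (BCSquare.natIso R A R') (ComplexShape.up ℤ)).app E
    exact ⟨a', b', G, hz, hfl, ⟨eG ≪≫ Q.mapIso cI ≪≫
      (resDQ (algebraMap R' (R' ⊗[R] A)) E').symm ≪≫
      (DRing.restrictD (algebraMap R' (R' ⊗[R] A))).mapIso eL.symm⟩⟩

end Main

end Groth.Agent.Lib.helper2.RelPerfBC
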