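import Mathlib
import Groth.Agent.Lib.helper2.CorepR
import Groth.Agent.Lib.helper2.ExactHomology
import Groth.Agent.Lib.helper2.FinExt2
import Groth.Agent.Lib.helper17.DRingRes

/-!
# Restriction of scalars `D(B) → D(A)` is semilinear; `Hom(res B[-i], K)` finite (helper2)
-/

set_option autoImplicit false
set_option linter.unusedSectionVars false
set_option linter.style.haveILetI false

namespace Groth.Agent.Lib.helper2.ResLin

open CategoryTheory CategoryTheory.Limits HomologicalComplex CochainComplex DerivedCategory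
open Groth.Agent.Lib.helper17.DRingRes

attribute [local instance] HasDerivedCategory.standard

universe u

variable {A B : Type u} [CommRing A] [CommRing B] (φ : A →+* B)

lemma resC_map_smul (E : CochainComplex (ModuleCat.{u} B) ℤ) (a : A) :
    (resC φ).map (φ a • 𝟙 E) = a • 𝟙 ((resC φ).obj E) := by
  ext n x
  rfl

lemma resD_map_smul_Q (E : CochainComplex (ModuleCat.{u} B) ℤ) (a : A) :
    (resD φ).map (Q.map (φ a • 𝟙 E)) = a • 𝟙 ((resD φ).obj (Q.obj E)) := by
  have hn := (resF φ).mapDerivedCategoryFactors.hom.naturality (φ a • 𝟙 E)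
  dsimp only [Functor.comp_map] at hn
  have h1 : Q.map (((resF φ).mapHomologicalComplex (ComplexShape.up ℤ)).map (φ a • 𝟙 E)) =
      a • 𝟙 _ := by
    have := resC_map_smul φ E a
    dsimp only [resC] at this
    rw [this, CategoryTheory.Functor.map_smul, CategoryTheory.Functor.map_id]
  rw [h1, Linear.comp_smul] at hn
  erw [Category.comp_id] at hn
  have h2 : (resD φ).map (Q.map (φ a • 𝟙 E)) =
      ((resD φ).map (Q.map (φ a • 𝟙 E)) ≫ (resF φ).mapDerivedCategoryFactors.hom.app E) ≫
        (resF φ).mapDerivedCategoryFactors.inv.app E := by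
    rw [Category.assoc, Iso.hom_inv_id_app]
    exact (Category.comp_id _).symm
  rw [h2]
  change ((resF φ).mapDerivedCategory.map (Q.map (φ a • 𝟙 E)) ≫ _) ≫ _ = _
  rw [hn, Linear.smul_comp, Iso.hom_inv_id_app]
  rfl

lemma resD_map_smul (X : DerivedCategory (ModuleCat.{u} B)) (a : A) :
    (resD φ).map (φ a • 𝟙 X) = a • 𝟙 ((resD φ).obj X) := by
  let E := Q.objPreimage X
  let e : Q.obj E ≅ X := Q.objObjPreimageIso X
  have h0 : Q.map (φ a • 𝟙 E) = φ a • 𝟙 (Q.obj E) := by
    rw [CategoryTheory.Functor.map_smul, CategoryTheory.Functor.map_id]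
  have h1 : φ a • 𝟙 X = e.inv ≫ Q.map (φ a • 𝟙 E) ≫ e.hom := by
    rw [h0, Linear.smul_comp, Category.id_comp, Linear.comp_smul, e.inv_hom_id]
  rw [h1, Functor.map_comp, Functor.map_comp, resD_map_smul_Q, Linear.smul_comp, Category.id_comp,
    Linear.comp_smul, ← Functor.map_comp, e.inv_hom_id, CategoryTheory.Functor.map_id]

/-- cohomology of `res (B[-i])` -/
lemma finite_homology_res_S (hB : Module.Finite A ((resF φ).obj (ModuleCat.of B B))) (i j : ℤ) :
    Module.Finite A ((DerivedCategory.homologyFunctor (ModuleCat.{u} A) j).obj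
      ((resD φ).obj (Q.obj (CorepR.S B i)))) := by
  let e := ExactHomology.homologyIso (resF φ) (Q.obj (CorepR.S B i)) j
  suffices Module.Finite A ((resF φ).obj ((DerivedCategory.homologyFunctor (ModuleCat.{u} B) j).obj
      (Q.obj (CorepR.S B i)))) from Module.Finite.equiv e.symm.toLinearEquiv
  by_cases hj : j = i
  · subst hj
    let e' : (DerivedCategory.homologyFunctor (ModuleCat.{u} B) j).obj (Q.obj (CorepR.S B j)) ≅ ModuleCat.of B B :=
      (singleFunctorCompHomologyFunctorIso (ModuleCat.{u} B) j).app (ModuleCat.of B B)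
    exact Module.Finite.equiv ((resF φ).mapIso e').symm.toLinearEquiv
  · have hz : IsZero ((DerivedCategory.homologyFunctor (ModuleCat.{u} B) j).obj (Q.obj (CorepR.S B i))) := by
      change IsZero ((DerivedCategory.homologyFunctor (ModuleCat.{u} B) j).obj
        ((DerivedCategory.singleFunctor (ModuleCat.{u} B) i).obj (ModuleCat.of B B)))
      rcases lt_or_gt_of_ne hj with h | h
      · exact DerivedCategory.isZero_of_isGE _ i j h
      · exact DerivedCategory.isZero_of_isLE _ i j h
    have := ModuleCat.subsingleton_of_isZero ((resF φ).map_isZero hz)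
    infer_instance

lemma isLE_res_S (i : ℤ) : ((resD φ).obj (Q.obj (CorepR.S B i))).IsLE i := by
  rw [DerivedCategory.isLE_iff]
  intro j hj
  refine IsZero.of_iso ?_ (ExactHomology.homologyIso (resF φ) (Q.obj (CorepR.S B i)) j)
  apply (resF φ).map_isZero
  change IsZero ((DerivedCategory.homologyFunctor (ModuleCat.{u} B) j).obj
    ((DerivedCategory.singleFunctor (ModuleCat.{u} B) i).obj (ModuleCat.of B B)))
  exact DerivedCategory.isZero_of_isLE _ i j hj

/-- `Hom(res B[-i], K)` is a finite `A`-module for `K` bounded below with finite cohomology -/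
theorem finite_hom_res_S [IsNoetherianRing A]
    (hB : Module.Finite A ((resF φ).obj (ModuleCat.of B B))) (i : ℤ)
    (K : DerivedCategory (ModuleCat.{u} A)) (a : ℤ) [K.IsGE a]
    (hK : ∀ j, Module.Finite A ((DerivedCategory.homologyFunctor (ModuleCat.{u} A) j).obj K)) :
    Module.Finite A ((resD φ).obj (Q.obj (CorepR.S B i)) ⟶ K) := by
  have := isLE_res_S φ i
  exact FinExt.finite_hom_of_isLE_of_isGE _ K a i (finite_homology_res_S φ hB i) hK

end Groth.Agent.Lib.helper2.ResLin
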