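import Mathlib
import Groth.Agent.Lib.helper2.ClassRes

set_option autoImplicit false
set_option linter.unusedSectionVars false
set_option backward.isDefEq.respectTransparency false
set_option backward.defeqAttrib.useBackward true

namespace Groth.Agent.Lib.helper2.SpecialSys

open CategoryTheory CategoryTheory.Limits HomologicalComplex CochainComplex Pretriangulated
open CochainComplex.HomComplex

universe v u

variable {A : Type u} [Category.{v} A] [Abelian A]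

/-- the map induced on mapping cones by a commutative square of quasi-isomorphisms is a
quasi-isomorphism -/
lemma quasiIso_cone_map {K₁ L₁ K₂ L₂ : CochainComplex A ℤ} (φ₁ : K₁ ⟶ L₁) (φ₂ : K₂ ⟶ L₂)
    (a : K₁ ⟶ K₂) (b : L₁ ⟶ L₂) (comm : φ₁ ≫ b = a ≫ φ₂) [QuasiIso a] [QuasiIso b] :
    QuasiIso (mappingCone.map φ₁ φ₂ a b comm) := by
  let := HasDerivedCategory.standard A
  rw [← DerivedCategory.isIso_Q_map_iff_quasiIso]
  let τ := DerivedCategory.Q.mapTriangle.map (mappingCone.triangleMap φ₁ φ₂ a b comm)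
  have h1 : IsIso τ.hom₁ := by
    change IsIso (DerivedCategory.Q.map a)
    rw [DerivedCategory.isIso_Q_map_iff_quasiIso]
    infer_instance
  have h2 : IsIso τ.hom₂ := by
    change IsIso (DerivedCategory.Q.map b)
    rw [DerivedCategory.isIso_Q_map_iff_quasiIso]
    infer_instance
  exact isIso₃_of_isIso₁₂ τ (DerivedCategory.mappingCone_triangle_distinguished φ₁)
    (DerivedCategory.mappingCone_triangle_distinguished φ₂) h1 h2

/-- the connecting map of the cone triangle, with a clean type -/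
noncomputable def δ' {K L : CochainComplex A ℤ} (φ : K ⟶ L) : mappingCone φ ⟶ K⟦(1 : ℤ)⟧ :=
  (mappingCone.triangle φ).mor₃

lemma map_δ' {K₁ L₁ K₂ L₂ : CochainComplex A ℤ} (φ₁ : K₁ ⟶ L₁) (φ₂ : K₂ ⟶ L₂)
    (a : K₁ ⟶ K₂) (b : L₁ ⟶ L₂) (comm : φ₁ ≫ b = a ≫ φ₂) :
    mappingCone.map φ₁ φ₂ a b comm ≫ δ' φ₂ = δ' φ₁ ≫ a⟦(1 : ℤ)⟧' :=
  (mappingCone.triangleMap φ₁ φ₂ a b comm).comm₃.symm

lemma rot_δ' {K L : CochainComplex A ℤ} (φ : K ⟶ L) :
    (mappingCone.rotateHomotopyEquiv φ).hom ≫ δ' (mappingCone.inr φ) = -φ⟦(1 : ℤ)⟧' :=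
  mappingCone.rotateHomotopyEquiv_comm₃ φ

/-- unit of the shift equivalence, with a clean type -/
noncomputable def un (K : CochainComplex A ℤ) : K ⟶ (K⟦(1 : ℤ)⟧)⟦(-1 : ℤ)⟧ :=
  (shiftFunctorCompIsoId (CochainComplex A ℤ) (1 : ℤ) (-1 : ℤ) (by simp)).inv.app K

/-- counit of the shift equivalence, with a clean type -/
noncomputable def cu (K : CochainComplex A ℤ) : (K⟦(1 : ℤ)⟧)⟦(-1 : ℤ)⟧ ⟶ K :=
  (shiftFunctorCompIsoId (CochainComplex A ℤ) (1 : ℤ) (-1 : ℤ) (by simp)).hom.app K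

@[reassoc (attr := simp)]
lemma un_cu (K : CochainComplex A ℤ) : un K ≫ cu K = 𝟙 K :=
  (shiftFunctorCompIsoId (CochainComplex A ℤ) (1 : ℤ) (-1 : ℤ) (by simp)).inv_hom_id_app K

@[reassoc (attr := simp)]
lemma cu_un (K : CochainComplex A ℤ) : cu K ≫ un K = 𝟙 _ :=
  (shiftFunctorCompIsoId (CochainComplex A ℤ) (1 : ℤ) (-1 : ℤ) (by simp)).hom_inv_id_app K

instance (K : CochainComplex A ℤ) : IsIso (un K) := ⟨cu K, un_cu K, cu_un K⟩

instance (K : CochainComplex A ℤ) : IsIso (cu K) := ⟨un K, cu_un K, un_cu K⟩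

@[reassoc]
lemma un_nat {K L : CochainComplex A ℤ} (g : K ⟶ L) :
    g ≫ un L = un K ≫ (g⟦(1 : ℤ)⟧')⟦(-1 : ℤ)⟧' :=
  (shiftFunctorCompIsoId (CochainComplex A ℤ) (1 : ℤ) (-1 : ℤ) (by simp)).inv.naturality g

lemma inl_δ' {K L : CochainComplex A ℤ} (φ : K ⟶ L) (p q : ℤ) (hpq : p + (-1) = q) :
    (mappingCone.inl φ).v p q hpq ≫ (δ' φ).f q =
      -(K.shiftFunctorObjXIso 1 q p (by rw [← hpq, neg_add_cancel_right])).inv :=
  mappingCone.inl_v_triangle_mor₃_f φ p q hpq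

lemma inr_δ' {K L : CochainComplex A ℤ} (φ : K ⟶ L) (p : ℤ) :
    (mappingCone.inr φ).f p ≫ (δ' φ).f p = 0 :=
  mappingCone.inr_f_triangle_mor₃_f φ p

section Step

variable {K' G : CochainComplex A ℤ} (g : K' ⟶ G) {J : CochainComplex A ℤ}
  (j : mappingCone g ⟶ J)

/-- the composite `G ⟶ cone g ⟶ J` -/
noncomputable def ψ : G ⟶ J := mappingCone.inr g ≫ j

/-- the shifted cone of `ψ` -/
noncomputable abbrev Q' : CochainComplex A ℤ := (mappingCone (ψ g j))⟦(-1 : ℤ)⟧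

/-- the comparison `K'[1] ⟶ cone ψ` -/
noncomputable def θ : K'⟦(1 : ℤ)⟧ ⟶ mappingCone (ψ g j) :=
  (mappingCone.rotateHomotopyEquiv g).hom ≫
    mappingCone.map (mappingCone.inr g) (ψ g j) (𝟙 G) j (by simp [ψ])

instance [QuasiIso j] : QuasiIso (θ g j) := by
  have h1 : QuasiIso (mappingCone.rotateHomotopyEquiv g).hom := inferInstance
  have h2 : QuasiIso (mappingCone.map (mappingCone.inr g) (ψ g j) (𝟙 G) j (by simp [ψ])) :=
    quasiIso_cone_map _ _ _ _ _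
  exact quasiIso_comp _ _

lemma θ_mor₃ : θ g j ≫ δ' (ψ g j) = -g⟦(1 : ℤ)⟧' := by
  dsimp only [θ]
  rw [Category.assoc, map_δ', CategoryTheory.Functor.map_id, Category.comp_id, rot_δ']

/-- the resolution map -/
noncomputable def π' : K' ⟶ Q' g j := -(un K' ≫ (θ g j)⟦(-1 : ℤ)⟧')

/-- the projection -/
noncomputable def p : Q' g j ⟶ G := (δ' (ψ g j))⟦(-1 : ℤ)⟧' ≫ cu G

lemma π'_p : π' g j ≫ p g j = g := by
  have h1 : (θ g j)⟦(-1 : ℤ)⟧' ≫ (δ' (ψ g j))⟦(-1 : ℤ)⟧' = -(g⟦(1 : ℤ)⟧')⟦(-1 : ℤ)⟧' := by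
    rw [← Functor.map_comp, θ_mor₃, Functor.map_neg]
  calc π' g j ≫ p g j
      = -(un K' ≫ ((θ g j)⟦(-1 : ℤ)⟧' ≫ (δ' (ψ g j))⟦(-1 : ℤ)⟧') ≫ cu G) := by
        dsimp only [π', p]
        simp only [Preadditive.neg_comp, Category.assoc]
    _ = un K' ≫ (g⟦(1 : ℤ)⟧')⟦(-1 : ℤ)⟧' ≫ cu G := by
        rw [h1]
        simp only [Preadditive.neg_comp, Preadditive.comp_neg, neg_neg]
    _ = g := by
        rw [← un_nat_assoc, un_cu, Category.comp_id]

lemma quasiIso_neg' {K L : CochainComplex A ℤ} (f : K ⟶ L) [QuasiIso f] : QuasiIso (-f) := by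
  rw [quasiIso_iff]
  intro n
  rw [quasiIsoAt_iff_isIso_homologyMap, HomologicalComplex.homologyMap_neg]
  exact ⟨-inv (homologyMap f n), by simp, by simp⟩

instance quasiIso_π' [QuasiIso j] : QuasiIso (π' g j) := by
  have h1 : QuasiIso ((θ g j)⟦(-1 : ℤ)⟧') := by
    rw [quasiIso_shift_iff]
    infer_instance
  have h2 : QuasiIso (un K' ≫ (θ g j)⟦(-1 : ℤ)⟧') := quasiIso_comp _ _
  exact quasiIso_neg' _

lemma map_f_snd (q : ℤ) :
    (mappingCone.map (mappingCone.inr g) (ψ g j) (𝟙 G) j (by simp [ψ])).f q ≫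
      (mappingCone.snd (ψ g j)).v q q (add_zero q) =
    (mappingCone.snd (mappingCone.inr g)).v q q (add_zero q) ≫ j.f q := by
  apply mappingCone.ext_from (mappingCone.inr g) (q + 1) q rfl
  · simp [mappingCone.map]
  · simp [mappingCone.map]

lemma θ_f_snd (q : ℤ) : (θ g j).f q ≫ (mappingCone.snd (ψ g j)).v q q (add_zero q) =
    -((K'.shiftFunctorObjXIso 1 q (q + 1) rfl).hom ≫ (mappingCone.inl g).v (q + 1) q (by lia) ≫
      j.f q) := by
  dsimp only [θ]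
  rw [HomologicalComplex.comp_f, Category.assoc, map_f_snd]
  dsimp only [mappingCone.rotateHomotopyEquiv]
  rw [mappingCone.lift_f_snd_v_assoc]
  simp [Cochain.leftShift_v (mappingCone.inl g) 1 0 (neg_add_cancel 1) q q (add_zero q) (q + 1) (by lia)]

lemma mono_θ_f (hj : ∀ q, Mono (j.f q)) (q : ℤ) : Mono ((θ g j).f q) := by
  have hj' := hj q
  have h1 : Mono ((mappingCone.inl g).v (q + 1) q (by lia)) :=
    mono_of_mono_fac (mappingCone.inl_v_fst_v g (q + 1) q rfl)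
  have h2 : Mono ((θ g j).f q ≫ (mappingCone.snd (ψ g j)).v q q (add_zero q)) := by
    rw [θ_f_snd, Preadditive.mono_iff_cancel_zero]
    intro W x hx
    rw [Preadditive.comp_neg, neg_eq_zero] at hx
    rw [← cancel_mono ((K'.shiftFunctorObjXIso 1 q (q + 1) rfl).hom ≫
      (mappingCone.inl g).v (q + 1) q (by lia) ≫ j.f q), hx, zero_comp]
  exact mono_of_mono _ ((mappingCone.snd (ψ g j)).v q q (add_zero q))

lemma mono_π'_f (hj : ∀ q, Mono (j.f q)) (i : ℤ) : Mono ((π' g j).f i) := by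
  have h1 : Mono ((θ g j).f (i + -1)) := mono_θ_f g j hj _
  have h2 : Mono ((un K' ≫ (θ g j)⟦(-1 : ℤ)⟧').f i) := by
    rw [HomologicalComplex.comp_f]
    have : Mono (((θ g j)⟦(-1 : ℤ)⟧').f i) := h1
    infer_instance
  rw [Preadditive.mono_iff_cancel_zero]
  intro W x hx
  have : (π' g j).f i = -(un K' ≫ (θ g j)⟦(-1 : ℤ)⟧').f i := rfl
  rw [this, Preadditive.comp_neg, neg_eq_zero] at hx
  rw [← cancel_mono ((un K' ≫ (θ g j)⟦(-1 : ℤ)⟧').f i), hx, zero_comp]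

/-- the section of `δ'` in each degree -/
noncomputable def sδ (q : ℤ) : (G⟦(1 : ℤ)⟧).X q ⟶ (mappingCone (ψ g j)).X q :=
  -(mappingCone.inl (ψ g j)).v (q + 1) q (by lia)

lemma sδ_δ' (q : ℤ) : sδ g j q ≫ (δ' (ψ g j)).f q = 𝟙 _ := by
  dsimp only [sδ]
  rw [Preadditive.neg_comp, inl_δ', neg_neg]
  simp [HomologicalComplex.XIsoOfEq]

lemma cone_id (q : ℤ) : (mappingCone.snd (ψ g j)).v q q (add_zero q) ≫ (mappingCone.inr (ψ g j)).f q +
    (δ' (ψ g j)).f q ≫ sδ g j q = 𝟙 _ := by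
  apply mappingCone.ext_from (ψ g j) (q + 1) q rfl
  · rw [Preadditive.comp_add, mappingCone.inl_v_snd_v_assoc, zero_comp, zero_add,
      reassoc_of% (inl_δ' (ψ g j) (q + 1) q (by lia)), Category.comp_id]
    dsimp only [sδ]
    simp [HomologicalComplex.XIsoOfEq]
  · rw [Preadditive.comp_add, mappingCone.inr_f_snd_v_assoc, reassoc_of% (inr_δ' (ψ g j) q),
      zero_comp, add_zero, Category.comp_id]

lemma p_f (i : ℤ) : (p g j).f i = (δ' (ψ g j)).f (i + -1) ≫ (cu G).f i := rfl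

lemma isSplitEpi_p_f (i : ℤ) : ∃ s : G.X i ⟶ (Q' g j).X i, s ≫ (p g j).f i = 𝟙 _ := by
  refine ⟨inv ((cu G).f i) ≫ sδ g j (i + -1), ?_⟩
  rw [p_f, Category.assoc, reassoc_of% (sδ_δ' g j (i + -1)), IsIso.inv_hom_id]

/-- the inclusion of `J` in the shifted cone -/
noncomputable def incJ (i : ℤ) : J.X (i + -1) ⟶ (Q' g j).X i := (mappingCone.inr (ψ g j)).f (i + -1)

lemma incJ_p (i : ℤ) : incJ g j i ≫ (p g j).f i = 0 := by
  rw [p_f]
  dsimp only [incJ]
  rw [reassoc_of% (inr_δ' (ψ g j) (i + -1)), zero_comp]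

/-- `J.X (i-1)` is the kernel of the projection in degree `i` -/
noncomputable def isKernelIncJ (i : ℤ) : IsLimit (KernelFork.ofι (incJ g j i) (incJ_p g j i)) :=
  KernelFork.IsLimit.ofι _ _
    (fun {W} x _ => x ≫ (mappingCone.snd (ψ g j)).v (i + -1) (i + -1) (add_zero _))
    (fun {W} x hx => by
      have h0 : x ≫ (δ' (ψ g j)).f (i + -1) = 0 := by
        rw [p_f, ← Category.assoc] at hx
        rw [← cancel_mono ((cu G).f i), hx, zero_comp]
      have h1 := congrArg (fun t => x ≫ t) (cone_id g j (i + -1))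
      simp only [Preadditive.comp_add, reassoc_of% h0, zero_comp, add_zero,
        Category.comp_id] at h1
      simpa [incJ] using h1)
    (fun {W} x hx m hm => by
      have : m = (m ≫ incJ g j i) ≫ (mappingCone.snd (ψ g j)).v (i + -1) (i + -1) (add_zero _) := by
        dsimp only [incJ]
        rw [Category.assoc, mappingCone.inr_f_snd_v, Category.comp_id]
      rw [this, hm])

/-- the kernel of the projection, degreewise -/
noncomputable def kernelIso (i : ℤ) : kernel ((p g j).f i) ≅ J.X (i + -1) :=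
  IsLimit.conePointUniqueUpToIso (kernelIsKernel _) (isKernelIncJ g j i)

/-- the terms -/
noncomputable def termIso (i : ℤ) : (Q' g j).X i ≅ J.X (i + -1) ⊞ G.X (i + -1 + 1) where
  hom := biprod.lift ((mappingCone.snd (ψ g j)).v (i + -1) (i + -1) (add_zero _))
    ((δ' (ψ g j)).f (i + -1))
  inv := biprod.desc ((mappingCone.inr (ψ g j)).f (i + -1)) (sδ g j (i + -1))
  hom_inv_id := by
    rw [biprod.lift_desc]
    exact cone_id g j (i + -1)
  inv_hom_id := by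
    apply biprod.hom_ext' <;> apply biprod.hom_ext
    · simp
    · simp [inr_δ']
    · simp [sδ]
    · simp [sδ_δ']

end Step

theorem step (I : ObjectProperty A) [I.IsClosedUnderIsomorphisms]
    (hI0 : ∃ Z : A, IsZero Z ∧ I Z) (hIprod : ∀ X Y : A, I X → I Y → I (X ⊞ Y))
    (hI : ∀ X : A, ∃ (Y : A) (ι : X ⟶ Y), I Y ∧ Mono ι)
    {K' G : CochainComplex A ℤ} (g : K' ⟶ G) (aK aG : ℤ) [K'.IsStrictlyGE aK]
    [G.IsStrictlyGE aG] (hG : ∀ i, I (G.X i)) :
    ∃ (Q : CochainComplex A ℤ) (π : K' ⟶ Q) (p : Q ⟶ G), QuasiIso π ∧ (∀ i, Mono (π.f i)) ∧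
      (∃ a : ℤ, Q.IsStrictlyGE a) ∧ (∀ i, I (Q.X i)) ∧
      (∀ i, (∃ s : G.X i ⟶ Q.X i, s ≫ p.f i = 𝟙 _) ∧ I (kernel (p.f i))) ∧ π ≫ p = g := by
  have hc : (mappingCone g).IsStrictlyGE (min (aK - 1) aG) := by
    rw [CochainComplex.isStrictlyGE_iff]
    intro i hi
    rw [mappingCone.isZero_X_iff]
    exact ⟨K'.isZero_of_isStrictlyGE aK (i + 1) (by omega), G.isZero_of_isStrictlyGE aG i (by omega)⟩
  obtain ⟨J, j, hJGE, hJI, hjmono, hjq⟩ :=
    ClassRes.exists_res (fun X => I X) hI0 hI (mappingCone g) (min (aK - 1) aG)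
  refine ⟨Q' g j, π' g j, p g j, inferInstance, mono_π'_f g j hjmono, ⟨min (aK - 1) aG, ?_⟩, ?_, ?_,
    π'_p g j⟩
  · rw [CochainComplex.isStrictlyGE_iff]
    intro i hi
    change IsZero ((mappingCone (ψ g j)).X (i + -1))
    rw [mappingCone.isZero_X_iff]
    exact ⟨G.isZero_of_isStrictlyGE aG (i + -1 + 1) (by omega),
      J.isZero_of_isStrictlyGE (min (aK - 1) aG) (i + -1) (by omega)⟩
  · intro i
    exact I.prop_of_iso (termIso g j i).symm (hIprod _ _ (hJI _) (hG _))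
  · intro i
    exact ⟨isSplitEpi_p_f g j i, I.prop_of_iso (kernelIso g j i).symm (hJI _)⟩

section Trunc

variable (K : CochainComplex A ℤ)

/-- the transition map between canonical truncations -/
noncomputable def tr (a b : ℤ) (h : a ≤ b) : K.truncGE a ⟶ K.truncGE b :=
  haveI : (K.truncGE b).IsStrictlyGE a := (K.truncGE b).isStrictlyGE_of_ge a b h
  CochainComplex.truncGEMap (K.πTruncGE b) a ≫ inv ((K.truncGE b).πTruncGE a)

lemma π_tr (a b : ℤ) (h : a ≤ b) : K.πTruncGE a ≫ tr K a b h = K.πTruncGE b := by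
  haveI : (K.truncGE b).IsStrictlyGE a := (K.truncGE b).isStrictlyGE_of_ge a b h
  dsimp only [tr]
  rw [← Category.assoc, CochainComplex.πTruncGE_naturality, Category.assoc, IsIso.hom_inv_id,
    Category.comp_id]

end Trunc

section Main

variable (I : ObjectProperty A) [I.IsClosedUnderIsomorphisms]
    (hI0 : ∃ Z : A, IsZero Z ∧ I Z) (hIprod : ∀ X Y : A, I X → I Y → I (X ⊞ Y))
    (hI : ∀ X : A, ∃ (Y : A) (ι : X ⟶ Y), I Y ∧ Mono ι) (K : CochainComplex A ℤ)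

/-- the state of the recursion -/
structure St (n : ℕ) where
  Q : CochainComplex A ℤ
  π : K.truncGE (-(n : ℤ)) ⟶ Q
  qis : QuasiIso π
  mono : ∀ i, Mono (π.f i)
  bdd : ∃ a : ℤ, Q.IsStrictlyGE a
  hI : ∀ i, I (Q.X i)

include hI0 hI in
lemma exists_st0 : Nonempty (St I K 0) := by
  obtain ⟨L, α, h1, h2, h3, h4⟩ := ClassRes.exists_res (fun X => I X) hI0 hI
    (K.truncGE (-((0 : ℕ) : ℤ))) (-((0 : ℕ) : ℤ))
  exact ⟨⟨L, α, h4, h3, ⟨_, h1⟩, h2⟩⟩

include hI0 hIprod hI in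
lemma exists_next {n : ℕ} (s : St I K n) : ∃ (s' : St I K (n + 1)) (p : s'.Q ⟶ s.Q),
    (∀ i, (∃ σ : s.Q.X i ⟶ s'.Q.X i, σ ≫ p.f i = 𝟙 _) ∧ I (kernel (p.f i))) ∧
    s'.π ≫ p = tr K (-((n + 1 : ℕ) : ℤ)) (-(n : ℤ)) (by push_cast; omega) ≫ s.π := by
  obtain ⟨aG, haG⟩ := s.bdd
  obtain ⟨Q, π, p, h1, h2, h3, h4, h5, h6⟩ := step I hI0 hIprod hI
    (tr K (-((n + 1 : ℕ) : ℤ)) (-(n : ℤ)) (by push_cast; omega) ≫ s.π)
    (-((n + 1 : ℕ) : ℤ)) aG s.hI
  exact ⟨⟨Q, π, h1, h2, h3, h4⟩, p, h5, h6⟩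

/-- the sequence of states -/
noncomputable def seq : ∀ n, St I K n
  | 0 => (exists_st0 I hI0 hI K).some
  | n + 1 => (exists_next I hI0 hIprod hI K (seq n)).choose

include hI0 hIprod hI in
theorem main :
    ∃ (Q : ℕ → CochainComplex A ℤ) (p : ∀ n, Q (n + 1) ⟶ Q n)
      (π : ∀ n : ℕ, K.truncGE (-(n : ℤ)) ⟶ Q n),
      (∀ n, QuasiIso (π n) ∧ ∀ i, Mono ((π n).f i)) ∧
      (∀ n, ∃ a : ℤ, (Q n).IsStrictlyGE a) ∧ (∀ n i, I ((Q n).X i)) ∧
      (∀ n i, (∃ s : (Q n).X i ⟶ (Q (n + 1)).X i, s ≫ (p n).f i = 𝟙 _) ∧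
        I (kernel ((p n).f i))) ∧
      (∀ n : ℕ, K.πTruncGE (-((n + 1 : ℕ) : ℤ)) ≫ π (n + 1) ≫ p n =
        K.πTruncGE (-(n : ℤ)) ≫ π n) := by
  refine ⟨fun n => (seq I hI0 hIprod hI K n).Q,
    fun n => (exists_next I hI0 hIprod hI K (seq I hI0 hIprod hI K n)).choose_spec.choose,
    fun n => (seq I hI0 hIprod hI K n).π, ?_, ?_, ?_, ?_, ?_⟩
  · intro n
    exact ⟨(seq I hI0 hIprod hI K n).qis, (seq I hI0 hIprod hI K n).mono⟩
  · intro n
    exact (seq I hI0 hIprod hI K n).bdd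
  · intro n
    exact (seq I hI0 hIprod hI K n).hI
  · intro n
    exact (exists_next I hI0 hIprod hI K (seq I hI0 hIprod hI K n)).choose_spec.choose_spec.1
  · intro n
    have h := (exists_next I hI0 hIprod hI K (seq I hI0 hIprod hI K n)).choose_spec.choose_spec.2
    have h' : (seq I hI0 hIprod hI K (n + 1)).π ≫
        (exists_next I hI0 hIprod hI K (seq I hI0 hIprod hI K n)).choose_spec.choose =
        tr K (-((n + 1 : ℕ) : ℤ)) (-(n : ℤ)) (by push_cast; omega) ≫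
          (seq I hI0 hIprod hI K n).π := h
    rw [h', ← Category.assoc, π_tr]

end Main

end Groth.Agent.Lib.helper2.SpecialSys
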