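import Mathlib
import Groth.Agent.Lib.helper2.ProjAmp
import Groth.Agent.Lib.helper2.DerTrunc

/-!
# Splitting off the top truncation of an object of `D(A)` (helper2)
-/

set_option autoImplicit false
set_option linter.unusedSectionVars false
set_option linter.style.haveILetI false
set_option backward.isDefEq.respectTransparency false
set_option backward.defeqAttrib.useBackward true

namespace Groth.Agent.Lib.helper2.SplitTrunc

open CategoryTheory CategoryTheory.Limits CategoryTheory.Pretriangulated DerivedCategory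

universe w v u

variable {C : Type u} [Category.{v} C] [Abelian C] [HasDerivedCategory.{w} C]

variable (C) in
/-- the canonical t-structure -/
noncomputable abbrev tS : Triangulated.TStructure (DerivedCategory C) := DerivedCategory.TStructure.t

/-- maps from an object `≥ a + 1` to an injective object placed in degree `a` vanish -/
lemma hom_single_injective_eq_zero (B : DerivedCategory C) (a n : ℤ) (han : a < n) [B.IsGE n]
    (J : C) [Injective J] (ψ : B ⟶ (DerivedCategory.singleFunctor C a).obj J) : ψ = 0 := by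
  obtain ⟨L, hL, ⟨e⟩⟩ := B.exists_iso_Q_obj_of_isGE n
  let S := (CochainComplex.singleFunctor C a).obj J
  haveI : ∀ q, Injective (S.X q) := by
    intro q
    by_cases hq : q = a
    · subst hq
      exact Injective.of_iso (HomologicalComplex.singleObjXSelf (ComplexShape.up ℤ) q J).symm
        inferInstance
    · exact (HomologicalComplex.isZero_single_obj_X (ComplexShape.up ℤ) a J q hq).injective
  haveI : S.IsKInjective := CochainComplex.isKInjective_of_injective S a
  obtain ⟨g, hg⟩ := (CochainComplex.IsKInjective.Qh_map_bijective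
    ((HomotopyCategory.quotient _ _).obj L) S).surjective
      ((quotientCompQhIso C).hom.app L ≫ e.inv ≫ ψ ≫ (singleFunctorIsoCompQ C a).hom.app J ≫
        (quotientCompQhIso C).inv.app S)
  obtain ⟨f, rfl⟩ := (HomotopyCategory.quotient _ _).map_surjective g
  have hf : f = 0 := by
    apply HomologicalComplex.to_single_hom_ext
    exact (CochainComplex.isZero_of_isStrictlyGE L n a han).eq_of_src _ _
  subst hf
  rw [Functor.map_zero, Functor.map_zero] at hg
  rw [← cancel_epi e.inv, ← cancel_epi ((quotientCompQhIso C).hom.app L),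
    ← cancel_mono ((singleFunctorIsoCompQ C a).hom.app J),
    ← cancel_mono ((quotientCompQhIso C).inv.app S)]
  simp only [Category.assoc, zero_comp, comp_zero]
  exact hg.symm

/-- the hypothesis of S7003 in general form implies vanishing of `Hom(τ_{≥ a+1} K, F[-a])` -/
lemma hom_truncGE_single_eq_zero [EnoughInjectives C] (K : DerivedCategory C) (a n : ℤ)
    (han : a + 1 = n)
    (hinj : ∀ (F F' : C) (g : F ⟶ F') [Mono g]
      (x : K ⟶ (DerivedCategory.singleFunctor C a).obj F),
      x ≫ (DerivedCategory.singleFunctor C a).map g = 0 → x = 0)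
    (F : C) (ψ : ((tS C).truncGE n).obj K ⟶ (DerivedCategory.singleFunctor C a).obj F) : ψ = 0 := by
  have hT := (tS C).triangleLTGE_distinguished n K
  have h1 : ((tS C).truncGEπ n).app K ≫ ψ = 0 := by
    apply hinj F (Injective.under F) (Injective.ι F)
    rw [Category.assoc]
    have : ψ ≫ (DerivedCategory.singleFunctor C a).map (Injective.ι F) = 0 :=
      hom_single_injective_eq_zero _ a n (by lia) _ _
    rw [this, comp_zero]
  obtain ⟨g, hg⟩ := Triangle.yoneda_exact₃ _ hT ψ h1
  have hle : (tS C).IsLE ((((tS C).truncLT n).obj K)⟦(1 : ℤ)⟧) (n - 2) :=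
    (tS C).isLE_shift (((tS C).truncLT n).obj K) (n - 1) 1 (n - 2) (by lia)
  have hg0 : g = 0 := (tS C).zero_of_isLE_of_isGE g (n - 2) a (by lia) hle inferInstance
  rw [hg, hg0]
  exact comp_zero

theorem split [EnoughProjectives C] (K : DerivedCategory C) (n b c : ℤ) (hc : c + 1 = n)
    [K.IsLE b]
    (hB : ∀ (F : C) (ψ : ((tS C).truncGE n).obj K ⟶ (DerivedCategory.singleFunctor C c).obj F),
      ψ = 0) :
    ∃ P : CochainComplex C ℤ, (∀ i, Projective (P.X i)) ∧ P.IsStrictlyGE n ∧
      P.IsStrictlyLE b ∧ Nonempty (Q.obj P ≅ ((tS C).truncGE n).obj K) := by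
  haveI : DerivedCategory.IsLE (((tS C).truncGE n).obj K) b := by
    have : (tS C).IsLE K b := inferInstance
    infer_instance
  exact ProjAmp.forward_core' _ n b c hc
    (fun m hm => DerivedCategory.isZero_of_isGE (((tS C).truncGE n).obj K) n m (by lia)) hB

/-- maps from `τ_{≥ n} K ≅ Q P` (P projective in `[n, b]`) to `(τ_{< m} K)[1]`, `m ≤ n` vanish -/
lemma hom_truncGE_shift_truncLT_eq_zero (K : DerivedCategory C) (n m b : ℤ) (hmn : m ≤ n)
    (P : CochainComplex C ℤ) (hP : ∀ i, Projective (P.X i)) [P.IsStrictlyGE n]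
    [P.IsStrictlyLE b] (e : Q.obj P ≅ ((tS C).truncGE n).obj K)
    (δ : ((tS C).truncGE n).obj K ⟶ (((tS C).truncLT m).obj K)⟦(1 : ℤ)⟧) : δ = 0 := by
  haveI hle : DerivedCategory.IsLE ((((tS C).truncLT m).obj K)⟦(1 : ℤ)⟧) (m - 2) :=
    (tS C).isLE_shift (((tS C).truncLT m).obj K) (m - 1) 1 (m - 2) (by lia)
  have := ProjAmp.hom_eq_zero_of_isLE P n b (m - 2) (by lia) hP _ (e.hom ≫ δ)
  rwa [← cancel_epi e.hom, comp_zero]

/-- the splitting `K ≅ τ_{<n} K ⊞ τ_{≥n} K` -/
theorem exists_iso_biprod [EnoughProjectives C] (K : DerivedCategory C) (n b c : ℤ)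
    (hc : c + 1 = n) [K.IsLE b]
    (hB : ∀ (F : C) (ψ : ((tS C).truncGE n).obj K ⟶ (DerivedCategory.singleFunctor C c).obj F),
      ψ = 0) :
    ∃ e : K ≅ ((tS C).truncLT n).obj K ⊞ ((tS C).truncGE n).obj K,
      ((tS C).truncLTι n).app K ≫ e.hom = biprod.inl ∧
        e.hom ≫ biprod.snd = ((tS C).truncGEπ n).app K := by
  obtain ⟨P, hP, _, _, ⟨eP⟩⟩ := split K n b c hc hB
  have hT := (tS C).triangleLTGE_distinguished n K
  have hz : (((tS C).triangleLTGE n).obj K).mor₃ = 0 :=
    hom_truncGE_shift_truncLT_eq_zero K n n b le_rfl P hP eP _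
  obtain ⟨e, he1, he2⟩ := exists_iso_binaryBiproduct_of_distTriang _ hT hz
  exact ⟨e, he1, he2.symm⟩

/-- variant where `H^c(K) = 0`, with `τ_{<c}` instead of `τ_{<n}` -/
theorem exists_iso_biprod' [EnoughProjectives C] (K : DerivedCategory C) (n b c : ℤ)
    (hc : c + 1 = n) [K.IsLE b]
    (hB : ∀ (F : C) (ψ : ((tS C).truncGE n).obj K ⟶ (DerivedCategory.singleFunctor C c).obj F),
      ψ = 0)
    (hH : IsZero ((DerivedCategory.homologyFunctor C c).obj K)) :
    ∃ e : K ≅ ((tS C).truncLT c).obj K ⊞ ((tS C).truncGE n).obj K,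
      ((tS C).truncLTι c).app K ≫ e.hom = biprod.inl ∧
        e.hom ≫ biprod.snd = ((tS C).truncGEπ n).app K := by
  obtain ⟨P, hP, _, _, ⟨eP⟩⟩ := split K n b c hc hB
  have hT := (tS C).triangleLTGE_distinguished c K
  have hT' := (tS C).triangleLTGE_distinguished n K
  have hge : (tS C).IsGE (((tS C).truncGE c).obj K) n := by
    change DerivedCategory.IsGE (((tS C).truncGE c).obj K) n
    rw [DerivedCategory.isGE_iff]
    intro i hi
    by_cases h : i < c
    · exact DerivedCategory.isZero_of_isGE (((tS C).truncGE c).obj K) c i h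
    · obtain rfl : i = c := by lia
      have := DerTrunc.isIso_homology_map_truncGEπ K i i le_rfl
      exact hH.of_iso (asIso ((DerivedCategory.homologyFunctor C i).map
        (((tS C).truncGEπ i).app K))).symm
  have hle : (tS C).IsLE (((tS C).truncLT c).obj K) c := (tS C).isLE_of_le _ (c - 1) c (by lia)
  have hle' : (tS C).IsLE (((tS C).truncLT n).obj K) c := by
    subst hc
    infer_instance
  obtain ⟨e', he'⟩ := (tS C).triangle_iso_exists hT hT' (Iso.refl K) c n hle hge hle'
    inferInstance (by lia)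
  dsimp at he'
  let T' : Triangle (DerivedCategory C) := Triangle.mk (((tS C).truncLTι c).app K)
    (((tS C).truncGEπ n).app K) (e'.inv.hom₃ ≫ (((tS C).triangleLTGE c).obj K).mor₃)
  have h3 : e'.hom.hom₃ ≫ e'.inv.hom₃ = 𝟙 _ := by
    have := congrArg TriangleMorphism.hom₃ e'.hom_inv_id
    exact this
  have hT'' : T' ∈ distTriang _ := by
    refine isomorphic_distinguished _ hT _ (Triangle.isoMk _ _ (Iso.refl _) (Iso.refl _)
      (Triangle.π₃.mapIso e').symm ?_ ?_ ?_)
    · exact (Category.comp_id _).trans (Category.id_comp _).symm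
    · change ((tS C).truncGEπ n).app K ≫ e'.inv.hom₃ = 𝟙 K ≫ ((tS C).truncGEπ c).app K
      have := e'.hom.comm₂
      rw [he'] at this
      change ((tS C).truncGEπ c).app K ≫ e'.hom.hom₃ = 𝟙 K ≫ ((tS C).truncGEπ n).app K at this
      rw [Category.id_comp] at this ⊢
      rw [← this, Category.assoc, h3]
      exact Category.comp_id _
    · change (e'.inv.hom₃ ≫ (((tS C).triangleLTGE c).obj K).mor₃) ≫ (𝟙 _)⟦(1 : ℤ)⟧' =
        e'.inv.hom₃ ≫ (((tS C).triangleLTGE c).obj K).mor₃
      rw [CategoryTheory.Functor.map_id, Category.comp_id]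
  have hz : T'.mor₃ = 0 := hom_truncGE_shift_truncLT_eq_zero K n c b (by lia) P hP eP _
  obtain ⟨e, he1, he2⟩ := exists_iso_binaryBiproduct_of_distTriang _ hT'' hz
  exact ⟨e, he1, he2.symm⟩

end Groth.Agent.Lib.helper2.SplitTrunc
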