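import Mathlib
import Groth.Prelude.Def_ega3
import Groth.Agent.Lib.helper2.NilDev
import Groth.Agent.Lib.helper2.DNak

/-!
# `T_i(P, -)` and directed unions, localization dévissage (helper2)
-/

set_option autoImplicit false
set_option linter.unusedSectionVars false

namespace Groth.Agent.Lib.helper2.TDev

open CategoryTheory CategoryTheory.Limits DerivedCategory MonoidalCategory CohIII DRing
open Groth.Agent.H4FlatCx TensorProduct

attribute [local instance] HasDerivedCategory.standard

universe u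

section Directed

variable {A : Type u} [CommRing A]

lemma exists_lift_of_directed (X : Type u) [AddCommGroup X] [Module A X] (N : Type u)
    [AddCommGroup N] [Module A N] (S : ℕ → Submodule A N) (hmono : Monotone S)
    (hex : ∀ x : N, ∃ n, x ∈ S n) (z : X ⊗[A] N) :
    ∃ (n : ℕ) (zn : X ⊗[A] (S n)), LinearMap.lTensor X (S n).subtype zn = z := by
  induction z using TensorProduct.induction_on with
  | zero => exact ⟨0, 0, map_zero _⟩
  | tmul p x =>
    obtain ⟨n, hx⟩ := hex x
    exact ⟨n, p ⊗ₜ ⟨x, hx⟩, by simp⟩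
  | add z z' hz hz' =>
    obtain ⟨n, zn, rfl⟩ := hz
    obtain ⟨m, zm, rfl⟩ := hz'
    refine ⟨max n m, LinearMap.lTensor X (Submodule.inclusion (hmono (le_max_left n m))) zn +
      LinearMap.lTensor X (Submodule.inclusion (hmono (le_max_right n m))) zm, ?_⟩
    rw [map_add, ← LinearMap.comp_apply, ← LinearMap.comp_apply, ← LinearMap.lTensor_comp,
      ← LinearMap.lTensor_comp, Submodule.subtype_comp_inclusion, Submodule.subtype_comp_inclusion]

/-- `T_i(P, -)` vanishes on a module which is an increasing union of submodules on which it vanishes -/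
lemma isZero_T_of_directed (P : DRing.Cx A) (hP : ∀ j, Module.Flat A (P.X j)) (i : ℤ) (N : Type u)
    [AddCommGroup N] [Module A N] (S : ℕ → Submodule A N) (hmono : Monotone S)
    (hex : ∀ x : N, ∃ n, x ∈ S n)
    (h : ∀ n, IsZero ((TFun P i).obj (ModuleCat.of A (S n)))) :
    IsZero ((TFun P i).obj (ModuleCat.of A N)) := by
  change IsZero ((tensorObj P (ModuleCat.of A N)).homology i)
  rw [← HomologicalComplex.exactAt_iff_isZero_homology,
    HomologicalComplex.exactAt_iff' _ (i - 1) i (i + 1) (by simp) (by simp),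
    ShortComplex.moduleCat_exact_iff]
  intro z hz
  obtain ⟨n, zn, hzn⟩ := exists_lift_of_directed (P.X i) N S hmono hex z
  let K := tensorObj P (ModuleCat.of A (S n))
  let L := tensorObj P (ModuleCat.of A N)
  let τ : K ⟶ L := tensorMap P (ModuleCat.ofHom (S n).subtype)
  obtain ⟨zn', hzn'⟩ : ∃ zn' : K.X i, (τ.f i).hom zn' = z := ⟨zn, hzn⟩
  have hinj : ∀ j, Function.Injective (τ.f j).hom := fun j => by
    have := hP j
    exact Module.Flat.lTensor_preserves_injective_linearMap (M := P.X j) _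
      (S n).injective_subtype
  have hcyc : (K.d i (i + 1)).hom zn' = 0 := by
    apply hinj (i + 1)
    rw [map_zero]
    have hc := congrArg (fun φ => φ.hom zn') (τ.comm i (i + 1))
    simp only [ModuleCat.hom_comp, LinearMap.comp_apply] at hc
    rw [← hc, hzn']
    exact hz
  have hex' : IsZero (K.homology i) := h n
  rw [← HomologicalComplex.exactAt_iff_isZero_homology,
    HomologicalComplex.exactAt_iff' _ (i - 1) i (i + 1) (by simp) (by simp),
    ShortComplex.moduleCat_exact_iff] at hex'
  obtain ⟨wn, hwn⟩ := hex' zn' hcyc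
  have hwn' : (K.d (i - 1) i).hom wn = zn' := hwn
  refine ⟨(τ.f (i - 1)).hom wn, ?_⟩
  have hc := congrArg (fun φ => φ.hom wn) (τ.comm (i - 1) i)
  simp only [ModuleCat.hom_comp, LinearMap.comp_apply] at hc
  change (L.d (i - 1) i).hom ((τ.f (i - 1)).hom wn) = z
  rw [hc, hwn', hzn']

end Directed

section Loc

variable {R : Type u} [CommRing R] (f : R)

/-- vanishing on `f`-power torsion modules from vanishing on modules killed by `f` -/
lemma isZero_T_of_powerTorsion (P : DRing.Cx R) (hP : ∀ j, Module.Flat R (P.X j)) (i : ℤ)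
    (h : ∀ (N : Type u) [AddCommGroup N] [Module R N], (∀ x : N, f • x = 0) →
      IsZero ((TFun P i).obj (ModuleCat.of R N)))
    (T : Type u) [AddCommGroup T] [Module R T] (hT : ∀ x : T, ∃ n : ℕ, f ^ n • x = 0) :
    IsZero ((TFun P i).obj (ModuleCat.of R T)) := by
  let S : ℕ → Submodule R T := fun n => LinearMap.ker (LinearMap.lsmul R T (f ^ n))
  have hmem : ∀ n (x : T), x ∈ S n ↔ f ^ n • x = 0 := fun n x => by
    simp [S, LinearMap.mem_ker]
  have hmono : Monotone S := by
    intro n m hnm x hx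
    rw [hmem] at hx ⊢
    obtain ⟨k, rfl⟩ := Nat.exists_eq_add_of_le hnm
    rw [pow_add, mul_comm, mul_smul, hx, smul_zero]
  refine isZero_T_of_directed P hP i T S hmono (fun x => ?_) (fun n => ?_)
  · obtain ⟨n, hn⟩ := hT x
    exact ⟨n, (hmem n x).2 hn⟩
  · refine NilDev.isZero_T_of_pow (Ideal.span {f}) P hP i (fun M _ _ hM => h M (fun x =>
      hM f (Ideal.subset_span rfl) x)) n (S n) ?_
    intro r hr x
    rw [Ideal.span_singleton_pow] at hr
    obtain ⟨a, rfl⟩ := Ideal.mem_span_singleton'.1 hr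
    apply Subtype.ext
    change (a * f ^ n) • x.1 = 0
    rw [mul_smul, (hmem n x.1).1 x.2, smul_zero]

/-- localization dévissage: vanishing on `f`-power torsion modules (degrees `i`, `i - 1`) and on
`R_f`-modules gives vanishing everywhere -/
lemma isZero_T_of_loc (P : DRing.Cx R) (hP : ∀ j, Module.Flat R (P.X j)) (i : ℤ)
    (htors : ∀ j : ℤ, (j = i ∨ j = i - 1) → ∀ (T : Type u) [AddCommGroup T] [Module R T],
      (∀ x : T, ∃ n : ℕ, f ^ n • x = 0) → IsZero ((TFun P j).obj (ModuleCat.of R T)))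
    (hloc : ∀ M' : ModuleCat.{u} (Localization.Away f), IsZero ((TFun P i).obj
      ((ModuleCat.restrictScalars (algebraMap R (Localization.Away f))).obj M')))
    (N : Type u) [AddCommGroup N] [Module R N] : IsZero ((TFun P i).obj (ModuleCat.of R N)) := by
  let Rf := Localization.Away f
  let η : N →ₗ[R] Rf ⊗[R] N := TensorProduct.mk R Rf N 1
  have hη : IsLocalizedModule (Submonoid.powers f) η := inferInstance
  -- vanishing on `R_f ⊗ N`
  have hloc' : IsZero ((TFun P i).obj (ModuleCat.of R (Rf ⊗[R] N))) := by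
    let M' : ModuleCat.{u} Rf := ModuleCat.of Rf (Rf ⊗[R] N)
    let e0 : ((ModuleCat.restrictScalars (algebraMap R Rf)).obj M') ≃+
        (ModuleCat.of R (Rf ⊗[R] N)) := AddEquiv.refl (Rf ⊗[R] N)
    have e : (ModuleCat.restrictScalars (algebraMap R Rf)).obj M' ≅ ModuleCat.of R (Rf ⊗[R] N) :=
      LinearEquiv.toModuleIso (@AddEquiv.toLinearEquiv R
        ((ModuleCat.restrictScalars (algebraMap R Rf)).obj M') (ModuleCat.of R (Rf ⊗[R] N)) _ _ _
        ((ModuleCat.restrictScalars (algebraMap R Rf)).obj M').isModule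
        (ModuleCat.of R (Rf ⊗[R] N)).isModule e0 (fun r x => by
          change algebraMap R Rf r • (show Rf ⊗[R] N from x) = r • (show Rf ⊗[R] N from x)
          exact algebraMap_smul Rf r _))
    exact (hloc M').of_iso ((TFun P i).mapIso e.symm)
  -- kernel and cokernel of `η` are `f`-power torsion
  have hK : ∀ x : LinearMap.ker η, ∃ n : ℕ, f ^ n • x = 0 := by
    intro x
    obtain ⟨⟨s, n, rfl⟩, hs⟩ := (IsLocalizedModule.eq_zero_iff (Submonoid.powers f) η).1 x.2
    exact ⟨n, Subtype.ext hs⟩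
  have hC : ∀ x : (Rf ⊗[R] N) ⧸ LinearMap.range η, ∃ n : ℕ, f ^ n • x = 0 := by
    intro x
    obtain ⟨y, rfl⟩ := (LinearMap.range η).mkQ_surjective x
    obtain ⟨⟨m, ⟨s, n, rfl⟩⟩, hm⟩ := IsLocalizedModule.surj (Submonoid.powers f) η y
    refine ⟨n, ?_⟩
    rw [← map_smul]
    exact (Submodule.Quotient.mk_eq_zero _).2 ⟨m, hm.symm⟩
  let p : N →ₗ[R] LinearMap.range η := η.rangeRestrict
  have hp : Function.Surjective p := η.surjective_rangeRestrict
  have hS1 := DNak.shortExact_ker (A := R) (M := N) (M' := LinearMap.range η) p hp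
  have hS2 := NilDev.shortExact_sub (LinearMap.range η)
  -- `T_i` of the image
  have hI : IsZero ((TFun P i).obj (ModuleCat.of R (LinearMap.range η))) := by
    have hex := exact₁ P hP _ hS2 (i - 1) i (by simp)
    exact hex.isZero_X₂ ((htors (i - 1) (Or.inr rfl) _ hC).eq_of_src _ _) (hloc'.eq_of_tgt _ _)
  have hK' : ∀ x : LinearMap.ker p, ∃ n : ℕ, f ^ n • x = 0 := by
    intro x
    have hx : η x.1 = 0 := congrArg Subtype.val x.2
    obtain ⟨n, hn⟩ := hK ⟨x.1, hx⟩
    have h2 : f ^ n • (x.1 : N) = 0 := congrArg Subtype.val hn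
    exact ⟨n, Subtype.ext h2⟩
  have hex := exact₂ P hP _ hS1 i
  exact hex.isZero_X₂ ((htors i (Or.inl rfl) _ hK').eq_of_src _ _) (hI.eq_of_tgt _ _)

end Loc

end Groth.Agent.Lib.helper2.TDev
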