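import Mathlib
import Groth.Agent.Lib.helper2.Stupid
import Groth.Agent.Lib.helper2.DerTrunc

set_option autoImplicit false
set_option linter.unusedSectionVars false

namespace Groth.Agent.Lib.helper2.ThickR

open CategoryTheory CategoryTheory.Limits CategoryTheory.Pretriangulated DerivedCategory

universe u

attribute [local instance] HasDerivedCategory.standard

variable {R : Type u} [CommRing R]

/-- a finite projective module is a direct summand of a finite free module -/
lemma exists_biprod_iso_free (M : ModuleCat.{u} R) [Module.Finite R M] [Module.Projective R M] :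
    ∃ (n : ℕ) (Y : ModuleCat.{u} R), Nonempty (M ⊞ Y ≅ ModuleCat.of R (Fin n → R)) := by
  obtain ⟨n, f, hf⟩ := Module.Finite.exists_fin' R M
  obtain ⟨s, hs⟩ := Module.projective_lifting_property f LinearMap.id hf
  let Z : ModuleCat.{u} R := ModuleCat.of R (Fin n → R)
  let f' : Z ⟶ M := ModuleCat.ofHom f
  let s' : M ⟶ Z := ModuleCat.ofHom s
  have hs' : s' ≫ f' = 𝟙 M := by
    apply ModuleCat.hom_ext
    exact hs
  let S : ShortComplex (ModuleCat.{u} R) := ShortComplex.mk (kernel.ι f') f' (kernel.condition _)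
  have hS : S.Exact := ShortComplex.exact_of_f_is_kernel _ (kernelIsKernel _)
  have hm : Mono S.f := by dsimp [S]; infer_instance
  let σ := ShortComplex.Splitting.ofExactOfSection S hS s' hs' hm
  exact ⟨n, kernel f', ⟨(biprod.braiding _ _) ≪≫ σ.isoBinaryBiproduct.symm⟩⟩

/-- `R^{n+1} ≅ R ⊞ R^n` -/
noncomputable def freeSuccIso (n : ℕ) :
    ModuleCat.of R (Fin (n + 1) → R) ≅ ModuleCat.of R R ⊞ ModuleCat.of R (Fin n → R) :=
  (LinearEquiv.toModuleIso (Fin.consLinearEquiv R (fun _ => R)).symm) ≪≫
    (ModuleCat.biprodIsoProd (ModuleCat.of R R) (ModuleCat.of R (Fin n → R))).symm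

instance (i : ℤ) : PreservesBinaryBiproducts (DerivedCategory.singleFunctor (ModuleCat.{u} R) i) :=
  preservesBinaryBiproducts_of_preservesBiproducts _

variable (P : ObjectProperty (DerivedCategory (ModuleCat.{u} R))) [P.IsClosedUnderIsomorphisms]
  (hR : P ((DerivedCategory.singleFunctor (ModuleCat.{u} R) 0).obj (ModuleCat.of R R)))
  (hshift : ∀ (K : DerivedCategory (ModuleCat.{u} R)) (n : ℤ), P K →
    P ((shiftFunctor (DerivedCategory (ModuleCat.{u} R)) n).obj K))
  (hext : ∀ T : Triangle (DerivedCategory (ModuleCat.{u} R)), T ∈ distTriang _ →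
    P T.obj₁ → P T.obj₃ → P T.obj₂)
  (hsum : ∀ (X Y : DerivedCategory (ModuleCat.{u} R)) [HasBinaryBiproduct X Y], P (X ⊞ Y) → P X)

include hR hsum in
lemma prop_of_isZero (X : DerivedCategory (ModuleCat.{u} R)) (hX : IsZero X) : P X :=
  hsum X _ (P.prop_of_iso (isoZeroBiprod hX) hR)

include hR hsum hext in
lemma prop_single_free (n : ℕ) :
    P ((DerivedCategory.singleFunctor (ModuleCat.{u} R) 0).obj (ModuleCat.of R (Fin n → R))) := by
  induction n with
  | zero =>
    apply prop_of_isZero P hR hsum
    apply Functor.map_isZero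
    exact ModuleCat.isZero_of_subsingleton _
  | succ n ih =>
    have e2 := (DerivedCategory.singleFunctor (ModuleCat.{u} R) 0).mapIso (freeSuccIso (R := R) n) ≪≫
      (DerivedCategory.singleFunctor (ModuleCat.{u} R) 0).mapBiprod _ _
    apply P.prop_of_iso e2.symm
    exact hext _ (binaryBiproductTriangle_distinguished _ _) hR ih

include hR hsum hext hshift in
lemma prop_single_finite_projective (M : ModuleCat.{u} R) [Module.Finite R M]
    [Module.Projective R M] (i : ℤ) :
    P ((DerivedCategory.singleFunctor (ModuleCat.{u} R) i).obj M) := by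
  obtain ⟨n, Y, ⟨e⟩⟩ := exists_biprod_iso_free M
  have h0 : P ((DerivedCategory.singleFunctor (ModuleCat.{u} R) 0).obj M) := by
    apply hsum _ ((DerivedCategory.singleFunctor (ModuleCat.{u} R) 0).obj Y)
    exact P.prop_of_iso ((DerivedCategory.singleFunctor (ModuleCat.{u} R) 0).mapIso e.symm ≪≫
      (DerivedCategory.singleFunctor (ModuleCat.{u} R) 0).mapBiprod _ _)
      (prop_single_free P hR hext hsum n)
  exact P.prop_of_iso (DerTrunc.singleIsoShift M i).symm (hshift _ (-i) h0)

end Groth.Agent.Lib.helper2.ThickR
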