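import Mathlib
import Groth.Prelude.Def_MoreMor

/-!
Helper lemmas on thickenings (surjective closed immersions), used by S1303--S1308 etc.
-/

set_option autoImplicit false
open CategoryTheory CategoryTheory.Limits AlgebraicGeometry
universe u

namespace Groth.Agent.Lib.helper2

variable {X Y Z : Scheme.{u}}

/-- If `f ≫ g` is quasi-compact and `f` is surjective then `g` is quasi-compact. -/
theorem quasiCompact_of_comp_surjective (f : X ⟶ Y) (g : Y ⟶ Z) [QuasiCompact (f ≫ g)]
    [Surjective f] : QuasiCompact g := by
  constructor
  intro U hU hU'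
  have h := QuasiCompact.isCompact_preimage (f := f ≫ g) U hU hU'
  have himg : g ⁻¹' U = f '' ((f ≫ g) ⁻¹' U) := by
    ext y
    constructor
    · intro hy
      obtain ⟨x, rfl⟩ := f.surjective y
      exact ⟨x, by simpa using hy, rfl⟩
    · rintro ⟨x, hx, rfl⟩
      simpa using hx
  rw [himg]
  exact h.image f.continuous

/-- If `f ≫ g` is universally open and `f` is surjective then `g` is universally open. -/
theorem universallyOpen_of_comp_surjective (f : X ⟶ Y) (g : Y ⟶ Z) [UniversallyOpen (f ≫ g)]
    [Surjective f] : UniversallyOpen g := by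
  constructor
  intro X' Y' i₁ i₂ f' H
  have := UniversallyOpen.universally_isOpenMap (f := f ≫ g) _ _ _
    ((IsPullback.of_hasPullback i₁ f).paste_horiz H)
  exact IsOpenMap.of_comp (Scheme.Hom.continuous _)
    (MorphismProperty.pullback_fst (P := @Surjective) _ _ ‹_›).1 this

/-- A surjective closed immersion is universally open. -/
theorem universallyOpen_of_isClosedImmersion_of_surjective (i : X ⟶ Y) [IsClosedImmersion i]
    [Surjective i] : UniversallyOpen i := by
  constructor
  intro X' Y' i₁ i₂ f' H
  have h1 : IsClosedImmersion f' := MorphismProperty.of_isPullback H.flip inferInstance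
  have h2 : Surjective f' := MorphismProperty.of_isPullback H.flip inferInstance
  have hce : Topology.IsClosedEmbedding f' := f'.isClosedEmbedding
  exact (hce.isEmbedding.toHomeomorphOfSurjective f'.surjective).isOpenMap

/-- The diagonal of `i ≫ f'` followed by `i × i` is `i` followed by the diagonal of `f'`. -/
theorem diagonal_comp_pullbackMap {X X' S' : Scheme.{u}} (i : X ⟶ X') (f' : X' ⟶ S') :
    pullback.diagonal (i ≫ f') ≫
      pullback.map (i ≫ f') (i ≫ f') f' f' i i (𝟙 S') (by simp) (by simp) =
    i ≫ pullback.diagonal f' := by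
  ext
  · simp only [Category.assoc, pullback.lift_fst, pullback.diagonal_fst, Category.comp_id]
    rw [pullback.diagonal_fst_assoc]
  · simp only [Category.assoc, pullback.lift_snd, pullback.diagonal_snd, Category.comp_id]
    rw [pullback.diagonal_snd_assoc]

/-- `i × i` is surjective when `i` is. -/
theorem surjective_pullbackMap {X X' S' : Scheme.{u}} (i : X ⟶ X') (f' : X' ⟶ S') [Surjective i] :
    Surjective (pullback.map (i ≫ f') (i ≫ f') f' f' i i (𝟙 S') (by simp) (by simp)) :=
  MorphismProperty.pullbackMap (P := @Surjective) ‹_› ‹_› rfl rfl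

/-- `i × i` is a closed immersion when `i` is. -/
theorem isClosedImmersion_pullbackMap {X X' S' : Scheme.{u}} (i : X ⟶ X') (f' : X' ⟶ S')
    [IsClosedImmersion i] :
    IsClosedImmersion (pullback.map (i ≫ f') (i ≫ f') f' f' i i (𝟙 S') (by simp) (by simp)) :=
  MorphismProperty.pullbackMap (P := @IsClosedImmersion) ‹_› ‹_› rfl rfl

end Groth.Agent.Lib.helper2
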