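import Mathlib
import Groth.Prelude.Def_DRing2
import Groth.Prelude.Def_DDual2
import Groth.Agent.Lib.helper6.TorBC3
import Groth.Agent.Lib.helper17.TorAmpTor
import Groth.Agent.Lib.helper17.DRingRes

/-!
# Tor dimension of flat modules over an algebra of finite tor dimension; restriction of scalars
-/

set_option autoImplicit false
set_option linter.unusedSectionVars false

namespace Groth.Agent.Lib.helper2.TorRes2

open CategoryTheory CategoryTheory.Limits MonoidalCategory
open Groth.Agent.Lib.helper6 Groth.Agent.Lib.helper6.TorBC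

universe u

variable (A B : Type u) [CommRing A] [CommRing B] [Algebra A B]

noncomputable instance tensorLeft_preservesHomology (M : ModuleCat.{u} B) [Module.Flat B M] :
    (tensorLeft M).PreservesHomology :=
  ((Functor.exact_tfae (tensorLeft M)).out 1 2).1
    (fun S hS => Module.Flat.lTensor_shortComplex_exact M S hS)

theorem isZero_tor_of_flat (P' : Type u) [AddCommGroup P'] [Module B P'] [Module A P']
    [IsScalarTower A B P'] [Module.Flat B P'] (Q : ModuleCat.{u} A) (n : ℕ)
    (h : IsZero (((Tor (ModuleCat.{u} A) n).obj (ModuleCat.of A B)).obj Q)) :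
    IsZero (((Tor (ModuleCat.{u} A) n).obj (ModuleCat.of A P')).obj Q) := by
  let R := ProjectiveResolution.of Q
  let G := bc A B ⋙ tensorLeft (ModuleCat.of B P') ⋙
    ModuleCat.restrictScalars (algebraMap A B)
  let i1 := R.isoLeftDerivedObj (tensorLeft (ModuleCat.of A P')) n
  let i2 : ((G.mapHomologicalComplex _).obj R.complex).homology n ≅
      (((tensorLeft (ModuleCat.of A P')).mapHomologicalComplex _).obj R.complex).homology n :=
    (HomologicalComplex.homologyFunctor _ _ n).mapIso
      ((NatIso.mapHomologicalComplex (θ A B P') _).app R.complex)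
  let K0 := ((bc A B).mapHomologicalComplex _).obj R.complex
  let K' := ((tensorLeft (ModuleCat.of B P')).mapHomologicalComplex _).obj K0
  let i3 : ((G.mapHomologicalComplex _).obj R.complex) ≅
      (((ModuleCat.restrictScalars (algebraMap A B)).mapHomologicalComplex _).obj K') :=
    Iso.refl _
  let i4 := mapHomologyIso' (ModuleCat.restrictScalars (algebraMap A B)) K' n
  have : Module.Flat B (ModuleCat.of B P') := ‹Module.Flat B P'›
  let i5 := mapHomologyIso' (tensorLeft (ModuleCat.of B P')) K0 n
  -- the homology of `K0` vanishes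
  have h0 : IsZero (K0.homology n) := by
    have h0' : IsZero ((ModuleCat.restrictScalars (algebraMap A B)).obj (K0.homology n)) := by
      let j1 := R.isoLeftDerivedObj (tensorLeft (ModuleCat.of A B)) n
      have hz := IsZero.of_iso h j1.symm
      let e1 := mapHomologyIso' (ModuleCat.restrictScalars (algebraMap A B)) K0 n
      let c1 : ((ModuleCat.restrictScalars (algebraMap A B)).mapHomologicalComplex _).obj K0 ≅
          ((bc A B ⋙ ModuleCat.restrictScalars (algebraMap A B)).mapHomologicalComplex _).obj
            R.complex := Iso.refl _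
      let c2 := (NatIso.mapHomologicalComplex (TorBC.bcResIso A B) (ComplexShape.down ℕ)).app
        R.complex
      exact IsZero.of_iso hz (e1.symm ≪≫
        (HomologicalComplex.homologyFunctor _ _ n).mapIso (c1 ≪≫ c2))
    rw [ModuleCat.isZero_iff_subsingleton] at h0' ⊢
    exact h0'
  have h1 : IsZero (K'.homology n) :=
    IsZero.of_iso ((tensorLeft (ModuleCat.of B P')).map_isZero h0) i5
  have h2 : IsZero ((ModuleCat.restrictScalars (algebraMap A B)).obj (K'.homology n)) :=
    (ModuleCat.restrictScalars (algebraMap A B)).map_isZero h1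
  exact IsZero.of_iso h2 (i1 ≪≫ i2.symm ≪≫
    (HomologicalComplex.homologyFunctor _ _ n).mapIso i3 ≪≫ i4)

open Groth.Agent.Lib.helper17.TorAmpTor Groth.Agent.Lib.helper17.DRingTA
  Groth.Agent.Lib.helper17.DRingRes

theorem TD_res_of_flat (d : ℕ) (hB : TD d (ModuleCat.of A B)) (F : ModuleCat.{u} B)
    [Module.Flat B F] : TD d ((ModuleCat.restrictScalars (algebraMap A B)).obj F) := by
  let _ : Module A F := Module.compHom F (algebraMap A B)
  have : IsScalarTower A B F := IsScalarTower.of_algebraMap_smul (fun r x => rfl)
  intro N p hp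
  exact isZero_tor_of_flat A B F N p (hB N p hp)

attribute [local instance] HasDerivedCategory.standard

theorem torAmp_restrict (d : ℕ)
    (hB : DRing.HasTorAmplitudeIn A (-(d : ℤ)) 0 (Dual.inD A B)) (K : Dual.D B)
    (a b : ℤ) (hK : DRing.HasTorAmplitudeIn B a b K) :
    DRing.HasTorAmplitudeIn A (a - d) b ((DRing.restrictD (algebraMap A B)).obj K) := by
  have hTD : TD d (ModuleCat.of A B) := (TD_iff_torAmp d _).2 hB
  obtain ⟨E, hv, hfl, ⟨e⟩⟩ := hK
  refine torAmp_of_iso ?_ ((resDQ (algebraMap A B) E).symm ≪≫
    (DRing.restrictD (algebraMap A B)).mapIso e)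
  refine torAmp_of_terms (a - d) b _ a b (fun i hi => ?_) (fun i => ?_)
  · exact (ModuleCat.restrictScalars (algebraMap A B)).map_isZero (hv i hi)
  · by_cases hi : i < a ∨ b < i
    · apply torAmp_of_isZero
      exact (DerivedCategory.singleFunctor _ 0).map_isZero
        ((ModuleCat.restrictScalars (algebraMap A B)).map_isZero (hv i hi))
    · have : Module.Flat B (E.X i) := hfl i
      have h1 := (TD_iff_torAmp d _).1 (TD_res_of_flat A B d hTD (E.X i))
      exact torAmp_of_le h1 (by lia) (by lia)

end Groth.Agent.Lib.helper2.TorRes2
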