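import Mathlib
import Groth.Agent.Lib.helper2.TwoTermD
import Groth.Agent.Lib.helper2.DerTrunc
import Groth.Agent.Lib.helper2.HomZero

set_option autoImplicit false
set_option linter.unusedSectionVars false

namespace Groth.Agent.Lib.helper2.TwoTermExt

open CategoryTheory CategoryTheory.Limits CategoryTheory.Pretriangulated DerivedCategory

universe u

attribute [local instance] HasDerivedCategory.standard

variable {R : Type u} [CommRing R]

/-- the canonical t-structure on `D(R)` -/
noncomputable abbrev tR (R : Type u) [CommRing R] :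
    Triangulated.TStructure (DerivedCategory (ModuleCat.{u} R)) := DerivedCategory.TStructure.t

lemma smul_id_eq_zero_of_forall (M : ModuleCat.{u} R) (a : R) (h : ∀ x : M, a • x = 0) :
    a • 𝟙 M = 0 := by
  apply ModuleCat.hom_ext
  apply LinearMap.ext
  intro x
  rw [ModuleCat.hom_smul, LinearMap.smul_apply, ModuleCat.hom_id, LinearMap.id_apply, h x,
    ModuleCat.hom_zero, LinearMap.zero_apply]

lemma forall_smul_eq_zero_of_smul_id (M : ModuleCat.{u} R) (a : R) (h : a • 𝟙 M = 0) (x : M) :
    a • x = 0 := by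
  have := congrArg (fun f => f.hom x) h
  rw [ModuleCat.hom_smul, LinearMap.smul_apply, ModuleCat.hom_id, LinearMap.id_apply,
    ModuleCat.hom_zero, LinearMap.zero_apply] at this
  exact this

lemma smul_id_eq_zero_of_iso (R : Type u) [CommRing R] {C : Type*} [Category C] [Preadditive C]
    [Linear R C] {X Y : C}
    (e : X ≅ Y) (a : R) (h : a • 𝟙 X = 0) : a • 𝟙 Y = 0 := by
  have : a • 𝟙 Y = e.inv ≫ (a • 𝟙 X) ≫ e.hom := by
    rw [Linear.smul_comp, Linear.comp_smul]
    simp
  rw [this, h]
  simp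

/-- if `a` kills `H^{-1}(K)` and `K` is `≥ -1`, then `a` kills `τ_{<0} K`. -/
lemma smul_id_truncLT_eq_zero (K : DerivedCategory (ModuleCat.{u} R)) [K.IsGE (-1)] (a : R)
    (h : ∀ x : (DerivedCategory.homologyFunctor (ModuleCat.{u} R) (-1)).obj K, a • x = 0) :
    a • 𝟙 (((tR R).truncLT 0).obj K) = 0 := by
  have hiso : ∀ i : ℤ, i < 0 → IsIso ((DerivedCategory.homologyFunctor (ModuleCat.{u} R) i).map
      (((tR R).truncLTι 0).app K)) := fun i hi => DerTrunc.isIso_homology_map_truncLTι K 0 i hi
  have hge : DerivedCategory.IsGE (((tR R).truncLT 0).obj K) (-1) := by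
    rw [DerivedCategory.isGE_iff]
    intro i hi
    have := hiso i (by lia)
    exact (DerivedCategory.isZero_of_isGE K (-1) i hi).of_iso
      (asIso ((DerivedCategory.homologyFunctor (ModuleCat.{u} R) i).map
        (((tR R).truncLTι 0).app K)))
  have hle : DerivedCategory.IsLE (((tR R).truncLT 0).obj K) (-1) := by
    change (tR R).IsLE _ _
    exact (tR R).isLE_truncLT_obj _ 0 (-1) (by lia)
  obtain ⟨eA⟩ := DerTrunc.exists_iso_single_homology (((tR R).truncLT 0).obj K) (-1)
  have := hiso (-1) (by lia)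
  have h1 : a • 𝟙 ((DerivedCategory.homologyFunctor (ModuleCat.{u} R) (-1)).obj
      (((tR R).truncLT 0).obj K)) = 0 :=
    smul_id_eq_zero_of_iso R (asIso ((DerivedCategory.homologyFunctor (ModuleCat.{u} R) (-1)).map
        (((tR R).truncLTι 0).app K))).symm a (smul_id_eq_zero_of_forall _ a h)
  apply smul_id_eq_zero_of_iso R eA.symm
  rw [← CategoryTheory.Functor.map_id, ← Functor.map_smul, h1, Functor.map_zero]

/-- `τ_{≥0} K ≅ H^0(K)[0]` for `K ≤ 0`. -/
lemma nonempty_truncGE_iso (K : DerivedCategory (ModuleCat.{u} R)) [K.IsLE 0] :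
    Nonempty (((tR R).truncGE 0).obj K ≅ (DerivedCategory.singleFunctor (ModuleCat.{u} R) 0).obj
      ((DerivedCategory.homologyFunctor (ModuleCat.{u} R) 0).obj K)) := by
  have hle : DerivedCategory.IsLE (((tR R).truncGE 0).obj K) 0 := by
    have : (tR R).IsLE K 0 := inferInstance
    change (tR R).IsLE _ _
    infer_instance
  have hge : DerivedCategory.IsGE (((tR R).truncGE 0).obj K) 0 := by
    change (tR R).IsGE _ _
    infer_instance
  obtain ⟨eB⟩ := DerTrunc.exists_iso_single_homology (((tR R).truncGE 0).obj K) 0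
  have := DerTrunc.isIso_homology_map_truncGEπ K 0 0 le_rfl
  exact ⟨eB ≪≫ (DerivedCategory.singleFunctor (ModuleCat.{u} R) 0).mapIso
    (asIso ((DerivedCategory.homologyFunctor (ModuleCat.{u} R) 0).map
      (((tR R).truncGEπ 0).app K))).symm⟩

/-- if multiplication by `a` on `E^{-1}` factors through the differential, `a` kills `H^{-1}`. -/
lemma smul_homology_eq_zero (E : CochainComplex (ModuleCat.{u} R) ℤ)
    (hE : IsZero (E.X (-2))) (K : DerivedCategory (ModuleCat.{u} R)) (e : Q.obj E ≅ K) (a : R)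
    (h : E.X 0 ⟶ E.X (-1)) (hh : E.d (-1) 0 ≫ h = a • 𝟙 (E.X (-1)))
    (x : (DerivedCategory.homologyFunctor (ModuleCat.{u} R) (-1)).obj K) : a • x = 0 := by
  apply forall_smul_eq_zero_of_smul_id
  let φ : (DerivedCategory.homologyFunctor (ModuleCat.{u} R) (-1)).obj K ≅ E.homology (-1) :=
    (DerivedCategory.homologyFunctor (ModuleCat.{u} R) (-1)).mapIso e.symm ≪≫
      (DerivedCategory.homologyFunctorFactors (ModuleCat.{u} R) (-1)).app E
  apply smul_id_eq_zero_of_iso R φ.symm
  have hd : E.d (-2) (-1) = 0 := hE.eq_of_src _ _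
  have := E.isIso_homologyπ (-2) (-1) (by simp) hd
  rw [← cancel_mono (inv (E.homologyπ (-1)) ≫ E.iCycles (-1)), zero_comp, Linear.smul_comp,
    Category.id_comp]
  have h2 : (inv (E.homologyπ (-1)) ≫ E.iCycles (-1)) ≫ (a • 𝟙 (E.X (-1))) = 0 := by
    rw [← hh, Category.assoc, E.iCycles_d_assoc, zero_comp, comp_zero]
  rw [Linear.comp_smul, Category.comp_id] at h2
  exact h2

end Groth.Agent.Lib.helper2.TwoTermExt
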