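import Mathlib
import Groth.Prelude.Def_DTen4
import Groth.Agent.Lib.helper2.KPc
import Groth.Agent.Lib.helper2.KanLocal
import Groth.Agent.Lib.helper2.ConeRep
import Groth.Agent.Lib.helper2.NilDev
import Groth.Agent.Lib.helper2.HAdj

/-!
# Two-variable derived functors are computed on pairs of K-projective complexes (helper2)
-/

set_option autoImplicit false
set_option linter.unusedSectionVars false

namespace Groth.Agent.Lib.helper2.TwoVar

open CategoryTheory CategoryTheory.Limits DerivedCategory MonoidalCategory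

attribute [local instance] HasDerivedCategory.standard

universe u

section General

variable {R A : Type u} [CommRing R] [CommRing A]
variable {E' : Type*} [Category E'] [HasCoproducts.{u} E']

lemma homotopy_of_Q_map_eq {B : Type u} [CommRing B] {P c : DRing.Cx B} [P.IsKProjective]
    (f f' : P ⟶ c) (h : Q.map f = Q.map f') : Nonempty (Homotopy f f') := by
  refine ⟨HomotopyCategory.homotopyOfEq _ _ ?_⟩
  exact (CochainComplex.IsKProjective.Qh_map_bijective P
    ((HomotopyCategory.quotient _ _).obj c)).injective h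

/-- the counit of a two-variable left derived functor is an isomorphism at pairs of K-projective
complexes, for functors respecting homotopies -/
theorem isIso_counit_pair (G : DRing.Cx R × DRing.Cx A ⥤ E') (LG : Dual.D R × Dual.D A ⥤ E')
    (ε : (Q.prod Q) ⋙ LG ⟶ G) [LG.IsRightKanExtension ε]
    (P : DRing.Cx R) (F : DRing.Cx A) [P.IsKProjective] [F.IsKProjective]
    (hG : ∀ (c : DRing.Cx R × DRing.Cx A) (f f' : (P, F) ⟶ c), Homotopy f.1 f'.1 →
      Homotopy f.2 f'.2 → G.map f = G.map f') :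
    IsIso (ε.app (P, F)) := by
  have hs1 : ∀ d : Dual.D R, Small.{u} (Q.obj P ⟶ d) := fun d => KPc.small_hom P d
  have hs2 : ∀ d : Dual.D A, Small.{u} (Q.obj F ⟶ d) := fun d => KPc.small_hom F d
  have hs : ∀ d : Dual.D R × Dual.D A,
      Small.{u} (((Q.prod Q : DRing.Cx R × DRing.Cx A ⥤ _).obj (P, F)) ⟶ d) := by
    intro d
    change Small.{u} ((Q.obj P ⟶ d.1) × (Q.obj F ⟶ d.2))
    infer_instance
  refine KanLocal.isIso_counit_app.{u} (Q.prod Q) G LG ε (P, F) (fun c φ => ?_) (fun c f f' h => ?_)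
  · obtain ⟨g₁, hg₁⟩ := ConeRep.exists_chain_map P c.1 φ.1
    obtain ⟨g₂, hg₂⟩ := ConeRep.exists_chain_map F c.2 φ.2
    exact ⟨(g₁, g₂), Prod.ext hg₁ hg₂⟩
  · obtain ⟨h₁⟩ := homotopy_of_Q_map_eq f.1 f'.1 (congrArg Prod.fst h)
    obtain ⟨h₂⟩ := homotopy_of_Q_map_eq f.2 f'.2 (congrArg Prod.snd h)
    exact hG c f f' h₁ h₂

end General

section Tensor

variable {A : Type u} [CommRing A]

/-- `- ⊗ L` respects homotopies -/
noncomputable def whiskerRightHomotopy {K K' : DRing.Cx A} {f f' : K ⟶ K'} (h : Homotopy f f')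
    (L : DRing.Cx A) : Homotopy (f ▷ L) (f' ▷ L) :=
  HomologicalComplex.mapBifunctorMapHomotopy₁ h (𝟙 L) (curriedTensor (ModuleCat.{u} A))
    (ComplexShape.up ℤ)

/-- `K ⊗ -` respects homotopies -/
noncomputable def whiskerLeftHomotopy (K : DRing.Cx A) {L L' : DRing.Cx A} {g g' : L ⟶ L'}
    (h : Homotopy g g') : Homotopy (K ◁ g) (K ◁ g') :=
  HomologicalComplex.mapBifunctorMapHomotopy₂ (𝟙 K) h (curriedTensor (ModuleCat.{u} A))
    (ComplexShape.up ℤ)

lemma tensorT_map_homotopy {X Y : DRing.Cx A × DRing.Cx A} (f f' : X ⟶ Y)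
    (h₁ : Homotopy f.1 f'.1) (h₂ : Homotopy f.2 f'.2) :
    Q.map ((DTen.tensorT A).map f) = Q.map ((DTen.tensorT A).map f') := by
  apply DerivedCategory.Q_map_eq_of_homotopy
  exact ((whiskerRightHomotopy h₁ X.2).compRight _).trans
    ((whiskerLeftHomotopy Y.1 h₂).compLeft _)

instance isRightKanExtension_LTen₂ [DTen.HasLTen A] :
    (DTen.LTen₂ A).IsRightKanExtension (DTen.ε A) :=
  Functor.IsLeftDerivedFunctor.isRightKanExtension _ (DTen.ε A) (DTen.qis₂ A)

/-- the counit of the derived tensor product is an isomorphism at pairs of K-projectives -/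
theorem isIso_ε [DTen.HasLTen A] (P F : DRing.Cx A) [P.IsKProjective] [F.IsKProjective] :
    IsIso ((DTen.ε A).app (P, F)) :=
  isIso_counit_pair (DTen.tensor₂ A) (DTen.LTen₂ A) (DTen.ε A) P F
    (fun c f f' h₁ h₂ => tensorT_map_homotopy f f' h₁ h₂)

end Tensor

section Mix

variable {R A : Type u} [CommRing R] [CommRing A] (φ : R →+* A)

instance isRightKanExtension_LTenMix [DTen.HasLTenMix φ] :
    (DTen.LTenMix φ).IsRightKanExtension (DTen.εMix φ) :=
  Functor.IsLeftDerivedFunctor.isRightKanExtension _ (DTen.εMix φ) (DTen.qisMix R A)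

/-- the counit of the mixed derived tensor product is an isomorphism at pairs of K-projectives -/
theorem isIso_εMix [DTen.HasLTenMix φ] (P : DRing.Cx R) (F : DRing.Cx A) [P.IsKProjective]
    [F.IsKProjective] : IsIso ((DTen.εMix φ).app (P, F)) :=
  isIso_counit_pair (DTen.mix₂ φ) (DTen.LTenMix φ) (DTen.εMix φ) P F
    (fun c f f' h₁ h₂ => by
      let g : ((DTen.extCx φ).obj P, F) ⟶ ((DTen.extCx φ).obj c.1, c.2) :=
        ((DTen.extCx φ).map f.1, f.2)
      let g' : ((DTen.extCx φ).obj P, F) ⟶ ((DTen.extCx φ).obj c.1, c.2) :=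
        ((DTen.extCx φ).map f'.1, f'.2)
      exact tensorT_map_homotopy g g' ((ModuleCat.extendScalars.{u, u, u} φ).mapHomotopy h₁) h₂)

end Mix

section Adj

variable {C D : Type*} [Category C] [Category D]

lemma isIso_adjunct_of_bijective {L : C ⥤ D} {Rr : D ⥤ C} (adj : L ⊣ Rr) {X : C} {Y : D}
    (γ : X ⟶ Rr.obj Y)
    (h : ∀ Z : D, Function.Bijective (fun g : Y ⟶ Z => γ ≫ Rr.map g)) :
    IsIso ((adj.homEquiv X Y).symm γ) := by
  apply isIso_of_coyoneda_map_bijective
  intro T
  have : (fun x : Y ⟶ T => (adj.homEquiv X Y).symm γ ≫ x) =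
      (adj.homEquiv X T).symm ∘ (fun g : Y ⟶ T => γ ≫ Rr.map g) := by
    funext x
    dsimp only [Function.comp]
    rw [Equiv.eq_symm_apply, Adjunction.homEquiv_naturality_right, Equiv.apply_symm_apply]
  rw [this]
  exact (adj.homEquiv X T).symm.bijective.comp (h T)

end Adj

section BaseCmp

variable {R A : Type u} [CommRing R] [CommRing A] (φ : R →+* A)

lemma baseCmp_app_eq [DTen.HasLBase φ] (K : DRing.Cx R) :
    (DTen.baseCmp φ).app K =
      ((DTen.baseAdj φ).homEquiv _ _).symm ((DTen.baseγ φ).app K) := by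
  rw [Equiv.eq_symm_apply, Adjunction.homEquiv_unit]
  exact DTen.baseCmp_fac φ K

/-- the adjunction on complexes -/
noncomputable abbrev adjM := ModuleCat.extendRestrictScalarsAdj.{u, u, u} φ

lemma unitCx_eq (K : DRing.Cx R) :
    (DTen.unitCx φ).app K = HAdj.unitCx (adjM φ) (ComplexShape.up ℤ) K := rfl

/-- the image of `Q g₀` under `g ↦ baseγ ≫ res g` -/
lemma baseγ_comp_map [DTen.HasLBase φ] (P : DRing.Cx R) {L : DRing.Cx A}
    (g₀ : (DTen.extCx φ).obj P ⟶ L) :
    (DTen.baseγ φ).app P ≫ (DRing.restrictD φ).map (Q.map g₀) =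
      Q.map (HAdj.unitCx (adjM φ) (ComplexShape.up ℤ) P ≫ (DTen.resCx φ).map g₀) ≫
        (DTen.resFactors φ).inv.app L := by
  have h := (DTen.resFactors φ).inv.naturality g₀
  dsimp at h
  change (Q.map ((DTen.unitCx φ).app P) ≫ (DTen.resFactors φ).inv.app _) ≫ _ = _
  rw [Category.assoc, ← h, Functor.map_comp, Category.assoc]
  rfl

lemma bijective_baseγ [DTen.HasLBase φ] (P : DRing.Cx R) [P.IsKProjective] (L : DRing.Cx A) :
    Function.Bijective (fun g : Q.obj ((DTen.extCx φ).obj P) ⟶ Q.obj L =>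
      (DTen.baseγ φ).app P ≫ (DRing.restrictD φ).map g) := by
  have hK : ((DTen.extCx φ).obj P).IsKProjective := NilDev.isKProjective_bcCx φ P
  constructor
  · intro g g' hgg
    obtain ⟨g₀, rfl⟩ := ConeRep.exists_chain_map _ _ g
    obtain ⟨g₀', rfl⟩ := ConeRep.exists_chain_map _ _ g'
    dsimp only at hgg
    rw [baseγ_comp_map, baseγ_comp_map] at hgg
    have h1 := (cancel_mono _).1 hgg
    obtain ⟨H⟩ := homotopy_of_Q_map_eq _ _ h1
    have e : ∀ g₁ : (DTen.extCx φ).obj P ⟶ L, g₁ = (DTen.extCx φ).map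
        (HAdj.unitCx (adjM φ) (ComplexShape.up ℤ) P ≫ (DTen.resCx φ).map g₁) ≫
          HAdj.counitCx (adjM φ) (ComplexShape.up ℤ) L := by
      intro g₁
      rw [Functor.map_comp, Category.assoc]
      erw [HAdj.counitCx_naturality (adjM φ) (ComplexShape.up ℤ) g₁]
      rw [← Category.assoc]
      erw [HAdj.left_triangle_cx (adjM φ) (ComplexShape.up ℤ) P]
      rw [Category.id_comp]
    rw [e g₀, e g₀']
    apply DerivedCategory.Q_map_eq_of_homotopy
    exact ((ModuleCat.extendScalars.{u, u, u} φ).mapHomotopy H).compRight _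
  · intro ψ
    obtain ⟨ψ₀, hψ₀⟩ := ConeRep.exists_chain_map P ((DTen.resCx φ).obj L)
      (ψ ≫ (DTen.resFactors φ).hom.app L)
    refine ⟨Q.map ((DTen.extCx φ).map ψ₀ ≫ HAdj.counitCx (adjM φ) (ComplexShape.up ℤ) L), ?_⟩
    dsimp only
    rw [baseγ_comp_map]
    have e : HAdj.unitCx (adjM φ) (ComplexShape.up ℤ) P ≫ (DTen.resCx φ).map
        ((DTen.extCx φ).map ψ₀ ≫ HAdj.counitCx (adjM φ) (ComplexShape.up ℤ) L) = ψ₀ := by
      rw [Functor.map_comp, ← Category.assoc]
      erw [← HAdj.unitCx_naturality (adjM φ) (ComplexShape.up ℤ) ψ₀]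
      rw [Category.assoc]
      erw [HAdj.right_triangle_cx (adjM φ) (ComplexShape.up ℤ) L]
      rw [Category.comp_id]
    rw [e, hψ₀, Category.assoc, Iso.hom_inv_id_app]
    exact Category.comp_id ψ

/-- `baseCmp` is an isomorphism at K-projective complexes -/
theorem isIso_baseCmp [DTen.HasLBase φ] (P : DRing.Cx R) [P.IsKProjective] :
    IsIso ((DTen.baseCmp φ).app P) := by
  rw [baseCmp_app_eq]
  apply isIso_adjunct_of_bijective
  intro Z
  let L := Q.objPreimage Z
  let e : Q.obj L ≅ Z := Q.objObjPreimageIso Z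
  have hb := bijective_baseγ φ P L
  have : (fun g : Q.obj ((DTen.extCx φ).obj P) ⟶ Z =>
      (DTen.baseγ φ).app P ≫ (DRing.restrictD φ).map g) =
      (fun x => x ≫ (DRing.restrictD φ).map e.hom) ∘
        (fun g : Q.obj ((DTen.extCx φ).obj P) ⟶ Q.obj L =>
          (DTen.baseγ φ).app P ≫ (DRing.restrictD φ).map g) ∘ (fun g => g ≫ e.inv) := by
    funext g
    dsimp only [Function.comp]
    rw [Category.assoc, ← Functor.map_comp, Category.assoc, Iso.inv_hom_id, Category.comp_id]
  refine this ▸ Function.Bijective.comp ?_ (hb.comp ?_)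
  · exact ⟨fun x y h => (cancel_mono _).1 h, fun y => ⟨y ≫ (DRing.restrictD φ).map e.inv, by
      dsimp only
      rw [Category.assoc, ← Functor.map_comp, Iso.inv_hom_id, CategoryTheory.Functor.map_id,
        Category.comp_id]⟩⟩
  · exact ⟨fun x y h => (cancel_mono _).1 h, fun y => ⟨y ≫ e.hom, by
      dsimp only
      rw [Category.assoc, Iso.hom_inv_id, Category.comp_id]⟩⟩

end BaseCmp

end Groth.Agent.Lib.helper2.TwoVar
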